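import Cfsg.Agent.KFacts.RgdFld.Two_m3
import Cfsg.Agent.Mrg.Omega.Lie.PairRee_m3
import Cfsg.Agent.Mrg.Omega.Quasithin.Row.E27
import Cfsg.Agent.Mrg.Omega.Lie.LQThm
import Cfsg.Agent.Omega.KFactsZS_m3
import Cfsg.Agent.Mrg.Omega.BTwo.ModG
import Cfsg.Agent.Mrg.Omega.Lie.LemmaTComp
import Cfsg.Agent.Mrg.Omega.Lie.LemN_m3
import Cfsg.Agent.SignalizersComponents.OddWeights
import Mathlib
import Cfsg.Agent.Omega.NOThreeL.ATwo.Fam_m3
import Cfsg.Agent.Omega.Lie.CenTwo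
import Cfsg.Agent.Mrg.Omega.NO3S.MidB.No.Beta
import Mathlib.Algebra.Group.Subgroup.Finite
import Mathlib.Algebra.Module.End
import Mathlib.SetTheory.Cardinal.Finite
import Mathlib.Data.FunLike.Fintype
import Mathlib.Tactic.Abel
import Cfsg.Agent.Mrg.RankTwoClose.Braid_m3
import Cfsg.Agent.Involutions.BaerSuzuki
import Cfsg.Agent.FastGrp
import Cfsg.Agent.Prune
set_option linter.all false

section
prune_inst 0x7ff4bcfb8ff8addedfff7e7faffcdffc39949ffff6dff90bffe06bff8bdf03020bc5fbaf09e098fe0ed6e09410b87813f9ffc67fea6bdc7ffffd5ff45ffbee0fe5f7bd0851d498340fb80ffe63f0778e7f3fffffffffffffffffffffffffffbeffffffffffff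

-- part: Mrg/Omega/Lie/PairRows
section
prune_inst 0x84200200400000000000050010001c0686000090000c00000800014204884e0200000060842001000002000400300040038800100000000000000000011800800028100030400000620010000084000000000000000000000000000000000000000000000
set_option linter.all false
open scoped Cfsg.Agent.FastGrp

section


/-!
# K-facts (PAIR) and (ORD) for `J₁` and `²G₂(3^(2m+1))`, in the words of helper486 (text #12707)
-/

set_option autoImplicit false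

namespace Cfsg.Agent.Omega.Lie.PairRows

open Cfsg.Agent.Omega.Lie.PairOrd (Pair NotIn)
open Cfsg.Agent.Omega.Lie.Heis (LB)
open scoped commutatorElement

universe u v w

theorem pair_of {K : Type u} [Group K] (h : PairFact.Pair K) : Pair K :=
  fun b b' hb1 hb1' hne hb hb' hc => h b b' hb hb' hb1 hb1' hne hc

/-- From the degree bound for covers to `NotIn`. -/
theorem notIn_of_lb {K : Type u} [Group K] [Finite K] [IsSimpleGroup K] (hK : commutator K = ⊤)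
    {n : ℕ} (h : LB.{u, u, w} K (n + 1)) : NotIn.{w} K n := by
  intro M _ _ h2 hc φ hφ
  have hM : IsPGroup 2 M := fun x => ⟨1, by rw [pow_one]; exact h2 x⟩
  have h1 := h K (MonoidHom.id K) Function.surjective_id (by simp) (by simp) hK M hM φ (by
    rintro rfl
    obtain ⟨x, hx⟩ := exists_ne (1 : K)
    exact hx (hφ (by simp)))
  have h3 : 2 ^ n < 2 ^ (n + 1) := Nat.pow_lt_pow_right (by norm_num) (by omega)
  omega

theorem perfect {K : Type u} [Group K] [IsSimpleGroup K] (h : ¬ IsMulCommutative K) :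
    commutator K = ⊤ := by
  rcases (inferInstance : (commutator K).Normal).eq_bot_or_eq_top with h1 | h1
  · exfalso
    apply h
    refine ⟨⟨fun a b => ?_⟩⟩
    have h2 : ⁅a, b⁆ ∈ commutator K := by
      rw [commutator_def]
      exact Subgroup.commutator_mem_commutator (Subgroup.mem_top a) (Subgroup.mem_top b)
    rw [h1] at h2
    exact commutatorElement_eq_one_iff_mul_comm.1 (Subgroup.mem_bot.1 h2)
  · exact h1

/-- **(PAIR) and (ORD) for `J₁`.** -/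
theorem J1 {K : Type u} [Group K] (h : Cfsg.Spor.IsoJ1 K) : Pair K ∧ NotIn.{w} K 12 := by
  obtain ⟨e⟩ := h
  refine ⟨pair_of (PairJOne.pair ⟨e⟩), NotIn.equiv e ?_⟩
  have hs : IsSimpleGroup Cfsg.Spor.J1 := Cfsg.Agent.SporadicB.J1.Main.isJ1.1
  have hnc : ¬ IsMulCommutative Cfsg.Spor.J1 := by
    intro hc
    let _ : CommGroup Cfsg.Spor.J1 := { (inferInstance : Group Cfsg.Spor.J1) with mul_comm := hc.is_comm.comm }
    have hp : (Nat.card Cfsg.Spor.J1).Prime := IsSimpleGroup.prime_card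
    rw [PairJOne.card_J1] at hp
    norm_num at hp
  refine notIn_of_lb (perfect (by exact hnc)) ?_
  exact (TwoF.lb_J1 (K := Cfsg.Spor.J1) Cfsg.Agent.SporadicB.J1.Main.isJ1).mono (by norm_num)

end Cfsg.Agent.Omega.Lie.PairRows

end

section


/-!
# K-facts (PAIR) and (ORD) for `J₁` and `²G₂(3^(2m+1))`, in the words of helper460 (`LQ.Pair`, `LQ.Ord`)
-/

set_option autoImplicit false

namespace Cfsg.Agent.Omega.Lie.PairRowsLQ

open Subgroup

universe u

theorem pair_of {K : Type u} [Group K] (h : PairFact.Pair K) : LQ.Pair K := by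
  intro b b' hb1 hb1' hne hb hb' hc
  obtain ⟨x, h1, h2, h3, h4⟩ := h b b' hb hb' hb1 hb1' hne hc
  refine ⟨x, h1, h2, ?_, ?_⟩
  · rw [← h3, inv_mul_cancel_right]
  · conv_lhs => rw [← h4]
    rw [inv_mul_cancel_right]

/-- `19` does not divide `|GL(n, 2)|`, `n ≤ 12`. -/
theorem not_dvd_nineteen (n : ℕ) (hn : n ≤ 12) : ¬ 19 ∣ LQ.gl2 n := by
  unfold LQ.gl2
  interval_cases n <;> simp only [Finset.prod_range_succ, _root_.Finset.range_zero, _root_.pow_zero, _root_.Finset.prod_empty, _root_.Nat.dvd_one, _root_.OfNat.ofNat_ne_one, _root_.not_false_eq_true, _root_.Finset.range_one, _root_.pow_one, _root_.Finset.prod_singleton, _root_.Nat.add_one_sub_one, _root_.Nat.reducePow, _root_.Nat.reduceSub, _root_.Nat.reduceMul, _root_.Nat.reduceDvd]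

/-- `3⁹` does not divide `|GL(n, 2)|`, `n ≤ 12`. -/
theorem not_dvd_three (n : ℕ) (hn : n ≤ 12) : ¬ 3 ^ 9 ∣ LQ.gl2 n := by
  unfold LQ.gl2
  interval_cases n <;> simp only [Finset.prod_range_succ, _root_.Nat.reducePow, _root_.Finset.range_zero, _root_.pow_zero, _root_.Finset.prod_empty, _root_.Nat.dvd_one, _root_.OfNat.ofNat_ne_one, _root_.not_false_eq_true, _root_.Finset.range_one, _root_.pow_one, _root_.Finset.prod_singleton, _root_.Nat.add_one_sub_one, _root_.Nat.reduceSub, _root_.Nat.reduceMul, _root_.Nat.reduceDvd]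

theorem J1 {L : Type u} [Group L] (h : Cfsg.Spor.IsoJ1 L) :
    LQ.Pair L ∧ ∀ n ≤ 12, ¬ Nat.card L ∣ LQ.gl2 n := by
  refine ⟨pair_of (PairJOne.pair h), fun n hn hd => not_dvd_nineteen n hn (dvd_trans ?_ hd)⟩
  obtain ⟨e⟩ := h
  rw [Nat.card_congr e.toEquiv, PairJOne.card_J1]
  norm_num

theorem ree {L : Type u} [Group L] (h : Cfsg.Lie.IsoRee L) :
    LQ.Pair L ∧ ∀ n ≤ 12, ¬ Nat.card L ∣ LQ.gl2 n := by
  refine ⟨pair_of (PairRee.pair h), fun n hn hd => not_dvd_three n hn (dvd_trans ?_ hd)⟩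
  obtain ⟨F, _, _, m, hm, hF, ⟨e⟩⟩ := h
  rw [Nat.card_congr e.toEquiv, Cfsg.Agent.S1069.result hF, ← pow_mul, mul_assoc]
  exact Dvd.dvd.mul_right (pow_dvd_pow 3 (by omega)) _

end Cfsg.Agent.Omega.Lie.PairRowsLQ

end

section


/-!
# NODE LIE, TEXT LIE-2 (#12707): components with `K / Z(K) = L₂(r)`, `J₁`, `²G₂(r)` do not exist

`OutZS` of `KFactsZS`: the groups with elementary abelian Sylow 2-subgroups left over by `(ZS)`.
-/

set_option autoImplicit false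

namespace Cfsg.Agent.Omega.Lie.LQRows

open Subgroup Cfsg.Agent.Omega.KFacts Cfsg.Agent.Omega.Lie Cfsg.Agent.Omega.Lie.LQ Cfsg.Agent.Omega.Lie.CompT
open Cfsg.Agent.Omega.BTwo Cfsg.Agent.Omega.Lie.Quot Cfsg.Agent.Omega.Lie.CubQ
open Cfsg.Agent.ClassicalGeometry (PSL2Basic.card_PSL2_odd)

universe u v w

local notation "PSL2" => Matrix.ProjectiveSpecialLinearGroup (Fin 2)

theorem gl2_eight : gl2 8 = 5348063769211699200 := by
  unfold gl2
  simp only [Finset.prod_range_succ, _root_.Nat.reducePow, _root_.Finset.range_one, _root_.Finset.prod_singleton, _root_.pow_zero, _root_.Nat.add_one_sub_one, _root_.pow_one, _root_.Nat.reduceSub, _root_.Nat.reduceMul]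

/-- `|L₂(r)|` does not divide `|GL₈(2)|`, `r ≡ ±3 (mod 8)`, `r ≥ 11` -/
theorem ltwo_not_dvd {F : Type*} [Field F] [Finite F] (h : Nat.card F % 8 = 3 ∨ Nat.card F % 8 = 5)
    (h11 : 11 ≤ Nat.card F) : ¬ Nat.card (PSL2 F) ∣ gl2 8 := by
  let _ := Fintype.ofFinite F
  have hodd : Odd (Fintype.card F) := by
    rw [← Nat.card_eq_fintype_card, Nat.odd_iff]
    omega
  obtain ⟨p, f, hp, -, hpf⟩ := (isPrimePow_nat_iff _).1 (FiniteField.isPrimePow_card F)
  have h1 := PSL2Basic.card_PSL2_odd F hodd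
  intro hd'
  rw [gl2_eight] at hd'
  rw [Nat.card_eq_fintype_card (α := F), ← hpf] at h h11
  rw [← hpf] at h1 hodd
  have hdvd : p ^ f ∣ 5348063769211699200 := by
    have h2 : p ^ f ∣ Nat.card (PSL2 F) * 2 := h1 ▸ Dvd.intro _ rfl
    have h3 : Nat.Coprime (p ^ f) 2 := (Nat.coprime_two_right).2 hodd
    exact (h3.dvd_of_dvd_mul_right h2).trans hd'
  rcases PairOrd.LTwo.prime_pow_cases hp hdvd h h11 with h2 | h2
  · rw [h2] at h1
    have h3 : Nat.card (PSL2 F) = 9828 := by omega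
    rw [h3] at hd'
    norm_num at hd'
  · rw [h2] at h1
    have h3 : Nat.card (PSL2 F) = 7174332 := by omega
    rw [h3] at hd'
    norm_num at hd'

/-- `16` does not divide `|²G₂(3^(2m+1))|` -/
theorem ree_not_dvd {m : ℕ} : ¬ 16 ∣ (3 ^ (2 * m + 1)) ^ 3 * (3 ^ (2 * m + 1) - 1) * ((3 ^ (2 * m + 1)) ^ 3 + 1) := by
  obtain ⟨s, hs⟩ : ∃ s, s = 3 ^ (2 * m + 1) := ⟨_, rfl⟩
  have h16 : s % 16 = 3 ∨ s % 16 = 11 := by
    rw [hs, pow_succ, pow_mul]
    have : ∀ m : ℕ, (3 ^ 2) ^ m % 16 = 1 ∨ (3 ^ 2) ^ m % 16 = 9 := by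
      intro m
      induction m with
      | zero => left; norm_num
      | succ m ih => rw [pow_succ]; (solve | lia | omega)
    have := this m
    omega
  have hpos : 3 ≤ s := by omega
  rw [← hs]
  obtain ⟨k, hk⟩ : ∃ k, s = 16 * k + 3 ∨ s = 16 * k + 11 := ⟨s / 16, by omega⟩
  rw [Nat.dvd_iff_mod_eq_zero, Nat.mul_mod, Nat.mul_mod (s ^ 3)]
  have h3 : (s - 1) % 16 = 2 ∨ (s - 1) % 16 = 10 := by (clear * - hk; omega)
  have h4 : s ^ 3 % 16 = 11 ∨ s ^ 3 % 16 = 3 := by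
    rcases h16 with h | h <;> rw [Nat.pow_mod, h] <;> norm_num
  have h5 : (s ^ 3 + 1) % 16 = 12 ∨ (s ^ 3 + 1) % 16 = 4 := by omega
  rcases h3 with h3 | h3 <;> rcases h4 with h4 | h4 <;> rcases h5 with h5 | h5 <;> rw [h3, h4, h5] <;> norm_num

/-- the K-facts for `OutZS` -/
theorem data {L : Type u} [Group L] (h : OutZS L) :
    ∃ j ≤ 3, ¬ 2 ^ (j + 1) ∣ Nat.card L ∧ LQ.Pair L ∧ ¬ Nat.card L ∣ gl2 (4 * j) := by
  rcases h with h | h | h
  · obtain ⟨F, _, _, h8, h11, ⟨e⟩⟩ := h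
    rw [← Nat.card_eq_fintype_card] at h8 h11
    refine ⟨2, by norm_num, ?_, ?_, ?_⟩
    · rw [Nat.card_congr e.toEquiv]
      exact PairOrd.LTwo.not_eight_dvd h8
    · exact LQ.Pair.of_pairOrd ((PairOrd.LTwo.pair h8 (by omega)).equiv e)
    · rw [Nat.card_congr e.toEquiv]
      exact ltwo_not_dvd h8 h11
  · refine ⟨3, le_rfl, ?_, (PairRowsLQ.J1 h).1, (PairRowsLQ.J1 h).2 12 le_rfl⟩
    obtain ⟨e⟩ := h
    rw [Nat.card_congr e.toEquiv, PairJOne.card_J1]
    norm_num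
  · refine ⟨3, le_rfl, ?_, (PairRowsLQ.ree h).1, (PairRowsLQ.ree h).2 12 le_rfl⟩
    obtain ⟨F, _, _, m, hm, hF, ⟨e⟩⟩ := h
    rw [Nat.card_congr e.toEquiv, Cfsg.Agent.S1069.result hF]
    exact ree_not_dvd

/-- a 2-subgroup of `K`, `|Z(K)|` odd -/
theorem card_le_of_not_dvd {H : Type*} [Group H] [Finite H] {S K : Subgroup H} (hS : IsPGroup 2 S)
    (hZ : Odd (Nat.card (center K))) {j : ℕ} (h : ¬ 2 ^ (j + 1) ∣ Nat.card (K ⧸ center K)) :
    Nat.card (S ⊓ K : Subgroup H) ≤ 2 ^ j := by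
  have : Fact (Nat.Prime 2) := ⟨Nat.prime_two⟩
  obtain ⟨n, hn⟩ := IsPGroup.iff_card.1 (hS.to_le (inf_le_left : S ⊓ K ≤ S))
  rw [hn]
  refine Nat.pow_le_pow_right (by norm_num) ?_
  by_contra hlt
  apply h
  have h1 : 2 ^ n ∣ Nat.card (K ⧸ center K) * Nat.card (center K) := by
    rw [← Subgroup.card_eq_card_quotient_mul_card_subgroup, ← hn]
    exact card_dvd_of_le inf_le_right
  have h2 : Nat.Coprime (2 ^ n) (Nat.card (center K)) := (Nat.coprime_two_left.2 hZ).pow_left n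
  exact (pow_dvd_pow 2 (by omega)).trans (h2.dvd_of_dvd_mul_right h1)

/-- **TEXT LIE-2**: no component with `[K, A] ≠ 1` and `K / Z(K)` in `OutZS`. -/
theorem false_of_outZS {H : Type u} {M : Type v} [Group H] [CommGroup M] [Finite H] [Finite M]
    {ρ : H →* MulAut M} {A T : Subgroup H} {e : Subgroup M} (c : Cub ρ A T e) (sc : Scal A T)
    (hT : 3 ≤ Nat.card T) {S K : Subgroup H} (h : CompB.Hyp S A T K) (hK : Cfsg.IsQuasisimple K)
    (hne : ∃ a ∈ A, ∃ x ∈ K, a * x ≠ x * a) (hO : OutZS (K ⧸ center K)) : False := by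
  obtain ⟨j, hj, h1, h2, h3⟩ := data hO
  have hZ := odd_card_center h.zodd
  exact c.false_of_pair sc hT h hK hne hj (card_le_of_not_dvd h.S2 hZ h1) (Pair.of_quot hZ h2)
    (NoAct.of_ord hK h3)

/-- the same for the real quotient `H = N(R i)/O₂(N(R i))` -/
theorem false_of_outZS_real {G : Type u} [Group G] [Finite G] {ι : Type w} {V : Subgroup G}
    {R : ι → Subgroup G} {i j : ι} {F : Type v} [Field F] [Finite F] [CharP F 2] {vv : F → F → G} {t : F → G}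
    {w1 w2 : F → G} (b : BTC V R) (hq : 4 ≤ Nat.card F) (c : Coord V R i j vv w1 w2)
    (τ : TorD V R i j vv t) {S K : Subgroup (HQ (R i))} (h : CompB.Hyp S (AA V R i j) (TT τ) K)
    (hK : Cfsg.IsQuasisimple K) (hne : ∃ a ∈ AA V R i j, ∃ x ∈ K, a * x ≠ x * a)
    (hO : OutZS (K ⧸ center K)) : False := by
  have hT := card_T b.toBT τ
  exact false_of_outZS (cub b hq c τ) (scal b.toBT τ c.ne) (by omega) h hK hne hO

end Cfsg.Agent.Omega.Lie.LQRows

end

section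


/-!
# NODE LIE: `M = W i / R i` as a module for `H = HQ (R i) = N(R i)/O₂(N(R i))`

* `ModQ`: helper688's `ModFr` together with an action of `HQ (R i)`; `exists_modQ`.
* `ModQ.f_act`: `H⁰` preserves the form; `ModQ.act_rad`: `HA = ⟨A^{H⁰}⟩` is trivial on `rad = Z(W i)/R i`;
* `ModQ.key`: a vector `v` with `f(M, v)` in a proper subgroup of `R i` is fixed by `HA`;
* `ModQ.norm_A`: an element of `HA` which fixes `[M, a]` pointwise for some `1 ≠ a ∈ A` normalises `A`;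
* `ModQ.quad`: `(1 + a)(1 + tat⁻¹) M ≤ e`, `|e| = q`.
-/

set_option autoImplicit false
set_option linter.unusedSectionVars false

namespace Cfsg.Agent.Omega.Lie

open Subgroup Cfsg.Agent.Omega.BTwo Cfsg.Agent.Omega.Lie.Quot Cfsg.Agent.Omega.Lie.LemN

universe u v w

variable {G : Type u} [Group G] {ι : Type w}

/-- the module `M = W i / R i` with the actions of `N(R i)` and of `H = N(R i)/O₂(N(R i))` -/
structure ModQ (V : Subgroup G) (R : ι → Subgroup G) (i : ι) (M B : Type u) [AddCommGroup M] [AddCommGroup B]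
    [DistribMulAction (NR R i) M] [DistribMulAction (NR R i) B] [DistribMulAction (HQ (R i)) M]
    (p : G → M) (r : G → B) (f : M →+ M →+ B) : Prop extends ModFr V R i M B p r f where
  pr_smul : ∀ (g : NR R i) (m : M), pr (R i) g • m = g • m

/-- the action of a quotient group -/
theorem exists_quot_action {N : Type u} [Group N] {M : Type u} [AddCommGroup M] [DistribMulAction N M]
    (K : Subgroup N) [K.Normal] (h : ∀ k ∈ K, ∀ m : M, k • m = m) :
    ∃ _ : DistribMulAction (N ⧸ K) M, ∀ (g : N) (m : M), (QuotientGroup.mk' K g : N ⧸ K) • m = g • m := by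
  let φ : N ⧸ K →* AddMonoid.End M := QuotientGroup.lift K (DistribMulAction.toAddMonoidEnd N M) (by
    intro k hk
    apply AddMonoidHom.ext
    intro m
    exact h k hk m)
  refine ⟨DistribMulAction.compHom M φ, fun g m => rfl⟩

theorem exists_modQ {V : Subgroup G} {R : ι → Subgroup G} (b : BT V R) (i : ι) :
    ∃ (M B : Type u) (_ : AddCommGroup M) (_ : AddCommGroup B) (_ : DistribMulAction (NR R i) M)
      (_ : DistribMulAction (NR R i) B) (_ : DistribMulAction (HQ (R i)) M) (p : G → M) (r : G → B)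
      (f : M →+ M →+ B), ModQ V R i M B p r f := by
  obtain ⟨M, B, _, _, _, _, p, r, f, m⟩ := b.exists_mod i
  obtain ⟨act, h⟩ := exists_quot_action (M := M) (pCore 2 ↥(normalizer (R i : Set G))) (by
    intro k hk a
    exact m.Q_act b (h := k) ⟨k, hk, rfl⟩ a)
  exact ⟨M, B, _, _, _, _, act, p, r, f, { m with pr_smul := h }⟩

namespace ModQ

variable {V : Subgroup G} {R : ι → Subgroup G} {i : ι} {M B : Type u} [AddCommGroup M] [AddCommGroup B]
  [DistribMulAction (NR R i) M] [DistribMulAction (NR R i) B] [DistribMulAction (HQ (R i)) M] {p : G → M}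
  {r : G → B} {f : M →+ M →+ B}

/-- `⟨A^{H⁰}⟩` -/
def HA (V : Subgroup G) (R : ι → Subgroup G) (i j : ι) : Subgroup (HQ (R i)) :=
  _root_.Subgroup.closure {x | ∃ h ∈ H0 R i, ∃ a ∈ AA V R i j, x = h * a * h⁻¹}

theorem conj_mem_HA {j : ι} {h a : HQ (R i)} (hh : h ∈ H0 R i) (ha : a ∈ AA V R i j) : h * a * h⁻¹ ∈ HA V R i j :=
  subset_closure ⟨h, hh, a, ha, rfl⟩

theorem A_le_HA {j : ι} : AA V R i j ≤ HA V R i j := by
  intro a ha
  have := conj_mem_HA (V := V) (i := i) (one_mem (H0 R i)) ha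
  rwa [one_mul, inv_one, mul_one] at this

theorem A_le_H0 (b : BT V R) (j : ι) : AA V R i j ≤ H0 R i :=
  im_mono ((UU_le_cen j).trans (centralizer_le (b.R_le i)))

theorem HA_le_H0 (b : BT V R) (j : ι) : HA V R i j ≤ H0 R i := by
  unfold HA
  rw [closure_le]
  rintro _ ⟨h, hh, a, ha, rfl⟩
  exact mul_mem (mul_mem hh (A_le_H0 b j ha)) (inv_mem hh)

theorem exists_H0 {h : HQ (R i)} (hh : h ∈ H0 R i) :
    ∃ (g : NR R i), (g : G) ∈ centralizer (R i : Set G) ∧ pr (R i) g = h := by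
  obtain ⟨g, hg, hc, e⟩ := mem_im.1 hh
  exact ⟨⟨g, hg⟩, hc, e⟩

variable (m : ModQ V R i M B p r f) (b : BT V R)
include m

/-- the action of `pr g` on `p w` -/
theorem act {g : G} (hg : g ∈ normalizer (R i : Set G)) {w : G} (hw : w ∈ WW V (R i)) :
    pr (R i) ⟨g, hg⟩ • p w = p (g * w * g⁻¹) :=
  (m.pr_smul ⟨g, hg⟩ (p w)).trans (m.p_act ⟨g, hg⟩ w hw)

theorem finite_M [Finite G] : Finite M :=
  Finite.of_surjective (fun x : WW V (R i) => p x) fun a => by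
    obtain ⟨x, hx, rfl⟩ := m.p_surj a
    exact ⟨⟨x, hx⟩, rfl⟩

theorem card_B : Nat.card B = Nat.card (R i) := by
  symm
  refine Nat.card_congr (Equiv.ofBijective (fun x : R i => r x) ⟨fun x y h => ?_, fun a => ?_⟩)
  · exact Subtype.ext (m.r_inj x.2 y.2 h)
  · obtain ⟨x, hx, rfl⟩ := m.r_surj a
    exact ⟨⟨x, hx⟩, rfl⟩

include b

theorem f_act {h : HQ (R i)} (hh : h ∈ H0 R i) (a c : M) : f (h • a) (h • c) = f a c := by
  obtain ⟨g, hg, rfl⟩ := exists_H0 hh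
  rw [m.pr_smul, m.pr_smul, m.toModFr.f_act b, m.act_B b hg]

/-- `p(w) + a p(w) = p([w, u])` -/
theorem smul_A {j : ι} {w u : G} (hw : w ∈ WW V (R i)) (hu : u ∈ UU V R j) :
    p w + pr (R i) ⟨u, U_le_N b i j hu⟩ • p w = p (w * u * w⁻¹ * u⁻¹) := by
  have hN := U_le_N b i j hu
  have h1 : u * w⁻¹ * u⁻¹ ∈ WW V (R i) := conj_mem_of_normalizer (normalizer_le_WW V (R i) hN) (inv_mem hw)
  have h2 : u * w * u⁻¹ ∈ WW V (R i) := conj_mem_of_normalizer (normalizer_le_WW V (R i) hN) hw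
  have e : w * u * w⁻¹ * u⁻¹ = w * (u * w⁻¹ * u⁻¹) := by group
  have e2 : u * w⁻¹ * u⁻¹ = (u * w * u⁻¹)⁻¹ := by group
  rw [e, m.p_mul _ hw _ h1, e2, m.p_inv h2, m.act hN hw]
  congr 1
  exact eq_neg_of_add_eq_zero_left (m.two_M b (p (u * w * u⁻¹)))

/-- the radical -/
def rad (_m : ModQ V R i M B p r f) : AddSubgroup M where
  carrier := {v | ∀ c, f v c = 0}
  zero_mem' := fun c => by rw [map_zero, AddMonoidHom.zero_apply]
  add_mem' := by
    intro x y hx hy c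
    rw [map_add, AddMonoidHom.add_apply, hx c, hy c, add_zero]
  neg_mem' := by
    intro x hx c
    rw [map_neg, AddMonoidHom.neg_apply, hx c, neg_zero]

theorem mem_rad {v : M} : v ∈ m.rad ↔ ∃ z ∈ ZZ V R i, p z = v := by
  constructor
  · intro hv
    obtain ⟨z, hz, rfl⟩ := m.p_surj v
    refine ⟨z, mem_inf.2 ⟨hz, mem_centralizer_iff.2 fun w hw => ?_⟩, rfl⟩
    have h1 := hv (p w)
    rw [m.f_eq z hz w hw, m.r_ker _ (b.WW_comm i hz hw), mul_inv_eq_one, mul_inv_eq_iff_eq_mul] at h1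
    exact h1.symm
  · rintro ⟨z, hz, rfl⟩ c
    obtain ⟨w, hw, rfl⟩ := m.p_surj c
    rw [m.f_eq z hz.1 w hw, ZZ_comm hz hw, show w * z * z⁻¹ * w⁻¹ = 1 by group, m.r_one]

theorem smul_rad {h : HQ (R i)} (hh : h ∈ H0 R i) {v : M} (hv : v ∈ m.rad) : h • v ∈ m.rad := by
  intro c
  have e : c = h • (h⁻¹ • c) := by rw [smul_smul, mul_inv_cancel, one_smul]
  rw [e, m.f_act b hh]
  exact hv _

/-- a vector `v` with `f(M, v)` in a proper subgroup is in the radical -/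
theorem mem_rad_of [Finite G] {B₀ : AddSubgroup B} (hB : B₀ ≠ ⊤) {v : M} (h : ∀ u, f u v ∈ B₀) : v ∈ m.rad := by
  obtain ⟨w, hw, rfl⟩ := m.p_surj v
  let R0 : Subgroup G :=
    { carrier := {x | x ∈ R i ∧ r x ∈ B₀}
      one_mem' := ⟨one_mem _, by rw [m.r_one]; exact zero_mem _⟩
      mul_mem' := by
        rintro x y ⟨hx, hx'⟩ ⟨hy, hy'⟩
        exact ⟨mul_mem hx hy, by rw [m.r_mul x hx y hy]; exact add_mem hx' hy'⟩
      inv_mem' := by
        rintro x ⟨hx, hx'⟩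
        exact ⟨inv_mem hx, by rw [m.r_inv hx]; exact neg_mem hx'⟩ }
  have hR0 : ¬ R i ≤ R0 := by
    intro hle
    apply hB
    rw [eq_top_iff]
    intro a _
    obtain ⟨x, hx, rfl⟩ := m.r_surj a
    exact (hle hx).2
  have h1 := b.rad hw hR0 (fun w' hw' => ⟨b.WW_comm i hw hw', by
    rw [← m.f_eq w hw w' hw', m.f_symm b]
    exact h _⟩)
  exact (m.mem_rad b).2 ⟨w, mem_inf.2 ⟨hw, mem_centralizer_iff.2 fun w' hw' => (h1 w' hw').symm⟩, rfl⟩

omit b

theorem smul_A_rad (b : BTC V R) {j : ι} (hij : i ≠ j) {a : HQ (R i)} (ha : a ∈ AA V R i j) {v : M}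
    (hv : v ∈ m.rad) : a • v = v := by
  obtain ⟨u, hu, rfl⟩ := (mem_AA b.toBT).1 ha
  obtain ⟨z, hz, rfl⟩ := (m.mem_rad b.toBT).1 hv
  have h1 := m.smul_A b.toBT hz.1 hu
  have h2 := b.cen_W_U hij hz.2 hu
  rw [(m.p_ker _ (b.R_le_W i i h2)).2 h2] at h1
  rw [eq_neg_of_add_eq_zero_right h1]
  exact (eq_neg_of_add_eq_zero_left (m.two_M b.toBT (p z))).symm

/-- `⟨A^{H⁰}⟩` is trivial on the radical -/
theorem act_rad (b : BTC V R) {j : ι} (hij : i ≠ j) {x : HQ (R i)} (hx : x ∈ HA V R i j) :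
    ∀ v ∈ m.rad, x • v = v := by
  unfold HA at hx
  induction hx using closure_induction with
  | mem x hx =>
    intro v hv
    obtain ⟨h, hh, a, ha, rfl⟩ := hx
    have h1 := m.smul_A_rad b hij ha (m.smul_rad b.toBT (inv_mem hh) hv)
    rw [mul_smul, mul_smul, h1, smul_smul, mul_inv_cancel, one_smul]
  | one => intro v _; exact one_smul _ v
  | mul x y _ _ hx hy =>
    intro v hv
    rw [mul_smul, hy v hv, hx v hv]
  | inv x _ hx =>
    intro v hv
    rw [inv_smul_eq_iff]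
    exact (hx v hv).symm

/-- **(8.2)** in `M` -/
theorem key [Finite G] (b : BTC V R) {j : ι} (hij : i ≠ j) {x : HQ (R i)} (hx : x ∈ HA V R i j)
    {B₀ : AddSubgroup B} (hB : B₀ ≠ ⊤) {v : M} (h : ∀ u, f u v ∈ B₀) : x • v = v :=
  m.act_rad b hij hx v (m.mem_rad_of b.toBT hB h)

variable {F : Type v} [Field F] {j : ι} {vv : F → F → G} {w1 w2 t : F → G}

/-- an element of `⟨A^{H⁰}⟩` which fixes `[M, a]` pointwise fixes `e` pointwise -/
theorem fix_e [Finite G] [CharP F 2] (b : BTC V R) (hF : ∃ a : F, a ≠ 0 ∧ a ≠ 1) (c : Coord V R i j vv w1 w2)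
    (τ : TorD V R i j vv t) {a : HQ (R i)} (ha : a ∈ AA V R i j) (ha1 : a ≠ 1) {x : HQ (R i)}
    (hx : x ∈ HA V R i j) (h : ∀ d : M, x • (d + a • d) = d + a • d) : ∀ d ∈ m.sb V, x • d = d := by
  obtain ⟨u, hu, rfl⟩ := (mem_AA b.toBT).1 ha
  rintro _ ⟨y, hy, -, rfl⟩
  have hD : u ∉ DD V R := by
    intro hD
    exact ha1 ((pr_eq_one _).2 ((U_inf_Q b.toBT c.ne hu).2 hD))
  obtain ⟨w, hw, ζ, hζ, e⟩ := lemN b hF c τ hu hD hy
  have hW : w * u * w⁻¹ * u⁻¹ ∈ WW V (R i) := cm_mem b.toBT hw (UU_le_cen j hu)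
  rw [e, m.p_mul _ hW _ hζ.1, ← m.smul_A b.toBT hw hu, smul_add, h,
    m.act_rad b c.ne hx _ ((m.mem_rad b.toBT).2 ⟨ζ, hζ, rfl⟩)]

omit m in
theorem im_Y (b : BT V R) (hij : i ≠ j) : im (R i) (YY V R) = AA V R i j := by
  rw [b.Y_eq hij, im_sup (U_le_N b i i) (U_le_N b i j), im_eq_bot ((UU_le_WW i).trans (b.W_le_Q i)), bot_sup_eq]
  rfl

/-- an element of `H⁰` which fixes `e` pointwise normalises `A` -/
theorem norm_of_fix (b : BT V R) (hij : i ≠ j) {x : HQ (R i)} (hx : x ∈ H0 R i) (h : ∀ d ∈ m.sb V, x • d = d)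
    {a : HQ (R i)} (ha : a ∈ AA V R i j) : x * a * x⁻¹ ∈ AA V R i j := by
  obtain ⟨g, hg, rfl⟩ := exists_H0 hx
  have key : ∀ g : NR R i, (∀ d ∈ m.sb V, pr (R i) g • d = d) → ∀ y ∈ V, (g : G) * y * (g : G)⁻¹ ∈ V := by
    intro g hg y hy
    have hyW := V_le_WW V (R i) hy
    have h1 := hg _ (m.p_mem hyW hy)
    rw [m.act g.2 hyW, m.p_eq_iff (conj_mem_of_normalizer (normalizer_le_WW V (R i) g.2) hyW) hyW] at h1
    have e : (g : G) * y * (g : G)⁻¹ = ((g : G) * y * (g : G)⁻¹ * y⁻¹) * y := by group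
    rw [e]
    exact mul_mem (b.R_le i h1) hy
  have hV : (g : G) ∈ normalizer (V : Set G) := by
    rw [mem_normalizer_iff]
    refine fun y => ⟨key g h y, fun hy => ?_⟩
    have h2 := key g⁻¹ (fun d hd => by rw [map_inv, inv_smul_eq_iff]; exact (h d hd).symm) _ hy
    have e : ((g⁻¹ : NR R i) : G) * ((g : G) * y * (g : G)⁻¹) * ((g⁻¹ : NR R i) : G)⁻¹ = y := by
      push_cast
      group
    rwa [e] at h2
  obtain ⟨u, hu, rfl⟩ := (mem_AA b).1 ha
  rw [← im_Y b hij]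
  have h3 : (g : G) * u * (g : G)⁻¹ ∈ YY V R := conj_mem_of_normalizer (b.NV_le_NY hV) (UU_le_YY j hu)
  exact pr_mem_im (mul_mem (mul_mem g.2 (U_le_N b i j hu)) (inv_mem g.2)) h3

/-- **LEMMA N** in `M`: an element of `⟨A^{H⁰}⟩` which fixes `[M, a]` pointwise, `1 ≠ a ∈ A`, normalises `A` -/
theorem norm_A [Finite G] [CharP F 2] (b : BTC V R) (hF : ∃ a : F, a ≠ 0 ∧ a ≠ 1) (c : Coord V R i j vv w1 w2)
    (τ : TorD V R i j vv t) {a : HQ (R i)} (ha : a ∈ AA V R i j) (ha1 : a ≠ 1) {x : HQ (R i)}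
    (hx : x ∈ HA V R i j) (h : ∀ d : M, x • (d + a • d) = d + a • d) :
    ∀ y ∈ AA V R i j, x * y * x⁻¹ ∈ AA V R i j := fun _ hy =>
  m.norm_of_fix b.toBT c.ne (HA_le_H0 b.toBT j hx) (m.fix_e b hF c τ ha ha1 hx h) hy

/-- **(N0)** in `M`: `(1 + a)(1 + xax⁻¹) M ≤ e`, `x ∈ T` -/
theorem quad (b : BTC V R) (τ : TorD V R i j vv t) {a x : HQ (R i)} (ha : a ∈ AA V R i j) (hx : x ∈ TT τ)
    (c : M) : c + a • c + (x * a * x⁻¹) • c + (a * (x * a * x⁻¹)) • c ∈ m.sb V := by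
  obtain ⟨u, hu, rfl⟩ := (mem_AA b.toBT).1 ha
  obtain ⟨α, hα, rfl⟩ := (mem_TT τ).1 hx
  obtain ⟨w, hw, rfl⟩ := m.p_surj c
  have hu' := t_norm_U b.toBT τ hα hu
  have hN := U_le_N b.toBT i j hu
  have hN' := U_le_N b.toBT i j hu'
  have ht := τ.normR hα
  have hy := cm_mem b.toBT hw (UU_le_cen j hu)
  have h1 := m.smul_A b.toBT hw hu
  have h2 := m.smul_A b.toBT hy hu'
  have e1 : pr (R i) ⟨t α, ht⟩ * pr (R i) ⟨u, hN⟩ * (pr (R i) ⟨t α, ht⟩)⁻¹ = pr (R i) ⟨_, hN'⟩ := rfl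
  rw [e1]
  have hA' : pr (R i) ⟨_, hN'⟩ ∈ AA V R i j := (mem_AA b.toBT).2 ⟨_, hu', rfl⟩
  have hc : pr (R i) ⟨u, hN⟩ * pr (R i) ⟨_, hN'⟩ = pr (R i) ⟨_, hN'⟩ * pr (R i) ⟨u, hN⟩ := by
    have k1 := A_sq b.toBT τ.ne (mul_mem ha hA')
    have k2 : (pr (R i) ⟨u, hN⟩ * pr (R i) ⟨_, hN'⟩)⁻¹ = pr (R i) ⟨u, hN⟩ * pr (R i) ⟨_, hN'⟩ :=
      (inv_eq_of_mul_eq_one_left k1 :)
    rw [mul_inv_rev, inv_eq_of_mul_eq_one_left (A_sq b.toBT τ.ne ha),
      inv_eq_of_mul_eq_one_left (A_sq b.toBT τ.ne hA')] at k2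
    exact k2.symm
  rw [hc, mul_smul]
  have e2 : p w + pr (R i) ⟨u, hN⟩ • p w + pr (R i) ⟨_, hN'⟩ • p w +
      pr (R i) ⟨_, hN'⟩ • (pr (R i) ⟨u, hN⟩ • p w) =
      (p w + pr (R i) ⟨u, hN⟩ • p w) + pr (R i) ⟨_, hN'⟩ • (p w + pr (R i) ⟨u, hN⟩ • p w) := by
    rw [smul_add]; abel
  rw [e2, h1, h2]
  have h3 := N0_T b hw hu (τ.memX α hα) (cj_eq_self_iff.2 (τ.normR hα)) (cj_eq_self_iff.2 (τ.normR' hα))
  exact m.p_mem (V_le_WW V (R i) h3) h3

/-- `|e| ≤ q` -/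
theorem card_e [Finite F] (τ : TorD V R i j vv t) : Nat.card (m.sb V) ≤ Nat.card F := by
  have hV : ∀ c, vv 0 c ∈ V := fun c => (τ.v_mem _).2 ⟨_, _, rfl⟩
  refine Nat.card_le_card_of_surjective (fun c : F => (⟨p (vv 0 c), m.p_mem (V_le_WW V (R i) (hV c)) (hV c)⟩ :
    m.sb V)) ?_
  rintro ⟨_, y, hy, hyW, rfl⟩
  obtain ⟨β, c, rfl⟩ := (τ.v_mem y).1 hy
  refine ⟨c, Subtype.ext ?_⟩
  change p (vv 0 c) = p (vv β c)
  rw [m.p_eq_iff (V_le_WW V (R i) (hV c)) hyW]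
  have h1 := τ.v_add β 0 0 c
  rw [add_zero, zero_add] at h1
  have h2 : vv 0 c * (vv β c)⁻¹ = (vv β 0)⁻¹ := by
    rw [h1]; group
  rw [h2]
  exact inv_mem ((τ.Ri _).2 ⟨β, rfl⟩)

end ModQ

end Cfsg.Agent.Omega.Lie

end

section


/-!
# NODE LIE, TEXT 1 (#11541), step (2): `A` centralises `O(H⁰)`

`A` elementary abelian 2-group, `T` normalises `A`, no `1 ≠ t ∈ T` normalises a subgroup of index 2 of `A`,
`R` a solvable group of odd order normalised by `A` and `T` such that `C_R(T)` centralises `A`.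
Then `A` centralises `R`.
-/

set_option autoImplicit false

namespace Cfsg.Agent.Omega.Lie.OddPart

open Subgroup
open scoped commutatorElement

/-! ### Independence of weight elements -/

section Indep

variable {X : Type*} [CommGroup X] {ι α : Type*}

/-- Weight elements of pairwise different weights (non of them trivial) in an abelian group without
involutions: if the product is fixed, then all of them are trivial. -/
theorem indep (hodd : ∀ x : X, x * x = 1 → x = 1) (act : α → X →* X) (σ : ι → α → Prop) :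
    ∀ (n : ℕ) (S : Finset ι) (y : ι → X), S.card ≤ n →
      (∀ i ∈ S, ∀ a, σ i a → act a (y i) = y i) → (∀ i ∈ S, ∀ a, ¬ σ i a → act a (y i) = (y i)⁻¹) →
      (∀ i ∈ S, ∀ j ∈ S, i ≠ j → ∃ a, σ i a ∧ ¬ σ j a) → (∀ i ∈ S, ∃ a, ¬ σ i a) →
      (∀ a, act a (∏ i ∈ S, y i) = ∏ i ∈ S, y i) → ∀ i ∈ S, y i = 1 := by
  classical
  intro n
  induction n with
  | zero =>
    intro S y hS _ _ _ _ _ i hi
    have : S = ∅ := Finset.card_eq_zero.mp (Nat.le_zero.mp hS)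
    rw [this] at hi
    exact absurd hi (Finset.notMem_empty i)
  | succ n ih =>
    intro S y hS h1 h2 hd hn hf i hi
    by_cases hone : ∃ j ∈ S, j ≠ i
    · obtain ⟨j, hj, hji⟩ := hone
      obtain ⟨a, hia, hja⟩ := hd i hi j hj (Ne.symm hji)
      set S' : Finset ι := S.filter (fun k => σ k a) with hS'
      have hS'S : S' ⊆ S := Finset.filter_subset _ _
      have hlt : S'.card < S.card := by
        apply Finset.card_lt_card
        refine ⟨hS'S, fun h => ?_⟩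
        exact hja (Finset.mem_filter.mp (h hj)).2
      have hprod : ∏ k ∈ S', (y k * y k) = (∏ k ∈ S, y k) * (∏ k ∈ S, y k) := by
        have e1 : act a (∏ k ∈ S, y k) = ∏ k ∈ S, (if σ k a then y k else (y k)⁻¹) := by
          rw [map_prod]
          refine Finset.prod_congr rfl fun k hk => ?_
          split_ifs with hka
          · exact h1 k hk a hka
          · exact h2 k hk a hka
        have e2 : (∏ k ∈ S, y k) * (∏ k ∈ S, y k) = (∏ k ∈ S, y k) * act a (∏ k ∈ S, y k) := by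
          rw [hf a]
        rw [e2, e1, ← Finset.prod_mul_distrib, hS', Finset.prod_filter]
        refine Finset.prod_congr rfl fun k _ => ?_
        split_ifs with hka
        · rfl
        · rw [mul_inv_cancel]
      have key := ih S' (fun k => y k * y k) (by omega)
        (fun k hk b hb => by
          rw [map_mul, h1 k (hS'S hk) b hb])
        (fun k hk b hb => by
          rw [map_mul, h2 k (hS'S hk) b hb, mul_inv])
        (fun k hk l hl hkl => hd k (hS'S hk) l (hS'S hl) hkl)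
        (fun k hk => hn k (hS'S hk))
        (fun b => by rw [hprod, map_mul, hf b])
        i (Finset.mem_filter.mpr ⟨hi, hia⟩)
      exact hodd _ key
    · push Not at hone
      have hSi : S = {i} := by
        ext k
        rw [Finset.mem_singleton]
        exact ⟨fun hk => hone k hk, fun hk => hk ▸ hi⟩
      obtain ⟨a, ha⟩ := hn i hi
      have e1 := hf a
      rw [hSi, Finset.prod_singleton, h2 i hi a ha] at e1
      apply hodd
      calc y i * y i = (y i)⁻¹ * y i := by rw [e1]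
        _ = 1 := inv_mul_cancel _

end Indep

section main

variable {G : Type*} [Group G]

/-- an element of odd order inverted by an element of odd order is trivial. -/
theorem eq_one_of_inv {c v : G} (hc : Odd (orderOf c)) (hv : Odd (orderOf v))
    (h : v * c * v⁻¹ = c⁻¹) : c = 1 := by
  have h2 : v ^ 2 * c * (v ^ 2)⁻¹ = c := by
    have : v * (v * c * v⁻¹) * v⁻¹ = c := by
      rw [h]
      calc v * c⁻¹ * v⁻¹ = (v * c * v⁻¹)⁻¹ := by group
        _ = c := by rw [h, inv_inv]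
    calc v ^ 2 * c * (v ^ 2)⁻¹ = v * (v * c * v⁻¹) * v⁻¹ := by rw [pow_two]; group
      _ = c := this
  have h3 : Commute (v ^ 2) c := by
    have := congrArg (· * v ^ 2) h2
    simp only [inv_mul_cancel_right] at this
    exact this
  obtain ⟨k, hk⟩ := hv
  have h4 : (v ^ 2) ^ (k + 1) = v := by
    rw [← pow_mul, show 2 * (k + 1) = orderOf v + 1 by omega, pow_succ, pow_orderOf_eq_one, one_mul]
  have h5 : Commute v c := by
    have := h3.pow_left (k + 1)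
    rwa [h4] at this
  have h6 : c = c⁻¹ := by
    rw [← h]
    rw [h5.eq]
    group
  have h7 : c ^ 2 = 1 := by
    rw [pow_two]
    nth_rewrite 2 [h6]
    exact mul_inv_cancel c
  have h8 : orderOf c ∣ 2 := orderOf_dvd_of_pow_eq_one h7
  rw [← orderOf_eq_one_iff]
  rcases (Nat.dvd_prime Nat.prime_two).mp h8 with h9 | h9
  · exact h9
  · rw [h9] at hc
    exact absurd hc (by decide)

/-- **#11541 (2)**: `A` elementary abelian 2-group, `T ≤ N(A)` semiregular on the hyperplanes of `A`,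
`R` solvable of odd order normalised by `A` and `T`, `C_R(T) ≤ C(A)`. Then `R ≤ C(A)`. -/
theorem centralizes [Finite G] {A T : Subgroup G} (hA : ∀ a ∈ A, a * a = 1)
    (hTA : T ≤ normalizer (A : Set G))
    (hsemi : ∀ t ∈ T, t ≠ 1 → ∀ B : Subgroup G, B ≤ A → B.relIndex A = 2 → ∃ b ∈ B, t * b * t⁻¹ ∉ B) :
    ∀ (n : ℕ) (R : Subgroup G), Nat.card R ≤ n → Odd (Nat.card R) → Group.IsSolvable R →
      A ≤ normalizer (R : Set G) → T ≤ normalizer (R : Set G) →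
      (∀ x ∈ R, (∀ t ∈ T, t * x * t⁻¹ = x) → ∀ a ∈ A, a * x = x * a) →
      ∀ x ∈ R, ∀ a ∈ A, a * x = x * a := by
  classical
  intro n
  induction n with
  | zero =>
    intro R hR
    exact absurd hR (by have := Nat.card_pos (α := R); omega)
  | succ n ih =>
    intro R hRn hRodd hRs hAR hTR hC
    by_cases hRbot : R = ⊥
    · intro x hx a _
      rw [hRbot, mem_bot] at hx
      rw [hx, mul_one, one_mul]
    have hAc : ∀ a ∈ A, ∀ b ∈ A, a * b = b * a := by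
      intro a ha b hb
      have e1 : a⁻¹ = a := inv_eq_of_mul_eq_one_right (hA a ha)
      have e2 : b⁻¹ = b := inv_eq_of_mul_eq_one_right (hA b hb)
      have e3 : (a * b)⁻¹ = a * b := inv_eq_of_mul_eq_one_right (hA _ (mul_mem ha hb))
      rw [← e3, mul_inv_rev, e1, e2]
    -- the derived subgroup is centralised by `A`
    have hlt : ⁅R, R⁆ < R := by
      refine lt_of_le_of_ne (commutator_le_self R) fun h => ?_
      apply hRbot
      have hc : commutator R = ⊤ := by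
        rw [eq_top_iff, _root_.commutator_def]
        intro x _
        have hx : (x : G) ∈ ⁅R, R⁆ := by rw [h]; exact x.2
        have e : (⁅(⊤ : Subgroup R), (⊤ : Subgroup R)⁆ : Subgroup R).map R.subtype = ⁅R, R⁆ := by
          rw [map_commutator, ← MonoidHom.range_eq_map, R.range_subtype]
        rw [← e] at hx
        obtain ⟨y, hy, hyx⟩ := hx
        have : y = x := Subtype.ext hyx
        rwa [← this]
      have htb : (⊤ : Subgroup R) = ⊥ := by
        obtain ⟨m, hm⟩ := hRs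
        have hall : ∀ k, derivedSeries R k = ⊤ := by
          intro k
          induction k with
          | zero => rfl
          | succ k ihk => rw [derivedSeries_succ, ihk, ← _root_.commutator_def, hc]
        rw [hall m] at hm
        exact hm
      rw [eq_bot_iff]
      intro x hx
      have h2 : (⟨x, hx⟩ : R) ∈ (⊥ : Subgroup R) := by
        rw [← htb]
        exact mem_top _
      rw [mem_bot] at h2 ⊢
      exact congrArg Subtype.val h2
    have hnorm : ∀ {K : Subgroup G}, K ≤ normalizer (R : Set G) →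
        K ≤ normalizer ((⁅R, R⁆ : Subgroup G) : Set G) := by
      intro K hK g hg
      have hgR : R.map (MulAut.conj g).toMonoidHom = R := by
        apply le_antisymm
        · rintro _ ⟨x, hx, rfl⟩
          exact (mem_normalizer_iff.mp (hK hg) x).mp hx
        · intro x hx
          refine ⟨g⁻¹ * x * g, ?_, ?_⟩
          · have := (mem_normalizer_iff.mp (inv_mem (hK hg)) x).mp hx
            simpa using this
          · change g * (g⁻¹ * x * g) * g⁻¹ = x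
            group
      have hgD : (⁅R, R⁆).map (MulAut.conj g).toMonoidHom = ⁅R, R⁆ := by
        rw [map_commutator, hgR]
      rw [mem_normalizer_iff]
      intro x
      constructor
      · intro hx
        rw [← hgD]
        exact ⟨x, hx, rfl⟩
      · intro hx
        rw [← hgD] at hx
        obtain ⟨y, hy, hyx⟩ := hx
        have : y = x := by
          have e : g * y * g⁻¹ = g * x * g⁻¹ := hyx
          exact mul_left_cancel (mul_right_cancel e)
        rwa [← this]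
    have hcardlt : Nat.card (⁅R, R⁆ : Subgroup G) < Nat.card R := by
      have h1 : Nat.card (⁅R, R⁆ : Subgroup G) ∣ Nat.card R := card_dvd_of_le hlt.le
      refine lt_of_le_of_ne (Nat.le_of_dvd Nat.card_pos h1) fun h => ?_
      exact hlt.ne (eq_of_le_of_card_ge hlt.le h.ge)
    have hDsolv : Group.IsSolvable (⁅R, R⁆ : Subgroup G) := by
      have := hRs
      exact Group.isSolvable_of_isSolvable_injective (inclusion_injective hlt.le)
    have hD : ∀ x ∈ (⁅R, R⁆ : Subgroup G), ∀ a ∈ A, a * x = x * a :=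
      ih ⁅R, R⁆ (by omega) (Odd.of_dvd_nat hRodd (card_dvd_of_le hlt.le)) hDsolv (hnorm hAR)
        (hnorm hTR) (fun x hx => hC x (hlt.le hx))
    have hordR : ∀ x ∈ R, Odd (orderOf x) := by
      intro x hx
      refine Odd.of_dvd_nat hRodd ?_
      have : orderOf (⟨x, hx⟩ : R) ∣ Nat.card R := _root_.orderOf_dvd_natCard _
      rwa [← Subgroup.orderOf_coe] at this
    -- reduce to weight elements
    have hgen := SignalizersComponents.OddWeights.closure_weights R A hRodd hAc hA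
      (fun a ha x hx => (mem_normalizer_iff.mp (hAR ha) x).mp hx)
    suffices hw : ∀ x ∈ R, (∀ a ∈ A, a * x * a⁻¹ = x ∨ a * x * a⁻¹ = x⁻¹) →
        ∀ a ∈ A, a * x = x * a by
      intro x hx a ha
      have hle : R ≤ centralizer ({a} : Set G) := by
        rw [← hgen, closure_le]
        rintro y ⟨hy, hyw⟩
        rw [SetLike.mem_coe, mem_centralizer_singleton_iff]
        exact (hw y hy hyw a ha).symm
      exact (mem_centralizer_singleton_iff.mp (hle hx)).symm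
    intro x hx hxw
    by_contra hcon
    push Not at hcon
    obtain ⟨a₀, ha₀, hxa₀⟩ := hcon
    have hcomm_iff : ∀ a y : G, a * y * a⁻¹ = y ↔ a * y = y * a := by
      intro a y
      rw [mul_inv_eq_iff_eq_mul]
    -- the hyperplane
    let B : Subgroup G := A ⊓ centralizer ({x} : Set G)
    have hBmem : ∀ a, a ∈ B ↔ a ∈ A ∧ a * x * a⁻¹ = x := by
      intro a
      change a ∈ A ∧ a ∈ centralizer ({x} : Set G) ↔ _
      rw [mem_centralizer_singleton_iff, hcomm_iff]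
    have hinv : ∀ a ∈ A, a ∉ B → a * x * a⁻¹ = x⁻¹ := by
      intro a ha haB
      rcases hxw a ha with h | h
      · exact absurd ((hBmem a).mpr ⟨ha, h⟩) haB
      · exact h
    have hBA : B ≤ A := inf_le_left
    have ha₀B : a₀ ∉ B := by
      intro h
      exact hxa₀ ((hcomm_iff a₀ x).mp ((hBmem a₀).mp h).2)
    have hmulB : ∀ a ∈ A, ∀ b ∈ A, a ∉ B → b ∉ B → a * b ∈ B := by
      intro a ha b hb haB hbB
      rw [hBmem]
      refine ⟨mul_mem ha hb, ?_⟩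
      calc a * b * x * (a * b)⁻¹ = a * (b * x * b⁻¹) * a⁻¹ := by group
        _ = (a * x * a⁻¹)⁻¹ := by rw [hinv b hb hbB]; group
        _ = x := by rw [hinv a ha haB, inv_inv]
    have hBidx : B.relIndex A = 2 := by
      have h1 : (B.subgroupOf A).index = 2 := by
        rw [index_eq_two_iff]
        refine ⟨⟨a₀, ha₀⟩, fun b => ?_⟩
        rw [mem_subgroupOf, mem_subgroupOf]
        change Xor (((b : G) * a₀) ∈ B) ((b : G) ∈ B)
        by_cases hb : (b : G) ∈ B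
        · right
          refine ⟨hb, fun h => ha₀B ?_⟩
          have := mul_mem (inv_mem hb) h
          simpa using this
        · left
          exact ⟨hmulB _ b.2 _ ha₀ hb ha₀B, hb⟩
      exact h1
    -- the family
    let y : T → G := fun t => (t : G) * x * (t : G)⁻¹
    have hyR : ∀ t : T, y t ∈ R := fun t => (mem_normalizer_iff.mp (hTR t.2) x).mp hx
    let σ : T → A → Prop := fun t a => (t : G)⁻¹ * (a : G) * (t : G) ∈ B
    have hTAm : ∀ (t : T) (a : A), (t : G)⁻¹ * (a : G) * (t : G) ∈ A := by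
      intro t a
      have := (mem_normalizer_iff.mp (hTA (inv_mem t.2)) (a : G)).mp a.2
      simpa using this
    have hfix : ∀ (t : T) (a : A), σ t a → (a : G) * y t * (a : G)⁻¹ = y t := by
      intro t a h
      have h1 := ((hBmem _).mp h).2
      calc (a : G) * y t * (a : G)⁻¹
          = (t : G) * (((t : G)⁻¹ * (a : G) * (t : G)) * x * ((t : G)⁻¹ * (a : G) * (t : G))⁻¹) *
            (t : G)⁻¹ := by
            change (a : G) * ((t : G) * x * (t : G)⁻¹) * (a : G)⁻¹ = _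
            group
        _ = y t := by rw [h1]
    have hneg : ∀ (t : T) (a : A), ¬ σ t a → (a : G) * y t * (a : G)⁻¹ = (y t)⁻¹ := by
      intro t a h
      have h1 := hinv _ (hTAm t a) h
      calc (a : G) * y t * (a : G)⁻¹
          = (t : G) * (((t : G)⁻¹ * (a : G) * (t : G)) * x * ((t : G)⁻¹ * (a : G) * (t : G))⁻¹) *
            (t : G)⁻¹ := by
            change (a : G) * ((t : G) * x * (t : G)⁻¹) * (a : G)⁻¹ = _
            group
        _ = (y t)⁻¹ := by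
            rw [h1]
            change (t : G) * x⁻¹ * (t : G)⁻¹ = ((t : G) * x * (t : G)⁻¹)⁻¹
            group
    -- different weights
    have hdist : ∀ s t : T, s ≠ t → ∃ a : A, σ s a ∧ ¬ σ t a := by
      intro s t hst
      have hne : (t : G)⁻¹ * (s : G) ≠ 1 := by
        intro h
        exact hst (Subtype.ext (by
          have := congrArg ((t : G) * ·) h
          simpa using this))
      obtain ⟨b, hb, hbn⟩ := hsemi _ (mul_mem (inv_mem t.2) s.2) hne B hBA hBidx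
      refine ⟨⟨(s : G) * b * (s : G)⁻¹, (mem_normalizer_iff.mp (hTA s.2) b).mp (hBA hb)⟩, ?_, ?_⟩
      · change (s : G)⁻¹ * ((s : G) * b * (s : G)⁻¹) * (s : G) ∈ B
        have : (s : G)⁻¹ * ((s : G) * b * (s : G)⁻¹) * (s : G) = b := by group
        rwa [this]
      · intro h
        apply hbn
        change (t : G)⁻¹ * ((s : G) * b * (s : G)⁻¹) * (t : G) ∈ B at h
        have : (t : G)⁻¹ * ((s : G) * b * (s : G)⁻¹) * (t : G)
            = (t : G)⁻¹ * (s : G) * b * ((t : G)⁻¹ * (s : G))⁻¹ := by group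
        rwa [this] at h
    -- the conjugates commute
    have hycomm : ∀ s t : T, y s * y t = y t * y s := by
      intro s t
      by_cases hst : s = t
      · rw [hst]
      obtain ⟨a, hsa, hta⟩ := hdist s t hst
      set c : G := ⁅y s, y t⁆ with hc
      have hcD : c ∈ (⁅R, R⁆ : Subgroup G) := commutator_mem_commutator (hyR s) (hyR t)
      have h1 : (a : G) * c * (a : G)⁻¹ = c := by
        rw [hcomm_iff]
        exact hD c hcD a a.2
      have h2 : (a : G) * c * (a : G)⁻¹ = ⁅y s, (y t)⁻¹⁆ := by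
        rw [hc, commutatorElement_def, commutatorElement_def]
        calc (a : G) * (y s * y t * (y s)⁻¹ * (y t)⁻¹) * (a : G)⁻¹
            = ((a : G) * y s * (a : G)⁻¹) * ((a : G) * y t * (a : G)⁻¹) *
              ((a : G) * y s * (a : G)⁻¹)⁻¹ * ((a : G) * y t * (a : G)⁻¹)⁻¹ := by group
          _ = _ := by rw [hfix s a hsa, hneg t a hta]
      have h3 : y t * c * (y t)⁻¹ = c⁻¹ := by
        have h4 : c = ⁅y s, (y t)⁻¹⁆ := by rw [← h2, h1]
        calc y t * c * (y t)⁻¹ = y t * ⁅y s, (y t)⁻¹⁆ * (y t)⁻¹ := by rw [← h4]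
          _ = c⁻¹ := by
            rw [hc, commutatorElement_def, commutatorElement_def]
            group
      have h5 : c = 1 := eq_one_of_inv (hordR c (hlt.le hcD)) (hordR _ (hyR t)) h3
      rw [hc, commutatorElement_eq_one_iff_mul_comm] at h5
      exact h5
    -- the abelian group generated by the conjugates
    let X : Subgroup G := _root_.Subgroup.closure (Set.range y)
    have hXR : X ≤ R := by
      rw [closure_le]
      rintro _ ⟨t, rfl⟩
      exact hyR t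
    have hXc : ∀ u ∈ X, ∀ v ∈ X, u * v = v * u := by
      have hXc' : X ≤ centralizer (X : Set G) := by
        rw [closure_le]
        rintro _ ⟨s, rfl⟩
        rw [SetLike.mem_coe, mem_centralizer_iff]
        intro u hu
        have : X ≤ centralizer ({y s} : Set G) := by
          rw [closure_le]
          rintro _ ⟨t, rfl⟩
          rw [SetLike.mem_coe, mem_centralizer_singleton_iff]
          exact hycomm t s
        exact mem_centralizer_singleton_iff.mp (this hu)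
      intro u hu v hv
      exact mem_centralizer_iff.mp (hXc' hv) u hu
    let _ : CommGroup X := { (inferInstance : Group X) with
      mul_comm := fun u v => Subtype.ext (hXc u u.2 v v.2) }
    have hXA : ∀ (a : A), ∀ u ∈ X, (a : G) * u * (a : G)⁻¹ ∈ X := by
      intro a u hu
      have hle : X ≤ X.comap (MulAut.conj (a : G)).toMonoidHom := by
        rw [closure_le]
        rintro _ ⟨t, rfl⟩
        change (a : G) * y t * (a : G)⁻¹ ∈ X
        have hyX : y t ∈ X := subset_closure ⟨t, rfl⟩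
        by_cases h : σ t a
        · rw [hfix t a h]
          exact hyX
        · rw [hneg t a h]
          exact inv_mem hyX
      exact hle hu
    let act : A → X →* X := fun a =>
      { toFun := fun u => ⟨(a : G) * u * (a : G)⁻¹, hXA a u u.2⟩
        map_one' := Subtype.ext (by simp)
        map_mul' := fun u v => Subtype.ext (by
          change (a : G) * ((u : G) * (v : G)) * (a : G)⁻¹ = ((a : G) * u * (a : G)⁻¹) * ((a : G) * v * (a : G)⁻¹)
          group) }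
    let yX : T → X := fun t => ⟨y t, subset_closure ⟨t, rfl⟩⟩
    have hXodd : ∀ u : X, u * u = 1 → u = 1 := by
      intro u hu
      have h1 : (u : G) ^ 2 = 1 := by
        rw [pow_two]
        exact congrArg Subtype.val hu
      have h2 := hordR u (hXR u.2)
      have h3 : orderOf (u : G) ∣ 2 := orderOf_dvd_of_pow_eq_one h1
      apply Subtype.ext
      change (u : G) = 1
      rw [← orderOf_eq_one_iff]
      rcases (Nat.dvd_prime Nat.prime_two).mp h3 with h4 | h4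
      · exact h4
      · rw [h4] at h2
        exact absurd h2 (by decide)
    have : Fintype T := Fintype.ofFinite T
    -- the product is fixed by `T`
    have hprodT : ∀ s ∈ T, s * ((∏ t : T, yX t : X) : G) * s⁻¹ = ((∏ t : T, yX t : X) : G) := by
      intro s hs
      have hXs : ∀ u ∈ X, s * u * s⁻¹ ∈ X := by
        intro u hu
        have hle : X ≤ X.comap (MulAut.conj s).toMonoidHom := by
          rw [closure_le]
          rintro _ ⟨t, rfl⟩
          change s * ((t : G) * x * (t : G)⁻¹) * s⁻¹ ∈ X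
          refine subset_closure ⟨⟨s, hs⟩ * t, ?_⟩
          change s * (t : G) * x * (s * (t : G))⁻¹ = _
          group
        exact hle hu
      let cs : X →* X :=
        { toFun := fun u => ⟨s * u * s⁻¹, hXs u u.2⟩
          map_one' := Subtype.ext (by simp)
          map_mul' := fun u v => Subtype.ext (by
            change s * ((u : G) * (v : G)) * s⁻¹ = (s * u * s⁻¹) * (s * v * s⁻¹)
            group) }
      have e1 : cs (∏ t : T, yX t) = ∏ t : T, yX t := by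
        rw [map_prod]
        have e2 : ∀ t : T, cs (yX t) = yX (⟨s, hs⟩ * t) := by
          intro t
          apply Subtype.ext
          change s * ((t : G) * x * (t : G)⁻¹) * s⁻¹ = s * (t : G) * x * (s * (t : G))⁻¹
          group
        rw [Finset.prod_congr rfl fun t _ => e2 t]
        exact Fintype.prod_equiv (Equiv.mulLeft (⟨s, hs⟩ : T)) _ _ fun t => rfl
      exact congrArg Subtype.val e1
    have hfixA := hC _ (hXR (∏ t : T, yX t : X).2) hprodT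
    have hone := indep (X := X) hXodd act σ (Finset.univ : Finset T).card Finset.univ yX le_rfl
      (fun t _ a h => Subtype.ext (hfix t a h))
      (fun t _ a h => Subtype.ext (hneg t a h))
      (fun s _ t _ hst => hdist s t hst)
      (fun t _ => by
        refine ⟨⟨(t : G) * a₀ * (t : G)⁻¹, (mem_normalizer_iff.mp (hTA t.2) a₀).mp ha₀⟩, ?_⟩
        intro h
        change (t : G)⁻¹ * ((t : G) * a₀ * (t : G)⁻¹) * (t : G) ∈ B at h
        have e : (t : G)⁻¹ * ((t : G) * a₀ * (t : G)⁻¹) * (t : G) = a₀ := by group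
        rw [e] at h
        exact ha₀B h)
      (fun a => Subtype.ext (by
        change (a : G) * ((∏ t : T, yX t : X) : G) * (a : G)⁻¹ = _
        rw [hcomm_iff]
        exact hfixA a a.2))
      1 (Finset.mem_univ _)
    have hx1 : x = 1 := by
      have := congrArg Subtype.val hone
      change ((1 : T) : G) * x * ((1 : T) : G)⁻¹ = 1 at this
      simpa using this
    apply hxa₀
    rw [hx1, mul_one, one_mul]

/-- If `T` has odd order, normalises the elementary abelian 2-group `A` and acts fixed-point-freely on it,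
then no `1 ≠ t ∈ T` normalises a subgroup of index 2 of `A`. -/
theorem semi_of_fpf {A T : Subgroup G} (hA : ∀ a ∈ A, a * a = 1)
    (hTA : T ≤ normalizer (A : Set G)) (hTo : ∀ t ∈ T, Odd (orderOf t))
    (hfpf : ∀ t ∈ T, t ≠ 1 → ∀ a ∈ A, t * a = a * t → a = 1) :
    ∀ t ∈ T, t ≠ 1 → ∀ B : Subgroup G, B ≤ A → B.relIndex A = 2 → ∃ b ∈ B, t * b * t⁻¹ ∉ B := by
  classical
  intro t ht ht1 B hBA hB2
  by_contra hcon
  push Not at hcon
  have hAc : ∀ a ∈ A, ∀ b ∈ A, a * b = b * a := by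
    intro a ha b hb
    have e1 : a⁻¹ = a := inv_eq_of_mul_eq_one_right (hA a ha)
    have e2 : b⁻¹ = b := inv_eq_of_mul_eq_one_right (hA b hb)
    have e3 : (a * b)⁻¹ = a * b := inv_eq_of_mul_eq_one_right (hA _ (mul_mem ha hb))
    rw [← e3, mul_inv_rev, e1, e2]
  let _ : CommGroup A := { (inferInstance : Group A) with
    mul_comm := fun u v => Subtype.ext (hAc u u.2 v v.2) }
  set BA : Subgroup A := B.subgroupOf A with hBAdef
  have hidx : BA.index = 2 := hB2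
  obtain ⟨n, hn⟩ := hTo t ht
  -- powers of `t` preserve `B`
  have hpow : ∀ k : ℕ, ∀ b ∈ B, t ^ k * b * (t ^ k)⁻¹ ∈ B := by
    intro k
    induction k with
    | zero => intro b hb; simpa using hb
    | succ k ih =>
      intro b hb
      have := hcon _ (ih b hb)
      rwa [show t * (t ^ k * b * (t ^ k)⁻¹) * t⁻¹ = t ^ (k + 1) * b * (t ^ (k + 1))⁻¹ by
        rw [pow_succ']; group] at this
  have hpow' : ∀ k : ℕ, ∀ b : G, t ^ k * b * (t ^ k)⁻¹ ∈ B → b ∈ B := by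
    intro k b hb
    have h1 := hpow (2 * k * n) _ hb
    have h2 : t ^ (2 * k * n) * t ^ k = 1 := by
      rw [← pow_add, show 2 * k * n + k = orderOf t * k by rw [hn]; ring, pow_mul,
        pow_orderOf_eq_one, one_pow]
    have h3 : t ^ (2 * k * n) * (t ^ k * b * (t ^ k)⁻¹) * (t ^ (2 * k * n))⁻¹ = b := by
      calc t ^ (2 * k * n) * (t ^ k * b * (t ^ k)⁻¹) * (t ^ (2 * k * n))⁻¹
          = (t ^ (2 * k * n) * t ^ k) * b * (t ^ (2 * k * n) * t ^ k)⁻¹ := by group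
        _ = b := by rw [h2]; group
    rwa [h3] at h1
  have hTAp : ∀ k : ℕ, ∀ a ∈ A, t ^ k * a * (t ^ k)⁻¹ ∈ A := fun k a ha =>
    (mem_normalizer_iff.mp (pow_mem (hTA ht) k) a).mp ha
  -- an element outside
  obtain ⟨a, ha⟩ : ∃ a : A, a ∉ BA := by
    by_contra h
    push Not at h
    have : BA = ⊤ := eq_top_iff.mpr fun x _ => h x
    rw [this, index_top] at hidx
    exact absurd hidx (by norm_num)
  let f : ℕ → A := fun k => ⟨t ^ k * a * (t ^ k)⁻¹, hTAp k a a.2⟩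
  have hf : ∀ k, f k ∉ BA := by
    intro k h
    apply ha
    rw [mem_subgroupOf] at h ⊢
    exact hpow' k a h
  have hprod : ∀ k, (∏ i ∈ Finset.range k, f i) ∈ BA ↔ Even k := by
    intro k
    induction k with
    | zero => simp only [_root_.Finset.range_zero, _root_.Finset.prod_empty, _root_.OneMemClass.one_mem, _root_.Even.zero]
    | succ k ih =>
      rw [Finset.prod_range_succ, mul_mem_iff_of_index_two hidx, ih]
      constructor
      · intro h
        rw [Nat.even_add_one]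
        exact fun h1 => hf k (h.mp h1)
      · intro h
        rw [Nat.even_add_one] at h
        exact ⟨fun h1 => absurd h1 h, fun h1 => absurd h1 (hf k)⟩
  set w : A := ∏ i ∈ Finset.range (orderOf t), f i with hw
  have hwB : w ∉ BA := by
    rw [hw, hprod, hn]
    intro h
    rw [Nat.even_add_one] at h
    exact h (even_two_mul n)
  let c : A →* A :=
    { toFun := fun u => ⟨t * u * t⁻¹, (mem_normalizer_iff.mp (hTA ht) u).mp u.2⟩
      map_one' := Subtype.ext (by simp)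
      map_mul' := fun u v => Subtype.ext (by
        change t * ((u : G) * (v : G)) * t⁻¹ = (t * u * t⁻¹) * (t * v * t⁻¹)
        group) }
  have hcf : ∀ k, c (f k) = f (k + 1) := by
    intro k
    apply Subtype.ext
    change t * (t ^ k * (a : G) * (t ^ k)⁻¹) * t⁻¹ = t ^ (k + 1) * (a : G) * (t ^ (k + 1))⁻¹
    rw [pow_succ']
    group
  have hlast : f (orderOf t) = f 0 := by
    apply Subtype.ext
    change t ^ orderOf t * (a : G) * (t ^ orderOf t)⁻¹ = t ^ 0 * (a : G) * (t ^ 0)⁻¹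
    rw [pow_orderOf_eq_one, pow_zero]
  have hcw : c w = w := by
    rw [hw, map_prod, Finset.prod_congr rfl fun k _ => hcf k]
    have e1 := Finset.prod_range_succ f (orderOf t)
    have e2 := Finset.prod_range_succ' f (orderOf t)
    rw [e2, hlast] at e1
    exact mul_right_cancel e1
  have hw1 : (w : G) = 1 := by
    refine hfpf t ht ht1 w w.2 ?_
    have := congrArg Subtype.val hcw
    change t * (w : G) * t⁻¹ = w at this
    exact mul_inv_eq_iff_eq_mul.mp this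
  apply hwB
  have : w = 1 := Subtype.ext hw1
  rw [this]
  exact one_mem _

/-- **#11541 (2)**, final form: `C_R(T)` only normalises `A` (and `A ∩ R = 1`, `R` of odd order). -/
theorem centralizes' [Finite G] {A T R : Subgroup G} (hA : ∀ a ∈ A, a * a = 1)
    (hTA : T ≤ normalizer (A : Set G))
    (hsemi : ∀ t ∈ T, t ≠ 1 → ∀ B : Subgroup G, B ≤ A → B.relIndex A = 2 → ∃ b ∈ B, t * b * t⁻¹ ∉ B)
    (hRodd : Odd (Nat.card R)) (hRs : Group.IsSolvable R) (hAR : A ≤ normalizer (R : Set G))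
    (hTR : T ≤ normalizer (R : Set G))
    (hC : ∀ x ∈ R, (∀ t ∈ T, t * x * t⁻¹ = x) → x ∈ normalizer (A : Set G)) :
    ∀ x ∈ R, ∀ a ∈ A, a * x = x * a := by
  refine centralizes hA hTA hsemi (Nat.card R) R le_rfl hRodd hRs hAR hTR fun x hx hxT a ha => ?_
  have hn := hC x hx hxT
  -- `[x, a] ∈ R ∩ A`
  set c : G := a * x * a⁻¹ * x⁻¹ with hc
  have h1 : c ∈ R := mul_mem ((mem_normalizer_iff.mp (hAR ha) x).mp hx) (inv_mem hx)
  have h2 : c ∈ A := by
    have : c = a * (x * a * x⁻¹)⁻¹ := by rw [hc]; group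
    rw [this]
    exact mul_mem ha (inv_mem ((mem_normalizer_iff.mp hn a).mp ha))
  have h3 : orderOf c ∣ 2 := orderOf_dvd_of_pow_eq_one (by rw [pow_two]; exact hA c h2)
  have h4 : Odd (orderOf c) := by
    refine Odd.of_dvd_nat hRodd ?_
    have : orderOf (⟨c, h1⟩ : R) ∣ Nat.card R := _root_.orderOf_dvd_natCard _
    rwa [← Subgroup.orderOf_coe] at this
  have h5 : c = 1 := by
    rw [← orderOf_eq_one_iff]
    rcases (Nat.dvd_prime Nat.prime_two).mp h3 with h | h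
    · exact h
    · rw [h] at h4
      exact absurd h4 (by decide)
  have h6 : a * x * a⁻¹ * x⁻¹ = 1 := h5
  calc a * x = (a * x * a⁻¹ * x⁻¹) * (x * a) := by group
    _ = x * a := by rw [h6, one_mul]

end main

end Cfsg.Agent.Omega.Lie.OddPart

end

section


/-!
# NODE LIE, `q = 4` (#12397, helper844; referee #12569): the linear algebra

`x₁, x₂, x₃` commuting elements of prime order `r ≠ 2`, permuted by `t`, acting on a finite elementary
abelian 2-group `M`; `a₁, a₂, a₁ a₂` a four-group, `aᵢ` centralises `xᵢ` and inverts the two others;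
`θ = (1 + a₁)(1 + a₂)` has image of order at most `4`; `f` an alternating form with values in `R`, `|R| > 2`,
such that no nonzero vector moved by `x₁` has `f(M, v)` inside a proper subgroup of `R`.
Then `x₁` centralises `[M, a₁]`.
-/

set_option autoImplicit false

namespace Cfsg.Agent.Omega.Lie.OddQ4

section Sums

variable {H M : Type*} [Group H] [AddCommGroup M] [DistribMulAction H M]

/-- the sum over the powers of `x` -/
def sg (r : ℕ) [NeZero r] (x : H) (m : M) : M := ∑ k : ZMod r, (x ^ k.val) • m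

variable {r : ℕ} [NeZero r]

omit [NeZero r] in
theorem pow_val {x : H} (hx : x ^ r = 1) (n : ℕ) : x ^ ((n : ZMod r).val) = x ^ n := by
  rw [ZMod.val_natCast]
  conv_rhs => rw [← Nat.div_add_mod n r, pow_add, pow_mul, hx, one_pow, one_mul]

theorem pow_add_val {x : H} (hx : x ^ r = 1) (j k : ZMod r) :
    x ^ (j + k).val = x ^ j.val * x ^ k.val := by
  have h : ((j.val + k.val : ℕ) : ZMod r) = j + k := by
    rw [Nat.cast_add, ZMod.natCast_zmod_val, ZMod.natCast_zmod_val]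
  rw [← h, pow_val hx, pow_add]

theorem sg_add (x : H) (m n : M) : sg r x (m + n) = sg r x m + sg r x n := by
  unfold sg
  rw [← Finset.sum_add_distrib]
  exact Finset.sum_congr rfl fun k _ => smul_add _ _ _

theorem sg_zero (x : H) : sg r x (0 : M) = 0 := by
  unfold sg
  exact Finset.sum_eq_zero fun k _ => smul_zero _

theorem sg_pow {x : H} (hx : x ^ r = 1) {j : ℕ} (hj : IsUnit (j : ZMod r)) (m : M) :
    sg r (x ^ j) m = sg r x m := by
  unfold sg
  obtain ⟨u, hu⟩ := hj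
  refine Fintype.sum_equiv (Units.mulLeft u) _ _ fun k => ?_
  have h : ((j * k.val : ℕ) : ZMod r) = (j : ZMod r) * k := by
    rw [Nat.cast_mul, ZMod.natCast_zmod_val]
  change (x ^ j) ^ k.val • m = x ^ ((u : ZMod r) * k).val • m
  rw [← pow_mul, hu, ← h, pow_val hx]

theorem sg_inv {x : H} (hx : x ^ r = 1) (m : M) : sg r x⁻¹ m = sg r x m := by
  unfold sg
  refine Fintype.sum_equiv (Equiv.neg (ZMod r)) _ _ fun k => ?_
  congr 1
  have h := pow_add_val hx k (-k)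
  rw [add_neg_cancel, ZMod.val_zero, pow_zero] at h
  rw [Equiv.neg_apply, inv_pow]
  exact inv_eq_of_mul_eq_one_right h.symm

theorem smul_sg {x : H} (hx : x ^ r = 1) (m : M) : x • sg r x m = sg r x m := by
  unfold sg
  rw [Finset.smul_sum]
  refine Fintype.sum_equiv (Equiv.addLeft (1 : ZMod r)) _ _ fun k => ?_
  rw [Equiv.coe_addLeft, pow_add_val hx, ← smul_smul]
  congr 2
  have h := pow_val hx 1
  rw [Nat.cast_one, pow_one] at h
  rw [h]

theorem sg_of_fix {x : H} {m : M} (h2 : ∀ m : M, m + m = 0) (hr : Odd r) (h : x • m = m) :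
    sg r x m = m := by
  unfold sg
  have h1 : ∀ n : ℕ, x ^ n • m = m := by
    intro n
    induction n with
    | zero => rw [pow_zero, one_smul]
    | succ n ih => rw [pow_succ, ← smul_smul, h, ih]
  rw [Finset.sum_congr rfl fun k _ => h1 _, Finset.sum_const, Finset.card_univ, ZMod.card]
  obtain ⟨k, hk⟩ := hr
  rw [hk, add_smul, mul_comm, mul_smul, two_nsmul, h2, smul_zero, zero_add, one_smul]

/-- conjugation -/
theorem smul_sg_of {a x y : H} (h : a * x * a⁻¹ = y) (m : M) : a • sg r x m = sg r y (a • m) := by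
  unfold sg
  rw [Finset.smul_sum]
  refine Finset.sum_congr rfl fun k _ => ?_
  rw [smul_smul, smul_smul, ← h, conj_pow]
  congr 1
  group

theorem sg_comm {x y : H} (h : x * y = y * x) (m : M) : sg r x (sg r y m) = sg r y (sg r x m) := by
  have h1 : ∀ k : ℕ, x ^ k • sg r y m = sg r y (x ^ k • m) := by
    intro k
    refine smul_sg_of ?_ m
    have h2 : Commute (x ^ k) y := (show Commute x y from h).pow_left k
    rw [h2.eq, mul_assoc, mul_inv_cancel, mul_one]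
  have h0 : sg r x (sg r y m) = ∑ k : ZMod r, sg r y (x ^ k.val • m) :=
    Finset.sum_congr rfl fun k _ => h1 _
  rw [h0]
  have h3 : ∀ s : Finset (ZMod r), ∑ k ∈ s, sg r y (x ^ k.val • m) = sg r y (∑ k ∈ s, x ^ k.val • m) := by
    intro s
    classical
    induction s using Finset.induction_on with
    | empty => rw [Finset.sum_empty, Finset.sum_empty, sg_zero]
    | insert k s hk ih => rw [Finset.sum_insert hk, Finset.sum_insert hk, sg_add, ih]
  rw [h3]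
  rfl

/-- **the grid identity**: if `x` and `y` have no fixed component on `m`, some `y x^{-c}` has one. -/
theorem exists_grid [hp : Fact r.Prime] (h2 : ∀ m : M, m + m = 0) (hr : Odd r) {x y : H} (hx : x ^ r = 1)
    (hxy : x * y = y * x) {m : M} (hm : m ≠ 0) (hxm : sg r x m = 0) (hym : sg r y m = 0) :
    ∃ c : ℕ, (c : ZMod r) ≠ 0 ∧ sg r (y * (x ^ c)⁻¹) m ≠ 0 := by
  by_contra hcon
  push Not at hcon
  have hall : ∀ c : ZMod r, sg r (y * (x ^ c.val)⁻¹) m = 0 := by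
    intro c
    by_cases hc : c = 0
    · rw [hc, ZMod.val_zero, pow_zero, inv_one, mul_one, hym]
    · exact hcon c.val (by rwa [ZMod.natCast_zmod_val])
  have hsum : ∑ c : ZMod r, sg r (y * (x ^ c.val)⁻¹) m = 0 := Finset.sum_eq_zero fun c _ => hall c
  have hC : ∀ n : ℕ, Commute y (x ^ n)⁻¹ := fun n =>
    ((show Commute y x from hxy.symm).pow_right n).inv_right
  have e1 : ∑ c : ZMod r, sg r (y * (x ^ c.val)⁻¹) m
      = ∑ k : ZMod r, (y ^ k.val) • ∑ c : ZMod r, ((x ^ c.val)⁻¹ ^ k.val) • m := by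
    unfold sg
    rw [Finset.sum_comm]
    refine Finset.sum_congr rfl fun k _ => ?_
    rw [Finset.smul_sum]
    refine Finset.sum_congr rfl fun c _ => ?_
    rw [(hC _).mul_pow, smul_smul]
  have e2 : ∀ k : ZMod r, k ≠ 0 → ∑ c : ZMod r, ((x ^ c.val)⁻¹ ^ k.val) • m = 0 := by
    intro k hk
    have hu : IsUnit ((k.val : ℕ) : ZMod r) := by
      rw [ZMod.natCast_zmod_val]
      exact isUnit_iff_ne_zero.mpr hk
    have h1 := sg_pow (M := M) (x := x⁻¹) (by rw [inv_pow, hx, inv_one]) hu m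
    rw [sg_inv hx, hxm] at h1
    rw [← h1]
    unfold sg
    refine Finset.sum_congr rfl fun c _ => ?_
    congr 1
    rw [inv_pow, inv_pow, inv_pow, ← pow_mul, ← pow_mul, mul_comm]
  have e3 : ∑ k : ZMod r, (y ^ k.val) • ∑ c : ZMod r, ((x ^ c.val)⁻¹ ^ k.val) • m
      = ∑ c : ZMod r, ((x ^ c.val)⁻¹ ^ (0 : ZMod r).val) • m := by
    rw [Finset.sum_eq_single (0 : ZMod r)]
    · rw [ZMod.val_zero, pow_zero, one_smul]
    · intro k _ hk
      rw [e2 k hk, smul_zero]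
    · intro h
      exact absurd (Finset.mem_univ _) h
  have e4 : ∑ c : ZMod r, ((x ^ c.val)⁻¹ ^ (0 : ZMod r).val) • m = m := by
    rw [ZMod.val_zero]
    simp only [pow_zero, one_smul]
    rw [Finset.sum_const, Finset.card_univ, ZMod.card]
    obtain ⟨k, hk⟩ := hr
    rw [hk, add_smul, mul_comm, mul_smul, two_nsmul, h2, smul_zero, zero_add, one_smul]
  rw [e1, e3, e4] at hsum
  exact hm hsum

end Sums

section Core

variable {H M R : Type*} [Group H] [AddCommGroup M] [DistribMulAction H M] [AddCommGroup R]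

theorem sg_congr {r : ℕ} [NeZero r] {z y : H} (hzy : z * y = y * z) {w : M} (h : z • w = y • w) :
    sg r z w = sg r y w := by
  have h1 : ∀ n : ℕ, z ^ n • w = y ^ n • w := by
    intro n
    induction n with
    | zero => rw [pow_zero, pow_zero]
    | succ n ih =>
      have h2 : z ^ n * y = y * z ^ n := ((show Commute z y from hzy).pow_left n).eq
      rw [pow_succ, ← smul_smul, h, smul_smul, h2, ← smul_smul, ih, smul_smul, ← pow_succ']
  unfold sg
  exact Finset.sum_congr rfl fun k _ => h1 _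

theorem five {S : Set M} [Finite M] (hS : Nat.card S ≤ 4) {u₁ u₂ u₃ : M} (h0 : (0 : M) ∈ S)
    (h1 : u₁ ∈ S) (h2 : u₂ ∈ S) (h3 : u₃ ∈ S) (h12 : u₁ + u₂ ∈ S) (n1 : u₁ ≠ 0) (n2 : u₂ ≠ 0)
    (n3 : u₃ ≠ 0) (n12 : u₁ ≠ u₂) (n13 : u₁ ≠ u₃) (n23 : u₂ ≠ u₃) (n0 : u₁ + u₂ ≠ 0)
    (ns : u₁ + u₂ ≠ u₃) : False := by
  classical
  have hsub : (({0, u₁, u₂, u₃, u₁ + u₂} : Finset M) : Set M) ⊆ S := by
    intro x hx
    simp only [Finset.coe_insert, Finset.coe_singleton, Set.mem_insert_iff, Set.mem_singleton_iff] at hx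
    rcases hx with rfl | rfl | rfl | rfl | rfl <;> assumption
  have hcard : ({0, u₁, u₂, u₃, u₁ + u₂} : Finset M).card = 5 := by
    rw [Finset.card_insert_of_notMem, Finset.card_insert_of_notMem, Finset.card_insert_of_notMem,
      Finset.card_insert_of_notMem, Finset.card_singleton]
    · simp only [Finset.mem_singleton]
      exact ns.symm
    · simp only [Finset.mem_insert, Finset.mem_singleton, not_or]
      refine ⟨n23, fun h => n1 ?_⟩
      have : (0 : M) + u₂ = u₁ + u₂ := by rw [zero_add]; exact h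
      exact (add_right_cancel this).symm
    · simp only [Finset.mem_insert, Finset.mem_singleton, not_or]
      refine ⟨n12, n13, fun h => n2 ?_⟩
      have : u₁ + 0 = u₁ + u₂ := by rw [add_zero]; exact h
      exact (add_left_cancel this).symm
    · simp only [Finset.mem_insert, Finset.mem_singleton, not_or]
      exact ⟨n1.symm, n2.symm, n3.symm, n0.symm⟩
  have h5 := Set.ncard_le_ncard hsub (Set.toFinite S)
  rw [Set.ncard_coe_finset, hcard] at h5
  have h6 : S.ncard = Nat.card S := rfl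
  omega

/-- **#12397, (3)**: there is no nonzero vector without fixed component. -/
theorem no_three [Finite M] {r : ℕ} [hp : Fact r.Prime] (hr2 : r ≠ 2) (h2 : ∀ m : M, m + m = 0)
    (hR2 : ∀ s : R, s + s = 0) (hR : 2 < Nat.card R) {x₁ x₂ x₃ a₁ a₂ : H} (hx₁ : x₁ ^ r = 1)
    (hx₂ : x₂ ^ r = 1) (hx₃ : x₃ ^ r = 1)
    (h12 : x₁ * x₂ = x₂ * x₁) (h13 : x₁ * x₃ = x₃ * x₁) (h23 : x₂ * x₃ = x₃ * x₂)
    (a11 : a₁ * x₁ * a₁⁻¹ = x₁) (a12 : a₁ * x₂ * a₁⁻¹ = x₂⁻¹) (a13 : a₁ * x₃ * a₁⁻¹ = x₃⁻¹)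
    (a21 : a₂ * x₁ * a₂⁻¹ = x₁⁻¹) (a22 : a₂ * x₂ * a₂⁻¹ = x₂) (a23 : a₂ * x₃ * a₂⁻¹ = x₃⁻¹)
    (hθ : Nat.card (Set.range fun m : M => m + a₁ • m + a₂ • m + (a₁ * a₂) • m) ≤ 4)
    (f : M →+ M →+ R) (halt : ∀ m, f m m = 0)
    (hinv : ∀ u v, f (x₁ • u) (x₁ • v) = f u v ∧ f (x₂ • u) (x₂ • v) = f u v ∧
      f (x₃ • u) (x₃ • v) = f u v)
    (hkey : ∀ v : M, ∀ R₀ : AddSubgroup R, R₀ ≠ ⊤ → (∀ u, f u v ∈ R₀) → x₁ • v = v) (v₀ : M)
    (hv1 : sg r x₁ v₀ = 0) (hv2 : sg r x₂ v₀ = 0) (hv3 : sg r x₃ v₀ = 0) : v₀ = 0 := by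
  classical
  by_contra hv0
  have hrodd : Odd r := hp.out.odd_of_ne_two hr2
  obtain ⟨c, hc, hv'⟩ := exists_grid h2 hrodd hx₁ h12 hv0 hv1 hv2
  set z : H := x₂ * (x₁ ^ c)⁻¹ with hz
  have cz1 : z * x₁ = x₁ * z := by
    have e : Commute x₂ x₁ := h12.symm
    exact (e.mul_left (((Commute.refl x₁).pow_left c).inv_left)).eq
  have cz3 : z * x₃ = x₃ * z := by
    have e : Commute x₂ x₃ := h23
    have e' : Commute x₁ x₃ := h13
    exact (e.mul_left ((e'.pow_left c).inv_left)).eq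
  have hv'1 : sg r x₁ (sg r z v₀) = 0 := by rw [sg_comm cz1.symm, hv1, sg_zero]
  have hv'3 : sg r x₃ (sg r z v₀) = 0 := by rw [sg_comm cz3.symm, hv3, sg_zero]
  obtain ⟨d, hd, hv''⟩ := exists_grid h2 hrodd hx₁ h13 hv' hv'1 hv'3
  set z' : H := x₃ * (x₁ ^ d)⁻¹ with hz'
  have cz'1 : z' * x₁ = x₁ * z' := by
    have e : Commute x₃ x₁ := h13.symm
    exact (e.mul_left (((Commute.refl x₁).pow_left d).inv_left)).eq
  have czz' : z * z' = z' * z := by
    have e1 : Commute z x₃ := cz3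
    have e2 : Commute z x₁ := cz1
    exact (e1.mul_right ((e2.pow_right d).inv_right)).eq
  have hzr : z ^ r = 1 := by
    have e : Commute x₂ (x₁ ^ c)⁻¹ := ((show Commute x₂ x₁ from h12.symm).pow_right c).inv_right
    rw [hz, e.mul_pow, hx₂, inv_pow, ← pow_mul, mul_comm c, pow_mul, hx₁, one_pow, inv_one, mul_one]
  have hz'r : z' ^ r = 1 := by
    have e : Commute x₃ (x₁ ^ d)⁻¹ := ((show Commute x₃ x₁ from h13.symm).pow_right d).inv_right
    rw [hz', e.mul_pow, hx₃, inv_pow, ← pow_mul, mul_comm d, pow_mul, hx₁, one_pow, inv_one, mul_one]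
  -- the piece `E`
  let E : Set M := {v | z • v = v ∧ z' • v = v ∧ sg r x₁ v = 0}
  have hπ : ∀ u : M, sg r x₁ u = 0 → sg r z' (sg r z u) ∈ E := by
    intro u hu
    refine ⟨?_, smul_sg hz'r _, ?_⟩
    · rw [smul_sg_of (a := z) (x := z') (y := z') (by rw [czz']; group), smul_sg hzr]
    · rw [sg_comm cz'1.symm, sg_comm cz1.symm, hu, sg_zero, sg_zero]
  set v : M := sg r z' (sg r z v₀) with hv
  have hvE : v ∈ E := hπ v₀ hv1
  have hfix2 : ∀ {y w : M} {g : H}, g • w = w → g⁻¹ • w = w := by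
    intro y w g h
    rw [inv_smul_eq_iff, h]
  -- the units `2c`, `2d`
  have hu2 : ∀ n : ℕ, (n : ZMod r) ≠ 0 → IsUnit (((2 * n : ℕ)) : ZMod r) := by
    intro n hn
    rw [isUnit_iff_ne_zero, Nat.cast_mul]
    refine mul_ne_zero ?_ hn
    intro h
    have h' : ((2 : ℕ) : ZMod r) = 0 := h
    rw [ZMod.natCast_eq_zero_iff] at h'
    exact hr2 ((Nat.prime_dvd_prime_iff_eq hp.out Nat.prime_two).mp h')
  -- `w` with `y x₁ⁿ w = w`, `S₁ w = 0`: `S_{y x₁^{-n}} w = 0`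
  have hkill : ∀ (y : H) (n : ℕ) (w : M), y * x₁ = x₁ * y → (n : ZMod r) ≠ 0 →
      (y * x₁ ^ n) • w = w → sg r x₁ w = 0 → sg r (y * (x₁ ^ n)⁻¹) w = 0 := by
    intro y n w hy hn hw hs
    have cy : Commute y x₁ := hy
    have e1 : (y * (x₁ ^ n)⁻¹) • w = (x₁ ^ (2 * n))⁻¹ • w := by
      have e2 : y * (x₁ ^ n)⁻¹ = (x₁ ^ (2 * n))⁻¹ * (y * x₁ ^ n) := by
        have c1 : Commute y (x₁ ^ (2 * n))⁻¹ := (cy.pow_right _).inv_right
        rw [← mul_assoc, ← c1.eq, mul_assoc]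
        congr 1
        rw [two_mul, pow_add]
        group
      rw [e2, ← smul_smul, hw]
    have c2 : (y * (x₁ ^ n)⁻¹) * (x₁ ^ (2 * n))⁻¹ = (x₁ ^ (2 * n))⁻¹ * (y * (x₁ ^ n)⁻¹) := by
      have c1 : Commute y (x₁ ^ (2 * n))⁻¹ := (cy.pow_right _).inv_right
      have c3 : Commute (x₁ ^ n)⁻¹ (x₁ ^ (2 * n))⁻¹ :=
        (((Commute.refl x₁).pow_left n).pow_right (2 * n)).inv_left.inv_right
      exact (c1.mul_left c3).eq
    rw [sg_congr c2 e1, sg_inv (by rw [← pow_mul, mul_comm, pow_mul, hx₁, one_pow]), sg_pow hx₁ (hu2 n hn), hs]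
  have hsa : ∀ (a x : H), a * x * a⁻¹ = x ∨ a * x * a⁻¹ = x⁻¹ → x ^ r = 1 → ∀ w : M,
      sg r x (a • w) = a • sg r x w := by
    intro a x h hx w
    rcases h with h | h
    · exact (smul_sg_of h w).symm
    · rw [smul_sg_of h w, sg_inv hx]
  have hcj : ∀ (a y : H) (w : M), y • w = w → (a * y * a⁻¹) • (a • w) = a • w := by
    intro a y w h
    rw [smul_smul, inv_mul_cancel_right, ← smul_smul, h]
  have ci : ∀ (a y y' : H) (n : ℕ), a * (y * (y' ^ n)⁻¹) * a⁻¹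
      = (a * y * a⁻¹) * ((a * y' * a⁻¹) ^ n)⁻¹ := by
    intro a y y' n
    rw [conj_pow]
    group
  -- `θ` is injective on `E`
  have hθE : ∀ w ∈ E, sg r z' (sg r z (w + a₁ • w + a₂ • w + (a₁ * a₂) • w)) = w := by
    intro w hw
    obtain ⟨w1, w2, w3⟩ := hw
    have e0 : sg r z w = w := sg_of_fix h2 hrodd w1
    have k1 : sg r x₁ (a₁ • w) = 0 := by rw [hsa a₁ x₁ (Or.inl a11) hx₁, w3, smul_zero]
    have k2 : sg r x₁ (a₂ • w) = 0 := by rw [hsa a₂ x₁ (Or.inr a21) hx₁, w3, smul_zero]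
    have k3 : sg r x₁ ((a₁ * a₂) • w) = 0 := by
      rw [← smul_smul, hsa a₁ x₁ (Or.inl a11) hx₁, k2, smul_zero]
    -- `a₁ w`
    have e1 : sg r z (a₁ • w) = 0 := by
      refine hkill x₂ c _ h12.symm hc ?_ k1
      have h := hcj a₁ z w w1
      rw [hz, ci, a12, a11] at h
      have h' := hfix2 (y := w) h
      rw [mul_inv_rev, inv_inv, inv_inv] at h'
      have e : Commute (x₁ ^ c) x₂ := (show Commute x₁ x₂ from h12).pow_left c
      rwa [e.eq] at h'
    have e2 : sg r z (a₂ • w) = 0 := by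
      refine hkill x₂ c _ h12.symm hc ?_ k2
      have h := hcj a₂ z w w1
      rw [hz, ci, a22, a21, inv_pow, inv_inv] at h
      exact h
    have h3 : (a₁ * a₂) • w = a₁ • (a₂ • w) := (smul_smul _ _ _).symm
    have e3 : sg r z ((a₁ * a₂) • w) = (a₁ * a₂) • w := by
      refine sg_of_fix h2 hrodd ?_
      have h := hcj a₂ z w w1
      rw [hz, ci, a22, a21, inv_pow, inv_inv] at h
      have h' := hcj a₁ _ _ h
      have e : a₁ * (x₂ * x₁ ^ c) * a₁⁻¹ = z⁻¹ := by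
        have e5 : a₁ * (x₂ * x₁ ^ c) * a₁⁻¹ = (a₁ * x₂ * a₁⁻¹) * (a₁ * x₁ * a₁⁻¹) ^ c := by
          rw [conj_pow]
          group
        rw [e5, a12, a11, hz, mul_inv_rev, inv_inv]
        exact ((show Commute x₂ x₁ from h12.symm).inv_left.pow_right c).eq
      rw [e] at h'
      have h'' := hfix2 (y := w) h'
      rw [inv_inv] at h''
      rw [h3]
      exact h''
    have e4 : sg r z' ((a₁ * a₂) • w) = 0 := by
      refine hkill x₃ d _ h13.symm hd ?_ k3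
      have h := hcj a₂ z' w w2
      rw [hz', ci, a23, a21, inv_pow, inv_inv] at h
      have h' := hcj a₁ _ _ h
      have e : a₁ * (x₃⁻¹ * x₁ ^ d) * a₁⁻¹ = x₃ * x₁ ^ d := by
        have e5 : a₁ * (x₃⁻¹ * x₁ ^ d) * a₁⁻¹ = (a₁ * x₃ * a₁⁻¹)⁻¹ * (a₁ * x₁ * a₁⁻¹) ^ d := by
          rw [conj_pow]
          group
        rw [e5, a13, a11, inv_inv]
      rw [e] at h'
      rw [h3]
      exact h'
    have e5 : sg r z (w + a₁ • w + a₂ • w + (a₁ * a₂) • w) = w + (a₁ * a₂) • w := by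
      rw [sg_add, sg_add, sg_add, e0, e1, e2, e3, add_zero, add_zero]
    rw [e5, sg_add, e4, sg_of_fix h2 hrodd w2, add_zero]
  have hEcard : Nat.card E ≤ 4 := by
    refine le_trans (Nat.card_le_card_of_injective
      (fun w : E => (⟨(w : M) + a₁ • (w : M) + a₂ • (w : M) + (a₁ * a₂) • (w : M), ⟨w, rfl⟩⟩ :
        Set.range fun m : M => m + a₁ • m + a₂ • m + (a₁ * a₂) • m)) ?_) hθ
    intro w w' h
    have h' := congrArg Subtype.val h
    dsimp only at h'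
    apply Subtype.ext
    rw [← hθE w w.2, ← hθE w' w'.2, h']
  -- the form
  have hodd2 : ∀ s : R, (r : ℕ) • s = s := by
    intro s
    obtain ⟨k, hk⟩ := hrodd
    rw [hk, add_smul, mul_comm, mul_smul, two_nsmul, hR2, smul_zero, zero_add, one_smul]
  have hinvp : ∀ {g : H}, (∀ u w, f (g • u) (g • w) = f u w) → ∀ (n : ℕ) (u w : M),
      f (g ^ n • u) (g ^ n • w) = f u w := by
    intro g hg n
    induction n with
    | zero => intro u w; rw [pow_zero, one_smul, one_smul]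
    | succ n ih => intro u w; rw [pow_succ', ← smul_smul, ← smul_smul, hg, ih]
  have hinvi : ∀ {g : H}, (∀ u w, f (g • u) (g • w) = f u w) → ∀ (u w : M),
      f (g⁻¹ • u) (g⁻¹ • w) = f u w := by
    intro g hg u w
    rw [← hg (g⁻¹ • u) (g⁻¹ • w), smul_inv_smul, smul_inv_smul]
  have hi1 : ∀ u w, f (x₁ • u) (x₁ • w) = f u w := fun u w => (hinv u w).1
  have hi2 : ∀ u w, f (x₂ • u) (x₂ • w) = f u w := fun u w => (hinv u w).2.1
  have hi3 : ∀ u w, f (x₃ • u) (x₃ • w) = f u w := fun u w => (hinv u w).2.2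
  have hiz : ∀ u w, f (z • u) (z • w) = f u w := by
    intro u w
    rw [hz, ← smul_smul, ← smul_smul, hi2, hinvi (hinvp hi1 c)]
  have hiz' : ∀ u w, f (z' • u) (z' • w) = f u w := by
    intro u w
    rw [hz', ← smul_smul, ← smul_smul, hi3, hinvi (hinvp hi1 d)]
  have hpowfix : ∀ {g : H} {w : M}, g • w = w → ∀ n : ℕ, g ^ n • w = w := by
    intro g w h n
    induction n with
    | zero => rw [pow_zero, one_smul]
    | succ n ih => rw [pow_succ, ← smul_smul, h, ih]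
  have hsf : ∀ {g : H}, (∀ u w, f (g • u) (g • w) = f u w) → ∀ u w : M, g • w = w →
      f (sg r g u) w = f u w := by
    intro g hg u w hw
    have e1 : f (sg r g u) w = ∑ k : ZMod r, f (g ^ k.val • u) w := by
      unfold sg
      rw [map_sum, AddMonoidHom.finsetSum_apply]
    have e2 : ∀ k : ZMod r, f (g ^ k.val • u) w = f u w := by
      intro k
      conv_lhs => rw [← hpowfix hw k.val]
      exact hinvp hg _ _ _
    rw [e1, Finset.sum_congr rfl fun k _ => e2 k, Finset.sum_const, Finset.card_univ, ZMod.card]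
    exact hodd2 _
  have hperp : ∀ u w : M, sg r x₁ w = 0 → f (sg r x₁ u) w = 0 := by
    intro u w hw
    have e0 : x₁ • sg r x₁ u = sg r x₁ u := smul_sg hx₁ u
    have e1 : ∀ k : ZMod r, f (sg r x₁ u) w = f (sg r x₁ u) (x₁ ^ k.val • w) := by
      intro k
      rw [← hinvp hi1 k.val (sg r x₁ u) w, hpowfix e0]
    have e2 : ∑ k : ZMod r, f (sg r x₁ u) (x₁ ^ k.val • w) = f (sg r x₁ u) (sg r x₁ w) := by
      unfold sg
      rw [← map_sum]
    rw [hw, map_zero, ← Finset.sum_congr rfl fun k _ => e1 k, Finset.sum_const, Finset.card_univ,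
      ZMod.card] at e2
    exact (hodd2 _).symm.trans e2
  have hE : ∀ u : M, ∃ e ∈ E, f u v = f e v := by
    intro u
    have h0 : sg r x₁ (u + sg r x₁ u) = 0 := by
      rw [sg_add, sg_of_fix h2 hrodd (smul_sg hx₁ u), h2]
    refine ⟨_, hπ _ h0, ?_⟩
    rw [hsf hiz' _ _ hvE.2.1, hsf hiz _ _ hvE.1, map_add, AddMonoidHom.add_apply,
      hperp u v hvE.2.2, add_zero]
  have hEadd : ∀ a ∈ E, ∀ b ∈ E, a + b ∈ E := by
    rintro a ⟨p1, p2, p3⟩ b ⟨q1, q2, q3⟩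
    exact ⟨by rw [smul_add, p1, q1], by rw [smul_add, p2, q2], by rw [sg_add, p3, q3, add_zero]⟩
  have hE0 : (0 : M) ∈ E := ⟨smul_zero _, smul_zero _, sg_zero _⟩
  have hfix : x₁ • v = v := by
    by_cases hall : ∀ e ∈ E, f e v = 0
    · refine hkey v ⊥ ?_ ?_
      · intro h
        have h1 : Nat.card (⊥ : AddSubgroup R) = Nat.card R := by rw [h, AddSubgroup.card_top]
        rw [AddSubgroup.card_bot] at h1
        omega
      · intro u
        obtain ⟨e, he, heq⟩ := hE u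
        rw [heq, hall e he]
        exact zero_mem _
    · push Not at hall
      obtain ⟨e₁, he₁, hne⟩ := hall
      refine hkey v (AddSubgroup.zmultiples (f e₁ v)) ?_ ?_
      · intro h
        have h1 : Nat.card (AddSubgroup.zmultiples (f e₁ v)) = Nat.card R := by
          rw [h, AddSubgroup.card_top]
        rw [Nat.card_zmultiples] at h1
        have h3 : addOrderOf (f e₁ v) ∣ 2 :=
          addOrderOf_dvd_of_nsmul_eq_zero (by rw [two_nsmul]; exact hR2 _)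
        have h4 := Nat.le_of_dvd (by norm_num) h3
        omega
      · intro u
        obtain ⟨e, he, heq⟩ := hE u
        rw [heq]
        by_cases h0 : e = 0
        · rw [h0, map_zero, AddMonoidHom.zero_apply]
          exact zero_mem _
        by_cases h1 : e = v
        · rw [h1, halt]
          exact zero_mem _
        by_cases h3 : e = e₁
        · rw [h3]
          exact AddSubgroup.mem_zmultiples _
        by_cases h4 : e = e₁ + v
        · rw [h4, map_add, AddMonoidHom.add_apply, halt, add_zero]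
          exact AddSubgroup.mem_zmultiples _
        exfalso
        have e10 : e₁ ≠ 0 := by
          rintro rfl
          exact hne (by rw [map_zero, AddMonoidHom.zero_apply])
        have e1v : e₁ ≠ v := by
          rintro rfl
          exact hne (halt _)
        refine five (S := E) hEcard (u₁ := e₁) (u₂ := v) (u₃ := e) hE0 he₁ hvE he (hEadd _ he₁ _ hvE)
          e10 hv'' h0 e1v (fun h => h3 h.symm) (fun h => h1 h.symm) ?_ (fun h => h4 h.symm)
        intro h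
        apply e1v
        calc e₁ = e₁ + (v + v) := by rw [h2, add_zero]
          _ = (e₁ + v) + v := by rw [add_assoc]
          _ = v := by rw [h, zero_add]
  have h1 := sg_of_fix (r := r) h2 hrodd hfix
  rw [hvE.2.2] at h1
  exact hv'' h1.symm

/-- **#12397, core.** `x₁` centralises `[M, a₁]`. -/
theorem core [Finite M] {r : ℕ} [hp : Fact r.Prime] (hr2 : r ≠ 2) (h2 : ∀ m : M, m + m = 0)
    (hR2 : ∀ s : R, s + s = 0) (hR : 2 < Nat.card R) {x₁ x₂ x₃ a₁ a₂ t : H} (hx₁ : x₁ ^ r = 1)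
    (h12 : x₁ * x₂ = x₂ * x₁) (h13 : x₁ * x₃ = x₃ * x₁) (h23 : x₂ * x₃ = x₃ * x₂)
    (a11 : a₁ * x₁ * a₁⁻¹ = x₁) (a12 : a₁ * x₂ * a₁⁻¹ = x₂⁻¹) (a13 : a₁ * x₃ * a₁⁻¹ = x₃⁻¹)
    (a21 : a₂ * x₁ * a₂⁻¹ = x₁⁻¹) (a22 : a₂ * x₂ * a₂⁻¹ = x₂) (a23 : a₂ * x₃ * a₂⁻¹ = x₃⁻¹)
    (hA2 : a₂ * a₂ = 1) (hA12 : a₁ * a₂ = a₂ * a₁)
    (t1 : t * x₁ * t⁻¹ = x₂) (t2 : t * x₂ * t⁻¹ = x₃) (t3 : t * x₃ * t⁻¹ = x₁)
    (ta1 : t * a₁ * t⁻¹ = a₂) (ta2 : t * a₂ * t⁻¹ = a₁ * a₂)
    (hθ : Nat.card (Set.range fun m : M => m + a₁ • m + a₂ • m + (a₁ * a₂) • m) ≤ 4)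
    (f : M →+ M →+ R) (halt : ∀ m, f m m = 0)
    (hinv : ∀ u v, f (x₁ • u) (x₁ • v) = f u v ∧ f (x₂ • u) (x₂ • v) = f u v ∧
      f (x₃ • u) (x₃ • v) = f u v)
    (hkey : ∀ v : M, ∀ R₀ : AddSubgroup R, R₀ ≠ ⊤ → (∀ u, f u v ∈ R₀) → x₁ • v = v) (m : M) :
    x₁ • (m + a₁ • m) = m + a₁ • m := by
  classical
  have hrodd : Odd r := hp.out.odd_of_ne_two hr2
  have hx₂ : x₂ ^ r = 1 := by rw [← t1, conj_pow, hx₁]; group
  have hx₃ : x₃ ^ r = 1 := by rw [← t2, conj_pow, hx₂]; group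
  have hsa : ∀ (a x : H), a * x * a⁻¹ = x ∨ a * x * a⁻¹ = x⁻¹ → x ^ r = 1 → ∀ w : M,
      sg r x (a • w) = a • sg r x w := by
    intro a x h hx w
    rcases h with h | h
    · exact (smul_sg_of h w).symm
    · rw [smul_sg_of h w, sg_inv hx]
  have hss : ∀ {x : H}, x ^ r = 1 → ∀ w : M, sg r x (sg r x w) = sg r x w := fun hx w =>
    sg_of_fix h2 hrodd (smul_sg hx w)
  have h0 := no_three hr2 h2 hR2 hR hx₁ hx₂ hx₃ h12 h13 h23 a11 a12 a13 a21 a22 a23 hθ f halt hinv hkey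
  -- the image of `θ`
  set θ : M → M := fun m => m + a₁ • m + a₂ • m + (a₁ * a₂) • m with hθdef
  have hθx : ∀ (x : H), (a₁ * x * a₁⁻¹ = x ∨ a₁ * x * a₁⁻¹ = x⁻¹) →
      (a₂ * x * a₂⁻¹ = x ∨ a₂ * x * a₂⁻¹ = x⁻¹) → x ^ r = 1 → ∀ w, sg r x (θ w) = θ (sg r x w) := by
    intro x ha hb hx w
    rw [hθdef]
    dsimp only
    rw [sg_add, sg_add, sg_add, hsa a₁ x ha hx, hsa a₂ x hb hx, ← smul_smul, hsa a₁ x ha hx,
      hsa a₂ x hb hx, smul_smul]
  have hθ1 : ∀ w, sg r x₁ (θ w) = θ (sg r x₁ w) := hθx x₁ (Or.inl a11) (Or.inr a21) hx₁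
  have hθ2 : ∀ w, sg r x₂ (θ w) = θ (sg r x₂ w) := hθx x₂ (Or.inr a12) (Or.inl a22) hx₂
  have hθ3 : ∀ w, sg r x₃ (θ w) = θ (sg r x₃ w) := hθx x₃ (Or.inr a13) (Or.inr a23) hx₃
  have hta3 : t * (a₁ * a₂) * t⁻¹ = a₁ := by
    calc t * (a₁ * a₂) * t⁻¹ = (t * a₁ * t⁻¹) * (t * a₂ * t⁻¹) := by group
      _ = a₂ * (a₁ * a₂) := by rw [ta1, ta2]
      _ = a₁ := by rw [hA12, ← mul_assoc, hA2, one_mul]
  have hcs : ∀ {a b : H}, t * a * t⁻¹ = b → ∀ w : M, t • (a • w) = b • (t • w) := by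
    intro a b h w
    rw [smul_smul, smul_smul, ← h, inv_mul_cancel_right]
  have hθt : ∀ w, t • θ w = θ (t • w) := by
    intro w
    rw [hθdef]
    dsimp only
    rw [smul_add, smul_add, smul_add, hcs ta1, hcs ta2, hcs hta3]
    abel
  have hθadd : ∀ u w, θ (u + w) = θ u + θ w := by
    intro u w
    rw [hθdef]
    dsimp only
    rw [smul_add, smul_add, smul_add]
    abel
  have hθzero : θ 0 = 0 := by
    rw [hθdef]
    dsimp only
    rw [smul_zero, smul_zero, smul_zero, add_zero, add_zero, add_zero]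
  set Θ : Set M := Set.range θ with hΘ
  have Θ0 : (0 : M) ∈ Θ := ⟨0, hθzero⟩
  have Θadd : ∀ u ∈ Θ, ∀ w ∈ Θ, u + w ∈ Θ := by
    rintro _ ⟨u, rfl⟩ _ ⟨w, rfl⟩
    exact ⟨u + w, hθadd u w⟩
  have Θ1 : ∀ u ∈ Θ, sg r x₁ u ∈ Θ := by
    rintro _ ⟨u, rfl⟩
    exact ⟨_, (hθ1 u).symm⟩
  have Θ2 : ∀ u ∈ Θ, sg r x₂ u ∈ Θ := by
    rintro _ ⟨u, rfl⟩
    exact ⟨_, (hθ2 u).symm⟩
  have Θ3 : ∀ u ∈ Θ, sg r x₃ u ∈ Θ := by
    rintro _ ⟨u, rfl⟩
    exact ⟨_, (hθ3 u).symm⟩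
  have Θt : ∀ u ∈ Θ, t • u ∈ Θ := by
    rintro _ ⟨u, rfl⟩
    exact ⟨_, (hθt u).symm⟩
  -- transport by `t`
  have st1 : ∀ w : M, t • sg r x₁ w = sg r x₂ (t • w) := fun w => smul_sg_of t1 w
  have st2 : ∀ w : M, t • sg r x₂ w = sg r x₃ (t • w) := fun w => smul_sg_of t2 w
  have st3 : ∀ w : M, t • sg r x₃ w = sg r x₁ (t • w) := fun w => smul_sg_of t3 w
  have htne : ∀ {w : M}, w ≠ 0 → t • w ≠ 0 := by
    intro w hw h
    exact hw ((smul_eq_zero_iff_eq t).mp h)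
  have hdd : ∀ {u w : M}, u + w = 0 → u = w := by
    intro u w h
    calc u = u + (w + w) := by rw [h2, add_zero]
      _ = (u + w) + w := by rw [add_assoc]
      _ = w := by rw [h, zero_add]
  -- pieces with one support
  have hone : ∀ u ∈ Θ, sg r x₁ u = 0 → sg r x₂ u = u → sg r x₃ u = u → u = 0 := by
    intro u hu s1 s2 s3
    by_contra hu0
    have e21 : sg r x₂ (t • u) = 0 := by rw [← st1, s1, smul_zero]
    have e23 : sg r x₃ (t • u) = t • u := by rw [← st2, s2]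
    have e22 : sg r x₁ (t • u) = t • u := by rw [← st3, s3]
    have e31 : sg r x₃ (t • t • u) = 0 := by rw [← st2, e21, smul_zero]
    refine five (S := Θ) hθ Θ0 hu (Θt _ hu) (Θt _ (Θt _ hu)) (Θadd _ hu _ (Θt _ hu)) hu0 (htne hu0)
      (htne (htne hu0)) ?_ ?_ ?_ ?_ ?_
    · intro h
      apply htne hu0
      rw [← e22, ← h, s1]
    · intro h
      apply hu0
      rw [← s3, h, e31]
    · intro h
      apply htne hu0
      rw [← e23, h, e31]
    · intro h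
      apply htne hu0
      rw [← e22, ← hdd h, s1]
    · intro h
      have h' : u + t • u = 0 := by
        have := congrArg (sg r x₃) h
        rwa [sg_add, s3, e23, e31] at this
      apply htne hu0
      rw [← e22, ← hdd h', s1]
  have htwo : ∀ u ∈ Θ, sg r x₁ u = u → sg r x₂ u = 0 → sg r x₃ u = 0 → u = 0 := by
    intro u hu s1 s2 s3
    by_contra hu0
    have e22 : sg r x₂ (t • u) = t • u := by rw [← st1, s1]
    have e23 : sg r x₃ (t • u) = 0 := by rw [← st2, s2, smul_zero]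
    have e21 : sg r x₁ (t • u) = 0 := by rw [← st3, s3, smul_zero]
    have e33 : sg r x₃ (t • t • u) = t • t • u := by rw [← st2, e22]
    refine five (S := Θ) hθ Θ0 hu (Θt _ hu) (Θt _ (Θt _ hu)) (Θadd _ hu _ (Θt _ hu)) hu0 (htne hu0)
      (htne (htne hu0)) ?_ ?_ ?_ ?_ ?_
    · intro h
      apply hu0
      rw [← s1, h, e21]
    · intro h
      apply htne (htne hu0)
      rw [← e33, ← h, s3]
    · intro h
      apply htne (htne hu0)
      rw [← e33, ← h, e23]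
    · intro h
      apply hu0
      rw [← s1, hdd h, e21]
    · intro h
      apply htne (htne hu0)
      rw [← e33, ← h, sg_add, s3, e23, add_zero]
  have c12 : ∀ w : M, sg r x₁ (sg r x₂ w) = sg r x₂ (sg r x₁ w) := sg_comm h12
  have c13 : ∀ w : M, sg r x₁ (sg r x₃ w) = sg r x₃ (sg r x₁ w) := sg_comm h13
  have c23 : ∀ w : M, sg r x₂ (sg r x₃ w) = sg r x₃ (sg r x₂ w) := sg_comm h23
  -- the same for the other positions
  have hone' : ∀ u ∈ Θ, sg r x₂ u = 0 → sg r x₁ u = u → sg r x₃ u = u → u = 0 := by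
    intro u hu s2 s1 s3
    have e1 := Θt _ (Θt _ hu)
    have e := hone (t • t • u) e1 (by rw [← st3, ← st2, s2, smul_zero, smul_zero])
      (by rw [← st1, ← st3, s3]) (by rw [← st2, ← st1, s1])
    by_contra hu0
    exact htne (htne hu0) e
  have htwo2 : ∀ u ∈ Θ, sg r x₂ u = u → sg r x₁ u = 0 → sg r x₃ u = 0 → u = 0 := by
    intro u hu s2 s1 s3
    have e1 := Θt _ (Θt _ hu)
    have e := htwo (t • t • u) e1 (by rw [← st3, ← st2, s2])
      (by rw [← st1, ← st3, s3, smul_zero, smul_zero]) (by rw [← st2, ← st1, s1, smul_zero, smul_zero])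
    by_contra hu0
    exact htne (htne hu0) e
  have htwo3 : ∀ u ∈ Θ, sg r x₃ u = u → sg r x₁ u = 0 → sg r x₂ u = 0 → u = 0 := by
    intro u hu s3 s1 s2
    have e := htwo (t • u) (Θt _ hu) (by rw [← st3, s3])
      (by rw [← st1, s1, smul_zero]) (by rw [← st2, s2, smul_zero])
    by_contra hu0
    exact htne hu0 e
  -- `(1 + S₁) θ = 0`
  have hp1 : ∀ u ∈ Θ, sg r x₁ u = u := by
    intro u hu
    have hd : ∀ {x : H}, x ^ r = 1 → ∀ w : M, sg r x (w + sg r x w) = 0 := by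
      intro x hx w
      rw [sg_add, hss hx, h2]
    have hu1 : u + sg r x₁ u ∈ Θ := Θadd _ hu _ (Θ1 _ hu)
    set w := u + sg r x₁ u with hw
    have w1 : sg r x₁ w = 0 := hd hx₁ u
    -- `S₂ S₃ w = 0`
    have e23 : sg r x₂ (sg r x₃ w) = 0 := hone _ (Θ2 _ (Θ3 _ hu1))
      (by rw [c12, c13, w1, sg_zero, sg_zero]) (hss hx₂ _) (by rw [← c23, hss hx₃])
    -- `S₂ w = 0`
    have e2 : sg r x₂ w = 0 := htwo2 _ (Θ2 _ hu1) (hss hx₂ _) (by rw [c12, w1, sg_zero])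
      (by rw [← c23, e23])
    have e3 : sg r x₃ w = 0 := htwo3 _ (Θ3 _ hu1) (hss hx₃ _) (by rw [c13, w1, sg_zero]) e23
    have e := h0 w w1 e2 e3
    exact (hdd (hw ▸ e)).symm
  -- the vector `k`
  have hKK : ∀ w : M, a₂ • ((w + a₁ • w) + sg r x₁ (w + a₁ • w)) = (w + a₁ • w) + sg r x₁ (w + a₁ • w) := by
    intro w
    have e1 : θ w = (w + a₁ • w) + a₂ • (w + a₁ • w) := by
      rw [hθdef]
      dsimp only
      rw [smul_add, smul_smul, hA12]
      abel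
    have e2 := hp1 (θ w) ⟨w, rfl⟩
    rw [e1, sg_add, hsa a₂ x₁ (Or.inr a21) hx₁] at e2
    have e3 : (w + a₁ • w) + sg r x₁ (w + a₁ • w) = a₂ • (w + a₁ • w) + a₂ • sg r x₁ (w + a₁ • w) := by
      apply hdd
      have : (w + a₁ • w) + sg r x₁ (w + a₁ • w) + (a₂ • (w + a₁ • w) + a₂ • sg r x₁ (w + a₁ • w))
          = ((w + a₁ • w) + a₂ • (w + a₁ • w)) + (sg r x₁ (w + a₁ • w) + a₂ • sg r x₁ (w + a₁ • w)) := by
        abel
      rw [this, e2, h2]
    rw [smul_add, ← e3]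
  set k : M := (m + a₁ • m) + sg r x₁ (m + a₁ • m) with hk
  have hk1 : a₂ • k = k := hKK m
  have hxk : x₁ • k = (x₁ • m + a₁ • (x₁ • m)) + sg r x₁ (x₁ • m + a₁ • (x₁ • m)) := by
    have e1 : ∀ w : M, x₁ • sg r x₁ w = sg r x₁ (x₁ • w) := fun w => smul_sg_of (by group) w
    have e2 : x₁ • (a₁ • m) = a₁ • (x₁ • m) := by
      rw [smul_smul, smul_smul]
      congr 1
      have := a11
      rw [mul_inv_eq_iff_eq_mul] at this
      exact this.symm
    rw [hk, smul_add, smul_add, e1, smul_add, e2]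
  have hk2 : a₂ • (x₁ • k) = x₁ • k := by rw [hxk]; exact hKK _
  have hk3 : x₁⁻¹ • k = x₁ • k := by
    rw [← hk2, smul_smul]
    have e : a₂ * x₁ = x₁⁻¹ * a₂ := by
      rw [← a21, inv_mul_cancel_right]
    rw [e, ← smul_smul, hk1]
  have hk4 : x₁ • (x₁ • k) = k := by rw [← hk3, smul_inv_smul]
  have hk5 : x₁ • k = k := by
    obtain ⟨j, hj⟩ := hrodd
    have h1 : ∀ n : ℕ, x₁ ^ (2 * n) • k = k := by
      intro n
      induction n with
      | zero => rw [mul_zero, pow_zero, one_smul]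
      | succ n ih => rw [mul_add, mul_one, pow_add, ← smul_smul, pow_two, ← smul_smul, hk4, ih]
    have h3 : x₁ ^ (2 * j + 1) • k = k := by rw [← hj, hx₁, one_smul]
    rwa [pow_succ', ← smul_smul, h1] at h3
  have hk6 : sg r x₁ k = 0 := by rw [hk, sg_add, hss hx₁, h2]
  have hk7 : k = 0 := by rw [← hk6]; exact (sg_of_fix h2 hrodd hk5).symm
  have hk8 : m + a₁ • m = sg r x₁ (m + a₁ • m) := hdd (hk ▸ hk7)
  rw [hk8]
  exact smul_sg hx₁ _

end Core

end Cfsg.Agent.Omega.Lie.OddQ4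

end

section


/-!
# NODE LIE, `q = 4` (#12397, helper844; referee #12569): `A` centralises `O(H⁰)`
-/

set_option autoImplicit false

namespace Cfsg.Agent.Omega.Lie.OddQ4

open Subgroup
open scoped commutatorElement
open OddPart (eq_one_of_inv)

section main

variable {G : Type*} [Group G]

/-- Reduction to weight elements with commuting conjugates (the first half of `OddPart.centralizes`,
helper843): `A` elementary abelian 2-group, `T ≤ N(A)` semiregular on the hyperplanes of `A`, `R` solvable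
of odd order normalised by `A` and `T`. If `A` centralises every `x ∈ R` which is centralised or inverted
by every element of `A` and whose `T`-conjugates commute, then `A` centralises `R`. -/
theorem reduce [Finite G] {A T : Subgroup G} (hA : ∀ a ∈ A, a * a = 1)
    (hTA : T ≤ normalizer (A : Set G))
    (hsemi : ∀ t ∈ T, t ≠ 1 → ∀ B : Subgroup G, B ≤ A → B.relIndex A = 2 → ∃ b ∈ B, t * b * t⁻¹ ∉ B) :
    ∀ (n : ℕ) (R : Subgroup G), Nat.card R ≤ n → Odd (Nat.card R) → Group.IsSolvable R →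
      A ≤ normalizer (R : Set G) → T ≤ normalizer (R : Set G) →
      (∀ x ∈ R, (∀ a ∈ A, a * x * a⁻¹ = x ∨ a * x * a⁻¹ = x⁻¹) →
        (∀ s ∈ T, ∀ t ∈ T, (s * x * s⁻¹) * (t * x * t⁻¹) = (t * x * t⁻¹) * (s * x * s⁻¹)) →
        ∀ a ∈ A, a * x = x * a) →
      ∀ x ∈ R, ∀ a ∈ A, a * x = x * a := by
  classical
  intro n
  induction n with
  | zero =>
    intro R hR
    exact absurd hR (by have := Nat.card_pos (α := R); omega)
  | succ n ih =>
    intro R hRn hRodd hRs hAR hTR hC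
    by_cases hRbot : R = ⊥
    · intro x hx a _
      rw [hRbot, mem_bot] at hx
      rw [hx, mul_one, one_mul]
    have hAc : ∀ a ∈ A, ∀ b ∈ A, a * b = b * a := by
      intro a ha b hb
      have e1 : a⁻¹ = a := inv_eq_of_mul_eq_one_right (hA a ha)
      have e2 : b⁻¹ = b := inv_eq_of_mul_eq_one_right (hA b hb)
      have e3 : (a * b)⁻¹ = a * b := inv_eq_of_mul_eq_one_right (hA _ (mul_mem ha hb))
      rw [← e3, mul_inv_rev, e1, e2]
    -- the derived subgroup is centralised by `A`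
    have hlt : ⁅R, R⁆ < R := by
      refine lt_of_le_of_ne (commutator_le_self R) fun h => ?_
      apply hRbot
      have hc : commutator R = ⊤ := by
        rw [eq_top_iff, _root_.commutator_def]
        intro x _
        have hx : (x : G) ∈ ⁅R, R⁆ := by rw [h]; exact x.2
        have e : (⁅(⊤ : Subgroup R), (⊤ : Subgroup R)⁆ : Subgroup R).map R.subtype = ⁅R, R⁆ := by
          rw [map_commutator, ← MonoidHom.range_eq_map, R.range_subtype]
        rw [← e] at hx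
        obtain ⟨y, hy, hyx⟩ := hx
        have : y = x := Subtype.ext hyx
        rwa [← this]
      have htb : (⊤ : Subgroup R) = ⊥ := by
        obtain ⟨m, hm⟩ := hRs
        have hall : ∀ k, derivedSeries R k = ⊤ := by
          intro k
          induction k with
          | zero => rfl
          | succ k ihk => rw [derivedSeries_succ, ihk, ← _root_.commutator_def, hc]
        rw [hall m] at hm
        exact hm
      rw [eq_bot_iff]
      intro x hx
      have h2 : (⟨x, hx⟩ : R) ∈ (⊥ : Subgroup R) := by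
        rw [← htb]
        exact mem_top _
      rw [mem_bot] at h2 ⊢
      exact congrArg Subtype.val h2
    have hnorm : ∀ {K : Subgroup G}, K ≤ normalizer (R : Set G) →
        K ≤ normalizer ((⁅R, R⁆ : Subgroup G) : Set G) := by
      intro K hK g hg
      have hgR : R.map (MulAut.conj g).toMonoidHom = R := by
        apply le_antisymm
        · rintro _ ⟨x, hx, rfl⟩
          exact (mem_normalizer_iff.mp (hK hg) x).mp hx
        · intro x hx
          refine ⟨g⁻¹ * x * g, ?_, ?_⟩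
          · have := (mem_normalizer_iff.mp (inv_mem (hK hg)) x).mp hx
            simpa using this
          · change g * (g⁻¹ * x * g) * g⁻¹ = x
            group
      have hgD : (⁅R, R⁆).map (MulAut.conj g).toMonoidHom = ⁅R, R⁆ := by
        rw [map_commutator, hgR]
      rw [mem_normalizer_iff]
      intro x
      constructor
      · intro hx
        rw [← hgD]
        exact ⟨x, hx, rfl⟩
      · intro hx
        rw [← hgD] at hx
        obtain ⟨y, hy, hyx⟩ := hx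
        have : y = x := by
          have e : g * y * g⁻¹ = g * x * g⁻¹ := hyx
          exact mul_left_cancel (mul_right_cancel e)
        rwa [← this]
    have hcardlt : Nat.card (⁅R, R⁆ : Subgroup G) < Nat.card R := by
      have h1 : Nat.card (⁅R, R⁆ : Subgroup G) ∣ Nat.card R := card_dvd_of_le hlt.le
      refine lt_of_le_of_ne (Nat.le_of_dvd Nat.card_pos h1) fun h => ?_
      exact hlt.ne (eq_of_le_of_card_ge hlt.le h.ge)
    have hDsolv : Group.IsSolvable (⁅R, R⁆ : Subgroup G) := by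
      have := hRs
      exact Group.isSolvable_of_isSolvable_injective (inclusion_injective hlt.le)
    have hD : ∀ x ∈ (⁅R, R⁆ : Subgroup G), ∀ a ∈ A, a * x = x * a :=
      ih ⁅R, R⁆ (by omega) (Odd.of_dvd_nat hRodd (card_dvd_of_le hlt.le)) hDsolv (hnorm hAR)
        (hnorm hTR) (fun x hx => hC x (hlt.le hx))
    have hordR : ∀ x ∈ R, Odd (orderOf x) := by
      intro x hx
      refine Odd.of_dvd_nat hRodd ?_
      have : orderOf (⟨x, hx⟩ : R) ∣ Nat.card R := _root_.orderOf_dvd_natCard _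
      rwa [← Subgroup.orderOf_coe] at this
    -- reduce to weight elements
    have hgen := SignalizersComponents.OddWeights.closure_weights R A hRodd hAc hA
      (fun a ha x hx => (mem_normalizer_iff.mp (hAR ha) x).mp hx)
    suffices hw : ∀ x ∈ R, (∀ a ∈ A, a * x * a⁻¹ = x ∨ a * x * a⁻¹ = x⁻¹) →
        ∀ a ∈ A, a * x = x * a by
      intro x hx a ha
      have hle : R ≤ centralizer ({a} : Set G) := by
        rw [← hgen, closure_le]
        rintro y ⟨hy, hyw⟩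
        rw [SetLike.mem_coe, mem_centralizer_singleton_iff]
        exact (hw y hy hyw a ha).symm
      exact (mem_centralizer_singleton_iff.mp (hle hx)).symm
    intro x hx hxw
    by_contra hcon
    push Not at hcon
    obtain ⟨a₀, ha₀, hxa₀⟩ := hcon
    have hcomm_iff : ∀ a y : G, a * y * a⁻¹ = y ↔ a * y = y * a := by
      intro a y
      rw [mul_inv_eq_iff_eq_mul]
    -- the hyperplane
    let B : Subgroup G := A ⊓ centralizer ({x} : Set G)
    have hBmem : ∀ a, a ∈ B ↔ a ∈ A ∧ a * x * a⁻¹ = x := by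
      intro a
      change a ∈ A ∧ a ∈ centralizer ({x} : Set G) ↔ _
      rw [mem_centralizer_singleton_iff, hcomm_iff]
    have hinv : ∀ a ∈ A, a ∉ B → a * x * a⁻¹ = x⁻¹ := by
      intro a ha haB
      rcases hxw a ha with h | h
      · exact absurd ((hBmem a).mpr ⟨ha, h⟩) haB
      · exact h
    have hBA : B ≤ A := inf_le_left
    have ha₀B : a₀ ∉ B := by
      intro h
      exact hxa₀ ((hcomm_iff a₀ x).mp ((hBmem a₀).mp h).2)
    have hmulB : ∀ a ∈ A, ∀ b ∈ A, a ∉ B → b ∉ B → a * b ∈ B := by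
      intro a ha b hb haB hbB
      rw [hBmem]
      refine ⟨mul_mem ha hb, ?_⟩
      calc a * b * x * (a * b)⁻¹ = a * (b * x * b⁻¹) * a⁻¹ := by group
        _ = (a * x * a⁻¹)⁻¹ := by rw [hinv b hb hbB]; group
        _ = x := by rw [hinv a ha haB, inv_inv]
    have hBidx : B.relIndex A = 2 := by
      have h1 : (B.subgroupOf A).index = 2 := by
        rw [index_eq_two_iff]
        refine ⟨⟨a₀, ha₀⟩, fun b => ?_⟩
        rw [mem_subgroupOf, mem_subgroupOf]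
        change Xor (((b : G) * a₀) ∈ B) ((b : G) ∈ B)
        by_cases hb : (b : G) ∈ B
        · right
          refine ⟨hb, fun h => ha₀B ?_⟩
          have := mul_mem (inv_mem hb) h
          simpa using this
        · left
          exact ⟨hmulB _ b.2 _ ha₀ hb ha₀B, hb⟩
      exact h1
    -- the family
    let y : T → G := fun t => (t : G) * x * (t : G)⁻¹
    have hyR : ∀ t : T, y t ∈ R := fun t => (mem_normalizer_iff.mp (hTR t.2) x).mp hx
    let σ : T → A → Prop := fun t a => (t : G)⁻¹ * (a : G) * (t : G) ∈ B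
    have hTAm : ∀ (t : T) (a : A), (t : G)⁻¹ * (a : G) * (t : G) ∈ A := by
      intro t a
      have := (mem_normalizer_iff.mp (hTA (inv_mem t.2)) (a : G)).mp a.2
      simpa using this
    have hfix : ∀ (t : T) (a : A), σ t a → (a : G) * y t * (a : G)⁻¹ = y t := by
      intro t a h
      have h1 := ((hBmem _).mp h).2
      calc (a : G) * y t * (a : G)⁻¹
          = (t : G) * (((t : G)⁻¹ * (a : G) * (t : G)) * x * ((t : G)⁻¹ * (a : G) * (t : G))⁻¹) *
            (t : G)⁻¹ := by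
            change (a : G) * ((t : G) * x * (t : G)⁻¹) * (a : G)⁻¹ = _
            group
        _ = y t := by rw [h1]
    have hneg : ∀ (t : T) (a : A), ¬ σ t a → (a : G) * y t * (a : G)⁻¹ = (y t)⁻¹ := by
      intro t a h
      have h1 := hinv _ (hTAm t a) h
      calc (a : G) * y t * (a : G)⁻¹
          = (t : G) * (((t : G)⁻¹ * (a : G) * (t : G)) * x * ((t : G)⁻¹ * (a : G) * (t : G))⁻¹) *
            (t : G)⁻¹ := by
            change (a : G) * ((t : G) * x * (t : G)⁻¹) * (a : G)⁻¹ = _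
            group
        _ = (y t)⁻¹ := by
            rw [h1]
            change (t : G) * x⁻¹ * (t : G)⁻¹ = ((t : G) * x * (t : G)⁻¹)⁻¹
            group
    -- different weights
    have hdist : ∀ s t : T, s ≠ t → ∃ a : A, σ s a ∧ ¬ σ t a := by
      intro s t hst
      have hne : (t : G)⁻¹ * (s : G) ≠ 1 := by
        intro h
        exact hst (Subtype.ext (by
          have := congrArg ((t : G) * ·) h
          simpa using this))
      obtain ⟨b, hb, hbn⟩ := hsemi _ (mul_mem (inv_mem t.2) s.2) hne B hBA hBidx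
      refine ⟨⟨(s : G) * b * (s : G)⁻¹, (mem_normalizer_iff.mp (hTA s.2) b).mp (hBA hb)⟩, ?_, ?_⟩
      · change (s : G)⁻¹ * ((s : G) * b * (s : G)⁻¹) * (s : G) ∈ B
        have : (s : G)⁻¹ * ((s : G) * b * (s : G)⁻¹) * (s : G) = b := by group
        rwa [this]
      · intro h
        apply hbn
        change (t : G)⁻¹ * ((s : G) * b * (s : G)⁻¹) * (t : G) ∈ B at h
        have : (t : G)⁻¹ * ((s : G) * b * (s : G)⁻¹) * (t : G)
            = (t : G)⁻¹ * (s : G) * b * ((t : G)⁻¹ * (s : G))⁻¹ := by group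
        rwa [this] at h
    -- the conjugates commute
    have hycomm : ∀ s t : T, y s * y t = y t * y s := by
      intro s t
      by_cases hst : s = t
      · rw [hst]
      obtain ⟨a, hsa, hta⟩ := hdist s t hst
      set c : G := ⁅y s, y t⁆ with hc
      have hcD : c ∈ (⁅R, R⁆ : Subgroup G) := commutator_mem_commutator (hyR s) (hyR t)
      have h1 : (a : G) * c * (a : G)⁻¹ = c := by
        rw [hcomm_iff]
        exact hD c hcD a a.2
      have h2 : (a : G) * c * (a : G)⁻¹ = ⁅y s, (y t)⁻¹⁆ := by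
        rw [hc, commutatorElement_def, commutatorElement_def]
        calc (a : G) * (y s * y t * (y s)⁻¹ * (y t)⁻¹) * (a : G)⁻¹
            = ((a : G) * y s * (a : G)⁻¹) * ((a : G) * y t * (a : G)⁻¹) *
              ((a : G) * y s * (a : G)⁻¹)⁻¹ * ((a : G) * y t * (a : G)⁻¹)⁻¹ := by group
          _ = _ := by rw [hfix s a hsa, hneg t a hta]
      have h3 : y t * c * (y t)⁻¹ = c⁻¹ := by
        have h4 : c = ⁅y s, (y t)⁻¹⁆ := by rw [← h2, h1]
        calc y t * c * (y t)⁻¹ = y t * ⁅y s, (y t)⁻¹⁆ * (y t)⁻¹ := by rw [← h4]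
          _ = c⁻¹ := by
            rw [hc, commutatorElement_def, commutatorElement_def]
            group
      have h5 : c = 1 := eq_one_of_inv (hordR c (hlt.le hcD)) (hordR _ (hyR t)) h3
      rw [hc, commutatorElement_eq_one_iff_mul_comm] at h5
      exact h5
    exact hxa₀ (hC x hx hxw (fun s hs t ht => hycomm ⟨s, hs⟩ ⟨t, ht⟩) a₀ ha₀)

/-- **#12397**: `q = 4`, `A` centralises every solvable subgroup of odd order normalised by `A` and `t`.
`A` elementary abelian 2-group, `t` of order `3` acting on `A` by scalars of order `3`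
(`a · aᵗ · aᵗᵗ = 1`); `Hh ≥ A` normalised by `Y`; `M` the module `W₁/R₁`, `f` the commutator form with
values in `R` (`|R| = 4`); `hkey` = (8.1) and (8.2) of #11043, `hN0` = (N0), `hLN` = LEMMA N of #12098. -/
theorem centralizes {M R : Type*} [Finite G] [AddCommGroup M] [Finite M] [DistribMulAction G M]
    [AddCommGroup R] (h2 : ∀ m : M, m + m = 0) (hR2 : ∀ s : R, s + s = 0) (hR : 2 < Nat.card R)
    (f : M →+ M →+ R) (halt : ∀ m, f m m = 0) {A Hh Y : Subgroup G} {t : G}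
    (hA : ∀ a ∈ A, a * a = 1) (ht3 : t * t * t = 1) (htA : t ∈ normalizer (A : Set G))
    (hfpf : ∀ a ∈ A, a * (t * a * t⁻¹) * (t * t * a * (t * t)⁻¹) = 1)
    (hAY : A ≤ normalizer (Y : Set G)) (htY : t ∈ normalizer (Y : Set G))
    (hYodd : Odd (Nat.card Y)) (hYs : Group.IsSolvable Y)
    (hAH : A ≤ Hh) (hYH : ∀ y ∈ Y, ∀ a ∈ A, y * a * y⁻¹ ∈ Hh)
    (hinv : ∀ x ∈ Hh, ∀ u v, f (x • u) (x • v) = f u v)
    (hkey : ∀ x ∈ Hh, ∀ v : M, ∀ R₀ : AddSubgroup R, R₀ ≠ ⊤ → (∀ u, f u v ∈ R₀) → x • v = v)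
    (hN0 : ∀ a ∈ A, Nat.card
      (Set.range fun m : M => m + a • m + (t * a * t⁻¹) • m + (a * (t * a * t⁻¹)) • m) ≤ 4)
    (hLN : ∀ a ∈ A, a ≠ 1 → ∀ x ∈ Hh, (∀ m : M, x • (m + a • m) = m + a • m) →
      ∀ b ∈ A, x * b * x⁻¹ ∈ A) :
    ∀ y ∈ Y, ∀ a ∈ A, a * y = y * a := by
  classical
  have hAc : ∀ a ∈ A, ∀ b ∈ A, a * b = b * a := by
    intro a ha b hb
    have e1 : a⁻¹ = a := inv_eq_of_mul_eq_one_right (hA a ha)
    have e2 : b⁻¹ = b := inv_eq_of_mul_eq_one_right (hA b hb)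
    have e3 : (a * b)⁻¹ = a * b := inv_eq_of_mul_eq_one_right (hA _ (mul_mem ha hb))
    rw [← e3, mul_inv_rev, e1, e2]
  have htAm : ∀ a ∈ A, t * a * t⁻¹ ∈ A := fun a ha => (mem_normalizer_iff.mp htA a).mp ha
  have htAi : ∀ a ∈ A, t⁻¹ * a * t ∈ A := by
    intro a ha
    have := (mem_normalizer_iff.mp (inv_mem htA) a).mp ha
    simpa using this
  have ht2 : t * t = t⁻¹ := by rw [eq_inv_iff_mul_eq_one]; exact ht3
  have hordY : ∀ x ∈ Y, Odd (orderOf x) := by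
    intro x hx
    refine Odd.of_dvd_nat hYodd ?_
    have : orderOf (⟨x, hx⟩ : Y) ∣ Nat.card Y := _root_.orderOf_dvd_natCard _
    rwa [← Subgroup.orderOf_coe] at this
  -- `T = ⟨t⟩`
  have hT : ∀ s ∈ zpowers t, s = 1 ∨ s = t ∨ s = t⁻¹ := by
    intro s hs
    obtain ⟨n, rfl⟩ := mem_zpowers_iff.mp hs
    have h3 : t ^ (3 : ℤ) = 1 := by
      rw [show (3 : ℤ) = 1 + 1 + 1 by norm_num, zpow_add, zpow_add, zpow_one]
      exact ht3
    have e : n = 3 * (n / 3) + n % 3 := (Int.mul_ediv_add_emod n 3).symm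
    have h : n % 3 = 0 ∨ n % 3 = 1 ∨ n % 3 = 2 := by omega
    rw [e, zpow_add, zpow_mul, h3, one_zpow, one_mul]
    rcases h with h | h | h
    · left; rw [h, zpow_zero]
    · right; left; rw [h, zpow_one]
    · right; right
      rw [h, show (2 : ℤ) = 1 + 1 by norm_num, zpow_add, zpow_one]
      exact ht2
  have hTo : ∀ s ∈ zpowers t, Odd (orderOf s) := by
    intro s hs
    have h3 : s ^ 3 = 1 := by
      have ht : t ^ 3 = 1 := by rw [pow_succ, pow_two]; exact ht3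
      rcases hT s hs with rfl | rfl | rfl
      · exact one_pow 3
      · exact ht
      · rw [inv_pow, ht, inv_one]
    exact Odd.of_dvd_nat (by decide) (orderOf_dvd_of_pow_eq_one h3)
  have hTf : ∀ s ∈ zpowers t, s ≠ 1 → ∀ a ∈ A, s * a = a * s → a = 1 := by
    intro s hs hs1 a ha h
    have hta : t * a * t⁻¹ = a := by
      rcases hT s hs with rfl | rfl | rfl
      · exact absurd rfl hs1
      · rw [h, mul_inv_cancel_right]
      · have h' : a * t = t * a := by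
          calc a * t = t * (t⁻¹ * a) * t := by group
            _ = t * (a * t⁻¹) * t := by rw [h]
            _ = t * a := by group
        rw [← h', mul_inv_cancel_right]
    have h1 := hfpf a ha
    have e : t * t * a * (t * t)⁻¹ = t * (t * a * t⁻¹) * t⁻¹ := by group
    rw [e, hta, hta, hA a ha, one_mul] at h1
    exact h1
  have hsemi := OddPart.semi_of_fpf hA (zpowers_le.mpr htA) hTo hTf
  refine reduce hA (zpowers_le.mpr htA) hsemi (Nat.card Y) Y le_rfl hYodd hYs hAY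
    (zpowers_le.mpr htY) ?_
  intro x hx hxw hxc
  by_contra hcon
  push Not at hcon
  obtain ⟨a₀, ha₀, hne⟩ := hcon
  -- an element of prime order
  have hxodd := hordY x hx
  have hx1 : x ≠ 1 := by
    rintro rfl
    exact hne (by rw [mul_one, one_mul])
  have hn1 : orderOf x ≠ 1 := by rwa [Ne, orderOf_eq_one_iff]
  set r : ℕ := (orderOf x).minFac with hr
  have hrp : r.Prime := Nat.minFac_prime hn1
  have hp : Fact r.Prime := ⟨hrp⟩
  have hrn : r ∣ orderOf x := Nat.minFac_dvd _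
  have hrodd : Odd r := Odd.of_dvd_nat hxodd hrn
  have hr2 : r ≠ 2 := by
    rintro h
    rw [h] at hrodd
    exact absurd hrodd (by decide)
  have hpos : 0 < orderOf x := orderOf_pos x
  set w : G := x ^ (orderOf x / r) with hw
  have hwr : w ^ r = 1 := by
    rw [hw, ← pow_mul, Nat.div_mul_cancel hrn, pow_orderOf_eq_one]
  have hw1 : w ≠ 1 := by
    intro h
    have h1 : orderOf x ∣ orderOf x / r := orderOf_dvd_of_pow_eq_one h
    have h3 : orderOf x / r < orderOf x := Nat.div_lt_self hpos hrp.one_lt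
    have h4 : 0 < orderOf x / r := Nat.div_pos (Nat.le_of_dvd hpos hrn) hrp.pos
    exact absurd (Nat.le_of_dvd h4 h1) (by omega)
  have hwY : w ∈ Y := pow_mem hx _
  have hww : ∀ a ∈ A, a * w * a⁻¹ = w ∨ a * w * a⁻¹ = w⁻¹ := by
    intro a ha
    rcases hxw a ha with h | h
    · left
      rw [hw, ← conj_pow, h]
    · right
      rw [hw, ← conj_pow, h, inv_pow]
  -- nontrivial elements of exponent `r` are not inverted and centralised
  have hnr : ∀ y : G, y ^ r = 1 → y * y = 1 → y = 1 := by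
    intro y hy hyy
    obtain ⟨k, hk⟩ := hrodd
    rw [hk, pow_succ, pow_mul, pow_two, hyy, one_pow, one_mul] at hy
    exact hy
  have hnot : ∀ y : G, y ^ r = 1 → y ≠ 1 → y ≠ y⁻¹ := by
    intro y hy hy1 h
    apply hy1
    apply hnr y hy
    nth_rewrite 2 [h]
    exact mul_inv_cancel y
  have ha₀w : a₀ * w * a₀⁻¹ = w⁻¹ := by
    rcases hxw a₀ ha₀ with h | h
    · exact absurd (mul_inv_eq_iff_eq_mul.mp h) hne
    · rw [hw, ← conj_pow, h, inv_pow]
  -- parity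
  have hfi : ∀ a ∈ A, ∀ b ∈ A, a * w * a⁻¹ = w⁻¹ → b * w * b⁻¹ = w⁻¹ → (a * b) * w * (a * b)⁻¹ = w := by
    intro a _ b _ ha hb
    calc (a * b) * w * (a * b)⁻¹ = a * (b * w * b⁻¹) * a⁻¹ := by group
      _ = (a * w * a⁻¹)⁻¹ := by rw [hb]; group
      _ = w := by rw [ha, inv_inv]
  have hff : ∀ a ∈ A, ∀ b ∈ A, a * w * a⁻¹ = w → b * w * b⁻¹ = w → (a * b) * w * (a * b)⁻¹ = w := by
    intro a _ b _ ha hb
    calc (a * b) * w * (a * b)⁻¹ = a * (b * w * b⁻¹) * a⁻¹ := by group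
      _ = w := by rw [hb, ha]
  -- `a₁`
  obtain ⟨a₁, ha₁, p1, p2, p3⟩ : ∃ a₁ ∈ A, a₁ * w * a₁⁻¹ = w ∧
      (t⁻¹ * a₁ * t) * w * (t⁻¹ * a₁ * t)⁻¹ = w⁻¹ ∧ (t * a₁ * t⁻¹) * w * (t * a₁ * t⁻¹)⁻¹ = w⁻¹ := by
    have hb := htAi a₀ ha₀
    have hc := htAm a₀ ha₀
    have hprod : a₀ * ((t⁻¹ * a₀ * t) * (t * a₀ * t⁻¹)) = 1 := by
      have h := hfpf a₀ ha₀
      rw [ht2, inv_inv, mul_assoc] at h
      rwa [hAc _ hb _ hc]
    have hexp : a₀ = (t⁻¹ * a₀ * t) * (t * a₀ * t⁻¹) := by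
      have h := hA a₀ ha₀
      exact mul_left_cancel (h.trans hprod.symm)
    rcases hww _ hb with h | h
    · -- `t⁻¹ a₀ t` centralises
      have hc' : (t * a₀ * t⁻¹) * w * (t * a₀ * t⁻¹)⁻¹ = w⁻¹ := by
        rcases hww _ hc with h' | h'
        · exfalso
          apply hnot w hwr hw1
          have h3 := hff _ hb _ hc h h'
          rw [← hexp] at h3
          rw [← ha₀w, h3]
        · exact h'
      refine ⟨t⁻¹ * a₀ * t, hb, h, ?_, ?_⟩
      · have e : t⁻¹ * (t⁻¹ * a₀ * t) * t = t * a₀ * t⁻¹ := by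
          calc t⁻¹ * (t⁻¹ * a₀ * t) * t = (t⁻¹ * t⁻¹) * a₀ * (t * t) := by group
            _ = t * a₀ * t⁻¹ := by
              have e1 : t⁻¹ * t⁻¹ = t := by
                rw [← mul_inv_rev, ht2, inv_inv]
              rw [e1, ht2]
        rw [e]
        exact hc'
      · have e : t * (t⁻¹ * a₀ * t) * t⁻¹ = a₀ := by group
        rw [e]
        exact ha₀w
    · -- `t⁻¹ a₀ t` inverts
      have hc' : (t * a₀ * t⁻¹) * w * (t * a₀ * t⁻¹)⁻¹ = w := by
        rcases hww _ hc with h' | h'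
        · exact h'
        · exfalso
          apply hnot w hwr hw1
          have h3 := hfi _ hb _ hc h h'
          rw [← hexp] at h3
          rw [← ha₀w, h3]
      refine ⟨t * a₀ * t⁻¹, hc, hc', ?_, ?_⟩
      · have e : t⁻¹ * (t * a₀ * t⁻¹) * t = a₀ := by group
        rw [e]
        exact ha₀w
      · have e : t * (t * a₀ * t⁻¹) * t⁻¹ = t⁻¹ * a₀ * t := by
          calc t * (t * a₀ * t⁻¹) * t⁻¹ = (t * t) * a₀ * (t * t)⁻¹ := by group
            _ = t⁻¹ * a₀ * t := by rw [ht2, inv_inv]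
        rw [e]
        exact h
  -- the data of `core`
  have ha₂ : t * a₁ * t⁻¹ ∈ A := htAm a₁ ha₁
  set a₂ : G := t * a₁ * t⁻¹ with ha₂def
  set x₂ : G := t * w * t⁻¹ with hx₂def
  set x₃ : G := t⁻¹ * w * t with hx₃def
  have hx₂ : x₂ ^ r = 1 := by rw [hx₂def, conj_pow, hwr]; group
  have hx₃ : x₃ ^ r = 1 := by
    have e : x₃ = t⁻¹ * w * (t⁻¹)⁻¹ := by rw [hx₃def, inv_inv]
    rw [e, conj_pow, hwr]
    group
  have hx₂1 : x₂ ≠ 1 := by
    intro h
    apply hw1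
    calc w = t⁻¹ * x₂ * t := by rw [hx₂def]; group
      _ = 1 := by rw [h]; group
  have hx₃1 : x₃ ≠ 1 := by
    intro h
    apply hw1
    calc w = t * x₃ * t⁻¹ := by rw [hx₃def]; group
      _ = 1 := by rw [h]; group
  have hx₂Y : x₂ ∈ Y := (mem_normalizer_iff.mp htY w).mp hwY
  have hx₃Y : x₃ ∈ Y := by
    have := (mem_normalizer_iff.mp (inv_mem htY) w).mp hwY
    rw [inv_inv] at this
    exact this
  have a12 : a₁ * x₂ * a₁⁻¹ = x₂⁻¹ := by
    calc a₁ * x₂ * a₁⁻¹ = t * ((t⁻¹ * a₁ * t) * w * (t⁻¹ * a₁ * t)⁻¹) * t⁻¹ := by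
          rw [hx₂def]; group
      _ = x₂⁻¹ := by rw [p2, hx₂def]; group
  have a13 : a₁ * x₃ * a₁⁻¹ = x₃⁻¹ := by
    calc a₁ * x₃ * a₁⁻¹ = t⁻¹ * ((t * a₁ * t⁻¹) * w * (t * a₁ * t⁻¹)⁻¹) * t := by
          rw [hx₃def]; group
      _ = x₃⁻¹ := by
        change t⁻¹ * (a₂ * w * a₂⁻¹) * t = x₃⁻¹
        rw [p3, hx₃def]; group
  have a22 : a₂ * x₂ * a₂⁻¹ = x₂ := by
    calc a₂ * x₂ * a₂⁻¹ = t * (a₁ * w * a₁⁻¹) * t⁻¹ := by rw [ha₂def, hx₂def]; group
      _ = x₂ := by rw [p1]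
  have htt : t⁻¹ * t⁻¹ = t := by rw [← mul_inv_rev, ht2, inv_inv]
  have a23 : a₂ * x₃ * a₂⁻¹ = x₃⁻¹ := by
    have e : t⁻¹ * (t⁻¹ * a₁ * t) * t = a₂ := by
      calc t⁻¹ * (t⁻¹ * a₁ * t) * t = (t⁻¹ * t⁻¹) * a₁ * (t * t) := by group
        _ = a₂ := by rw [htt, ht2]
    have e' : a₂ * x₃ * a₂⁻¹ = t⁻¹ * ((t⁻¹ * a₁ * t) * w * (t⁻¹ * a₁ * t)⁻¹) * t := by
      rw [← e, hx₃def]
      simp only [mul_inv_rev, inv_inv, mul_assoc, mul_inv_cancel_left]
    rw [e', p2, hx₃def]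
    group
  have hcomm1 : w * x₂ = x₂ * w := by
    have h : Commute x (t * x * t⁻¹) := by
      have h' := hxc 1 (one_mem _) t (mem_zpowers t)
      rw [one_mul, inv_one, mul_one] at h'
      exact h'
    have h' : Commute w ((t * x * t⁻¹) ^ (orderOf x / r)) := h.pow_pow _ _
    rw [conj_pow] at h'
    exact h'.eq
  have hcomm3 : w * x₃ = x₃ * w := by
    have h : Commute x (t⁻¹ * x * (t⁻¹)⁻¹) := by
      have h' := hxc 1 (one_mem _) t⁻¹ (inv_mem (mem_zpowers t))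
      rw [one_mul, inv_one, mul_one] at h'
      exact h'
    have h' : Commute w ((t⁻¹ * x * (t⁻¹)⁻¹) ^ (orderOf x / r)) := h.pow_pow _ _
    rw [conj_pow, inv_inv] at h'
    exact h'.eq
  have hcomm23 : x₂ * x₃ = x₃ * x₂ := by
    have h : Commute (t * x * t⁻¹) (t⁻¹ * x * (t⁻¹)⁻¹) :=
      hxc t (mem_zpowers t) t⁻¹ (inv_mem (mem_zpowers t))
    have h' := h.pow_pow (orderOf x / r) (orderOf x / r)
    rw [conj_pow, conj_pow, inv_inv] at h'
    exact h'.eq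
  have t2 : t * x₂ * t⁻¹ = x₃ := by
    calc t * x₂ * t⁻¹ = (t * t) * w * (t * t)⁻¹ := by rw [hx₂def]; group
      _ = x₃ := by rw [ht2, inv_inv]
  have t3 : t * x₃ * t⁻¹ = w := by rw [hx₃def]; group
  have ta2 : t * a₂ * t⁻¹ = a₁ * a₂ := by
    have h := hfpf a₁ ha₁
    have e : t * t * a₁ * (t * t)⁻¹ = t * a₂ * t⁻¹ := by rw [ha₂def]; group
    rw [e] at h
    have h' := eq_inv_of_mul_eq_one_right h
    rw [h']
    exact inv_eq_of_mul_eq_one_right (hA _ (mul_mem ha₁ ha₂))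
  -- membership in `Hh`
  have hmem : ∀ y ∈ Y, y ^ r = 1 → ∀ a ∈ A, a * y * a⁻¹ = y⁻¹ → y ∈ Hh := by
    intro y hy hyr a ha h
    have h1 : y⁻¹ * y⁻¹ ∈ Hh := by
      have e : y⁻¹ * y⁻¹ = a * (y * a⁻¹ * y⁻¹) := by
        nth_rewrite 1 [← h]
        group
      rw [e]
      exact mul_mem (hAH ha) (hYH y hy _ (inv_mem ha))
    have h3 : y * y ∈ Hh := by
      have := inv_mem h1
      rwa [mul_inv_rev, inv_inv] at this
    obtain ⟨k, hk⟩ := hrodd
    have e : y = (y * y) ^ (k + 1) := by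
      rw [← pow_two, ← pow_mul, mul_add, mul_one, show 2 * k + 2 = (2 * k + 1) + 1 by ring, pow_succ,
        ← hk, hyr, one_mul]
    rw [e]
    exact pow_mem h3 _
  have hwH : w ∈ Hh := hmem w hwY hwr a₂ ha₂ p3
  have hx₂H : x₂ ∈ Hh := hmem x₂ hx₂Y hx₂ a₁ ha₁ a12
  have hx₃H : x₃ ∈ Hh := hmem x₃ hx₃Y hx₃ a₁ ha₁ a13
  have ha₁1 : a₁ ≠ 1 := by
    rintro h
    rw [h, one_mul, inv_one, mul_one] at a12
    exact hnot x₂ hx₂ hx₂1 a12
  have hcore : ∀ m : M, w • (m + a₁ • m) = m + a₁ • m :=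
    core hr2 h2 hR2 hR hwr hcomm1 hcomm3 hcomm23 p1 a12 a13 p3 a22 a23 (hA a₂ ha₂)
      (hAc a₁ ha₁ a₂ ha₂) rfl t2 t3 rfl ta2 (hN0 a₁ ha₁) f halt
      (fun u v => ⟨hinv w hwH u v, hinv x₂ hx₂H u v, hinv x₃ hx₃H u v⟩) (hkey w hwH)
  have h1 := hLN a₁ ha₁ ha₁1 w hwH hcore a₂ ha₂
  have h3 : w * w ∈ A := by
    have e : w * w = (w * a₂ * w⁻¹) * a₂⁻¹ := by
      have e1 : w = (a₂ * w * a₂⁻¹)⁻¹ := by rw [p3, inv_inv]
      nth_rewrite 2 [e1]
      group
    rw [e]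
    exact mul_mem h1 (inv_mem ha₂)
  have h4 : (w * w) * (w * w) = 1 := hA _ h3
  have h5 : w * w = 1 := by
    refine hnr (w * w) ?_ h4
    rw [(Commute.refl w).mul_pow, hwr, one_mul]
  exact hw1 (hnr w hwr h5)

end main

end Cfsg.Agent.Omega.Lie.OddQ4

end

section


/-!
# NODE LIE, `q = 4`: `A` centralises every solvable odd order subgroup of `H⁰` normalised by `A` and `T`

The instance of `OddQ4.centralizes` (#12397) for the real group `H = HQ (R i)`.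
-/

set_option autoImplicit false
set_option linter.unusedSectionVars false

namespace Cfsg.Agent.Omega.Lie.OddQ4BT

open Subgroup Cfsg.Agent.Omega.BTwo Cfsg.Agent.Omega.Lie Cfsg.Agent.Omega.Lie.Quot Cfsg.Agent.Omega.Lie.ModQ

universe u v w

variable {G : Type u} [Group G] {ι : Type w} {V : Subgroup G} {R : ι → Subgroup G} {F : Type v} [Field F]
  {i j : ι} {vv : F → F → G} {w1 w2 t : F → G}

/-- a field of order 4 has an element `w` with `w² + w + 1 = 0` -/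
theorem exists_omega [Finite F] (hF : Nat.card F = 4) : ∃ w : F, w ≠ 0 ∧ w ≠ 1 ∧ w * w + w + 1 = 0 := by
  classical
  have := Fintype.ofFinite F
  have h4 : Fintype.card F = 4 := by rw [← Nat.card_eq_fintype_card]; exact hF
  have hlt : ({0, 1} : Finset F).card < Fintype.card F := by
    refine lt_of_le_of_lt (Finset.card_le_two) ?_
    omega
  obtain ⟨w, hw⟩ : ∃ w, w ∉ ({0, 1} : Finset F) := by
    by_contra hcon
    push Not at hcon
    have h1 : ({0, 1} : Finset F) = Finset.univ := Finset.eq_univ_of_forall hcon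
    rw [h1, Finset.card_univ] at hlt
    exact lt_irrefl _ hlt
  rw [Finset.mem_insert, Finset.mem_singleton, not_or] at hw
  refine ⟨w, hw.1, hw.2, ?_⟩
  have h3 : w ^ 3 = 1 := by
    have := FiniteField.pow_card_sub_one_eq_one w hw.1
    rwa [h4] at this
  have h5 : (w - 1) * (w * w + w + 1) = 0 := by
    have : (w - 1) * (w * w + w + 1) = w ^ 3 - 1 := by ring
    rw [this, h3, sub_self]
  exact (mul_eq_zero.1 h5).resolve_left (sub_ne_zero.2 hw.2)

/-- **#12397**: for `q = 4`, `A` centralises every solvable subgroup of odd order of `H⁰` normalised by `A` and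
`T`. -/
theorem centralizes [Finite G] [Finite F] [CharP F 2] (b : BTC V R) (c : Coord V R i j vv w1 w2)
    (τ : TorD V R i j vv t) (hF : Nat.card F = 4) {Y : Subgroup (HQ (R i))} (hY : Y ≤ H0 R i)
    (hodd : Odd (Nat.card Y)) (hsol : Group.IsSolvable Y) (hA : AA V R i j ≤ normalizer (Y : Set (HQ (R i))))
    (hT : TT τ ≤ normalizer (Y : Set (HQ (R i)))) :
    ∀ y ∈ Y, ∀ a ∈ AA V R i j, a * y = y * a := by
  obtain ⟨w, hw0, hw1, hw⟩ := exists_omega hF
  have h2 : (2 : F) = 0 := CharTwo.two_eq_zero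
  have hww : w * w ≠ 0 := mul_ne_zero hw0 hw0
  have hw3 : w * w * w = 1 := by linear_combination (w - 1) * hw
  have hww1 : 1 + w = w * w := by linear_combination hw - (w * w) * h2
  obtain ⟨M, B, _, _, _, _, _, p, r, f, m⟩ := exists_modQ b.toBT i
  have hfin := m.finite_M
  have hij := c.ne
  have hne : ∃ a : F, a ≠ 0 ∧ a ≠ 1 := ⟨w, hw0, hw1⟩
  have htN := τ.normR hw0
  have htT : pr (R i) ⟨t w, htN⟩ ∈ TT τ := (mem_TT τ).2 ⟨w, hw0, rfl⟩
  have ht2 : t w * t w = t (w * w) := (τ.mul w w hw0 hw0).symm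
  have ht3 : t w * t w * t w = 1 := by
    rw [ht2, ← τ.mul _ _ hww hw0, hw3, τ.one]
  refine OddQ4.centralizes (M := M) (R := B) (m.two_M b.toBT) (m.two_B b.toBT) ?_ f (m.f_self b.toBT)
    (A := AA V R i j) (Hh := HA V R i j) (Y := Y) (t := pr (R i) ⟨t w, htN⟩)
    (fun a ha => A_sq b.toBT hij ha) ?_ ?_ ?_ hA (hT htT) hodd hsol A_le_HA ?_ ?_ ?_ ?_ ?_
  · -- |R i| = 4
    rw [m.card_B]
    have h1 : Nat.card F ≤ Nat.card (R i) := by
      refine Nat.card_le_card_of_injective (fun β : F => (⟨vv β 0, (τ.Ri _).2 ⟨β, rfl⟩⟩ : R i)) ?_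
      intro β β' h
      exact (c.v_inj (congrArg Subtype.val h)).1
    omega
  · -- t³ = 1
    rw [← map_mul, ← map_mul]
    have e : (⟨t w, htN⟩ * ⟨t w, htN⟩ * ⟨t w, htN⟩ : ↥(normalizer (R i : Set G))) = 1 := Subtype.ext ht3
    rw [e, map_one]
  · -- t normalises A
    rw [mem_normalizer_iff]
    intro a
    refine ⟨fun ha => TA_mem b.toBT τ htT ha, fun ha => ?_⟩
    have h1 := TA_mem b.toBT τ (inv_mem htT) ha
    have e : (pr (R i) ⟨t w, htN⟩)⁻¹ * (pr (R i) ⟨t w, htN⟩ * a * (pr (R i) ⟨t w, htN⟩)⁻¹) *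
        (pr (R i) ⟨t w, htN⟩)⁻¹⁻¹ = a := by group
    rwa [e] at h1
  · -- 1 + t + t² = 0 on A
    intro a ha
    obtain ⟨u, hu, rfl⟩ := (mem_AA b.toBT).1 ha
    have h1 := τ.wU' 1 w one_ne_zero hw0 (by rw [hww1]; exact hww) u hu
    have hi1 : (t (w * w))⁻¹ = t w := inv_eq_of_mul_eq_one_left (by rw [← τ.mul _ _ hw0 hww, ← mul_assoc, hw3, τ.one])
    have hi2 : (t w)⁻¹ = t w * t w := inv_eq_of_mul_eq_one_left ht3
    rw [hww1, hi1, τ.one, inv_one, one_mul, mul_one, hi2] at h1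
    have hi3 : t (w * w) = (t w)⁻¹ := by rw [← hi1, inv_inv]
    have hi4 : t w = (t w * t w)⁻¹ := by rw [← hi2, inv_inv]
    have hN := U_le_N b.toBT i j hu
    have h3 : u * (t w * u * (t w)⁻¹) * (t w * t w * u * (t w * t w)⁻¹) ∈ DD V R := by
      have k1 := t_norm_U b.toBT τ hw0 hu
      have hx : (t w * u * (t w)⁻¹) * (u * (t w * t w * u * (t w * t w)⁻¹))⁻¹ ∈ DD V R := by
        have e : t w * u * (t w)⁻¹ * (u * (t w * t w * u * (t w * t w)⁻¹))⁻¹ =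
          t w * u * t (w * w) * (u * (t w * t w * u * t w))⁻¹ := by rw [hi3, ← hi4]
        rw [e]; exact h1
      -- `x = t w u (t w)⁻¹`, `y = u u^{t²}`; `x y⁻¹ ∈ D`, want `u x u^{t²} ∈ D`
      set x := t w * u * (t w)⁻¹ with hxdef
      set z := t w * t w * u * (t w * t w)⁻¹ with hz
      have hxU : x ∈ UU V R j := k1
      have hzU : z ∈ UU V R j := by
        have k2 := t_norm_U b.toBT τ hww hu
        rwa [← ht2] at k2
      have hY : ∀ {y : G}, y ∈ UU V R j → y ∈ YY V R := fun h => UU_le_YY j h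
      have hND : ∀ {y : G}, y ∈ UU V R j → y ∈ normalizer (DD V R : Set G) :=
        fun h => b.toBT.NV_le_ND (cen_le_NV V (UU_le_cen j h))
      -- `u x z = [u, x] x u z`, `x (u z)⁻¹ ∈ D`, `(u z)² ∈ D`
      have k3 := b.toBT.Y_comm (hY hu) (hY hxU)
      have k4 := b.toBT.Y_sq (hY (mul_mem hu hzU))
      have e : u * x * z = (u * x * u⁻¹ * x⁻¹) * (x * (u * z)⁻¹) * ((u * z) * (u * z)) := by group
      rw [e]
      exact mul_mem (mul_mem k3 hx) k4
    have e : pr (R i) ⟨u, hN⟩ * (pr (R i) ⟨t w, htN⟩ * pr (R i) ⟨u, hN⟩ * (pr (R i) ⟨t w, htN⟩)⁻¹) *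
        (pr (R i) ⟨t w, htN⟩ * pr (R i) ⟨t w, htN⟩ * pr (R i) ⟨u, hN⟩ *
          (pr (R i) ⟨t w, htN⟩ * pr (R i) ⟨t w, htN⟩)⁻¹) =
        pr (R i) ⟨u * (t w * u * (t w)⁻¹) * (t w * t w * u * (t w * t w)⁻¹),
          b.toBT.cen_le_N i (b.toBT.D_le_cen h3)⟩ := rfl
    rw [e, pr_eq_one]
    exact b.toBT.W_le_Q i (mem_DD.1 h3 i)
  · -- conjugates
    intro y hy a ha
    exact conj_mem_HA (hY hy) ha
  · intro x hx u v
    exact m.f_act b.toBT (HA_le_H0 b.toBT j hx) u v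
  · intro x hx v B₀ hB h
    exact m.key b hij hx hB h
  · intro a ha
    refine le_trans ?_ ((m.card_e τ).trans hF.le)
    have := Finite.of_injective (Subtype.val : m.sb V → M) Subtype.val_injective
    refine Nat.card_le_card_of_injective (β := m.sb V) (Set.inclusion ?_) (Set.inclusion_injective _)
    rintro _ ⟨c, rfl⟩
    exact m.quad b τ ha htT c
  · intro a ha ha1 x hx h
    exact m.norm_A b hne c τ ha ha1 hx h

end Cfsg.Agent.Omega.Lie.OddQ4BT

end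

section


/-!
# NODE LIE, `q ≥ 4`: `A` centralises every solvable odd order subgroup of `H⁰` normalised by `A` and `T`

`q = 4`: `OddQ4BT`. `q ≥ 8`: instance of helper843's `OddPart.centralizes'` (#11541 (2)); `C_H(T)` stabilises
`e = V / R i`, because `e = Φ(M)`, `Φ = (t_β - 1)(t_{1+β} - 1 - t_β)²` for `β ∉ F_4`.
-/

set_option autoImplicit false
set_option linter.unusedSectionVars false

namespace Cfsg.Agent.Omega.Lie

open Subgroup Cfsg.Agent.Omega.BTwo Cfsg.Agent.Omega.Lie Cfsg.Agent.Omega.Lie.Quot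

universe u v w

variable {G : Type u} [Group G] {ι : Type w} {V : Subgroup G} {R : ι → Subgroup G} {F : Type v} [Field F]
  {i j : ι} {vv : F → F → G} {w1 w2 t : F → G}

namespace ModQ

variable {M B : Type u} [AddCommGroup M] [AddCommGroup B]
  [DistribMulAction (NR R i) M] [DistribMulAction (NR R i) B] [DistribMulAction (HQ (R i)) M] {p : G → M}
  {r : G → B} {f : M →+ M →+ B} (m : ModQ V R i M B p r f)
include m

/-- an element of `H` which stabilises `e` normalises `A` -/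
theorem norm_of_stab (b : BT V R) (hij : i ≠ j) {x : HQ (R i)} (h : ∀ d ∈ m.sb V, x • d ∈ m.sb V)
    (h' : ∀ d ∈ m.sb V, x⁻¹ • d ∈ m.sb V) {a : HQ (R i)} (ha : a ∈ AA V R i j) : x * a * x⁻¹ ∈ AA V R i j := by
  obtain ⟨g, hgN, rfl⟩ := exists_pr x
  have key : ∀ g : NR R i, (∀ d ∈ m.sb V, pr (R i) g • d ∈ m.sb V) → ∀ y ∈ V, (g : G) * y * (g : G)⁻¹ ∈ V := by
    intro g hg y hy
    have hyW := V_le_WW V (R i) hy
    have h1 := hg _ (m.p_mem hyW hy)
    rw [m.act g.2 hyW] at h1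
    exact (m.p_mem_iff (conj_mem_of_normalizer (normalizer_le_WW V (R i) g.2) hyW) (b.R_le i)).1 h1
  have hV : g ∈ normalizer (V : Set G) := by
    rw [mem_normalizer_iff]
    refine fun y => ⟨key ⟨g, hgN⟩ h y, fun hy => ?_⟩
    have h2 := key ⟨g, hgN⟩⁻¹ (fun d hd => by rw [map_inv]; exact h' d hd) _ hy
    have e : (((⟨g, hgN⟩ : NR R i)⁻¹ : NR R i) : G) * (g * y * g⁻¹) *
        (((⟨g, hgN⟩ : NR R i)⁻¹ : NR R i) : G)⁻¹ = y := by
      change g⁻¹ * (g * y * g⁻¹) * g⁻¹⁻¹ = y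
      group
    rwa [e] at h2
  obtain ⟨u, hu, rfl⟩ := (mem_AA b).1 ha
  rw [← im_Y b hij]
  have h3 : g * u * g⁻¹ ∈ YY V R := conj_mem_of_normalizer (b.NV_le_NY hV) (UU_le_YY j hu)
  exact pr_mem_im (mul_mem (mul_mem hgN (U_le_N b i j hu)) (inv_mem hgN)) h3

/-- the torus elements in `H` -/
def tq (τ : TorD V R i j vv t) {a : F} (ha : a ≠ 0) : HQ (R i) := pr (R i) ⟨t a, τ.normR ha⟩

omit m in
theorem tq_mem (τ : TorD V R i j vv t) {a : F} (ha : a ≠ 0) : tq τ ha ∈ TT τ := (mem_TT τ).2 ⟨a, ha, rfl⟩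

theorem tq_act (τ : TorD V R i j vv t) {a : F} (ha : a ≠ 0) {x : G} (hx : x ∈ WW V (R i)) :
    tq τ ha • p x = p (t a * x * (t a)⁻¹) := m.act (τ.normR ha) hx

/-- `W i / U i` has weight 2, `U i / D` weight 1 -/
theorem drop (τ : TorD V R i j vv t) {β : F} (hβ : β ≠ 0) (hβ1 : 1 + β ≠ 0) {x : G}
    (hx : x ∈ WW V (R i)) {X : Subgroup G}
    (h : t (1 + β) * x * (t (1 + β))⁻¹ * (t 1 * x * (t 1)⁻¹ * (t β * x * (t β)⁻¹))⁻¹ ∈ X) :
    tq τ hβ1 • p x - (p x + tq τ hβ • p x) ∈ m.sb X := by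
  have hn : ∀ {a : F}, a ≠ 0 → t a * x * (t a)⁻¹ ∈ WW V (R i) := fun ha =>
    conj_mem_of_normalizer (normalizer_le_WW V (R i) (τ.normR ha)) hx
  have h1 : t 1 * x * (t 1)⁻¹ = x := by rw [τ.one]; group
  rw [h1] at h
  rw [m.tq_act τ hβ1 hx, m.tq_act τ hβ hx, ← m.p_mul _ hx _ (hn hβ), sub_eq_add_neg,
    ← m.p_inv (mul_mem hx (hn hβ)), ← m.p_mul _ (hn hβ1) _ (inv_mem (mul_mem hx (hn hβ)))]
  exact m.p_mem (mul_mem (hn hβ1) (inv_mem (mul_mem hx (hn hβ)))) h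

/-- `C_H(T)` stabilises `e`, `q ≥ 8` -/
theorem stab_e [Finite F] (b : BTC V R) (τ : TorD V R i j vv t) (h5 : 5 ≤ Nat.card F) {x : HQ (R i)}
    (hx : ∀ s ∈ TT τ, s * x * s⁻¹ = x) : ∀ d ∈ m.sb V, x • d ∈ m.sb V := by
  obtain ⟨β, hβ, hβ1, hβ3⟩ := exists_outside h5
  have htwo : ∀ a : F, a + a = 0 := fun a => τ.two b.toBT a
  have hneg : ∀ a : F, -a = a := fun a => (eq_neg_of_add_eq_zero_left (htwo a)).symm
  have hβ2 : 1 + β ≠ 0 := by
    intro h
    apply hβ1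
    have h1 := eq_neg_of_add_eq_zero_right h
    rw [h1, hneg]
  set s2 := tq τ hβ2 with hs2
  set s := tq τ hβ with hs
  -- the operators
  let Dp : M → M := fun a => s2 • a - (a + s • a)
  let Φ : M → M := fun a => s • Dp (Dp a) - Dp (Dp a)
  have hcomm : ∀ {z : HQ (R i)}, z ∈ TT τ → ∀ a : M, z • x • a = x • z • a := by
    intro z hz a
    have h1 := hx z hz
    rw [mul_inv_eq_iff_eq_mul] at h1
    rw [smul_smul, smul_smul, h1]
  have hD : ∀ a : M, Dp (x • a) = x • Dp a := by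
    intro a
    change s2 • x • a - (x • a + s • x • a) = x • (s2 • a - (a + s • a))
    rw [hcomm (tq_mem τ hβ2), hcomm (tq_mem τ hβ), smul_sub, smul_add]
  have hΦx : ∀ a : M, Φ (x • a) = x • Φ a := by
    intro a
    change s • Dp (Dp (x • a)) - Dp (Dp (x • a)) = x • (s • Dp (Dp a) - Dp (Dp a))
    rw [hD, hD, hcomm (tq_mem τ hβ)]
    exact (smul_sub x _ _).symm
  have hDU : ∀ a : M, Dp a ∈ m.sb (UU V R i) := by
    intro a
    obtain ⟨w, hw, rfl⟩ := m.p_surj a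
    exact m.drop τ hβ hβ2 hw (τ.wW 1 β one_ne_zero hβ hβ2 w hw)
  have hDD : ∀ a ∈ m.sb (UU V R i), Dp a ∈ m.sb (DD V R) := by
    rintro _ ⟨w, hw, hwW, rfl⟩
    exact m.drop τ hβ hβ2 hwW (τ.wU 1 β one_ne_zero hβ hβ2 w hw)
  have hΦe : ∀ a : M, Φ a ∈ m.sb V := by
    intro a
    obtain ⟨d, hd, hdW, e⟩ := hDD _ (hDU a)
    change s • Dp (Dp a) - Dp (Dp a) ∈ m.sb V
    have hn : t β * d * (t β)⁻¹ ∈ WW V (R i) :=
      conj_mem_of_normalizer (normalizer_le_WW V (R i) (τ.normR hβ)) hdW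
    rw [← e, m.tq_act τ hβ hdW, sub_eq_add_neg, ← m.p_inv hdW, ← m.p_mul _ hn _ (inv_mem hdW)]
    exact m.p_mem (mul_mem hn (inv_mem hdW)) (b.XD (τ.memX β hβ) hd)
  -- `Φ` on `e`
  have hv : ∀ y z, vv y z ∈ V := fun y z => (τ.v_mem _).2 ⟨_, _, rfl⟩
  have hvW : ∀ y z, vv y z ∈ WW V (R i) := fun y z => V_le_WW V (R i) (hv y z)
  have hp0 : ∀ y z, p (vv y z) = p (vv 0 z) := by
    intro y z
    rw [m.p_eq_iff (hvW _ _) (hvW _ _)]
    have h1 := τ.v_add y 0 0 z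
    rw [add_zero, zero_add] at h1
    rw [h1, mul_inv_cancel_right]
    exact (τ.Ri _).2 ⟨y, rfl⟩
  have hpa : ∀ z z', p (vv 0 z) + p (vv 0 z') = p (vv 0 (z + z')) := by
    intro z z'
    rw [← m.p_mul _ (hvW _ _) _ (hvW _ _), ← τ.v_add, add_zero]
  have hpn : ∀ z, - p (vv 0 z) = p (vv 0 z) := fun z =>
    (eq_neg_of_add_eq_zero_left (m.two_M b.toBT _)).symm
  have hts : ∀ {a : F} (ha : a ≠ 0) (z : F), tq τ ha • p (vv 0 z) = p (vv 0 (a⁻¹ * z)) := by
    intro a ha z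
    rw [m.tq_act τ ha (hvW _ _), τ.act a 0 z ha, mul_zero]
  have hDe : ∀ z, Dp (p (vv 0 z)) = p (vv 0 (((1 + β)⁻¹ + (1 + β⁻¹)) * z)) := by
    intro z
    change s2 • p (vv 0 z) - (p (vv 0 z) + s • p (vv 0 z)) = _
    rw [hts, hts, hpa, sub_eq_add_neg, hpn, hpa]
    congr 2
    ring
  have hΦv : ∀ z, Φ (p (vv 0 z)) = p (vv 0 ((β⁻¹ + 1) * (((1 + β)⁻¹ + (1 + β⁻¹)) *
      (((1 + β)⁻¹ + (1 + β⁻¹)) * z)))) := by
    intro z
    change s • Dp (Dp (p (vv 0 z))) - Dp (Dp (p (vv 0 z))) = _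
    rw [hDe, hDe, hts, sub_eq_add_neg, hpn, hpa]
    congr 2
    ring
  have hκ : (1 + β)⁻¹ + (1 + β⁻¹) ≠ 0 := by
    intro h
    apply hβ3
    have h1 : β + ((1 + β) * β + (1 + β)) = 0 := by
      have h2 : (1 + β) * β * ((1 + β)⁻¹ + (1 + β⁻¹)) = β + ((1 + β) * β + (1 + β)) := by
        field_simp
      rw [← h2, h, mul_zero]
    have h3 : β + β = 0 := htwo β
    linear_combination h1 - h3
  have hκ' : β⁻¹ + 1 ≠ 0 := by
    intro h
    apply hβ1
    have h1 := eq_neg_of_add_eq_zero_left h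
    rw [hneg] at h1
    rw [← inv_inv β, h1, inv_one]
  generalize (1 + β)⁻¹ + (1 + β⁻¹) = κ at hκ hΦv
  generalize β⁻¹ + 1 = κ' at hκ' hΦv
  intro d hd
  obtain ⟨y, hy, -, rfl⟩ := hd
  obtain ⟨y1, z, rfl⟩ := (τ.v_mem y).1 hy
  have h1 : p (vv y1 z) = Φ (p (vv 0 (κ⁻¹ * (κ⁻¹ * (κ'⁻¹ * z))))) := by
    rw [hΦv, hp0]
    congr 2
    field_simp
  rw [h1, ← hΦx]
  exact hΦe _

/-- `C_H(T)` normalises `A`, `q ≥ 8` -/
theorem cen_T_norm_A [Finite F] (b : BTC V R) (τ : TorD V R i j vv t) (h5 : 5 ≤ Nat.card F) {x : HQ (R i)}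
    (hx : ∀ s ∈ TT τ, s * x * s⁻¹ = x) : x ∈ normalizer (AA V R i j : Set (HQ (R i))) := by
  have hx' : ∀ s ∈ TT τ, s * x⁻¹ * s⁻¹ = x⁻¹ := by
    intro s hs
    have h1 := hx s hs
    calc s * x⁻¹ * s⁻¹ = (s * x * s⁻¹)⁻¹ := by group
      _ = x⁻¹ := by rw [h1]
  have h1 := m.stab_e b τ h5 hx
  have h2 := m.stab_e b τ h5 hx'
  rw [mem_normalizer_iff]
  intro a
  refine ⟨fun ha => m.norm_of_stab b.toBT τ.ne h1 h2 ha, fun ha => ?_⟩
  have h3 := m.norm_of_stab (x := x⁻¹) b.toBT τ.ne h2 (by rw [inv_inv]; exact h1) ha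
  have e : x⁻¹ * (x * a * x⁻¹) * x⁻¹⁻¹ = a := by group
  rwa [e] at h3

end ModQ

namespace OddAll

theorem odd_TT (τ : TorD V R i j vv t) {s : HQ (R i)} (hs : s ∈ TT τ) : Odd (orderOf s) := by
  obtain ⟨a, ha, rfl⟩ := (mem_TT τ).1 hs
  have h1 : orderOf (pr (R i) ⟨t a, τ.normR ha⟩) ∣ orderOf (⟨t a, τ.normR ha⟩ : ↥(normalizer (R i : Set G))) :=
    orderOf_map_dvd _ _
  rw [← Subgroup.orderOf_coe] at h1
  exact (τ.odd a ha).of_dvd_nat h1

/-- **#11541 (2), #12397**: `A` centralises every solvable subgroup of odd order of `H⁰` normalised by `A`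
and `T`. -/
theorem centralizes [Finite G] [Finite F] [CharP F 2] (b : BTC V R) (c : Coord V R i j vv w1 w2)
    (τ : TorD V R i j vv t) (hF : 4 ≤ Nat.card F) {Y : Subgroup (HQ (R i))} (hY : Y ≤ H0 R i)
    (hodd : Odd (Nat.card Y)) (hsol : Group.IsSolvable Y) (hA : AA V R i j ≤ normalizer (Y : Set (HQ (R i))))
    (hT : TT τ ≤ normalizer (Y : Set (HQ (R i)))) :
    ∀ y ∈ Y, ∀ a ∈ AA V R i j, a * y = y * a := by
  rcases hF.lt_or_eq with h5 | h4
  · obtain ⟨M, B, _, _, _, _, _, p, r, f, m⟩ := exists_modQ b.toBT i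
    have hsq : ∀ a ∈ AA V R i j, a * a = 1 := fun a ha => A_sq b.toBT c.ne ha
    have hTA : TT τ ≤ normalizer (AA V R i j : Set (HQ (R i))) := by
      intro s hs
      rw [mem_normalizer_iff]
      intro a
      refine ⟨fun ha => TA_mem b.toBT τ hs ha, fun ha => ?_⟩
      have h1 := TA_mem b.toBT τ (inv_mem hs) ha
      have e : s⁻¹ * (s * a * s⁻¹) * s⁻¹⁻¹ = a := by group
      rwa [e] at h1
    refine OddPart.centralizes' hsq hTA ?_ hodd hsol hA hT fun x _ hx => m.cen_T_norm_A b τ h5 hx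
    refine OddPart.semi_of_fpf hsq hTA (fun s hs => odd_TT τ hs) ?_
    intro s hs hs1 a ha h
    by_contra ha1
    apply hs1
    refine T_reg b.toBT τ c.ne ha ha1 hs ?_
    rw [h, mul_inv_cancel_right]
  · exact OddQ4BT.centralizes b c τ h4.symm hY hodd hsol hA hT

end OddAll

end Cfsg.Agent.Omega.Lie

end

private theorem dce_d482e103318f : _root_.True := by
  try have : _root_.True := by simp only [_root_.Cfsg.Agent.Omega.Lie.OddQ4.sg.congr_simp]
  exact _root_.True.intro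
end

-- part: Mrg/Omega/Lie/TwoMain
section
prune_inst 0x10000000000000001c4282000002004c00000000000004808c4000000820b02004120020000400300040018800000000000000000000011800800000000220400000000010000000000000000000000000000000000000000000000000000
set_option linter.all false
open scoped Cfsg.Agent.FastGrp

section


/-!
# (T2) of TEXT LIE-1 (bb OMEGA #12098) in the frame `Cub`

`T` normalises every component `K` with `[K, A] ≠ 1` which has (INV5), i.e. the output `Three` of the combinatorics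
is impossible.
-/

set_option autoImplicit false

namespace Cfsg.Agent.Omega.Lie.TwoMain

open Subgroup Cfsg.Agent.Omega.Lie.CompT Cfsg.Agent.Omega.Lie.LQ Cfsg.Agent.Omega.Lie.InvFive

variable {H M : Type*} [Group H] [CommGroup M]

/-- `H` acts on `Additive M`. -/
@[reducible] def act (ρ : H →* MulAut M) : DistribMulAction H (Additive M) where
  smul h m := Additive.ofMul (ρ h m.toMul)
  one_smul m := by
    change Additive.ofMul (ρ 1 m.toMul) = m
    rw [map_one, MulAut.one_apply, ofMul_toMul]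
  mul_smul g h m := by
    change Additive.ofMul (ρ (g * h) m.toMul) = Additive.ofMul (ρ g (ρ h m.toMul))
    rw [map_mul, MulAut.mul_apply]
  smul_zero h := by
    change Additive.ofMul (ρ h 1) = 0
    rw [map_one, ofMul_one]
  smul_add h m n := by
    change Additive.ofMul (ρ h (m.toMul * n.toMul)) = Additive.ofMul (ρ h m.toMul) + Additive.ofMul (ρ h n.toMul)
    rw [map_mul, ofMul_mul]

/-- Every 2-element of `K` is conjugate into the maximal 2-subgroup `P` of `K`. -/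
theorem exists_conj [Finite H] {K P : Subgroup H} (hP2 : IsPGroup 2 P) (hPK : P ≤ K)
    (hmax : ∀ Q : Subgroup H, Q ≤ K → IsPGroup 2 Q → P ≤ Q → Q ≤ P) {y : H} (hy : y ∈ K) (hy2 : y * y = 1) :
    ∃ k ∈ K, k * y * k⁻¹ ∈ P := by
  have : Fact (Nat.Prime 2) := ⟨Nat.prime_two⟩
  -- `P` as a Sylow subgroup of `K`
  have hP2' : IsPGroup 2 (P.subgroupOf K) := hP2.comap_of_injective K.subtype K.subtype_injective
  obtain ⟨P0, hP0⟩ := hP2'.exists_le_sylow
  have hP0' : (P0 : Subgroup K) = P.subgroupOf K := by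
    refine le_antisymm ?_ hP0
    have h1 : (P0 : Subgroup K).map K.subtype ≤ P := by
      refine hmax _ (map_subtype_le _) (P0.isPGroup'.map K.subtype) ?_
      intro x hx
      exact ⟨⟨x, hPK hx⟩, hP0 (mem_subgroupOf.2 hx), rfl⟩
    intro x hx
    exact mem_subgroupOf.2 (h1 ⟨x, hx, rfl⟩)
  -- a Sylow subgroup containing `y`
  have hy2' : IsPGroup 2 (zpowers (⟨y, hy⟩ : K)) := by
    rintro ⟨x, hx⟩
    obtain ⟨m, rfl⟩ := mem_zpowers_iff.1 hx
    refine ⟨1, Subtype.ext ?_⟩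
    change ((⟨y, hy⟩ : K) ^ m) ^ 2 ^ 1 = 1
    have h1 : (⟨y, hy⟩ : K) ^ (2 : ℕ) = 1 := by
      rw [pow_two]; exact Subtype.ext hy2
    rw [pow_one, ← zpow_natCast, ← zpow_mul, mul_comm, zpow_mul, zpow_natCast, h1, one_zpow]
  obtain ⟨Q, hQ⟩ := hy2'.exists_le_sylow
  obtain ⟨k, hk⟩ := MulAction.exists_smul_eq K Q P0
  refine ⟨k, k.2, ?_⟩
  have h1 : k * ⟨y, hy⟩ * k⁻¹ ∈ (k • Q : Sylow 2 K) := ⟨⟨y, hy⟩, hQ (mem_zpowers _), rfl⟩
  rw [hk] at h1
  have h2 : k * ⟨y, hy⟩ * k⁻¹ ∈ P.subgroupOf K := hP0' ▸ h1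
  exact mem_subgroupOf.1 h2

/-- **(T2), the end for components with (INV5)**: `T` is regular on three conjugates of `K`. -/
theorem three_false [Finite H] [Finite M] {ρ : H →* MulAut M} {A T : Subgroup H} {e : Subgroup M}
    (c : Cub ρ A T e) (he : Nat.card e ≤ Nat.card T + 1) (hA : ∀ a ∈ A, a * a = 1) {S K : Subgroup H}
    (hK : Cfsg.IsQuasisimple K) (hZ : ∀ z ∈ K, (∀ y ∈ K, z * y = y * z) → z * z = 1 → z = 1)
    (hAK : ∀ a ∈ A, ∀ x ∈ K, a * x * a⁻¹ ∈ K) (hS2 : IsPGroup 2 S)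
    (syl : ∀ Q : Subgroup H, Q ≤ K → IsPGroup 2 Q → S ⊓ K ≤ Q → Q ≤ S)
    (h3 : Three A T K (S ⊓ K)) (hinv : InvFive K) : False := by
  obtain ⟨t, ht, ht1, ht3, htt1, htt, -⟩ := h3.gen
  have htt' : t * t ∈ T := T.mul_mem ht ht
  have htti : t * t = t⁻¹ := eq_inv_of_mul_eq_one_left ht3
  -- the elements
  obtain ⟨y0, g0, r, q1, q2, q3, q4, q5, q6⟩ := hinv
  obtain ⟨k, hk, hkP⟩ := exists_conj (P := S ⊓ K) (hS2.to_le inf_le_left) inf_le_right
    (fun Q h1 h2 h4 => le_inf (syl Q h1 h2 h4) h1) y0.2 (congrArg Subtype.val q1)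
  obtain ⟨y, hy⟩ : ∃ y, y = k * (y0 : H) * k⁻¹ := ⟨_, rfl⟩
  obtain ⟨g, hg⟩ : ∃ g, g = k * (g0 : H) * k⁻¹ := ⟨_, rfl⟩
  have hyP : y ∈ S ⊓ K := hy ▸ hkP
  have hyK : y ∈ K := hyP.2
  have hgK : g ∈ K := hg ▸ K.mul_mem (K.mul_mem hk g0.2) (K.inv_mem hk)
  have hyy : y * y = 1 := h3.sq y hyP
  have hyg : y * g * y⁻¹ = g⁻¹ := by
    have h1 : (y0 : H) * g0 * (y0 : H)⁻¹ = (g0 : H)⁻¹ := congrArg Subtype.val q2
    rw [hy, hg]
    calc k * (y0 : H) * k⁻¹ * (k * g0 * k⁻¹) * (k * y0 * k⁻¹)⁻¹ = k * ((y0 : H) * g0 * (y0 : H)⁻¹) * k⁻¹ := by group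
      _ = (k * (g0 : H) * k⁻¹)⁻¹ := by rw [h1]; group
  have hgr : g ^ r = 1 := by
    have h1 : (g0 : H) ^ r = 1 := congrArg Subtype.val q5
    rw [hg, conj_pow, h1, mul_one, mul_inv_cancel]
  have hg1 : g ≠ 1 := by
    intro h
    apply q6
    rw [hg] at h
    exact Subtype.ext (conj_eq_one_iff.1 h)
  -- the conjugates commute with `K`
  have hcom : ∀ s ∈ T, s ≠ 1 → ∀ x ∈ K, ∀ z ∈ K, x * (s * z * s⁻¹) = s * z * s⁻¹ * x := by
    intro s hs hs1 x hx z hz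
    have := h3.com 1 T.one_mem s hs hs1.symm x hx z hz
    simpa only [_root_.one_mul, _root_.inv_one, _root_.mul_one] using this
  have hperf : ⁅K, K⁆ = K := by
    have h1 := hK.1.commutator_eq_top
    have h2 : (commutator K).map K.subtype = K := by
      rw [h1, ← MonoidHom.range_eq_map, range_subtype]
    rw [commutator_def, map_commutator, ← MonoidHom.range_eq_map, range_subtype] at h2
    exact h2
  have d : TwoEnd.Dat K t y g r :=
    { t3 := ht3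
      comm := hcom t ht ht1
      qs := by
        intro L hLK hL
        have hn : (L.subgroupOf K).Normal := ⟨fun n hn z => hL z z.2 n hn⟩
        rcases Cub.normal_or hK (L.subgroupOf K) with h | h
        · left
          exact le_antisymm hLK fun x hx => h ⟨x, hx⟩
        · right
          intro l hl z hz
          exact h ⟨l, hLK hl⟩ hl z hz
      perf := hperf
      yK := hyK
      y2 := hyy
      gK := hgK
      inv := hyg
      pr := q3
      five := q4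
      gr := hgr
      g1 := hg1 }
  -- `a`, `b`
  have haA : TwoEnd.Dat.a t y ∈ A := by
    have h1 := h3.mem y hyP t ht _ htt'
    have e1 : TwoEnd.Dat.a t y = t * y * t⁻¹ * (t * t * y * (t * t)⁻¹) := by
      unfold TwoEnd.Dat.a; rw [htti, inv_inv]
    exact e1 ▸ h1
  have hba : TwoEnd.Dat.b t y = t * TwoEnd.Dat.a t y * t⁻¹ := by
    unfold TwoEnd.Dat.a TwoEnd.Dat.b
    have e2 : t * (t * y * t⁻¹) * t⁻¹ = t⁻¹ * y * t := by
      calc t * (t * y * t⁻¹) * t⁻¹ = (t * t) * y * (t * t)⁻¹ := by group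
        _ = t⁻¹ * y * t := by rw [htti, inv_inv]
    calc t⁻¹ * y * t * y = t * (t * y * t⁻¹) * t⁻¹ * y := by rw [e2]
      _ = t * (t * y * t⁻¹ * (t⁻¹ * y * t)) * t⁻¹ := by group
  have haK : ∀ k ∈ K, TwoEnd.Dat.a t y * k = k * TwoEnd.Dat.a t y := fun k hk => (d.comm_a hk).symm
  have hycen : ¬ ∀ k ∈ K, y * k = k * y := fun h => d.g_mul_ne (h g hgK).symm
  have hy1 : y ≠ 1 := by
    rintro rfl
    exact hycen fun k _ => by rw [one_mul, mul_one]
  have hbA : TwoEnd.Dat.b t y ∈ A := by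
    have := h3.mem y hyP _ htt' 1 T.one_mem
    have e1 : TwoEnd.Dat.b t y = t * t * y * (t * t)⁻¹ * (1 * y * 1⁻¹) := by
      unfold TwoEnd.Dat.b; rw [htti, inv_inv]; group
    exact e1 ▸ this
  have hne : ∃ a ∈ A, ∃ x ∈ K, a * x ≠ x * a := by
    push Not at hycen
    obtain ⟨x, hx, hyx⟩ := hycen
    refine ⟨TwoEnd.Dat.b t y, hbA, x, hx, fun h1 => hyx ?_⟩
    have h4 := d.comm' hx hyK
    have h5 : t⁻¹ * y * t * (y * x) = t⁻¹ * y * t * (x * y) := by
      calc t⁻¹ * y * t * (y * x) = TwoEnd.Dat.b t y * x := by unfold TwoEnd.Dat.b; group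
        _ = x * TwoEnd.Dat.b t y := h1
        _ = x * (t⁻¹ * y * t) * y := by unfold TwoEnd.Dat.b; group
        _ = t⁻¹ * y * t * (x * y) := by rw [h4]; group
    exact mul_left_cancel h5
  have ha1 : TwoEnd.Dat.a t y ≠ 1 := by
    intro h1
    rw [hba, h1, mul_one, mul_inv_cancel] at hbA
    -- `b = 1` centralises `K`
    have hb1 : TwoEnd.Dat.b t y = 1 := by rw [hba, h1, mul_one, mul_inv_cancel]
    apply hycen
    intro x hx
    have h4 := d.comm' hx hyK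
    unfold TwoEnd.Dat.b at hb1
    have h5 : y = (t⁻¹ * y * t)⁻¹ := eq_inv_of_mul_eq_one_right hb1
    have h6 : Commute x (t⁻¹ * y * t) := h4
    have h7 := h6.inv_right.eq
    rw [← h5] at h7
    exact h7.symm
  -- `K` acts nontrivially on `[M, a]`
  have hnt : ∃ m, ρ y (br (ρ (TwoEnd.Dat.a t y)) m) ≠ br (ρ (TwoEnd.Dat.a t y)) m := by
    by_contra hcon
    push Not at hcon
    exact hycen (c.central_of_cen hA hK hZ hAK hne haA ha1 haK hyK hcon)
  let _ := act ρ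
  have hD : ∀ (x : H) (m : Additive M), TwoEnd.D x m = Additive.ofMul (br (ρ x) m.toMul) := by
    intro x m
    change Additive.ofMul (ρ x m.toMul) - m = Additive.ofMul (ρ x m.toMul * m.toMul)
    have h1 : -m = m := by
      have := c.sq2 m.toMul
      have h2 : m + m = 0 := this
      exact neg_eq_of_add_eq_zero_left h2
    rw [sub_eq_add_neg, h1]
    rfl
  refine d.false_of (M := Additive M) (fun m => c.sq2 m.toMul) ?_ ?_
  · -- (N0)
    refine le_trans ?_ (he.trans_eq (by rw [h3.card]))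
    have h1 : ∀ v ∈ TwoEnd.cm (TwoEnd.cm (⊤ : AddSubgroup (Additive M)) (TwoEnd.Dat.a t y)) (TwoEnd.Dat.b t y),
        Additive.toMul v ∈ e := by
      rintro v ⟨w, ⟨m, -, rfl⟩, rfl⟩
      rw [hD, hD, hba]
      exact c.line0 _ haA t ht _
    refine Nat.card_le_card_of_injective (fun v => (⟨Additive.toMul v.1, h1 v.1 v.2⟩ : e)) ?_
    intro v w hvw
    exact Subtype.ext (congrArg (fun z : e => Additive.ofMul (z : M)) hvw)
  · obtain ⟨m, hm⟩ := hnt
    refine ⟨y, hyK, Additive.ofMul (br (ρ (TwoEnd.Dat.a t y)) m), ⟨Additive.ofMul m, AddSubgroup.mem_top _, ?_⟩, ?_⟩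
    · rw [hD]; rfl
    · exact fun h => hm h

end Cfsg.Agent.Omega.Lie.TwoMain

end

section


/-!
# (h1), SPLIT: the components of `H⁰` not centralised by `A`, abstract form, in `M' = M / rad = W i / Z(W i)`

`CubS`: the structure `LQ.Cub` without the field `nrm` (it may fail for `M'`), with the flag `e ≤ D`, `P = e^⊥`.

* `false_of_cen`: a component `K` with `[K, A] ≠ 1`, `A ⊓ K` one line, `C_A(K) ≠ 1`, cannot centralise `[M', a]` for all
  `a ∈ C_A(K)`;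
* `three_cen`: the same for the exceptional case `Three` of (T2);
* `false_of_pair`, `three_false`, `three_false_of_pair`, `torus_le`: the results of `LQThm.lean` and `TwoMain.lean` for `CubS`.
-/

set_option autoImplicit false

namespace Cfsg.Agent.Omega.Lie.LQS

open Subgroup Cfsg.Agent.Omega.Lie.CompT Cfsg.Agent.Omega.Lie.LQ Cfsg.Agent.Omega.Lie.InvFive

universe u v

variable {H : Type u} {M : Type v} [Group H] [CommGroup M]

theorem eq_br (sq2 : ∀ m : M, m * m = 1) (g : MulAut M) (m : M) : g m = br g m * m := by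
  rw [br_apply, mul_assoc, sq2, mul_one]

/-- `[m, g h] = [g⁻¹..]`: `br (g h) m = br g (h m) * br h m` -/
theorem br_mul (sq2 : ∀ m : M, m * m = 1) (g h : MulAut M) (m : M) : br (g * h) m = br g (h m) * br h m := by
  rw [br_apply, br_apply, br_apply, MulAut.mul_apply]
  calc g (h m) * m = g (h m) * (h m * h m) * m := by rw [sq2, mul_one]
    _ = g (h m) * h m * (h m * m) := by rw [← mul_assoc, mul_assoc (g (h m) * h m)]

theorem br_conj (g h : MulAut M) (m : M) : br (g * h * g⁻¹) m = g (br h (g⁻¹ m)) := by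
  rw [br_apply, br_apply, map_mul, MulAut.mul_apply, MulAut.mul_apply]
  congr 1
  rw [← MulAut.mul_apply, mul_inv_cancel, MulAut.one_apply]

/-- `K` perfect, trivial on `N₁ / N₂` and on `N₂`: trivial on `N₁` -/
theorem fix_of_perfect (ρ : H →* MulAut M) (sq2 : ∀ m : M, m * m = 1) {K : Subgroup H} (hK : commutator K = ⊤)
    {N₁ N₂ : Subgroup M} (h12 : N₂ ≤ N₁) (h1 : ∀ k ∈ K, ∀ x ∈ N₁, br (ρ k) x ∈ N₂)
    (h2 : ∀ k ∈ K, ∀ x ∈ N₂, ρ k x = x) : ∀ k ∈ K, ∀ x ∈ N₁, ρ k x = x := by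
  have hst : ∀ k ∈ K, ∀ x ∈ N₁, ρ k x ∈ N₁ := by
    intro k hk x hx
    rw [eq_br sq2]
    exact mul_mem (h12 (h1 k hk x hx)) hx
  have hcomm : ∀ k ∈ K, ∀ l ∈ K, ∀ x ∈ N₁, ρ k (ρ l x) = ρ l (ρ k x) := by
    intro k hk l hl x hx
    calc ρ k (ρ l x) = ρ k (br (ρ l) x * x) := by rw [← eq_br sq2]
      _ = br (ρ l) x * (br (ρ k) x * x) := by rw [map_mul, h2 k hk _ (h1 l hl x hx), ← eq_br sq2]
      _ = br (ρ k) x * (br (ρ l) x * x) := mul_left_comm _ _ _
      _ = ρ l (br (ρ k) x * x) := by rw [map_mul, h2 l hl _ (h1 k hk x hx), ← eq_br sq2]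
      _ = ρ l (ρ k x) := by rw [← eq_br sq2]
  let N : Subgroup K :=
    { carrier := {k | ∀ x ∈ N₁, ρ (k : H) x = x}
      one_mem' := fun x _ => by simp only [_root_.OneMemClass.coe_one, _root_.map_one, _root_.MulAut.one_apply]
      mul_mem' := by
        intro k l hk hl x hx
        rw [coe_mul, map_mul, MulAut.mul_apply, hl x hx, hk x hx]
      inv_mem' := by
        intro k hk x hx
        have h3 := hk x hx
        rw [coe_inv, map_inv]
        have h4 := congrArg (fun z => (ρ (k : H))⁻¹ z) h3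
        have h5 : (ρ (k : H))⁻¹ (ρ (k : H) x) = x := by
          rw [← MulAut.mul_apply, inv_mul_cancel, MulAut.one_apply]
        exact (h5.symm.trans h4).symm }
  have hN : commutator K ≤ N := by
    rw [commutator_def, commutator_le]
    intro k _ l _ x hx
    have e : ((k * l * k⁻¹ * l⁻¹ : K) : H) = k * l * (k : H)⁻¹ * (l : H)⁻¹ := by
      rw [coe_mul, coe_mul, coe_mul, coe_inv, coe_inv]
    change ρ ((k * l * k⁻¹ * l⁻¹ : K) : H) x = x
    rw [e]
    have hy := hst _ (K.inv_mem l.2) x hx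
    have hz := hst _ (K.inv_mem k.2) _ hy
    have h3 := hcomm k k.2 l l.2 _ hz
    rw [map_mul, map_mul, map_mul, MulAut.mul_apply, MulAut.mul_apply, MulAut.mul_apply, h3]
    have h4 : ∀ (g : H) (z : M), ρ g (ρ g⁻¹ z) = z := by
      intro g z
      rw [← MulAut.mul_apply, ← map_mul, mul_inv_cancel, map_one, MulAut.one_apply]
    rw [h4, h4]
  intro k hk x hx
  have h3 : (⟨k, hk⟩ : K) ∈ N := hN (by rw [hK]; exact mem_top _)
  exact h3 x hx

/-- the fixed points of `K` -/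
def fixed (ρ : H →* MulAut M) (K : Subgroup H) : Subgroup M where
  carrier := {x | ∀ k ∈ K, ρ k x = x}
  one_mem' := fun k _ => map_one _
  mul_mem' := fun {x y} hx hy k hk => by rw [map_mul, hx k hk, hy k hk]
  inv_mem' := fun {x} hx k hk => by rw [map_inv, hx k hk]

/-- a perfect group acting unipotently is trivial -/
theorem triv_of_unip (ρ : H →* MulAut M) (sq2 : ∀ m : M, m * m = 1) {K : Subgroup H} (hK : commutator K = ⊤)
    (h : ∀ k₁ ∈ K, ∀ k₂ ∈ K, ∀ k₃ ∈ K, ∀ m, br (ρ k₃) (br (ρ k₂) (br (ρ k₁) m)) = 1) :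
    ∀ k ∈ K, ∀ m, ρ k m = m := by
  let N₁ : Subgroup M :=
    { carrier := {x | ∀ k ∈ K, br (ρ k) x ∈ fixed ρ K}
      one_mem' := fun k _ => by rw [map_one]; exact one_mem _
      mul_mem' := fun {x y} hx hy k hk => by rw [map_mul]; exact mul_mem (hx k hk) (hy k hk)
      inv_mem' := fun {x} hx k hk => by rw [map_inv]; exact inv_mem (hx k hk) }
  have h12 : fixed ρ K ≤ N₁ := by
    intro x hx k hk
    rw [(br_eq_one sq2).2 (hx k hk)]
    exact one_mem _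
  have h1 := fix_of_perfect ρ sq2 hK h12 (fun k hk x hx => hx k hk) (fun k hk x hx => hx k hk)
  have h2 : ∀ k ∈ K, ∀ m, br (ρ k) m ∈ fixed ρ K := by
    intro k hk m l hl
    refine h1 l hl _ ?_
    intro k₂ hk₂ k₃ hk₃
    exact (br_eq_one sq2).1 (h k hk k₂ hk₂ k₃ hk₃ m)
  intro k hk m
  exact fix_of_perfect ρ sq2 hK (N₁ := ⊤) le_top (fun k hk x _ => h2 k hk x) (fun k hk x hx => hx k hk) k hk m
    (mem_top m)

/-- an element of `K` centralising `[M, a]` is central, if `K` does not centralise `[M, a]` -/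
theorem central_of_cen {ρ : H →* MulAut M} {K : Subgroup H} (hK : Cfsg.IsQuasisimple K) {a : H}
    (haK : ∀ k ∈ K, a * k = k * a) (hn : ¬ ∀ k ∈ K, ∀ m, ρ k (br (ρ a) m) = br (ρ a) m) {x : H} (hx : x ∈ K)
    (h : ∀ m, ρ x (br (ρ a) m) = br (ρ a) m) : ∀ y ∈ K, x * y = y * x := by
  have := Cub.cenBr_normal ρ haK
  rcases Cub.normal_or hK (Cub.cenBr ρ a K) with h2 | h2
  · exact absurd (fun k hk m => h2 ⟨k, hk⟩ m) hn
  · exact h2 ⟨x, hx⟩ h

/-- The cubic module `M' = W i / Z(W i)` for `H = N(R i) / Q i`, `L = H⁰`, `A = U j Q i / Q i`, `T` the torus,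
`e = V Z / Z`, `D = D Z / Z`, `P = U i / Z = e^⊥`. -/
structure CubS (ρ : H →* MulAut M) (L A T : Subgroup H) (e D P : Subgroup M) : Prop where
  sq2 : ∀ m : M, m * m = 1
  Ae : ∀ a ∈ A, ∀ m ∈ e, ρ a m = m
  line0 : ∀ a ∈ A, ∀ t ∈ T, ∀ m, br (ρ (t * a * t⁻¹)) (br (ρ a) m) ∈ e
  line1 : ∀ a ∈ A, ∀ b ∈ A, ∀ t ∈ T, ∀ m,
    ρ (t * b * t⁻¹) (br (ρ b) (br (ρ a) m)) = br (ρ b) (br (ρ a) m)
  full : ∀ a ∈ A, ∀ b ∈ A, (∃ m, br (ρ b) (br (ρ a) m) ≠ 1) → ∀ y ∈ e, ∃ m, y = br (ρ b) (br (ρ a) m)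
  same : ∀ a ∈ A, ∀ b ∈ A, ∀ t ∈ T, (∃ m, br (ρ b) (br (ρ a) m) ≠ 1) →
    (∃ m, br (ρ (t * b * t⁻¹)) (br (ρ a) m) ≠ 1) →
    ∀ m, ∃ m', br (ρ b) (br (ρ a) m) = br (ρ (t * b * t⁻¹)) (br (ρ a) m')
  /-- `e ≤ [M', a]` -/
  sub : ∀ a ∈ A, a ≠ 1 → ∀ x ∈ e, ∃ m, x = br (ρ a) m
  faith : ∀ a ∈ A, (∀ m, ρ a m = m) → a = 1
  brP : ∀ h ∈ L, (∀ x ∈ e, ρ h x = x) → ∀ m, br (ρ h) m ∈ P
  bre : ∀ h ∈ L, (∀ x ∈ P, ρ h x = x) → ∀ m, br (ρ h) m ∈ e
  eP : e ≤ P
  PD : ∀ a ∈ A, ∀ x ∈ P, br (ρ a) x ∈ D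
  De : ∀ a ∈ A, ∀ x ∈ D, br (ρ a) x ∈ e
  Te : ∀ t ∈ T, ∀ x ∈ D, br (ρ t) x ∈ e
  gen : ∀ m, m ∉ P → ∀ x ∈ P, ∃ a ∈ A, ∃ d ∈ D, x = br (ρ a) m * d
  exP : ∃ m, m ∉ P
  card : (∃ a ∈ A, ∀ b ∈ A, b ≠ 1 → ∃ t ∈ T, b = t * a * t⁻¹) → Nat.card M ≤ (Nat.card T + 1) ^ 4

namespace CubS

variable {ρ : H →* MulAut M} {L A T : Subgroup H} {e D P : Subgroup M}

/-- **THEOREM LQ** in `H`. -/
theorem lq (c : CubS ρ L A T e D P) {a b b' x : H} (ha : a ∈ A) (hb : b ∈ A) (hb' : b' ∈ A) (hx : Odd (orderOf x))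
    (xa : x * a = a * x) (bx : b * x = x⁻¹ * b) (xb' : x * b' = b' * x)
    (hor : (∃ t ∈ T, b' = t * b * t⁻¹) ∨ ∃ t ∈ T, b = t * a * t⁻¹)
    (hne : ∃ m, br (ρ b') (br (ρ a) m) ≠ 1) (m : M) : ρ x (br (ρ a) m) = br (ρ a) m := by
  refine LQ.lq c.sq2 (b := ρ b) (b' := ρ b') (hx.of_dvd_nat (orderOf_map_dvd ρ x)) (Cub.rho_comm ρ xa)
    (Cub.rho_comm ρ xb') ?_ ?_ ?_ m
  · rw [← map_inv, ← map_mul, ← map_mul, bx]
  · rcases hor with ⟨t, ht, rfl⟩ | ⟨t, ht, rfl⟩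
    · exact c.line1 a ha b hb t ht
    · intro m
      exact c.Ae b' hb' _ (c.line0 a ha t ht m)
  · rcases hor with ⟨t, ht, rfl⟩ | ⟨t, ht, rfl⟩
    · intro m
      by_cases h : ∃ m, br (ρ b) (br (ρ a) m) ≠ 1
      · exact c.same a ha b hb t ht h hne m
      · push Not at h
        exact ⟨1, by rw [h, map_one, map_one]⟩
    · intro m
      exact c.full a ha b' hb' hne _ (c.line0 a ha t ht m)

/-- **the replacement of `nrm`**: `K` does not centralise all `[M', a]`, `a ∈ C_A(K)`, if `C_A(K) ≠ 1` -/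
theorem false_of_cen (c : CubS ρ L A T e D P) (hA : ∀ a ∈ A, a * a = 1) {K B : Subgroup H}
    (hK : Cfsg.IsQuasisimple K) (hKL : K ≤ L) (hZ : ∀ z ∈ K, (∀ y ∈ K, z * y = y * z) → z * z = 1 → z = 1)
    (hBA : B ≤ A) (hBK : B ≤ K) {b0 : H} (hb0 : b0 ∈ B) (hb01 : b0 ≠ 1)
    (hdec : ∀ a ∈ A, ∃ b ∈ B, ∃ c ∈ A, (∀ x ∈ K, c * x = x * c) ∧ a = b * c)
    (hline : ∀ b ∈ B, ∀ b' ∈ B, ∀ m, br (ρ b) (br (ρ b') m) ∈ e)
    (hcen : ∀ a ∈ A, (∀ k ∈ K, a * k = k * a) → ∀ k ∈ K, ∀ m, ρ k (br (ρ a) m) = br (ρ a) m)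
    (hex : ∃ a ∈ A, a ≠ 1 ∧ ∀ k ∈ K, a * k = k * a) : False := by
  obtain ⟨a, ha, ha1, haK⟩ := hex
  have hperf : commutator K = ⊤ := hK.1.commutator_eq_top
  -- `K` centralises `e`
  have hKe : ∀ k ∈ K, ∀ x ∈ e, ρ k x = x := by
    intro k hk x hx
    obtain ⟨m, rfl⟩ := c.sub a ha ha1 x hx
    exact hcen a ha haK k hk m
  have hKP : ∀ k ∈ K, ∀ m, br (ρ k) m ∈ P := fun k hk => c.brP k (hKL hk) (hKe k hk)
  have hst : ∀ k ∈ K, ∀ x ∈ P, ρ k x ∈ P := by
    intro k hk x hx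
    rw [eq_br c.sq2]
    exact mul_mem (hKP k hk x) hx
  -- `[P, B] ≤ e`
  have hPB : ∀ b ∈ B, ∀ y ∈ P, br (ρ b) y ∈ e := by
    intro b hb y hy
    obtain ⟨m, hm⟩ := c.exP
    obtain ⟨a', ha', d, hd, rfl⟩ := c.gen m hm y hy
    obtain ⟨b', hb', c', hc', hcK, rfl⟩ := hdec a' ha'
    have h1 : br (ρ b) (br (ρ c') m) = 1 := (br_eq_one c.sq2).2 (hcen c' hc' hcK b (hBK hb) m)
    rw [map_mul (br (ρ b)), map_mul ρ, br_mul c.sq2, map_mul (br (ρ b)), h1, mul_one]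
    exact mul_mem (hline b hb b' hb' _) (c.De b (hBA hb) d hd)
  -- the normal subgroup `{k : [P, k] ≤ e}` of `K`
  let N : Subgroup K :=
    { carrier := {k | ∀ y ∈ P, br (ρ (k : H)) y ∈ e}
      one_mem' := fun y _ => by
        rw [coe_one, map_one, br_apply, MulAut.one_apply, c.sq2]
        exact one_mem _
      mul_mem' := by
        intro k l hk hl y hy
        rw [coe_mul, map_mul, br_mul c.sq2]
        exact mul_mem (hk _ (hst l l.2 y hy)) (hl y hy)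
      inv_mem' := by
        intro k hk y hy
        have h1 := hk _ (hst _ (K.inv_mem k.2) y hy)
        rw [coe_inv]
        have h2 : br (ρ (k : H)) (ρ (k : H)⁻¹ y) = br (ρ (k : H)⁻¹) y := by
          rw [br_apply, br_apply, ← MulAut.mul_apply, ← map_mul, mul_inv_cancel, map_one, MulAut.one_apply, mul_comm]
        rw [← h2]
        exact h1 }
  have hNn : N.Normal := by
    refine ⟨fun k hk g y hy => ?_⟩
    rw [coe_mul, coe_mul, coe_inv, map_mul, map_mul, map_inv, br_conj]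
    have h1 : (ρ (g : H))⁻¹ y ∈ P := by
      rw [← map_inv]
      exact hst _ (K.inv_mem g.2) y hy
    have h2 := hk _ h1
    rw [hKe _ g.2 _ h2]
    exact h2
  have hN : ∀ k ∈ K, ∀ y ∈ P, br (ρ k) y ∈ e := by
    rcases Cub.normal_or hK N with h | h
    · exact fun k hk => h ⟨k, hk⟩
    · exfalso
      exact hb01 (hZ b0 (hBK hb0) (h ⟨b0, hBK hb0⟩ (fun y hy => hPB b0 hb0 y hy)) (hA b0 (hBA hb0)))
  have hP := fix_of_perfect ρ c.sq2 hperf c.eP hN hKe
  have hM := fix_of_perfect ρ c.sq2 hperf (N₁ := ⊤) (N₂ := e) le_top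
    (fun k hk x _ => c.bre k (hKL hk) (hP k hk) x) hKe
  exact hb01 (c.faith b0 (hBA hb0) fun m => hM b0 (hBK hb0) m (mem_top m))

/-- **(alpha)**: `b`, `b' = b^t` distinct involutions of `A ⊓ K`: `K` centralises `[M', a]`, `a ∈ C_A(K)` -/
theorem alpha (c : CubS ρ L A T e D P) (hA : ∀ a ∈ A, a * a = 1) {K : Subgroup H}
    (hK : Cfsg.IsQuasisimple K) (hZ : ∀ z ∈ K, (∀ y ∈ K, z * y = y * z) → z * z = 1 → z = 1)
    (hp : Pair K) {b t : H} (hb : b ∈ A) (hbK : b ∈ K) (hb1 : b ≠ 1) (ht : t ∈ T) (hb' : t * b * t⁻¹ ∈ A)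
    (hbK' : t * b * t⁻¹ ∈ K) (hbb : t * b * t⁻¹ ≠ b)
    {a : H} (ha : a ∈ A) (haK : ∀ k ∈ K, a * k = k * a) : ∀ k ∈ K, ∀ m, ρ k (br (ρ a) m) = br (ρ a) m := by
  by_contra hn
  have hcomm : b * (t * b * t⁻¹) = t * b * t⁻¹ * b := by
    have i1 : b⁻¹ = b := inv_eq_of_mul_eq_one_left (hA b hb)
    have i2 : (t * b * t⁻¹)⁻¹ = t * b * t⁻¹ := inv_eq_of_mul_eq_one_left (hA _ hb')
    have i3 : (b * (t * b * t⁻¹))⁻¹ = b * (t * b * t⁻¹) := inv_eq_of_mul_eq_one_left (hA _ (A.mul_mem hb hb'))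
    rw [_root_.mul_inv_rev, i1, i2] at i3
    exact i3.symm
  have hb1' : t * b * t⁻¹ ≠ 1 := fun h => hb1 (conj_eq_one_iff.1 h)
  obtain ⟨x, hx1, hxo, hbx, hxb⟩ := hp ⟨b, hbK⟩ ⟨_, hbK'⟩ (fun h => hb1 (congrArg Subtype.val h))
    (fun h => hb1' (congrArg Subtype.val h)) (fun h => hbb (congrArg Subtype.val h).symm)
    (Subtype.ext (hA b hb)) (Subtype.ext (hA _ hb')) (Subtype.ext hcomm)
  have hxo' : Odd (orderOf (x : H)) := by rwa [Subgroup.orderOf_coe]
  have hbx' : b * (x : H) = (x : H)⁻¹ * b := congrArg Subtype.val hbx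
  have hxb' : (x : H) * (t * b * t⁻¹) = t * b * t⁻¹ * x := congrArg Subtype.val hxb
  have hnt : ∃ m, br (ρ (t * b * t⁻¹)) (br (ρ a) m) ≠ 1 := by
    by_contra hcon
    push Not at hcon
    have h1 := central_of_cen hK haK hn hbK' (fun m => (br_eq_one c.sq2).1 (hcon m))
    exact hb1' (hZ _ hbK' h1 (hA _ hb'))
  have h1 := c.lq ha hb hb' hxo' (haK x x.2).symm hbx' hxb' (Or.inl ⟨t, ht, rfl⟩) hnt
  have h2 := central_of_cen hK haK hn x.2 h1
  exact hx1 (Subtype.ext (Cub.eq_one_of_inv hbK hxo' hbx' h2))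

/-- **THEOREM of TEXT LIE-2** for `CubS` -/
theorem false_of_pair [Finite H] [Finite M] (c : CubS ρ L A T e D P) (sc : Scal A T) (hT : 3 ≤ Nat.card T)
    {S K : Subgroup H} (h : CompB.Hyp S A T K) (hK : Cfsg.IsQuasisimple K) (hKL : K ≤ L)
    (hne : ∃ a ∈ A, ∃ x ∈ K, a * x ≠ x * a) {j : ℕ} (hj : j ≤ 3) (hS : Nat.card (S ⊓ K : Subgroup H) ≤ 2 ^ j)
    (hp : Pair K) (ho : NoAct.{u, v} K (4 * j)) : False := by
  have hA : ∀ a ∈ A, a * a = 1 := h.A2
  have hZ : ∀ z ∈ K, (∀ y ∈ K, z * y = y * z) → z * z = 1 → z = 1 :=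
    fun z hz hc h2 => eq_one_of_sq_odd (h.zodd z hz hc) h2
  set B := A ⊓ K with hB
  have hBS : B ≤ S ⊓ K := inf_le_inf_right _ h.AS
  have hBc : Nat.card B ≤ 2 ^ j := (Subgroup.card_le_of_le hBS).trans hS
  have hB8 : Nat.card B ≤ 8 := hBc.trans (by
    calc 2 ^ j ≤ 2 ^ 3 := Nat.pow_le_pow_right (by norm_num) hj
      _ = 8 := by norm_num)
  have hTB : ∀ t ∈ T, ∀ b ∈ B, t * b * t⁻¹ ∈ B := fun t ht b hb => ⟨h.TA t ht b hb.1, h.TK t ht b hb.2⟩
  have hBne := h.inf_ne_bot hne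
  obtain ⟨b, hb, hb1⟩ : ∃ b ∈ B, b ≠ 1 := by
    by_contra hcon
    push Not at hcon
    exact hBne ((Subgroup.eq_bot_iff_forall B).2 hcon)
  obtain ⟨hcB, hline⟩ := Cub.one_line sc hT inf_le_left hTB hB8 hb hb1
  by_cases hC : ∃ a ∈ A, a ≠ 1 ∧ ∀ k ∈ K, a * k = k * a
  · -- (alpha)
    have hnt : ∃ t ∈ T, t ≠ 1 := by
      by_contra hcon
      push Not at hcon
      have : Nat.card T = 1 := by
        rw [Subgroup.card_eq_one, eq_bot_iff]
        exact fun t ht => mem_bot.2 (hcon t ht)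
      omega
    obtain ⟨t, ht, ht1⟩ := hnt
    refine c.false_of_cen hA hK hKL hZ (B := B) inf_le_left inf_le_right hb hb1 (fun a ha => h.decomp ha) ?_ ?_ hC
    · -- one line
      intro b₁ hb₁ b₂ hb₂ m
      by_cases h1 : b₁ = 1
      · rw [h1, map_one, br_apply, MulAut.one_apply, c.sq2]; exact one_mem _
      by_cases h2 : b₂ = 1
      · have h3 : br (ρ b₂) m = 1 := by rw [h2, map_one, br_apply, MulAut.one_apply, c.sq2]
        rw [h3, map_one]; exact one_mem _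
      obtain ⟨t₁, ht₁, e₁⟩ := hline b₁ hb₁ h1
      obtain ⟨t₂, ht₂, e₂⟩ := hline b₂ hb₂ h2
      have h3 : b₁ = (t₁ * t₂⁻¹) * b₂ * (t₁ * t₂⁻¹)⁻¹ := by rw [e₁, e₂]; group
      rw [h3]
      exact c.line0 b₂ hb₂.1 _ (T.mul_mem ht₁ (T.inv_mem ht₂)) m
    · intro a ha haK
      exact c.alpha hA hK hZ hp hb.1 hb.2 hb1 ht (hTB t ht b hb).1 (hTB t ht b hb).2
        (fun h' => ht1 (sc.reg b hb.1 hb1 t ht h')) ha haK
  · -- (beta)
    push Not at hC
    have hAB : Nat.card A = Nat.card B := by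
      rw [h.card_eq]
      have : A ⊓ centralizer (K : Set H) = ⊥ := by
        rw [eq_bot_iff]
        intro a ha
        rw [mem_bot]
        by_contra ha1
        obtain ⟨k, hk, hak⟩ := hC a ha.1 ha1
        exact hak (mem_centralizer_iff.1 ha.2 k hk).symm
      rw [this, card_bot, mul_one]
    have hBA : B = A := Subgroup.eq_of_le_of_card_ge inf_le_left hAB.le
    have hcM := c.card ⟨b, hb.1, fun b' hb' hb1' => hline b' (hBA.symm.le hb') hb1'⟩
    rw [← hcB] at hcM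
    refine hb1 (c.faith b hb.1 fun m => ?_)
    refine ho M c.sq2 (hcM.trans ?_) (ρ.comp K.subtype) ⟨b, hb.2⟩ m
    calc Nat.card B ^ 4 ≤ (2 ^ j) ^ 4 := Nat.pow_le_pow_left hBc _
      _ = 2 ^ (4 * j) := by rw [← pow_mul, mul_comm]

/-- **(T2), the new case**: `K` centralises `[M', y₂ y₃]` -/
theorem three_cen (c : CubS ρ L A T e D P) {K Q : Subgroup H} (hK : Cfsg.IsQuasisimple K) (hKL : K ≤ L)
    (hZ : ∀ z ∈ K, (∀ y ∈ K, z * y = y * z) → z * z = 1 → z = 1) (h3 : Three A T K Q) {t : H} (ht : t ∈ T)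
    (ht1 : t ≠ 1) (htt1 : t * t ≠ 1) (htt : t * t ≠ t) {y : H} (hy : y ∈ Q) (hyK : y ∈ K) (hy1 : y ≠ 1)
    (hcen : ∀ k ∈ K, ∀ m, ρ k (br (ρ (t * y * t⁻¹ * (t * t * y * (t * t)⁻¹))) m) =
      br (ρ (t * y * t⁻¹ * (t * t * y * (t * t)⁻¹))) m) : False := by
  have hperf : commutator K = ⊤ := hK.1.commutator_eq_top
  have htt' : t * t ∈ T := T.mul_mem ht ht
  obtain ⟨y2, hy2⟩ : ∃ w, w = t * y * t⁻¹ := ⟨_, rfl⟩
  obtain ⟨y3, hy3⟩ : ∃ w, w = t * t * y * (t * t)⁻¹ := ⟨_, rfl⟩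
  rw [← hy2, ← hy3] at hcen
  have haA : y2 * y3 ∈ A := by
    rw [hy2, hy3]
    exact h3.mem y hy t ht _ htt'
  -- the conjugates by `t` commute with `K`
  have hcom : ∀ s ∈ T, s ≠ 1 → ∀ z ∈ K, ∀ k ∈ K, s * z * s⁻¹ * k = k * (s * z * s⁻¹) := by
    intro s hs hs1 z hz k hk
    have := h3.com s hs 1 T.one_mem hs1 z hz k hk
    simpa only [_root_.one_mul, _root_.inv_one, _root_.mul_one] using this
  -- `y3` commutes with `t K t⁻¹`
  have hy3t : ∀ k ∈ K, y3 * (t * k * t⁻¹) = t * k * t⁻¹ * y3 := by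
    intro k hk
    rw [hy3]
    exact h3.com _ htt' t ht htt y hyK k hk
  have hycen : ¬ ∀ k ∈ K, y * k = k * y := fun h => hy1 (hZ y hyK h (h3.sq y hy))
  have ha1 : y2 * y3 ≠ 1 := by
    intro h1
    apply hycen
    intro k hk
    have e1 : y2 = y3⁻¹ := eq_inv_of_mul_eq_one_left h1
    have e3 : Commute y3 (t * k * t⁻¹) := hy3t k hk
    have e4 := e3.inv_left
    rw [← e1, hy2] at e4
    have e5 : t * y * t⁻¹ * (t * k * t⁻¹) = t * k * t⁻¹ * (t * y * t⁻¹) := e4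
    calc y * k = t⁻¹ * (t * y * t⁻¹ * (t * k * t⁻¹)) * t := by group
      _ = t⁻¹ * (t * k * t⁻¹ * (t * y * t⁻¹)) * t := by rw [e5]
      _ = k * y := by group
  -- `K` centralises `e`
  have hKe : ∀ k ∈ K, ∀ x ∈ e, ρ k x = x := by
    intro k hk x hx
    obtain ⟨m, rfl⟩ := c.sub _ haA ha1 x hx
    exact hcen k hk m
  have hKP : ∀ k ∈ K, ∀ m, br (ρ k) m ∈ P := fun k hk => c.brP k (hKL hk) (hKe k hk)
  -- `a = y2 y3` commutes with `K` and centralises `[M, K]`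
  have haK : ∀ k ∈ K, y2 * y3 * k = k * (y2 * y3) := by
    intro k hk
    have h1 := hcom t ht ht1 y hyK k hk
    have h2 := hcom _ htt' htt1 y hyK k hk
    rw [← hy2] at h1
    rw [← hy3] at h2
    rw [mul_assoc, h2, ← mul_assoc, h1, mul_assoc]
  have haN : ∀ k ∈ K, ∀ m, ρ (y2 * y3) (br (ρ k) m) = br (ρ k) m := by
    intro k hk m
    rw [← br_eq_one c.sq2, br_comm (Cub.rho_comm ρ (haK k hk)), br_eq_one c.sq2]
    exact hcen k hk m
  -- `t K t⁻¹` centralises `[M, K]`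
  have conj_br : ∀ g : H, ∀ k ∈ K, (∀ k ∈ K, g * k = k * g) → ∀ m,
      ρ g (br (ρ k) m) = br (ρ k) (ρ g m) := fun g k hk hg m => apply_br (Cub.rho_comm ρ (hg k hk)) m
  let N : Subgroup K :=
    { carrier := {z | ∀ k ∈ K, ∀ m, ρ (t * z * t⁻¹) (br (ρ k) m) = br (ρ k) m}
      one_mem' := fun k _ m => by
        rw [coe_one, mul_one, mul_inv_cancel, map_one, MulAut.one_apply]
      mul_mem' := by
        intro z w hz hw k hk m
        have e : t * ((z * w : K) : H) * t⁻¹ = (t * z * t⁻¹) * (t * w * t⁻¹) := by rw [coe_mul]; group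
        rw [e, map_mul, MulAut.mul_apply, hw k hk, hz k hk]
      inv_mem' := by
        intro z hz k hk m
        have e : t * ((z⁻¹ : K) : H) * t⁻¹ = (t * z * t⁻¹)⁻¹ := by rw [coe_inv]; group
        have h1 : ρ (t * (z : H) * t⁻¹)⁻¹ (ρ (t * z * t⁻¹) (br (ρ k) m)) = br (ρ k) m := by
          rw [← MulAut.mul_apply, ← map_mul, inv_mul_cancel, map_one, MulAut.one_apply]
        rw [e]
        rw [hz k hk m] at h1
        exact h1 }
  have hNn : N.Normal := by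
    refine ⟨fun z hz g k hk m => ?_⟩
    have e : t * ((g * z * g⁻¹ : K) : H) * t⁻¹ = (t * g * t⁻¹) * (t * z * t⁻¹) * (t * (g : H)⁻¹ * t⁻¹) := by
      rw [coe_mul, coe_mul, coe_inv]; group
    have hg : ∀ k ∈ K, t * (g : H) * t⁻¹ * k = k * (t * g * t⁻¹) := hcom t ht ht1 g g.2
    have hg' : ∀ k ∈ K, t * (g : H)⁻¹ * t⁻¹ * k = k * (t * (g : H)⁻¹ * t⁻¹) := hcom t ht ht1 _ (K.inv_mem g.2)
    rw [e, map_mul, map_mul, MulAut.mul_apply, MulAut.mul_apply, conj_br _ k hk hg', hz k hk, ← conj_br _ k hk hg',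
      ← MulAut.mul_apply, ← map_mul]
    have e2 : t * (g : H) * t⁻¹ * (t * (g : H)⁻¹ * t⁻¹) = 1 := by group
    rw [e2, map_one, MulAut.one_apply]
  have hN : ∀ z ∈ K, ∀ k ∈ K, ∀ m, ρ (t * z * t⁻¹) (br (ρ k) m) = br (ρ k) m := by
    rcases Cub.normal_or hK N with h | h
    · exact fun z hz => h ⟨z, hz⟩
    · exfalso
      apply hycen
      refine Cub.comm_of_central hK fun g hg => ?_
      have hin : y * g * y⁻¹ * g⁻¹ ∈ K := K.mul_mem (K.mul_mem (K.mul_mem hyK hg) (K.inv_mem hyK)) (K.inv_mem hg)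
      refine ⟨hin, h ⟨_, hin⟩ fun k hk m => ?_⟩
      have hg3 := hy3t _ hg
      have e1 : t * (y * g * y⁻¹ * g⁻¹) * t⁻¹ = (y2 * y3) * ((t * g * t⁻¹) * (y2 * y3)⁻¹ * (t * g⁻¹ * t⁻¹)) := by
        have h4 : Commute y3 (t * g * t⁻¹) := hg3
        have h5 := h4.inv_right
        have e5 : (t * g * t⁻¹)⁻¹ = t * g⁻¹ * t⁻¹ := by group
        rw [e5] at h5
        have h6 : y3 * (t * g * t⁻¹) * y3⁻¹ = t * g * t⁻¹ := by rw [h4.eq]; group
        calc t * (y * g * y⁻¹ * g⁻¹) * t⁻¹ = y2 * (t * g * t⁻¹) * y2⁻¹ * (t * g⁻¹ * t⁻¹) := by rw [hy2]; group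
          _ = y2 * (y3 * (t * g * t⁻¹) * y3⁻¹) * y2⁻¹ * (t * g⁻¹ * t⁻¹) := by rw [h6]
          _ = _ := by group
      have hg1 : ∀ k ∈ K, t * g * t⁻¹ * k = k * (t * g * t⁻¹) := hcom t ht ht1 g hg
      have hg2 : ∀ k ∈ K, t * g⁻¹ * t⁻¹ * k = k * (t * g⁻¹ * t⁻¹) := hcom t ht ht1 _ (K.inv_mem hg)
      have hai : ∀ m, ρ (y2 * y3)⁻¹ (br (ρ k) m) = br (ρ k) m := by
        intro m
        have h1 : ρ (y2 * y3)⁻¹ (ρ (y2 * y3) (br (ρ k) m)) = br (ρ k) m := by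
          rw [← MulAut.mul_apply, ← map_mul, inv_mul_cancel, map_one, MulAut.one_apply]
        rwa [haN k hk] at h1
      change ρ (t * (y * g * y⁻¹ * g⁻¹) * t⁻¹) (br (ρ k) m) = br (ρ k) m
      rw [e1, map_mul ρ (y2 * y3), map_mul ρ (t * g * t⁻¹ * (y2 * y3)⁻¹), map_mul ρ (t * g * t⁻¹),
        MulAut.mul_apply, MulAut.mul_apply, MulAut.mul_apply, conj_br _ k hk hg2, hai, ← conj_br _ k hk hg2]
      have e2 : ρ (t * g * t⁻¹) (ρ (t * g⁻¹ * t⁻¹) (br (ρ k) m)) = br (ρ k) m := by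
        have e3 : t * g * t⁻¹ * (t * g⁻¹ * t⁻¹) = 1 := by group
        rw [← MulAut.mul_apply, ← map_mul, e3, map_one, MulAut.one_apply]
      rw [e2, haN k hk]
  -- `K` centralises `[M, t K t⁻¹]`
  have hN' : ∀ z ∈ K, ∀ k ∈ K, ∀ m, ρ k (br (ρ (t * z * t⁻¹)) m) = br (ρ (t * z * t⁻¹)) m := by
    intro z hz k hk m
    rw [← br_eq_one c.sq2, br_comm (Cub.rho_comm ρ (hcom t ht ht1 z hz k hk).symm), br_eq_one c.sq2]
    exact hN z hz k hk m
  -- `[M, K, y]` is in `D`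
  have hyA : y * y2 ∈ A := by
    have := h3.mem y hy 1 T.one_mem t ht
    rw [hy2]
    simpa using this
  have hD : ∀ k ∈ K, ∀ m, br (ρ y) (br (ρ k) m) ∈ D := by
    intro k hk m
    have h1 := c.PD _ hyA _ (hKP k hk m)
    have h2 : ρ (y * y2) (br (ρ k) m) = ρ y (br (ρ k) m) := by
      rw [map_mul, MulAut.mul_apply, hy2, hN y hyK k hk m]
    rw [br_apply, h2, ← br_apply] at h1
    exact h1
  -- `[M, K, y]` is centralised by `K`
  have hKy : ∀ k ∈ K, ∀ m, ∀ l ∈ K, ρ l (br (ρ y) (br (ρ k) m)) = br (ρ y) (br (ρ k) m) := by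
    intro k hk m l hl
    set d := br (ρ y) (br (ρ k) m) with hd
    have hdD : d ∈ D := hD k hk m
    have h1 := hKe l hl _ (c.Te t ht d hdD)
    have h2 : ρ t d = br (ρ y2) (br (ρ (t * k * t⁻¹)) (ρ t m)) := by
      rw [hd, hy2, map_mul, map_mul, map_mul, map_mul, map_inv, br_conj, br_conj]
      congr 2
      rw [← MulAut.mul_apply, inv_mul_cancel, MulAut.one_apply, ← MulAut.mul_apply, inv_mul_cancel, MulAut.one_apply]
    have h3 : ρ l (ρ t d) = ρ t d := by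
      rw [h2, hy2]
      exact hN' y hyK l hl _
    have h4 : d = (br (ρ t) d)⁻¹ * ρ t d := by
      rw [eq_inv_mul_iff_mul_eq, ← eq_br c.sq2]
    rw [h4, map_mul, map_inv, ← h4, h1, h3, ← h4]
  -- the normal subgroup
  have hKK : ∀ g ∈ K, ∀ k ∈ K, ∀ m, ρ g (br (ρ k) m) = br (ρ (g * k * g⁻¹)) (ρ g m) := by
    intro g _ k _ m
    have h : (ρ g)⁻¹ (ρ g m) = m := by rw [← MulAut.mul_apply, inv_mul_cancel, MulAut.one_apply]
    rw [map_mul ρ (g * k), map_mul ρ g, map_inv, br_conj, h]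
  let N2 : Subgroup K :=
    { carrier := {z | ∀ k ∈ K, ∀ m, br (ρ (z : H)) (br (ρ k) m) ∈ fixed ρ K}
      one_mem' := fun k _ m => by
        rw [coe_one, map_one, br_apply, MulAut.one_apply, c.sq2]
        exact one_mem _
      mul_mem' := by
        intro z w hz hw k hk m
        rw [coe_mul, map_mul, br_mul c.sq2, hKK w w.2 k hk]
        exact mul_mem (hz _ (K.mul_mem (K.mul_mem w.2 hk) (K.inv_mem w.2)) _) (hw k hk m)
      inv_mem' := by
        intro z hz k hk m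
        have h2 : ∀ x : M, br (ρ (z : H)) (ρ (z : H)⁻¹ x) = br (ρ (z : H)⁻¹) x := by
          intro x
          rw [br_apply, br_apply, ← MulAut.mul_apply, ← map_mul, mul_inv_cancel, map_one, MulAut.one_apply, mul_comm]
        rw [coe_inv, ← h2, hKK _ (K.inv_mem z.2) k hk]
        exact hz _ (K.mul_mem (K.mul_mem (K.inv_mem z.2) hk) (K.inv_mem (K.inv_mem z.2))) _ }
  have hN2n : N2.Normal := by
    refine ⟨fun z hz g k hk m l hl => ?_⟩
    rw [coe_mul, coe_mul, coe_inv, map_mul, map_mul, map_inv, br_conj, ← map_inv, hKK _ (K.inv_mem g.2) k hk]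
    have h1 := hz _ (K.mul_mem (K.mul_mem (K.inv_mem g.2) hk) (K.inv_mem (K.inv_mem g.2))) (ρ (g : H)⁻¹ m)
    rw [h1 g g.2]
    exact h1 l hl
  have hall : ∀ z ∈ K, ∀ k ∈ K, ∀ m, br (ρ z) (br (ρ k) m) ∈ fixed ρ K := by
    rcases Cub.normal_or hK N2 with h | h
    · exact fun z hz => h ⟨z, hz⟩
    · exact absurd (h ⟨y, hyK⟩ (fun k hk m => hKy k hk m)) hycen
  have htriv := triv_of_unip ρ c.sq2 hperf fun k₁ h₁ k₂ h₂ k₃ h₃ m =>
    (br_eq_one c.sq2).2 (hall k₂ h₂ k₁ h₁ m k₃ h₃)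
  -- `y y2 = 1`
  have h1 : y * y2 = 1 := by
    refine c.faith _ hyA fun m => ?_
    have h2 : ρ y2 m = m := by
      rw [hy2, map_mul, map_mul, MulAut.mul_apply, MulAut.mul_apply, htriv y hyK, ← MulAut.mul_apply, ← map_mul,
        mul_inv_cancel, map_one, MulAut.one_apply]
    rw [map_mul, MulAut.mul_apply, h2, htriv y hyK]
  apply hycen
  intro k hk
  have h2 : y = y2⁻¹ := eq_inv_of_mul_eq_one_left h1
  have h4 : Commute y2 k := by
    have := hcom t ht ht1 y hyK k hk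
    rwa [← hy2] at this
  rw [h2]
  exact h4.inv_left.eq

/-- **(T2), the end for components with (INV5)**, for `CubS` -/
theorem three_false [Finite H] [Finite M] (c : CubS ρ L A T e D P) (he : Nat.card e ≤ Nat.card T + 1)
    {S K : Subgroup H} (hK : Cfsg.IsQuasisimple K) (hKL : K ≤ L)
    (hZ : ∀ z ∈ K, (∀ y ∈ K, z * y = y * z) → z * z = 1 → z = 1) (hS2 : IsPGroup 2 S)
    (syl : ∀ Q : Subgroup H, Q ≤ K → IsPGroup 2 Q → S ⊓ K ≤ Q → Q ≤ S)
    (h3 : Three A T K (S ⊓ K)) (hinv : InvFive K) : False := by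
  obtain ⟨t, ht, ht1, ht3, htt1, htt, -⟩ := h3.gen
  have htt' : t * t ∈ T := T.mul_mem ht ht
  have htti : t * t = t⁻¹ := eq_inv_of_mul_eq_one_left ht3
  -- the elements
  obtain ⟨y0, g0, r, q1, q2, q3, q4, q5, q6⟩ := hinv
  obtain ⟨k, hk, hkP⟩ := TwoMain.exists_conj (P := S ⊓ K) (hS2.to_le inf_le_left) inf_le_right
    (fun Q h1 h2 h4 => le_inf (syl Q h1 h2 h4) h1) y0.2 (congrArg Subtype.val q1)
  obtain ⟨y, hy⟩ : ∃ y, y = k * (y0 : H) * k⁻¹ := ⟨_, rfl⟩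
  obtain ⟨g, hg⟩ : ∃ g, g = k * (g0 : H) * k⁻¹ := ⟨_, rfl⟩
  have hyP : y ∈ S ⊓ K := hy ▸ hkP
  have hyK : y ∈ K := hyP.2
  have hgK : g ∈ K := hg ▸ K.mul_mem (K.mul_mem hk g0.2) (K.inv_mem hk)
  have hyy : y * y = 1 := h3.sq y hyP
  have hyg : y * g * y⁻¹ = g⁻¹ := by
    have h1 : (y0 : H) * g0 * (y0 : H)⁻¹ = (g0 : H)⁻¹ := congrArg Subtype.val q2
    rw [hy, hg]
    calc k * (y0 : H) * k⁻¹ * (k * g0 * k⁻¹) * (k * y0 * k⁻¹)⁻¹ = k * ((y0 : H) * g0 * (y0 : H)⁻¹) * k⁻¹ := by group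
      _ = (k * (g0 : H) * k⁻¹)⁻¹ := by rw [h1]; group
  have hgr : g ^ r = 1 := by
    have h1 : (g0 : H) ^ r = 1 := congrArg Subtype.val q5
    rw [hg, conj_pow, h1, mul_one, mul_inv_cancel]
  have hg1 : g ≠ 1 := by
    intro h
    apply q6
    rw [hg] at h
    exact Subtype.ext (conj_eq_one_iff.1 h)
  -- the conjugates commute with `K`
  have hcom : ∀ s ∈ T, s ≠ 1 → ∀ x ∈ K, ∀ z ∈ K, x * (s * z * s⁻¹) = s * z * s⁻¹ * x := by
    intro s hs hs1 x hx z hz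
    have := h3.com 1 T.one_mem s hs hs1.symm x hx z hz
    simpa only [_root_.one_mul, _root_.inv_one, _root_.mul_one] using this
  have hperf : ⁅K, K⁆ = K := by
    have h1 := hK.1.commutator_eq_top
    have h2 : (commutator K).map K.subtype = K := by
      rw [h1, ← MonoidHom.range_eq_map, range_subtype]
    rw [commutator_def, map_commutator, ← MonoidHom.range_eq_map, range_subtype] at h2
    exact h2
  have d : TwoEnd.Dat K t y g r :=
    { t3 := ht3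
      comm := hcom t ht ht1
      qs := by
        intro L hLK hL
        have hn : (L.subgroupOf K).Normal := ⟨fun n hn z => hL z z.2 n hn⟩
        rcases Cub.normal_or hK (L.subgroupOf K) with h | h
        · left
          exact le_antisymm hLK fun x hx => h ⟨x, hx⟩
        · right
          intro l hl z hz
          exact h ⟨l, hLK hl⟩ hl z hz
      perf := hperf
      yK := hyK
      y2 := hyy
      gK := hgK
      inv := hyg
      pr := q3
      five := q4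
      gr := hgr
      g1 := hg1 }
  -- `a`, `b`
  have e1 : TwoEnd.Dat.a t y = t * y * t⁻¹ * (t * t * y * (t * t)⁻¹) := by
    unfold TwoEnd.Dat.a; rw [htti, inv_inv]
  have haA : TwoEnd.Dat.a t y ∈ A := by
    have h1 := h3.mem y hyP t ht _ htt'
    exact e1 ▸ h1
  have hba : TwoEnd.Dat.b t y = t * TwoEnd.Dat.a t y * t⁻¹ := by
    unfold TwoEnd.Dat.a TwoEnd.Dat.b
    have e2 : t * (t * y * t⁻¹) * t⁻¹ = t⁻¹ * y * t := by
      calc t * (t * y * t⁻¹) * t⁻¹ = (t * t) * y * (t * t)⁻¹ := by group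
        _ = t⁻¹ * y * t := by rw [htti, inv_inv]
    calc t⁻¹ * y * t * y = t * (t * y * t⁻¹) * t⁻¹ * y := by rw [e2]
      _ = t * (t * y * t⁻¹ * (t⁻¹ * y * t)) * t⁻¹ := by group
  have haK : ∀ k ∈ K, TwoEnd.Dat.a t y * k = k * TwoEnd.Dat.a t y := fun k hk => (d.comm_a hk).symm
  have hycen : ¬ ∀ k ∈ K, y * k = k * y := fun h => d.g_mul_ne (h g hgK).symm
  have hy1 : y ≠ 1 := by
    rintro rfl
    exact hycen fun k _ => by rw [one_mul, mul_one]
  -- `K` acts nontrivially on `[M, a]`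
  have hnt : ∃ m, ρ y (br (ρ (TwoEnd.Dat.a t y)) m) ≠ br (ρ (TwoEnd.Dat.a t y)) m := by
    by_contra hcon
    push Not at hcon
    refine hycen (central_of_cen hK haK (fun hn => ?_) hyK hcon)
    rw [e1] at hn
    exact c.three_cen hK hKL hZ h3 ht ht1 htt1 htt hyP hyK hy1 hn
  let _ := TwoMain.act ρ
  have hD : ∀ (x : H) (m : Additive M), TwoEnd.D x m = Additive.ofMul (br (ρ x) m.toMul) := by
    intro x m
    change Additive.ofMul (ρ x m.toMul) - m = Additive.ofMul (ρ x m.toMul * m.toMul)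
    have h1 : -m = m := by
      have := c.sq2 m.toMul
      have h2 : m + m = 0 := this
      exact neg_eq_of_add_eq_zero_left h2
    rw [sub_eq_add_neg, h1]
    rfl
  refine d.false_of (M := Additive M) (fun m => c.sq2 m.toMul) ?_ ?_
  · -- (N0)
    refine le_trans ?_ (he.trans_eq (by rw [h3.card]))
    have h1 : ∀ v ∈ TwoEnd.cm (TwoEnd.cm (⊤ : AddSubgroup (Additive M)) (TwoEnd.Dat.a t y)) (TwoEnd.Dat.b t y),
        Additive.toMul v ∈ e := by
      rintro v ⟨w, ⟨m, -, rfl⟩, rfl⟩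
      rw [hD, hD, hba]
      exact c.line0 _ haA t ht _
    refine Nat.card_le_card_of_injective (fun v => (⟨Additive.toMul v.1, h1 v.1 v.2⟩ : e)) ?_
    intro v w hvw
    exact Subtype.ext (congrArg (fun z : e => Additive.ofMul (z : M)) hvw)
  · obtain ⟨m, hm⟩ := hnt
    refine ⟨y, hyK, Additive.ofMul (br (ρ (TwoEnd.Dat.a t y)) m), ⟨Additive.ofMul m, AddSubgroup.mem_top _, ?_⟩, ?_⟩
    · rw [hD]; rfl
    · exact fun h => hm h

end CubS

end Cfsg.Agent.Omega.Lie.LQS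

end

section


/-!
# (h1), SPLIT: `CubS` from an `F`-bilinear symplectic form, abstract

`FDat L A T D f e ω`: `M` an `F`-space with a nondegenerate symmetric form `f`, the line `e`, `ω = f(·, e)`, `L = H⁰` acts
linearly and preserves `f`, `[D, A] ≤ e`, `[e^⊥, A] ≤ D`, `T` trivial on `D / e`.  `FDat.cubS`: then `CubS` holds: (N1) is
free.
-/

set_option autoImplicit false
set_option linter.unusedSectionVars false

namespace Cfsg.Agent.Omega.Lie.LQS

open Subgroup Cfsg.Agent.Omega.Lie.CompT Cfsg.Agent.Omega.Lie.LQ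

universe u v w

variable {H : Type u} {M : Type v} [Group H] [AddCommGroup M] [DistribMulAction H M]

/-- `H` acts on `Multiplicative M` -/
def mrho (H : Type u) (M : Type v) [Group H] [AddCommGroup M] [DistribMulAction H M] :
    H →* MulAut (Multiplicative M) where
  toFun h :=
    { toFun := fun m => Multiplicative.ofAdd (h • m.toAdd)
      invFun := fun m => Multiplicative.ofAdd (h⁻¹ • m.toAdd)
      left_inv := fun m => congrArg Multiplicative.ofAdd (inv_smul_smul h m.toAdd)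
      right_inv := fun m => congrArg Multiplicative.ofAdd (smul_inv_smul h m.toAdd)
      map_mul' := fun m n => by rw [toAdd_mul, smul_add, ofAdd_add] }
  map_one' := MulEquiv.ext fun m => by
    change Multiplicative.ofAdd ((1 : H) • m.toAdd) = m
    rw [one_smul, ofAdd_toAdd]
  map_mul' g h := MulEquiv.ext fun m => by
    change Multiplicative.ofAdd ((g * h) • m.toAdd) = Multiplicative.ofAdd (g • (h • m.toAdd))
    rw [mul_smul]

theorem mrho_apply (h : H) (m : Multiplicative M) : mrho H M h m = Multiplicative.ofAdd (h • m.toAdd) := rfl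

/-- `[x, a] = a x + x` -/
def bra (a : H) (x : M) : M := a • x + x

theorem br_mrho (h : H) (m : Multiplicative M) : br (mrho H M h) m = Multiplicative.ofAdd (bra h m.toAdd) := rfl

variable {F : Type w} [Field F] [Module F M]

structure FDat (L A T : Subgroup H) (D : AddSubgroup M) (f : M →ₗ[F] M →ₗ[F] F) (e : F →ₗ[F] M)
    (ω : M →ₗ[F] F) : Prop where
  two : ∀ x : M, x + x = 0
  fe : ∀ x γ, f x (e γ) = ω x * γ
  symm : ∀ x y, f x y = f y x
  nd : ∀ x, (∀ y, f x y = 0) → x = 0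
  ω1 : ∃ m, ω m = 1
  AL : A ≤ L
  lin : ∀ h ∈ L, ∀ (a : F) (x : M), h • (a • x) = a • (h • x)
  act : ∀ h ∈ L, ∀ x y, f (h • x) (h • y) = f x y
  sq : ∀ a ∈ A, a * a = 1
  TA : ∀ t ∈ T, ∀ a ∈ A, t * a * t⁻¹ ∈ A
  Ae : ∀ a ∈ A, ∀ γ, a • e γ = e γ
  eD : ∀ γ, e γ ∈ D
  DP : ∀ x ∈ D, ω x = 0
  AD : ∀ a ∈ A, ∀ x ∈ D, ∃ γ, bra a x = e γ
  AP : ∀ a ∈ A, ∀ x, ω x = 0 → bra a x ∈ D
  Te : ∀ t ∈ T, ∃ c : F, c ≠ 0 ∧ ∀ γ, t • e γ = e (c * γ)
  TD : ∀ t ∈ T, ∀ x ∈ D, ∃ γ, bra t x = e γ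
  l0 : ∀ a ∈ A, ∀ t ∈ T, ∀ x, ∃ γ, bra (t * a * t⁻¹) (bra a x) = e γ
  sub : ∀ a ∈ A, a ≠ 1 → ∀ γ, ∃ x, e γ = bra a x
  gen : ∀ m, ω m ≠ 0 → ∀ x, ω x = 0 → ∃ a ∈ A, x + bra a m ∈ D
  ker0 : ∀ x ∈ D, (∀ a ∈ A, a • x = x) → ∃ γ, x = e γ

namespace FDat

variable {L A T : Subgroup H} {D : AddSubgroup M} {f : M →ₗ[F] M →ₗ[F] F} {e : F →ₗ[F] M} {ω : M →ₗ[F] F}
  (d : FDat L A T D f e ω)
include d

theorem bra_add (a : H) (x y : M) : bra a (x + y) = bra a x + bra a y := by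
  unfold bra; rw [smul_add]; abel

theorem eq_of_add {x y : M} (h : x + y = 0) : x = y := by
  have h1 := d.two y
  exact add_right_cancel (h.trans h1.symm)

theorem bra_eq_zero {a : H} {x : M} : bra a x = 0 ↔ a • x = x :=
  ⟨fun h => d.eq_of_add h, fun h => by unfold bra; rw [h, d.two]⟩

theorem bra_smul {h : H} (hh : h ∈ L) (a : F) (x : M) : bra h (a • x) = a • bra h x := by
  unfold bra; rw [d.lin h hh, smul_add]

theorem comm {a b : H} (ha : a ∈ A) (hb : b ∈ A) : a * b = b * a := by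
  have i1 : a⁻¹ = a := inv_eq_of_mul_eq_one_left (d.sq a ha)
  have i2 : b⁻¹ = b := inv_eq_of_mul_eq_one_left (d.sq b hb)
  have i3 : (a * b)⁻¹ = a * b := inv_eq_of_mul_eq_one_left (d.sq _ (A.mul_mem ha hb))
  rw [mul_inv_rev, i1, i2] at i3
  exact i3.symm

theorem bra_comm {a b : H} (ha : a ∈ A) (hb : b ∈ A) (x : M) : bra a (bra b x) = bra b (bra a x) := by
  unfold bra
  rw [smul_add, smul_add, smul_smul, smul_smul, d.comm ha hb]
  abel

theorem adj {a : H} (ha : a ∈ A) (x y : M) : f (bra a x) y = f x (bra a y) := by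
  unfold bra
  rw [map_add, LinearMap.add_apply, map_add]
  have h1 := d.act a (d.AL ha) x (a • y)
  rw [smul_smul, d.sq a ha, one_smul] at h1
  rw [h1]

theorem smul_bra {a : H} (ha : a ∈ A) (x : M) : a • bra a x = bra a x := by
  unfold bra
  rw [smul_add, smul_smul, d.sq a ha, one_smul, add_comm]

theorem ω_bra {a : H} (ha : a ∈ A) (x : M) : ω (bra a x) = 0 := by
  have h1 := d.adj ha x (e 1)
  rw [d.fe, mul_one] at h1
  rw [h1, (d.bra_eq_zero).2 (d.Ae a ha 1), map_zero]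

/-- `P^⊥ = e` -/
theorem perp_perp {z : M} (h : ∀ x, ω x = 0 → f z x = 0) : ∃ γ, z = e γ := by
  obtain ⟨m, hm⟩ := d.ω1
  refine ⟨f z m, ?_⟩
  rw [← sub_eq_zero]
  refine d.nd _ fun x => ?_
  have h1 := h (x - ω x • m) (by rw [map_sub, map_smul, hm, smul_eq_mul, mul_one, sub_self])
  rw [map_sub, map_smul, smul_eq_mul, sub_eq_zero] at h1
  rw [map_sub, LinearMap.sub_apply, d.symm (e _) x, d.fe, h1, sub_self]

theorem e_inj {γ : F} (h : e γ = 0) : γ = 0 := by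
  obtain ⟨m, hm⟩ := d.ω1
  have h1 := d.fe m γ
  rw [h, map_zero, hm, one_mul] at h1
  exact h1.symm

/-- `b^t = c b` on `D` -/
theorem bra_conj_D {b t : H} (hb : b ∈ A) (ht : t ∈ T) {c : F} (hc : ∀ γ, t • e γ = e (c * γ)) {x : M} (hx : x ∈ D) :
    bra (t * b * t⁻¹) x = c • bra b x := by
  obtain ⟨γ, hγ⟩ := d.TD _ (inv_mem ht) x hx
  obtain ⟨δ, hδ⟩ := d.AD b hb x hx
  have h1 : t⁻¹ • x = e γ + x := by
    have : t⁻¹ • x + x = e γ := hγ
    calc t⁻¹ • x = t⁻¹ • x + (x + x) := by rw [d.two, add_zero]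
      _ = e γ + x := by rw [← add_assoc, this]
  have h2 : b • x = e δ + x := by
    have : b • x + x = e δ := hδ
    calc b • x = b • x + (x + x) := by rw [d.two, add_zero]
      _ = e δ + x := by rw [← add_assoc, this]
  have h3 : t • x = t • e γ + x := by
    have h4 : x = t • (e γ + x) := by rw [← h1, smul_inv_smul]
    rw [smul_add] at h4
    calc t • x = (t • e γ + t • e γ) + t • x := by rw [d.two, zero_add]
      _ = t • e γ + (t • e γ + t • x) := by rw [add_assoc]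
      _ = _ := by rw [← h4]
  unfold bra
  rw [mul_smul, mul_smul, h1, smul_add, d.Ae b hb, h2, smul_add, smul_add, h3]
  calc t • e γ + (t • e δ + (t • e γ + x)) + x = (t • e γ + t • e γ) + (x + x) + t • e δ := by abel
    _ = t • e δ := by rw [d.two, d.two, add_zero, zero_add]
    _ = c • (e δ + x + x) := by rw [hc, add_assoc, d.two, add_zero, ← smul_eq_mul, map_smul]

/-- (N1), the first part -/
theorem full {a b : H} (ha : a ∈ A) (hb : b ∈ A) (h : ∃ x : M, bra b (bra a x) ≠ 0) (γ : F) :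
    ∃ x, e γ = bra b (bra a x) := by
  by_cases h1 : ∃ x, ω x = 0 ∧ bra b (bra a x) ≠ 0
  · obtain ⟨x, hx, hne⟩ := h1
    obtain ⟨δ, hδ⟩ := d.AD b hb _ (d.AP a ha x hx)
    have hδ0 : δ ≠ 0 := by rintro rfl; rw [map_zero] at hδ; exact hne hδ
    refine ⟨(γ / δ) • x, ?_⟩
    rw [d.bra_smul (d.AL ha), d.bra_smul (d.AL hb), hδ, ← map_smul, smul_eq_mul, div_mul_cancel₀ _ hδ0]
  · push Not at h1
    obtain ⟨m, hm⟩ := h
    obtain ⟨δ, hδ⟩ := d.perp_perp (z := bra b (bra a m)) fun x hx => by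
      rw [d.adj hb, d.adj ha, d.bra_comm ha hb, h1 x hx, map_zero]
    have hδ0 : δ ≠ 0 := by rintro rfl; rw [map_zero] at hδ; exact hm hδ
    refine ⟨(γ / δ) • m, ?_⟩
    rw [d.bra_smul (d.AL ha), d.bra_smul (d.AL hb), hδ, ← map_smul, smul_eq_mul, div_mul_cancel₀ _ hδ0]

/-- (N1), the second part -/
theorem same {a b t : H} (ha : a ∈ A) (hb : b ∈ A) (ht : t ∈ T) (h : ∃ x : M, bra (t * b * t⁻¹) (bra a x) ≠ 0)
    (x : M) : ∃ y, bra b (bra a x) = bra (t * b * t⁻¹) (bra a y) := by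
  obtain ⟨c, hc0, hc⟩ := d.Te t ht
  have hb' := d.TA t ht b hb
  have key : ∀ x, ∃ γ, bra (t * b * t⁻¹) (bra a x) + c • bra b (bra a x) = e γ := by
    intro x
    obtain ⟨δ, hδ⟩ := d.perp_perp (z := bra (t * b * t⁻¹) (bra a x) + c • bra b (bra a x)) fun y hy => by
      rw [map_add, LinearMap.add_apply, map_smul, LinearMap.smul_apply, d.adj hb', d.adj ha, d.adj hb, d.adj ha,
        d.bra_comm ha hb', d.bra_comm ha hb, d.bra_conj_D hb ht hc (d.AP a ha y hy), map_smul]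
      have h1 : ∀ z : F, z + z = 0 := by
        intro z
        obtain ⟨m, hm⟩ := d.ω1
        have h2 : ω (z • m) + ω (z • m) = 0 := by rw [← map_add, d.two, map_zero]
        rwa [map_smul, hm, smul_eq_mul, mul_one] at h2
      exact h1 _
    exact ⟨δ, hδ⟩
  obtain ⟨γ, hγ⟩ := key x
  obtain ⟨z, hz⟩ := d.full ha hb' h (c⁻¹ * γ)
  refine ⟨c⁻¹ • x + z, ?_⟩
  have h3 : e (c⁻¹ * γ) = c⁻¹ • e γ := by rw [← map_smul, smul_eq_mul]
  rw [d.bra_add, d.bra_add, d.bra_smul (d.AL ha), d.bra_smul (d.AL hb'), ← hz, h3, ← hγ,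
    smul_add, smul_smul, inv_mul_cancel₀ hc0, one_smul, ← add_assoc, d.two, zero_add]

/-- `[M, a, b, b^t] = 0` -/
theorem line1 {a b t : H} (ha : a ∈ A) (hb : b ∈ A) (ht : t ∈ T) (x : M) :
    (t * b * t⁻¹) • bra b (bra a x) = bra b (bra a x) := by
  obtain ⟨c, -, hc⟩ := d.Te t ht
  have hD := d.AP b hb _ (d.ω_bra ha x)
  rw [← d.bra_eq_zero, d.bra_conj_D hb ht hc hD, (d.bra_eq_zero).2 (d.smul_bra hb _), smul_zero]

theorem faith {a : H} (ha : a ∈ A) (h : ∀ x : M, a • x = x) : a = 1 := by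
  by_contra ha1
  obtain ⟨x, hx⟩ := d.sub a ha ha1 1
  rw [(d.bra_eq_zero).2 (h x)] at hx
  exact one_ne_zero (d.e_inj hx)

/-- the order of `M` if `A` is one line -/
theorem card_le [Finite H] [Finite F] (hT : Nat.card T + 1 = Nat.card F)
    (h : ∃ a ∈ A, ∀ b ∈ A, b ≠ 1 → ∃ t ∈ T, b = t * a * t⁻¹) : Nat.card M ≤ (Nat.card T + 1) ^ 4 := by
  classical
  obtain ⟨a₀, ha₀, hline⟩ := h
  obtain ⟨m₀, hm₀⟩ := d.ω1
  -- `|A| ≤ q`
  have hA : Nat.card A ≤ Nat.card F := by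
    rw [← hT]
    have h1 := Nat.card_le_card_of_surjective (fun x : Option T => (match x with
      | none => 1
      | some x => ⟨(x : H) * a₀ * (x : H)⁻¹, d.TA x x.2 a₀ ha₀⟩ : A)) (by
        rintro ⟨y, hy⟩
        by_cases hy1 : y = 1
        · exact ⟨none, Subtype.ext hy1.symm⟩
        · obtain ⟨x, hx, e⟩ := hline y hy hy1
          exact ⟨some ⟨x, hx⟩, Subtype.ext e.symm⟩)
    rwa [Finite.card_option] at h1
  -- representatives in `D`
  let r : F → M := fun γ => if h : ∃ x ∈ D, bra a₀ x = e γ then h.choose else 0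
  have hr : ∀ x ∈ D, ∀ γ, bra a₀ x = e γ → ∃ δ, x + r γ = e δ := by
    intro x hx γ hγ
    have hex : ∃ x ∈ D, bra a₀ x = e γ := ⟨x, hx, hγ⟩
    have h1 : r γ = hex.choose := dif_pos hex
    obtain ⟨h2, h3⟩ := hex.choose_spec
    rw [← h1] at h2 h3
    have h4 : bra a₀ (x + r γ) = 0 := by rw [d.bra_add, hγ, h3, d.two]
    refine d.ker0 _ (D.add_mem hx h2) fun a ha => ?_
    by_cases ha1 : a = 1
    · rw [ha1, one_smul]
    · obtain ⟨t, ht, rfl⟩ := hline a ha ha1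
      obtain ⟨c, -, hc⟩ := d.Te t ht
      rw [← d.bra_eq_zero, d.bra_conj_D ha₀ ht hc (D.add_mem hx h2), h4, smul_zero]
  have hsurj : Function.Surjective (fun q : F × A × F × F => q.1 • m₀ + bra (q.2.1 : H) m₀ + r q.2.2.1 + e q.2.2.2) := by
    intro x
    have h1 : ω (x + ω x • m₀) = 0 := by
      have h2 : ω (x + x) = 0 := by rw [d.two, map_zero]
      rw [map_add] at h2
      rw [map_add, map_smul, hm₀, smul_eq_mul, mul_one]
      exact h2
    obtain ⟨a, ha, h2⟩ := d.gen m₀ (by rw [hm₀]; exact one_ne_zero) _ h1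
    obtain ⟨γ, hγ⟩ := d.AD a₀ ha₀ _ h2
    obtain ⟨δ, hδ⟩ := hr _ h2 γ hγ
    refine ⟨(ω x, ⟨a, ha⟩, γ, δ), ?_⟩
    change ω x • m₀ + bra a m₀ + r γ + e δ = x
    rw [← hδ]
    calc ω x • m₀ + bra a m₀ + r γ + (x + ω x • m₀ + bra a m₀ + r γ) =
          x + (ω x • m₀ + ω x • m₀) + (bra a m₀ + bra a m₀) + (r γ + r γ) := by abel
      _ = x := by rw [d.two, d.two, d.two, add_zero, add_zero, add_zero]
  have h1 := Nat.card_le_card_of_surjective _ hsurj
  rw [Nat.card_prod, Nat.card_prod, Nat.card_prod] at h1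
  rw [hT]
  calc Nat.card M ≤ Nat.card F * (Nat.card A * (Nat.card F * Nat.card F)) := h1
    _ ≤ Nat.card F * (Nat.card F * (Nat.card F * Nat.card F)) := by gcongr
    _ = Nat.card F ^ 4 := by ring

/-- the subgroup `e` -/
def eS (_ : FDat L A T D f e ω) : Subgroup (Multiplicative M) where
  carrier := {m | ∃ γ, m.toAdd = e γ}
  one_mem' := ⟨0, by rw [map_zero]; rfl⟩
  mul_mem' := by
    rintro x y ⟨γ, hγ⟩ ⟨δ, hδ⟩
    exact ⟨γ + δ, by rw [toAdd_mul, hγ, hδ, map_add]⟩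
  inv_mem' := by
    rintro x ⟨γ, hγ⟩
    exact ⟨-γ, by rw [toAdd_inv, hγ, map_neg]⟩

/-- the subgroup `D` -/
def dS (_ : FDat L A T D f e ω) : Subgroup (Multiplicative M) where
  carrier := {m | m.toAdd ∈ D}
  one_mem' := D.zero_mem
  mul_mem' := fun hx hy => D.add_mem hx hy
  inv_mem' := fun hx => D.neg_mem hx

/-- the subgroup `P = e^⊥` -/
def pS (_ : FDat L A T D f e ω) : Subgroup (Multiplicative M) where
  carrier := {m | ω m.toAdd = 0}
  one_mem' := map_zero ω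
  mul_mem' := by
    intro x y hx hy
    change ω (x.toAdd + y.toAdd) = 0
    rw [map_add, (show ω x.toAdd = 0 from hx), (show ω y.toAdd = 0 from hy), add_zero]
  inv_mem' := by
    intro x hx
    change ω (-x.toAdd) = 0
    rw [map_neg, (show ω x.toAdd = 0 from hx), neg_zero]

theorem mem_pS {m : Multiplicative M} : m ∈ d.pS ↔ ω m.toAdd = 0 := Iff.rfl

/-- **`CubS`** -/
theorem cubS [Finite H] [Finite F] (hT : Nat.card T + 1 = Nat.card F) : CubS (mrho H M) L A T d.eS d.dS d.pS where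
  sq2 m := by
    change Multiplicative.ofAdd (m.toAdd + m.toAdd) = 1
    rw [d.two]; rfl
  Ae a ha m hm := by
    obtain ⟨γ, hγ⟩ := hm
    rw [mrho_apply, hγ, d.Ae a ha, ← hγ, ofAdd_toAdd]
  line0 a ha t ht m := by
    rw [br_mrho, br_mrho]
    exact d.l0 a ha t ht m.toAdd
  line1 a ha b hb t ht m := by
    rw [br_mrho, br_mrho, mrho_apply]
    exact congrArg Multiplicative.ofAdd (d.line1 ha hb ht m.toAdd)
  full a ha b hb h y hy := by
    obtain ⟨γ, hγ⟩ := hy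
    obtain ⟨m, hm⟩ := h
    obtain ⟨x, hx⟩ := d.full ha hb ⟨m.toAdd, fun h' => hm (congrArg Multiplicative.ofAdd h')⟩ γ
    exact ⟨Multiplicative.ofAdd x, by rw [← ofAdd_toAdd y, hγ, hx]; rfl⟩
  same a ha b hb t ht _ h m := by
    obtain ⟨m', hm'⟩ := h
    obtain ⟨x, hx⟩ := d.same ha hb ht ⟨m'.toAdd, fun h' => hm' (congrArg Multiplicative.ofAdd h')⟩ m.toAdd
    exact ⟨Multiplicative.ofAdd x, congrArg Multiplicative.ofAdd hx⟩
  sub a ha ha1 x hx := by
    obtain ⟨γ, hγ⟩ := hx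
    obtain ⟨y, hy⟩ := d.sub a ha ha1 γ
    exact ⟨Multiplicative.ofAdd y, by rw [← ofAdd_toAdd x, hγ, hy]; rfl⟩
  faith a ha h := d.faith ha fun x => by
    have := h (Multiplicative.ofAdd x)
    exact congrArg Multiplicative.toAdd this
  brP h hh hfix m := by
    have h1 : h • e 1 = e 1 := congrArg Multiplicative.toAdd (hfix (Multiplicative.ofAdd (e 1)) ⟨1, rfl⟩)
    have h2 := d.act h hh m.toAdd (e 1)
    rw [h1, d.fe, d.fe, mul_one, mul_one] at h2
    change ω (h • m.toAdd + m.toAdd) = 0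
    rw [map_add, h2, ← map_add, d.two, map_zero]
  bre h hh hfix m := by
    refine d.perp_perp fun x hx => ?_
    have h1 : h • x = x := congrArg Multiplicative.toAdd (hfix (Multiplicative.ofAdd x) hx)
    have h2 := d.act h hh m.toAdd x
    rw [h1] at h2
    change f (h • m.toAdd + m.toAdd) x = 0
    rw [map_add, LinearMap.add_apply, h2, ← LinearMap.add_apply, ← map_add, d.two, map_zero, LinearMap.zero_apply]
  eP := by
    rintro x ⟨γ, hγ⟩
    rw [mem_pS, hγ]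
    exact d.DP _ (d.eD γ)
  PD a ha x hx := d.AP a ha _ hx
  De a ha x hx := d.AD a ha _ hx
  Te t ht x hx := d.TD t ht _ hx
  gen m hm x hx := by
    obtain ⟨a, ha, h1⟩ := d.gen m.toAdd hm x.toAdd hx
    refine ⟨a, ha, Multiplicative.ofAdd (x.toAdd + bra a m.toAdd), h1, ?_⟩
    rw [br_mrho, ← ofAdd_add]
    apply Multiplicative.toAdd.injective
    rw [toAdd_ofAdd]
    calc x.toAdd = x.toAdd + (bra a m.toAdd + bra a m.toAdd) := by rw [d.two, add_zero]
      _ = _ := by abel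
  exP := by
    obtain ⟨m, hm⟩ := d.ω1
    exact ⟨Multiplicative.ofAdd m, fun h => one_ne_zero (hm.symm.trans h)⟩
  card h := by
    have h1 : Nat.card (Multiplicative M) = Nat.card M := rfl
    rw [h1]
    exact d.card_le hT h

/-- `|e| = q` -/
theorem card_eS [Finite F] (hT : Nat.card T + 1 = Nat.card F) : Nat.card d.eS ≤ Nat.card T + 1 := by
  rw [hT]
  refine Nat.card_le_card_of_surjective
    (fun γ : F => (⟨Multiplicative.ofAdd (e γ), ⟨γ, rfl⟩⟩ : d.eS)) ?_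
  rintro ⟨m, γ, hγ⟩
  exact ⟨γ, Subtype.ext (congrArg Multiplicative.ofAdd hγ.symm)⟩

end FDat

end Cfsg.Agent.Omega.Lie.LQS

end

section


/-!
# THEOREM D (bb OMEGA #15015): `M = ⟨e^E⟩`, `C_M(S_E) = e`, `H = E N_H(e)`, abstract form

`H` finite acts semilinearly on the finite dimensional `F`-space `M` (`|F| ≥ 4`, `F` finite of characteristic `2`), `B` a nondegenerate
reflexive form, `E` normal in `H` linear and isometric, `A ≤ E = ⟨A^E⟩`, `S` a Sylow 2-subgroup of `H` fixing the point `F e₀`,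
`T = {t a}` the torus.  Input `cen` (LEMMA CEN, #14596): the `E`-span `I` of `e₀` satisfies `dim I/[I, S_E] ≤ 1`.
-/

set_option autoImplicit false
set_option linter.unusedSectionVars false

namespace Cfsg.Agent.Omega.Lie.ThmD

open Subgroup

variable {H : Type*} [Group H] {F : Type*} [Field F] {M : Type*} [AddCommGroup M] [Module F M] [DistribMulAction H M]

/-- invariance of a subspace -/
def Inv (K : Subgroup H) (L : Submodule F M) : Prop := ∀ g ∈ K, ∀ x ∈ L, g • x ∈ L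

/-- the `E`-span of a vector -/
def sp (F : Type*) [Field F] {M : Type*} [AddCommGroup M] [Module F M] [DistribMulAction H M] (E : Subgroup H)
    (v : M) : Submodule F M := Submodule.span F {x | ∃ g ∈ E, x = g • v}

/-- `[L, K]` -/
def cm (K : Subgroup H) (L : Submodule F M) : Submodule F M :=
  Submodule.span F {x | ∃ s ∈ K, ∃ m ∈ L, x = s • m - m}

/-- the module data -/
structure Dat (E A : Subgroup H) (e₀ : M) (D : Submodule F M) (B : LinearMap.BilinForm F M) : Prop where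
  normal : E.Normal
  A_le : A ≤ E
  /-- `E = ⟨A^E⟩` -/
  gen : ∀ K : Subgroup H, A ≤ K → (∀ g ∈ E, ∀ k ∈ K, g * k * g⁻¹ ∈ K) → E ≤ K
  lin : ∀ g ∈ E, ∀ (c : F) (x : M), g • c • x = c • g • x
  semi : ∀ g : H, ∃ σ : F → F, (∀ c, c ≠ 0 → σ c ≠ 0) ∧ ∀ (c : F) (x : M), g • c • x = σ c • g • x
  refl : B.IsRefl
  nd : B.Nondegenerate
  BE : ∀ g ∈ E, ∀ x y, B (g • x) (g • y) = B x y
  BH : ∀ (g : H) (x y : M), B x y = 0 → B (g • x) (g • y) = 0
  ne : e₀ ≠ 0
  A2 : ∀ a ∈ A, ∀ x, B x e₀ = 0 → a • x - x ∈ D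
  A3 : ∀ a ∈ A, ∀ x ∈ D, a • x - x ∈ Submodule.span F {e₀}
  ker0 : ∀ x ∈ D, (∀ a ∈ A, a • x = x) → x ∈ Submodule.span F {e₀}
  ker1 : ∀ x, (∀ a ∈ A, a • x = x) → B x e₀ = 0
  span : ∀ L : Submodule F M, (∀ h : H, h • e₀ ∈ L) → L = ⊤

namespace Dat

variable {E A : Subgroup H} {e₀ : M} {D : Submodule F M} {B : LinearMap.BilinForm F M} (d : Dat E A e₀ D B)
include d

theorem mem_e {x : M} : x ∈ Submodule.span F {e₀} ↔ ∃ c : F, c • e₀ = x := by
  have _ := d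
  exact Submodule.mem_span_singleton

/-- if `A` centralises an `E`-invariant subspace, so does `E` -/
theorem cen_E {L : Submodule F M} (hL : Inv E L) (h : ∀ a ∈ A, ∀ x ∈ L, a • x = x) :
    ∀ g ∈ E, ∀ x ∈ L, g • x = x := by
  let K : Subgroup H :=
    { carrier := {k | ∀ x ∈ L, k • x = x}
      one_mem' := fun x _ => one_smul _ x
      mul_mem' := fun {a b} ha hb x hx => by rw [mul_smul, hb x hx, ha x hx]
      inv_mem' := fun {a} ha x hx => by rw [inv_smul_eq_iff, ha x hx] }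
  refine fun g hg => d.gen K (fun a ha => h a ha) ?_ hg
  intro g hg k hk x hx
  have h1 : g⁻¹ • x ∈ L := hL _ (inv_mem hg) x hx
  rw [mul_smul, mul_smul, hk _ h1, smul_inv_smul]

/-- `C_M(E) = 0` -/
theorem fix_E {x : M} (hx : ∀ g ∈ E, g • x = x) : x = 0 := by
  have key : ∀ h : H, B x (h • e₀) = 0 := by
    intro h
    have h1 : ∀ a ∈ A, a • h⁻¹ • x = h⁻¹ • x := by
      intro a ha
      have h2 := hx (h * a * h⁻¹) (d.normal.conj_mem a (d.A_le ha) h)
      rw [mul_smul, mul_smul] at h2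
      rw [eq_inv_smul_iff]
      exact h2
    have h3 := d.BH h _ _ (d.ker1 _ h1)
    rwa [smul_inv_smul] at h3
  let L : Submodule F M :=
    { carrier := {y | B x y = 0}
      zero_mem' := map_zero _
      add_mem' := fun {y z} hy hz => by
        change B x (y + z) = 0
        rw [map_add, (show B x y = 0 from hy), (show B x z = 0 from hz), add_zero]
      smul_mem' := fun c y hy => by
        change B x (c • y) = 0
        rw [map_smul, (show B x y = 0 from hy), smul_zero] }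
  have hL : L = ⊤ := d.span L key
  refine d.nd.1 x fun y => ?_
  have : y ∈ L := by rw [hL]; trivial
  exact this

/-- **(2)** an `E`-invariant subspace of `e^⊥` not containing `e₀` is zero -/
theorem eq_bot {J : Submodule F M} (hJ : Inv E J) (hP : ∀ x ∈ J, B x e₀ = 0) (he : e₀ ∉ J) : J = ⊥ := by
  have h0 : ∀ x ∈ J, x ∈ Submodule.span F {e₀} → x = 0 := by
    intro x hx hxe
    obtain ⟨c, rfl⟩ := d.mem_e.1 hxe
    by_cases hc : c = 0
    · rw [hc, zero_smul]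
    · exact absurd (by
        have := J.smul_mem c⁻¹ hx
        rwa [smul_smul, inv_mul_cancel₀ hc, one_smul] at this) he
  have h1 : ∀ x ∈ J, x ∈ D → x = 0 := by
    intro x hx hxD
    refine h0 x hx (d.ker0 x hxD fun a ha => ?_)
    exact sub_eq_zero.1 (h0 _ (J.sub_mem (hJ a (d.A_le ha) x hx) hx) (d.A3 a ha x hxD))
  have h2 : ∀ a ∈ A, ∀ x ∈ J, a • x = x := fun a ha x hx =>
    sub_eq_zero.1 (h1 _ (J.sub_mem (hJ a (d.A_le ha) x hx) hx) (d.A2 a ha x (hP x hx)))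
  have h3 := d.cen_E hJ h2
  rw [eq_bot_iff]
  intro x hx
  exact (Submodule.mem_bot F).2 (d.fix_E fun g hg => h3 g hg x hx)

theorem mem_sp {g : H} (hg : g ∈ E) (v : M) : g • v ∈ sp F E v := by
  have _ := d
  exact Submodule.subset_span ⟨g, hg, rfl⟩

theorem self_mem_sp (v : M) : v ∈ sp F E v := by
  have := d.mem_sp (one_mem E) v
  rwa [one_smul] at this

theorem sp_inv (v : M) : Inv E (sp F E v) := by
  intro g hg x hx
  unfold sp at hx
  induction hx using Submodule.span_induction with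
  | mem x hx =>
    obtain ⟨g', hg', rfl⟩ := hx
    rw [smul_smul]
    exact d.mem_sp (mul_mem hg hg') v
  | zero => rw [smul_zero]; exact zero_mem _
  | add x y _ _ hx hy => rw [smul_add]; exact add_mem hx hy
  | smul c x _ hx => rw [d.lin g hg]; exact Submodule.smul_mem _ c hx

theorem inv_sup {K L : Submodule F M} (hK : Inv E K) (hL : Inv E L) : Inv E (K ⊔ L) := by
  have _ := d
  intro g hg x hx
  obtain ⟨y, hy, z, hz, rfl⟩ := Submodule.mem_sup.1 hx
  rw [smul_add]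
  exact add_mem (Submodule.mem_sup_left (hK g hg y hy)) (Submodule.mem_sup_right (hL g hg z hz))

theorem inv_orthogonal {L : Submodule F M} (hL : Inv E L) : Inv E (B.orthogonal L) := by
  intro g hg x hx
  rw [LinearMap.BilinForm.mem_orthogonal_iff] at hx ⊢
  intro y hy
  have h1 := hx (g⁻¹ • y) (hL _ (inv_mem hg) y hy)
  have h2 := d.BE g hg (g⁻¹ • y) x
  rw [smul_inv_smul] at h2
  rw [h2, h1]

/-- some conjugate of `e` is not orthogonal to `e` -/
theorem exists_ne : ∃ h : H, B e₀ (h • e₀) ≠ 0 := by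
  by_contra hcon
  push Not at hcon
  let L : Submodule F M :=
    { carrier := {y | B e₀ y = 0}
      zero_mem' := map_zero _
      add_mem' := fun {y z} hy hz => by
        change B e₀ (y + z) = 0
        rw [map_add, (show B e₀ y = 0 from hy), (show B e₀ z = 0 from hz), add_zero]
      smul_mem' := fun c y hy => by
        change B e₀ (c • y) = 0
        rw [map_smul, (show B e₀ y = 0 from hy), smul_zero] }
  have hL : L = ⊤ := d.span L hcon
  refine d.ne (d.nd.1 e₀ fun y => ?_)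
  have : y ∈ L := by rw [hL]; trivial
  exact this

/-- **(i)** `M = I + I₁` -/
theorem sup_eq_top [FiniteDimensional F M] {n x : H} (hx : x ∈ E) (h : B e₀ ((x * n) • e₀) ≠ 0) :
    sp F E e₀ ⊔ sp F E (n • e₀) = ⊤ := by
  have hinv : Inv E (sp F E e₀ ⊔ sp F E (n • e₀)) := d.inv_sup (d.sp_inv _) (d.sp_inv _)
  have h1 : B.orthogonal (sp F E e₀ ⊔ sp F E (n • e₀)) = ⊥ := by
    refine d.eq_bot (d.inv_orthogonal hinv) (fun y hy => ?_) fun he => h ?_
    · rw [LinearMap.BilinForm.mem_orthogonal_iff] at hy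
      exact d.refl _ _ (hy e₀ (Submodule.mem_sup_left (d.self_mem_sp e₀)))
    · rw [LinearMap.BilinForm.mem_orthogonal_iff] at he
      have h2 := he (x • n • e₀) (Submodule.mem_sup_right (d.mem_sp hx _))
      rw [mul_smul]
      exact d.refl _ _ h2
  have h2 := LinearMap.BilinForm.finrank_orthogonal d.nd (sp F E e₀ ⊔ sp F E (n • e₀))
  rw [h1, finrank_bot] at h2
  exact Submodule.eq_top_of_finrank_eq (le_antisymm (Submodule.finrank_le _) (by omega))

end Dat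

/-- `cen`: `L ≤ F v + [L, K]` -/
def Cen (F : Type*) [Field F] {M : Type*} [AddCommGroup M] [Module F M] [DistribMulAction H M] (K : Subgroup H)
    (L : Submodule F M) : Prop := ∃ v : M, L ≤ Submodule.span F {v} ⊔ cm K L

namespace Dat

variable {E A : Subgroup H} {e₀ : M} {D : Submodule F M} {B : LinearMap.BilinForm F M} (d : Dat E A e₀ D B)
include d

/-- vectors fixed by `K ≤ E` are orthogonal to `[M, K]` -/
theorem orth_cm {K : Subgroup H} (hK : K ≤ E) {x : M} (hx : ∀ s ∈ K, s • x = x) {y : M} (hy : y ∈ cm K (⊤ : Submodule F M)) :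
    B x y = 0 := by
  unfold cm at hy
  induction hy using Submodule.span_induction with
  | mem y hy =>
    obtain ⟨s, hs, m, -, rfl⟩ := hy
    have h1 := d.BE s (hK hs) x m
    rw [hx s hs] at h1
    rw [map_sub, h1, sub_self]
  | zero => exact map_zero _
  | add y z _ _ hy hz => rw [map_add, hy, hz, add_zero]
  | smul c y _ hy => rw [map_smul, hy, smul_zero]

theorem cm_mono {K : Subgroup H} {L L' : Submodule F M} (h : L ≤ L') : cm K L ≤ cm K L' := by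
  have _ := d
  refine Submodule.span_mono ?_
  rintro _ ⟨s, hs, m, hm, rfl⟩
  exact ⟨s, hs, m, h hm, rfl⟩

theorem sp_tr {n : H} {v x : M} (hx : x ∈ sp F E v) : n • x ∈ sp F E (n • v) := by
  obtain ⟨σ, -, hσ⟩ := d.semi n
  unfold sp at hx
  induction hx using Submodule.span_induction with
  | mem x hx =>
    obtain ⟨g, hg, rfl⟩ := hx
    have h1 : n • g • v = (n * g * n⁻¹) • n • v := by
      rw [smul_smul, smul_smul, inv_mul_cancel_right]
    rw [h1]
    exact d.mem_sp (d.normal.conj_mem g hg n) _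
  | zero => rw [smul_zero]; exact zero_mem _
  | add x y _ _ hx hy => rw [smul_add]; exact add_mem hx hy
  | smul c x _ hx => rw [hσ]; exact Submodule.smul_mem _ _ hx

theorem cen_tr {K : Subgroup H} {n : H} (hn : n ∈ normalizer (K : Set H)) {v : M} (h : Cen F K (sp F E v)) :
    Cen F K (sp F E (n • v)) := by
  obtain ⟨w, hw⟩ := h
  obtain ⟨σ, -, hσ⟩ := d.semi n
  refine ⟨n • w, fun y hy => ?_⟩
  have h1 : n⁻¹ • y ∈ sp F E v := by
    have := d.sp_tr (n := n⁻¹) hy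
    rwa [inv_smul_smul] at this
  obtain ⟨a, ha, b, hb, hab⟩ := Submodule.mem_sup.1 (hw h1)
  obtain ⟨c, rfl⟩ := Submodule.mem_span_singleton.1 ha
  have h2 : n • b ∈ cm K (sp F E (n • v)) := by
    unfold cm at hb
    clear hab
    induction hb using Submodule.span_induction with
    | mem b hb =>
      obtain ⟨s, hs, m, hm, rfl⟩ := hb
      refine Submodule.subset_span ⟨n * s * n⁻¹, (mem_normalizer_iff.1 hn s).1 hs, n • m, d.sp_tr hm, ?_⟩
      rw [smul_sub, smul_smul, smul_smul, inv_mul_cancel_right]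
    | zero => rw [smul_zero]; exact zero_mem _
    | add x y _ _ hx hy => rw [smul_add]; exact add_mem hx hy
    | smul c x _ hx => rw [hσ]; exact Submodule.smul_mem _ _ hx
  have h3 : y = σ c • n • w + n • b := by
    rw [← hσ, ← smul_add, hab, smul_inv_smul]
  rw [h3]
  exact add_mem (Submodule.mem_sup_left (Submodule.smul_mem _ _ (Submodule.mem_span_singleton_self _)))
    (Submodule.mem_sup_right h2)

/-- one generator: two fixed vectors, the first not zero, are proportional -/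
theorem prop_of_one {K : Subgroup H} (hK : K ≤ E) {v : M}
    (h : (⊤ : Submodule F M) ≤ Submodule.span F {v} ⊔ cm K (⊤ : Submodule F M)) {x y : M} (hx : ∀ s ∈ K, s • x = x)
    (hy : ∀ s ∈ K, s • y = y) (hx0 : x ≠ 0) : ∃ c : F, y = c • x := by
  -- a fixed vector orthogonal to `v` is zero
  have key : ∀ z : M, (∀ s ∈ K, s • z = z) → B z v = 0 → z = 0 := by
    intro z hz hzv
    refine d.nd.1 z fun m => ?_
    obtain ⟨a, ha, b, hb, rfl⟩ := Submodule.mem_sup.1 (h (Submodule.mem_top : m ∈ ⊤))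
    obtain ⟨c, rfl⟩ := Submodule.mem_span_singleton.1 ha
    rw [map_add, map_smul, hzv, smul_zero, zero_add, d.orth_cm hK hz hb]
  have h1 : B x v ≠ 0 := fun h0 => hx0 (key x hx h0)
  refine ⟨B y v / B x v, ?_⟩
  rw [← sub_eq_zero]
  refine key _ (fun s hs => ?_) ?_
  · rw [smul_sub, hy s hs, d.lin s (hK hs), hx s hs]
  · rw [map_sub, LinearMap.sub_apply, map_smul, LinearMap.smul_apply, smul_eq_mul, div_mul_cancel₀ _ h1, sub_self]

/-- two generators: three fixed vectors are dependent -/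
theorem prop_of_two {K : Subgroup H} (hK : K ≤ E) {v w : M}
    (h : (⊤ : Submodule F M) ≤ Submodule.span F {v} ⊔ Submodule.span F {w} ⊔ cm K (⊤ : Submodule F M))
    {x y z : M} (hx : ∀ s ∈ K, s • x = x) (hy : ∀ s ∈ K, s • y = y) (hz : ∀ s ∈ K, s • z = z) (hx0 : x ≠ 0)
    (hxy : ∀ c : F, y ≠ c • x) : ∃ a c : F, z = a • x + c • y := by
  have key : ∀ z : M, (∀ s ∈ K, s • z = z) → B z v = 0 → B z w = 0 → z = 0 := by
    intro z hz hzv hzw
    refine d.nd.1 z fun m => ?_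
    have hm : m ∈ Submodule.span F {v} ⊔ Submodule.span F {w} ⊔ cm K (⊤ : Submodule F M) := h Submodule.mem_top
    obtain ⟨a, ha, b, hb, hab⟩ := Submodule.mem_sup.1 hm
    obtain ⟨a₁, ha₁, a₂, ha₂, ha₁₂⟩ := Submodule.mem_sup.1 ha
    obtain ⟨c, hc⟩ := Submodule.mem_span_singleton.1 ha₁
    obtain ⟨c', hc'⟩ := Submodule.mem_span_singleton.1 ha₂
    rw [← hab, ← ha₁₂, ← hc, ← hc', map_add, map_add, map_smul, map_smul, hzv, hzw, smul_zero, smul_zero, zero_add,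
      zero_add, d.orth_cm hK hz hb]
  have hcomb : ∀ (c : F) (y x : M), (∀ s ∈ K, s • y = y) → (∀ s ∈ K, s • x = x) →
      ∀ s ∈ K, s • (y - c • x) = y - c • x := by
    intro c y x hy hx s hs
    rw [smul_sub, d.lin s (hK hs), hx s hs, hy s hs]
  have hB : ∀ (c : F) (y x u : M), B (y - c • x) u = B y u - c * B x u := by
    intro c y x u
    rw [map_sub, LinearMap.sub_apply, map_smul, LinearMap.smul_apply, smul_eq_mul]
  -- the case `B x v ≠ 0`
  have aux : ∀ v w : M, (∀ z : M, (∀ s ∈ K, s • z = z) → B z v = 0 → B z w = 0 → z = 0) → B x v ≠ 0 →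
      ∃ a c : F, z = a • x + c • y := by
    intro v w key h1
    have hy1 := hcomb (B y v / B x v) y x hy hx
    have hz1 := hcomb (B z v / B x v) z x hz hx
    have hyv : B (y - (B y v / B x v) • x) v = 0 := by rw [hB, div_mul_cancel₀ _ h1, sub_self]
    have hzv : B (z - (B z v / B x v) • x) v = 0 := by rw [hB, div_mul_cancel₀ _ h1, sub_self]
    have hy2 : y - (B y v / B x v) • x ≠ 0 := fun h0 => hxy _ (sub_eq_zero.1 h0)
    set y' := y - (B y v / B x v) • x with hy'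
    set z' := z - (B z v / B x v) • x with hz'
    have hyw : B y' w ≠ 0 := fun h0 => hy2 (key y' hy1 hyv h0)
    have h3 : z' - (B z' w / B y' w) • y' = 0 := by
      refine key _ (hcomb _ _ _ hz1 hy1) ?_ ?_
      · rw [hB, hzv, hyv, mul_zero, sub_zero]
      · rw [hB, div_mul_cancel₀ _ hyw, sub_self]
    refine ⟨B z v / B x v - (B z' w / B y' w) * (B y v / B x v), B z' w / B y' w, ?_⟩
    have h4 : z = z' + (B z v / B x v) • x := by rw [hz']; abel
    rw [sub_eq_zero] at h3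
    rw [sub_smul, mul_smul]
    calc z = z' + (B z v / B x v) • x := h4
      _ = (B z' w / B y' w) • y' + (B z v / B x v) • x := by rw [← h3]
      _ = _ := by rw [hy', smul_sub]; abel
  by_cases h1 : B x v = 0
  · have h2 : B x w ≠ 0 := fun h2 => hx0 (key x hx h1 h2)
    exact aux w v (fun z hz h3 h4 => key z hz h4 h3) h2
  · exact aux v w key h1

end Dat

/-- the torus and the Sylow 2-subgroup -/
structure Tor (S E A : Subgroup H) (t : F → H) (e₀ : M) (D : Submodule F M) (B : LinearMap.BilinForm F M) : Prop where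
  lin : ∀ a, a ≠ 0 → ∀ (c : F) (x : M), t a • c • x = c • t a • x
  norm : ∀ a, a ≠ 0 → t a ∈ normalizer ((S ⊓ E : Subgroup H) : Set H)
  e : ∀ a, a ≠ 0 → t a • e₀ = a⁻¹ • e₀
  P : ∀ a, a ≠ 0 → ∀ x, B x e₀ = 0 → t a • x - a • x ∈ D
  comm : ∀ a b, a ≠ 0 → b ≠ 0 → t a * t b = t b * t a
  N : ∀ h : H, (∃ c : F, h • e₀ = c • e₀) → ∀ a, a ≠ 0 → ∃ b, b ≠ 0 ∧ ∃ a' ∈ A, h * t a * h⁻¹ = t b * a'
  Se : ∀ s ∈ S, ∃ c : F, s • e₀ = c • e₀
  SEe : ∀ s ∈ S ⊓ E, s • e₀ = e₀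
  AS : A ≤ S

/-- `|E : S ∩ E| = |S E : S|` -/
theorem relIndex_inf [Finite H] (S E : Subgroup H) [E.Normal] : (S ⊓ E).relIndex E = S.relIndex (S ⊔ E) := by
  have h1 : E.relIndex (S ⊔ E) = E.relIndex S := relIndex_sup_right S E
  have h2 := relIndex_mul_relIndex ⊥ (S ⊓ E) S bot_le inf_le_left
  have h3 := relIndex_mul_relIndex ⊥ E (S ⊔ E) bot_le le_sup_right
  have h4 := relIndex_mul_relIndex ⊥ S (S ⊔ E) bot_le le_sup_left
  have h5 := relIndex_mul_relIndex ⊥ (S ⊓ E) E bot_le inf_le_right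
  rw [inf_relIndex_left] at h2
  have h6 : (⊥ : Subgroup H).relIndex (S ⊓ E) * E.relIndex S ≠ 0 := by
    rw [h2, relIndex_bot_left]
    exact Nat.card_pos.ne'
  have h7 : (⊥ : Subgroup H).relIndex (S ⊓ E) * E.relIndex S * (S ⊓ E).relIndex E =
      (⊥ : Subgroup H).relIndex (S ⊓ E) * E.relIndex S * S.relIndex (S ⊔ E) := by
    rw [h2, h4, ← h3, ← h5, h1, ← h2]
    ring
  exact mul_left_cancel₀ h6 h7

/-- **Frattini** for `S ∩ E` -/
theorem frattini [Finite H] (S : Sylow 2 H) (E : Subgroup H) [E.Normal] :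
    normalizer (((S : Subgroup H) ⊓ E : Subgroup H) : Set H) ⊔ E = ⊤ := by
  have hfact : Fact (Nat.Prime 2) := ⟨Nat.prime_two⟩
  have h1 : IsPGroup 2 ((S : Subgroup H).subgroupOf E) :=
    S.isPGroup'.comap_of_injective E.subtype E.subtype_injective
  have h2 : ¬ 2 ∣ ((S : Subgroup H).subgroupOf E).index := by
    intro h
    apply S.not_dvd_index
    have h3 : ((S : Subgroup H).subgroupOf E).index = (S : Subgroup H).relIndex ((S : Subgroup H) ⊔ E) := by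
      rw [← relIndex_inf, inf_relIndex_right]
      rfl
    rw [h3] at h
    exact h.trans (relIndex_dvd_index_of_le le_sup_left)
  have h3 := Sylow.normalizer_sup_eq_top (h1.toSylow h2)
  rwa [IsPGroup.toSylow_coe, subgroupOf_map_subtype] at h3

/-- a group with a normaliser element of order 2 modulo it has even index -/
theorem even_index [Finite H] {K : Subgroup H} {x : H} (hx : x ∈ normalizer (K : Set H)) (h1 : x ∉ K) (h2 : x * x ∈ K) :
    2 ∣ K.index := by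
  have h3 : (⟨x, hx⟩ : normalizer (K : Set H)) ∉ K.subgroupOf (normalizer (K : Set H)) := fun h => h1 (mem_subgroupOf.1 h)
  have _ : (K.subgroupOf (normalizer (K : Set H))).Normal := Subgroup.normal_in_normalizer
  let q : normalizer (K : Set H) ⧸ K.subgroupOf (normalizer (K : Set H)) := QuotientGroup.mk ⟨x, hx⟩
  have h4 : q ≠ 1 := fun h => h3 ((QuotientGroup.eq_one_iff _).1 h)
  have h5 : q ^ 2 = 1 := by
    rw [pow_two]
    exact (QuotientGroup.eq_one_iff (⟨x, hx⟩ * ⟨x, hx⟩ : normalizer (K : Set H))).2 (mem_subgroupOf.2 h2)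
  have h6 : orderOf q = 2 := orderOf_eq_prime h5 h4
  have h7 : 2 ∣ (K.subgroupOf (normalizer (K : Set H))).index := by
    rw [Subgroup.index, ← h6]
    exact _root_.orderOf_dvd_natCard q
  exact h7.trans (relIndex_dvd_index_of_le le_normalizer)

section main

variable [Finite H] [FiniteDimensional F M] [Finite F] [CharP F 2] (S : Sylow 2 H) {E A : Subgroup H} {t : F → H}
  {e₀ : M} {D : Submodule F M} {B : LinearMap.BilinForm F M} (d : Dat E A e₀ D B)
  (τ : Tor (S : Subgroup H) E A t e₀ D B)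

include d τ

theorem line_of_mem (hF : ∃ a : F, a ≠ 0 ∧ a ≠ 1) (hc : Cen F ((S : Subgroup H) ⊓ E) (sp F E e₀)) {n₀ : H}
    (hn₀ : n₀ ∈ normalizer (((S : Subgroup H) ⊓ E : Subgroup H) : Set H)) : ∃ c : F, n₀ • e₀ = c • e₀ := by
  classical
  by_contra hy0
  push Not at hy0
  have hEn := d.normal
  obtain ⟨a, ha0, ha1⟩ := hF
  have hfact : Fact (Nat.Prime 2) := ⟨Nat.prime_two⟩
  set SE : Subgroup H := (S : Subgroup H) ⊓ E with hSE
  have hSEE : SE ≤ E := inf_le_right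
  let N : Subgroup H := normalizer (SE : Set H)
  let Fx : M → Prop := fun x => ∀ s ∈ SE, s • x = x
  have FxN : ∀ n ∈ N, ∀ x, Fx x → Fx (n • x) := by
    intro n hn x hx s hs
    have h1 : n⁻¹ * s * n ∈ SE := by
      have := (mem_normalizer_iff.1 (inv_mem hn) s).1 hs
      rwa [inv_inv] at this
    have h2 := hx _ h1
    have h3 : n • (n⁻¹ * s * n) • x = s • n • x := by
      rw [smul_smul, smul_smul]
      congr 1
      group
    rw [← h3, h2]
  have Fxe : Fx e₀ := fun s hs => τ.SEe s hs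
  have FxA : ∀ x, Fx x → ∀ b ∈ A, b • x = x := fun x hx b hb => hx b (mem_inf.2 ⟨τ.AS hb, d.A_le hb⟩)
  have FxP : ∀ x, Fx x → B x e₀ = 0 := fun x hx => d.ker1 x (FxA x hx)
  have FxD : ∀ x, Fx x → x ∈ D → ∃ c : F, x = c • e₀ := by
    intro x hx hxD
    obtain ⟨c, hc⟩ := d.mem_e.1 (d.ker0 x hxD (FxA x hx))
    exact ⟨c, hc.symm⟩
  have Fxadd : ∀ x y, Fx x → Fx y → Fx (x + y) := fun x y hx hy s hs => by rw [smul_add, hx s hs, hy s hs]
  have Fxsmul : ∀ (c : F) x, Fx x → Fx (c • x) := fun c x hx s hs => by rw [d.lin s (hSEE hs), hx s hs]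
  have Fxsub : ∀ x y, Fx x → Fx y → Fx (x - y) := fun x y hx hy s hs => by rw [smul_sub, hx s hs, hy s hs]
  have TN : ∀ b, b ≠ 0 → t b ∈ N := fun b hb => τ.norm b hb
  -- dimension two
  have dim2 : ∀ x y z : M, Fx x → Fx y → Fx z → x ≠ 0 → (∀ c : F, y ≠ c • x) → ∃ a c : F, z = a • x + c • y := by
    obtain ⟨h, hh⟩ := d.exists_ne
    have hfr : N ⊔ E = ⊤ := frattini S E
    have h1 : h ∈ E ⊔ N := by rw [sup_comm, hfr]; trivial
    rw [← SetLike.mem_coe, Subgroup.normal_mul] at h1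
    obtain ⟨x, hx, n, hn, rfl⟩ := h1
    have h2 := d.sup_eq_top hx hh
    obtain ⟨v, hv⟩ := hc
    obtain ⟨w, hw⟩ := d.cen_tr hn ⟨v, hv⟩
    have h3 : (⊤ : Submodule F M) ≤ Submodule.span F {v} ⊔ Submodule.span F {w} ⊔ cm SE (⊤ : Submodule F M) := by
      rw [← h2]
      refine sup_le (hv.trans (sup_le ?_ ?_)) (hw.trans (sup_le ?_ ?_))
      · exact le_sup_left.trans le_sup_left
      · exact (d.cm_mono le_sup_left).trans le_sup_right
      · exact le_sup_right.trans le_sup_left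
      · exact (d.cm_mono le_sup_right).trans le_sup_right
    intro x y z hx hy hz hx0 hxy
    exact d.prop_of_two hSEE h3 hx hy hz hx0 hxy
  -- the second eigenvector
  have haa : a - a⁻¹ ≠ 0 := by
    intro h0
    have h1 : a * a = 1 := by
      rw [sub_eq_zero] at h0
      nth_rewrite 2 [h0]
      exact mul_inv_cancel₀ ha0
    have h2 : (a - 1) * (a - 1) = 0 := by
      have h3 : (2 : F) = 0 := CharTwo.two_eq_zero
      linear_combination h1 - (a - 1) * h3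
    exact ha1 (sub_eq_zero.1 (mul_self_eq_zero.1 h2))
  obtain ⟨u, hu, hun, huv, l₀, hyu⟩ : ∃ u, Fx u ∧ (∀ c : F, u ≠ c • e₀) ∧ (∀ b, b ≠ 0 → t b • u = b • u) ∧
      ∃ l₀ : F, n₀ • e₀ = u - l₀ • e₀ := by
    have hy : Fx (n₀ • e₀) := FxN _ hn₀ _ Fxe
    obtain ⟨c, hc⟩ := FxD (t a • n₀ • e₀ - a • n₀ • e₀) (Fxsub _ _ (FxN _ (TN a ha0) _ hy) (Fxsmul _ _ hy))
      (τ.P a ha0 _ (FxP _ hy))
    have hc' : t a • n₀ • e₀ = a • n₀ • e₀ + c • e₀ := by rw [← hc]; abel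
    have hcd : c / (a - a⁻¹) * (a - a⁻¹) = c := div_mul_cancel₀ _ haa
    obtain ⟨u, hu⟩ : ∃ u, u = n₀ • e₀ + (c / (a - a⁻¹)) • e₀ := ⟨_, rfl⟩
    have hun : ∀ c : F, u ≠ c • e₀ := by
      intro c' h
      apply hy0 (c' - c / (a - a⁻¹))
      rw [sub_smul, ← h, hu]; abel
    have hta : t a • u = a • u := by
      rw [hu, smul_add, hc', τ.lin a ha0, τ.e a ha0, smul_add, smul_smul, smul_smul, add_assoc, ← add_smul]
      congr 2
      linear_combination -hcd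
    have hFu : Fx u := by
      rw [hu]
      exact Fxadd _ _ hy (Fxsmul _ _ Fxe)
    refine ⟨u, hFu, hun, fun b hb => ?_, c / (a - a⁻¹), by rw [hu]; abel⟩
    obtain ⟨c', hc'⟩ := FxD (t b • u - b • u) (Fxsub _ _ (FxN _ (TN b hb) _ hFu) (Fxsmul _ _ hFu))
      (τ.P b hb _ (FxP _ hFu))
    have h1 : t b • u = b • u + c' • e₀ := by rw [← hc']; abel
    have h2 : t a • t b • u = t b • t a • u := by rw [smul_smul, smul_smul, τ.comm a b ha0 hb]
    have h2' : t a • t b • u = (a * b) • u + (c' * a⁻¹) • e₀ := by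
      rw [h1, smul_add, τ.lin a ha0, τ.lin a ha0, hta, τ.e a ha0, smul_smul, smul_smul, mul_comm b a]
    have h2'' : t b • t a • u = (a * b) • u + (a * c') • e₀ := by
      rw [hta, τ.lin b hb, h1, smul_add, smul_smul, smul_smul]
    rw [h2', h2''] at h2
    have h3 := add_left_cancel h2
    have h4 : c' = 0 := by
      by_contra hc0
      have h5 : (c' * a⁻¹ - a * c') • e₀ = 0 := by rw [sub_smul, h3, sub_self]
      rcases smul_eq_zero.1 h5 with h6 | h6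
      · apply haa
        have h7 : c' * (a - a⁻¹) = 0 := by linear_combination -h6
        exact (mul_eq_zero.1 h7).resolve_left hc0
      · exact d.ne h6
    rw [h1, h4, zero_smul, add_zero]
  have he0 : e₀ ≠ 0 := d.ne
  have hu0 : u ≠ 0 := fun h => hun 0 (by rw [h, zero_smul])
  have heu : ∀ c : F, e₀ ≠ c • u := by
    intro c h
    by_cases hc : c = 0
    · rw [hc, zero_smul] at h; exact he0 h
    · apply hun c⁻¹
      rw [h, smul_smul, inv_mul_cancel₀ hc, one_smul]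
  have indep : ∀ α β : F, α • e₀ + β • u = 0 → α = 0 ∧ β = 0 := by
    intro α β h
    have hβ : β = 0 := by
      by_contra hβ
      apply hun (-(β⁻¹ * α))
      have h1 : β • u = -(α • e₀) := by rw [eq_neg_iff_add_eq_zero, add_comm]; exact h
      have h2 : u = β⁻¹ • β • u := by rw [smul_smul, inv_mul_cancel₀ hβ, one_smul]
      rw [h2, h1, smul_neg, neg_smul, smul_smul]
    rw [hβ, zero_smul, add_zero] at h
    exact ⟨(smul_eq_zero.1 h).resolve_right he0, hβ⟩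
  have decomp : ∀ z, Fx z → ∃ α β : F, z = α • e₀ + β • u := fun z hz => dim2 e₀ u z Fxe hu hz he0 hun
  -- eigenvectors
  have eig : ∀ z, Fx z → (∃ μ : F, t a • z = μ • z) → (∃ c : F, z = c • e₀) ∨ ∃ c : F, z = c • u := by
    rintro z hz ⟨μ, hμ⟩
    obtain ⟨α, β, rfl⟩ := decomp z hz
    by_cases hα : α = 0
    · right; exact ⟨β, by rw [hα, zero_smul, zero_add]⟩
    by_cases hβ : β = 0
    · left; exact ⟨α, by rw [hβ, zero_smul, add_zero]⟩
    exfalso
    rw [smul_add, τ.lin a ha0, τ.lin a ha0, τ.e a ha0, huv a ha0, smul_add, smul_smul, smul_smul, smul_smul,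
      smul_smul] at hμ
    have h1 : (α * a⁻¹ - μ * α) • e₀ + (β * a - μ * β) • u = 0 := by
      rw [sub_smul, sub_smul, sub_add_sub_comm, hμ, sub_self]
    obtain ⟨h2, h3⟩ := indep _ _ h1
    have h4 : a⁻¹ = μ := mul_left_cancel₀ hα (by rw [mul_comm α μ]; exact sub_eq_zero.1 h2)
    have h5 : a = μ := mul_left_cancel₀ hβ (by rw [mul_comm β μ]; exact sub_eq_zero.1 h3)
    exact haa (by rw [h4, ← h5, sub_self])
  -- membership in `F e₀`, `F u`, semilinearity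
  have sm : ∀ (g : H) (v w : M), (∃ c : F, v = c • w) → ∃ c : F, g • v = c • g • w := by
    rintro g v w ⟨c, rfl⟩
    obtain ⟨σ, -, hσ⟩ := d.semi g
    exact ⟨σ c, hσ c w⟩
  have tr : ∀ (u v w : M), (∃ c : F, u = c • v) → (∃ c : F, v = c • w) → ∃ c : F, u = c • w := by
    rintro u v w ⟨c, rfl⟩ ⟨c', rfl⟩
    exact ⟨c * c', smul_smul _ _ _⟩
  have sy : ∀ (v w : M), v ≠ 0 → (∃ c : F, v = c • w) → ∃ c : F, w = c • v := by
    rintro v w hv ⟨c, rfl⟩
    have hc : c ≠ 0 := fun h => hv (by rw [h, zero_smul])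
    exact ⟨c⁻¹, by rw [smul_smul, inv_mul_cancel₀ hc, one_smul]⟩
  have nz : ∀ (g : H) (v : M), v ≠ 0 → g • v ≠ 0 := fun g v hv h => hv ((smul_eq_zero_iff_eq g).1 h)
  -- the stabiliser `K` of `F e₀` in `N`
  let K : Subgroup H :=
    { carrier := {g | g ∈ N ∧ ∃ c : F, g • e₀ = c • e₀}
      one_mem' := ⟨one_mem _, 1, by rw [one_smul, one_smul]⟩
      mul_mem' := by
        rintro g h ⟨hg, hg'⟩ ⟨hh, hh'⟩
        refine ⟨mul_mem hg hh, ?_⟩
        rw [mul_smul]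
        exact tr _ _ _ (sm g _ _ hh') hg'
      inv_mem' := by
        rintro g ⟨hg, hg'⟩
        refine ⟨N.inv_mem hg, ?_⟩
        have h1 := sm g⁻¹ _ _ (sy _ _ (nz g _ he0) hg')
        rwa [inv_smul_smul] at h1 }
  have hK : ∀ g, g ∈ K ↔ g ∈ N ∧ ∃ c : F, g • e₀ = c • e₀ := fun g => Iff.rfl
  have TK : ∀ b, b ≠ 0 → t b ∈ K := fun b hb => ⟨TN b hb, b⁻¹, τ.e b hb⟩
  have hSK : (S : Subgroup H) ≤ K := by
    intro s hs
    refine ⟨?_, τ.Se s hs⟩
    rw [Subgroup.mem_normalizer_iff]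
    intro x
    constructor
    · rintro ⟨h1, h2⟩
      exact ⟨(S : Subgroup H).mul_mem ((S : Subgroup H).mul_mem hs h1) ((S : Subgroup H).inv_mem hs),
        hEn.conj_mem x h2 s⟩
    · rintro ⟨h1, h2⟩
      have h3 := (S : Subgroup H).mul_mem ((S : Subgroup H).mul_mem ((S : Subgroup H).inv_mem hs) h1) hs
      have h4 := hEn.conj_mem _ h2 s⁻¹
      have e1 : s⁻¹ * (s * x * s⁻¹) * s = x := by group
      have e2 : s⁻¹ * (s * x * s⁻¹) * s⁻¹⁻¹ = x := by group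
      rw [e1] at h3
      rw [e2] at h4
      exact ⟨h3, h4⟩
  have hKodd : ¬ 2 ∣ K.index := fun h => S.not_dvd_index (h.trans (index_dvd_of_le hSK))
  -- `K` fixes `F u`
  have Ku : ∀ g ∈ K, ∃ c : F, g • u = c • u := by
    intro g hg
    have hgi := inv_mem hg
    have h1 : ∃ μ : F, t a • g • u = μ • g • u := by
      obtain ⟨b, hb, a', ha', h2⟩ := τ.N g⁻¹ ((hK _).1 hgi).2 a ha0
      rw [inv_inv] at h2
      have h3 : t a • g • u = g • (g⁻¹ * t a * g) • u := by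
        rw [smul_smul, smul_smul]
        congr 1
        group
      rw [h3, h2, mul_smul, FxA u hu a' ha', huv b hb]
      exact sm g _ _ ⟨b, rfl⟩
    rcases eig _ (FxN g hg.1 _ hu) h1 with h2 | h2
    · exfalso
      have h3 := sm g⁻¹ _ _ h2
      rw [inv_smul_smul] at h3
      obtain ⟨c, hc⟩ := tr _ _ _ h3 ((hK _).1 hgi).2
      exact hun c hc
    · exact h2
  -- some `x ∈ N` moves `F e₀` to `F u`
  obtain ⟨x, hxN, ρ, hρ⟩ : ∃ x ∈ N, ∃ c : F, x • e₀ = c • u := by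
    by_contra hcon
    push Not at hcon
    have hl : l₀ ≠ 0 := by
      intro h0
      apply hcon n₀ hn₀ 1
      rw [hyu, h0, zero_smul, sub_zero, one_smul]
    have hfin : Fintype F := Fintype.ofFinite F
    -- all points are reached
    have hex : ∀ c : F, ∃ g ∈ N, ∃ γ : F, γ ≠ 0 ∧ g • e₀ = γ • (e₀ + c • u) := by
      intro c
      by_cases hc0 : c = 0
      · exact ⟨1, one_mem _, 1, one_ne_zero, by rw [hc0, zero_smul, add_zero, one_smul, one_smul]⟩
      have hsq : ∀ z : F, ∃ b : F, b * b = z := by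
        intro z
        obtain ⟨b, hb⟩ := FiniteField.isSquare_of_char_two (ringChar.eq F 2) z
        exact ⟨b, hb.symm⟩
      obtain ⟨b, hb⟩ := hsq (-(c * l₀))
      have hb0 : b ≠ 0 := by
        intro h0
        rw [h0, mul_zero, eq_comm, neg_eq_zero] at hb
        exact (mul_ne_zero hc0 hl) hb
      refine ⟨t b * n₀, mul_mem (TN b hb0) hn₀, -(l₀ * b⁻¹), neg_ne_zero.2 (mul_ne_zero hl (inv_ne_zero hb0)), ?_⟩
      rw [mul_smul, hyu, smul_sub, τ.lin b hb0, τ.e b hb0, huv b hb0, smul_add, smul_smul, smul_smul, neg_smul,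
        sub_eq_add_neg, add_comm]
      congr 2
      have h1 : b⁻¹ * (b * b) = b := by rw [← mul_assoc, inv_mul_cancel₀ hb0, one_mul]
      calc b = b⁻¹ * (b * b) := h1.symm
        _ = b⁻¹ * (-(c * l₀)) := by rw [hb]
        _ = -(l₀ * b⁻¹) * c := by ring
    choose g hgN γ hγ hg using hex
    have hcard : Nat.card F = Nat.card (↥N ⧸ K.subgroupOf N) := by
      refine Nat.card_eq_of_bijective (fun c => (QuotientGroup.mk ⟨g c, hgN c⟩ : ↥N ⧸ K.subgroupOf N)) ⟨?_, ?_⟩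
      · intro c c' h
        have h1 : (g c)⁻¹ * g c' ∈ K := mem_subgroupOf.1 (QuotientGroup.eq.1 h)
        obtain ⟨α, hα⟩ := sm (g c) _ _ h1.2
        rw [smul_smul, mul_inv_cancel_left, hg, hg, smul_smul, smul_add, smul_add, smul_smul, smul_smul] at hα
        have h2 : (γ c' - α * γ c) • e₀ + (γ c' * c' - α * γ c * c) • u = 0 := by
          rw [sub_smul, sub_smul, sub_add_sub_comm, hα, sub_self]
        obtain ⟨h3, h4⟩ := indep _ _ h2
        rw [sub_eq_zero] at h3 h4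
        rw [← h3] at h4
        exact (mul_left_cancel₀ (hγ c') h4).symm
      · intro q
        obtain ⟨⟨h, hh⟩, rfl⟩ := QuotientGroup.mk_surjective q
        obtain ⟨α, β, hαβ⟩ := decomp _ (FxN h hh _ Fxe)
        have hα : α ≠ 0 := by
          intro h0
          apply hcon h hh β
          rw [hαβ, h0, zero_smul, zero_add]
        refine ⟨β / α, ?_⟩
        refine QuotientGroup.eq.2 (mem_subgroupOf.2 ?_)
        change (g (β / α))⁻¹ * h ∈ K
        refine ⟨mul_mem (inv_mem (hgN _)) hh, ?_⟩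
        rw [mul_smul, hαβ]
        have h1 : α • e₀ + β • u = (α * (γ (β / α))⁻¹) • g (β / α) • e₀ := by
          rw [hg, smul_smul, mul_assoc, inv_mul_cancel₀ (hγ _), mul_one, smul_add, smul_smul, mul_div_cancel₀ _ hα]
        rw [h1]
        have h2 := sm (g (β / α))⁻¹ _ _ (⟨_, rfl⟩ : ∃ c : F, (α * (γ (β / α))⁻¹) • g (β / α) • e₀ = c • g (β / α) • e₀)
        rwa [inv_smul_smul] at h2
    have h2 : 2 ∣ Nat.card F := by
      rw [Nat.card_eq_fintype_card]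
      obtain ⟨n, -, hn⟩ := FiniteField.card F 2
      rw [hn]
      exact dvd_pow_self 2 n.ne_zero
    rw [hcard] at h2
    have hKN : K ≤ N := fun g hg => hg.1
    exact hKodd (h2.trans (relIndex_dvd_index_of_le hKN))
  have hρ0 : ρ ≠ 0 := fun h => nz x _ he0 (by rw [hρ, h, zero_smul])
  have hxu : ∃ c : F, x⁻¹ • u = c • e₀ := by
    have h1 := sm x⁻¹ _ _ (sy _ _ (nz x _ he0) ⟨ρ, hρ⟩)
    rwa [inv_smul_smul] at h1
  -- `x` normalises `K`
  have hxi : x⁻¹ ∈ normalizer (K : Set H) := by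
    refine mem_normalizer_fintype fun k hk => ?_
    rw [inv_inv]
    refine ⟨mul_mem (mul_mem (inv_mem hxN) hk.1) hxN, ?_⟩
    rw [mul_smul, mul_smul, hρ]
    have h1 := sm k _ _ (⟨ρ, rfl⟩ : ∃ c : F, ρ • u = c • u)
    have h2 := sm x⁻¹ _ _ (tr _ _ _ h1 (Ku k hk))
    exact tr _ _ _ h2 hxu
  have hxn : x ∈ normalizer (K : Set H) := by
    have := inv_mem hxi
    rwa [inv_inv] at this
  have hxK : x ∉ K := by
    rintro ⟨-, c, hc⟩
    rw [hρ] at hc
    apply hun (ρ⁻¹ * c)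
    rw [mul_smul, ← hc, smul_smul, inv_mul_cancel₀ hρ0, one_smul]
  have hxx : x * x ∈ K := by
    refine ⟨mul_mem hxN hxN, ?_⟩
    have h1 : ∃ μ : F, t a • x • u = μ • x • u := by
      have h2 : x⁻¹ * t a * x ∈ K := by
        have := (mem_normalizer_iff.1 hxi (t a)).1 (TK a ha0)
        rwa [inv_inv] at this
      have h3 : t a • x • u = x • (x⁻¹ * t a * x) • u := by
        rw [smul_smul, smul_smul]
        congr 1
        group
      rw [h3]
      exact sm x _ _ (Ku _ h2)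
    rw [mul_smul, hρ]
    have h2 := sm x _ _ (⟨ρ, rfl⟩ : ∃ c : F, ρ • u = c • u)
    refine tr _ _ _ h2 ?_
    rcases eig _ (FxN x hxN _ hu) h1 with h3 | h3
    · exact h3
    · exfalso
      have h4 := sm x⁻¹ _ _ (sy _ _ (nz x _ hu0) h3)
      rw [inv_smul_smul] at h4
      obtain ⟨c, hc⟩ := tr _ _ _ (sy _ _ (nz x⁻¹ _ hu0) h4) hxu
      exact hun c hc
  exact hKodd (even_index hxn hxK hxx)

/-- **THEOREM D** -/
theorem main (hF : ∃ a : F, a ≠ 0 ∧ a ≠ 1) (hc : Cen F ((S : Subgroup H) ⊓ E) (sp F E e₀)) :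
    sp F E e₀ = ⊤ ∧ (∀ x : M, (∀ s ∈ (S : Subgroup H) ⊓ E, s • x = x) → ∃ c : F, x = c • e₀) ∧
      (∀ n ∈ normalizer (((S : Subgroup H) ⊓ E : Subgroup H) : Set H), ∃ c : F, n • e₀ = c • e₀) ∧
      ∀ h : H, ∃ g ∈ E, ∃ n, n ∈ normalizer (((S : Subgroup H) ⊓ E : Subgroup H) : Set H) ∧
        (∃ c : F, n • e₀ = c • e₀) ∧ h = g * n := by
  have hEn := d.normal
  have h1 : ∀ n ∈ normalizer (((S : Subgroup H) ⊓ E : Subgroup H) : Set H), ∃ c : F, n • e₀ = c • e₀ :=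
    fun n hn => line_of_mem S d τ hF hc hn
  have h2 : ∀ h : H, ∃ g ∈ E, ∃ n, n ∈ normalizer (((S : Subgroup H) ⊓ E : Subgroup H) : Set H) ∧
      (∃ c : F, n • e₀ = c • e₀) ∧ h = g * n := by
    intro h
    have h3 : h ∈ E ⊔ normalizer (((S : Subgroup H) ⊓ E : Subgroup H) : Set H) := by
      rw [sup_comm, frattini S E]
      trivial
    rw [← SetLike.mem_coe, Subgroup.normal_mul] at h3
    obtain ⟨g, hg, n, hn, rfl⟩ := h3
    exact ⟨g, hg, n, hn, h1 n hn, rfl⟩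
  have h3 : sp F E e₀ = ⊤ := by
    refine d.span _ fun h => ?_
    obtain ⟨g, hg, n, -, ⟨c, hc⟩, rfl⟩ := h2 h
    rw [mul_smul, hc, d.lin g hg]
    exact Submodule.smul_mem _ _ (d.mem_sp hg _)
  refine ⟨h3, fun x hx => ?_, h1, h2⟩
  obtain ⟨v, hv⟩ := hc
  rw [h3] at hv
  exact d.prop_of_one (inf_le_right : (S : Subgroup H) ⊓ E ≤ E) hv (fun s hs => τ.SEe s hs) hx d.ne

end main

end Cfsg.Agent.Omega.Lie.ThmD

end

section


/-!
# Matrix core of the rows `PSL_n(r)`, `PSU_n(r)`, `r` odd, of the K-fact (ZS) (helper584; NODE LIE)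

* `of_cent`: `E` a 2-subgroup of `X`, any two elements of square 1 in `C_X(E)` which are conjugate under `MulAut X` are
  equal: then `NoCenMove X`;
* `closure_insert`: generating 2-groups step by step;
* `mono s p`: signed permutation matrices; `sg f`: sign matrices;
* `core` (`n ≠ 4`): `M` invertible, `M²` scalar, `M` commutes up to scalars with all `mono s p` of determinant 1,
  `s = ±1`, `p ∈ P`: then `M = a • sg f` and `f` is shifted by `P`;
* `conj_card`: `sg g * C = κ • (C * sg f)`, `C` invertible: the numbers of ones of `f`, `g` are equal or complementary;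
* `core4` (`n = 4`): the same with `Q₈ × Q₈` and the block swap.
-/

set_option autoImplicit false
set_option linter.dupNamespace false

namespace Cfsg.Agent.Omega.Lie.CenMat

open Matrix Equiv

/-! ### group theory -/

section grp

variable {X : Type*} [Group X] [Finite X]

/-- the criterion: any two `MulAut`-conjugate elements of square 1 in `C_X(E)` are equal -/
theorem of_cent {E : Subgroup X} (hE : IsPGroup 2 E)
    (h : ∀ (u : X) (τ : MulAut X), (∀ e ∈ E, e * u = u * e) → (∀ e ∈ E, e * τ u = τ u * e) →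
      u * u = 1 → τ u = u) : CenTwo.NoCenMove X := by
  have : Fact (Nat.Prime 2) := ⟨Nat.prime_two⟩
  obtain ⟨S', hS'⟩ := hE.exists_le_sylow
  refine CenTwo.NoCenMove.of_one (S := S') ?_
  intro τ _ hS u hu hc huu
  refine h u τ (fun e he => hc e (hS' he)) (fun e he => ?_) huu
  obtain ⟨y, hy, hye⟩ := CenTwo.exists_preimage (S := (S' : Subgroup X)) hS (hS' he)
  rw [← hye, ← map_mul, hc y hy, map_mul]

/-- a 2-group extended by a 2-element normalising it -/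
theorem closure_insert {S : Set X} (hS : IsPGroup 2 (Subgroup.closure S)) {w : X} {k : ℕ}
    (hw : w ^ (2 ^ k) = 1) (h : ∀ s ∈ S, w * s * w⁻¹ ∈ Subgroup.closure S) :
    IsPGroup 2 (Subgroup.closure (insert w S)) := by
  have : Fact (Nat.Prime 2) := ⟨Nat.prime_two⟩
  have hle : Subgroup.map (MulAut.conj w).toMonoidHom (Subgroup.closure S) ≤ Subgroup.closure S := by
    rw [MonoidHom.map_closure, Subgroup.closure_le]
    rintro _ ⟨s, hs, rfl⟩
    exact h s hs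
  have hcard : Nat.card (Subgroup.map (MulAut.conj w).toMonoidHom (Subgroup.closure S))
      = Nat.card (Subgroup.closure S) :=
    Nat.card_congr ((Subgroup.closure S).equivMapOfInjective _ (MulAut.conj w).injective).symm.toEquiv
  have heq : Subgroup.map (MulAut.conj w).toMonoidHom (Subgroup.closure S) = Subgroup.closure S :=
    Subgroup.eq_of_le_of_card_ge hle (le_of_eq hcard.symm)
  have hN : Subgroup.zpowers w ≤ Subgroup.normalizer (Subgroup.closure S : Set X) := by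
    rw [Subgroup.zpowers_le, Subgroup.mem_normalizer_iff]
    intro g
    constructor
    · intro hg
      exact hle ⟨g, hg, rfl⟩
    · intro hg
      have hg' : w * g * w⁻¹ ∈ Subgroup.map (MulAut.conj w).toMonoidHom (Subgroup.closure S) := by
        rw [heq]; exact hg
      obtain ⟨y, hy, hyx⟩ := hg'
      have h2 : y = g := (MulAut.conj w).injective (by simpa only [_root_.MulAut.conj_apply, _root_.mul_left_inj, _root_.mul_right_inj, _root_.MulEquiv.toMonoidHom_eq_coe, _root_.MonoidHom.coe_coe] using hyx)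
      rw [← h2]; exact hy
  have h1 : IsPGroup 2 (Subgroup.zpowers w) := by
    rintro ⟨x, hx⟩
    obtain ⟨m, rfl⟩ := Subgroup.mem_zpowers_iff.1 hx
    refine ⟨k, ?_⟩
    apply Subtype.ext
    change (w ^ m) ^ (2 ^ k) = 1
    rw [← _root_.zpow_natCast, ← _root_.zpow_mul, mul_comm, _root_.zpow_mul, _root_.zpow_natCast, hw, _root_.one_zpow]
  have h2 : IsPGroup 2 (Subgroup.zpowers w ⊔ Subgroup.closure S : Subgroup X) :=
    IsPGroup.to_sup_of_normal_right' h1 hS hN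
  have h3 : Subgroup.closure (insert w S) = Subgroup.zpowers w ⊔ Subgroup.closure S := by
    rw [Set.insert_eq, Subgroup.closure_union, Subgroup.zpowers_eq_closure]
  rw [h3]
  exact h2

end grp

/-! ### signed permutation matrices -/

section mat

variable {ι F : Type*} [Fintype ι] [DecidableEq ι] [Field F]

/-- signed permutation matrices -/
def mono (s : ι → F) (p : Perm ι) : Matrix ι ι F := fun i j => if i = p j then s i else 0

omit [Fintype ι] in
theorem mono_apply (s : ι → F) (p : Perm ι) (i j : ι) :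
    mono s p i j = if i = p j then s i else 0 := rfl

omit [Fintype ι] in
theorem mono_one : mono (fun _ => (1 : F)) (1 : Perm ι) = 1 := by
  ext i j
  rw [mono_apply, one_apply]
  rfl

omit [Fintype ι] in
theorem mono_diag (s : ι → F) : mono s (1 : Perm ι) = diagonal s := by
  ext i j
  rw [mono_apply, diagonal_apply]
  rfl

theorem mono_mul (s t : ι → F) (p r : Perm ι) :
    mono s p * mono t r = mono (fun i => s i * t (p⁻¹ i)) (p * r) := by
  ext i k
  rw [mul_apply, Finset.sum_eq_single (r k)]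
  · rw [mono_apply, mono_apply, mono_apply, if_pos rfl, Perm.mul_apply]
    by_cases h : i = p (r k)
    · rw [if_pos h, if_pos h]
      have : p⁻¹ i = r k := by rw [h]; simp
      rw [this]
    · rw [if_neg h, if_neg h, zero_mul]
  · intro j _ hj
    rw [mono_apply t, if_neg hj, mul_zero]
  · intro h; exact absurd (Finset.mem_univ _) h

theorem mono_eq (s : ι → F) (p : Perm ι) :
    mono s p = diagonal s * (1 : Matrix ι ι F).submatrix id p := by
  ext i j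
  rw [mono_apply, diagonal_mul, submatrix_apply, one_apply, id]
  by_cases h : i = p j
  · rw [if_pos h, if_pos h, mul_one]
  · rw [if_neg h, if_neg h, mul_zero]

theorem det_mono (s : ι → F) (p : Perm ι) :
    (mono s p).det = (∏ i, s i) * ((Perm.sign p : ℤ) : F) := by
  rw [mono_eq, det_mul, det_diagonal, det_permute', det_one, mul_one]

/-- for each permutation there is a choice of signs with determinant one -/
theorem exists_signs [Nonempty ι] (p : Perm ι) :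
    ∃ s : ι → F, (∀ i, s i * s i = 1) ∧ (mono s p).det = 1 := by
  rcases Int.units_eq_one_or (Perm.sign p) with h | h
  · refine ⟨fun _ => 1, fun _ => by rw [one_mul], ?_⟩
    rw [det_mono, h]; simp
  · obtain ⟨i0⟩ := (inferInstance : Nonempty ι)
    refine ⟨fun i => if i = i0 then -1 else 1, fun i => ?_, ?_⟩
    · by_cases hi : i = i0
      · simp [hi]
      · simp [hi]
    · rw [det_mono, h, Finset.prod_ite_eq' Finset.univ i0 (fun _ => (-1 : F))]
      simp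

/-- the sign of an element of `ZMod 2` -/
def sgn (F : Type*) [Field F] (x : ZMod 2) : F := if x = 1 then -1 else 1

theorem sgn_zero : sgn F 0 = 1 := by
  rw [sgn, if_neg (by decide)]

theorem sgn_one : sgn F 1 = -1 := by
  rw [sgn, if_pos rfl]

theorem sgn_add (x y : ZMod 2) : sgn F (x + y) = sgn F x * sgn F y := by
  have h01 : ∀ x : ZMod 2, x = 0 ∨ x = 1 := by decide
  rcases h01 x with rfl | rfl <;> rcases h01 y with rfl | rfl
  · rw [add_zero, sgn_zero, mul_one]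
  · rw [zero_add, sgn_zero, one_mul]
  · rw [add_zero, sgn_zero, mul_one]
  · rw [CharTwo.add_self_eq_zero, sgn_zero, sgn_one]; ring

theorem sgn_mul_self (x : ZMod 2) : sgn F x * sgn F x = 1 := by
  rw [← sgn_add, CharTwo.add_self_eq_zero, sgn_zero]

theorem sgn_ne_zero (x : ZMod 2) : sgn F x ≠ 0 := by
  intro h
  have := sgn_mul_self (F := F) x
  rw [h, zero_mul] at this
  exact zero_ne_one this

theorem neg_one_ne_one (h2 : (2 : F) ≠ 0) : (-1 : F) ≠ 1 := by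
  intro h
  apply h2
  linear_combination -h

theorem sgn_inj (h2 : (2 : F) ≠ 0) {x y : ZMod 2} (h : sgn F x = sgn F y) : x = y := by
  have h01 : ∀ x : ZMod 2, x = 0 ∨ x = 1 := by decide
  rcases h01 x with rfl | rfl <;> rcases h01 y with rfl | rfl
  · rfl
  · rw [sgn_zero, sgn_one] at h; exact absurd h.symm (neg_one_ne_one h2)
  · rw [sgn_zero, sgn_one] at h; exact absurd h (neg_one_ne_one h2)
  · rfl

/-- the sign matrix of a `0-1`-function -/
def sg (F : Type*) [Field F] (f : ι → ZMod 2) : Matrix ι ι F := diagonal fun i => sgn F (f i)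

theorem sg_mul_self (f : ι → ZMod 2) : sg F f * sg F f = 1 := by
  rw [sg, diagonal_mul_diagonal]
  simp only [sgn_mul_self]
  exact diagonal_one

omit [Fintype ι] in
theorem sg_add_one (f : ι → ZMod 2) : sg F (fun i => f i + 1) = -sg F f := by
  rw [sg, sg, diagonal_neg]
  congr 1
  funext i
  rw [sgn_add, sgn_one, mul_neg, mul_one]

/-- ranks of two diagonal matrices which are equivalent by an invertible matrix -/
theorem card_eq_of_conj {u v : ι → F} [DecidablePred fun i => v i ≠ 0]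
    [DecidablePred fun i => u i ≠ 0] {C : Matrix ι ι F} (hC : IsUnit C.det)
    (h : diagonal v * C = C * diagonal u) :
    (Finset.univ.filter fun i => v i ≠ 0).card = (Finset.univ.filter fun i => u i ≠ 0).card := by
  classical
  have h1 := rank_mul_eq_left_of_isUnit_det C (diagonal v) hC
  have h2 := rank_mul_eq_right_of_isUnit_det C (diagonal u) hC
  rw [h, h2, rank_diagonal, rank_diagonal, Fintype.card_subtype, Fintype.card_subtype] at h1
  convert h1.symm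

theorem conj_card (h2 : (2 : F) ≠ 0) {f g : ι → ZMod 2} {C : Matrix ι ι F} (hC : IsUnit C.det)
    {κ : F} (h : sg F g * C = κ • (C * sg F f)) :
    (Finset.univ.filter fun i => f i = 1).card = (Finset.univ.filter fun i => g i = 1).card ∨
      (Finset.univ.filter fun i => f i = 1).card = (Finset.univ.filter fun i => g i = 0).card := by
  classical
  have h01 : ∀ x : ZMod 2, x = 0 ∨ x = 1 := by decide
  rcases isEmpty_or_nonempty ι with hι | ⟨⟨i0⟩⟩
  · left; simp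
  have hκ : κ * κ = 1 := by
    have h3 : C = (κ * κ) • C := by
      calc C = (sg F g * sg F g) * C := by rw [sg_mul_self, one_mul]
        _ = sg F g * (κ • (C * sg F f)) := by rw [mul_assoc, h]
        _ = κ • ((sg F g * C) * sg F f) := by rw [Matrix.mul_smul, mul_assoc]
        _ = (κ * κ) • (C * (sg F f * sg F f)) := by
            rw [h, Matrix.smul_mul, smul_smul, mul_assoc]
        _ = (κ * κ) • C := by rw [sg_mul_self, mul_one]
    obtain ⟨D, hD⟩ : ∃ D, C * D = 1 := ⟨C⁻¹, mul_nonsing_inv C hC⟩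
    have h4 : (1 : Matrix ι ι F) = (κ * κ) • (1 : Matrix ι ι F) := by
      rw [← hD, ← Matrix.smul_mul, ← h3]
    have h5 := congrFun (congrFun h4 i0) i0
    rw [Matrix.smul_apply, one_apply_eq, smul_eq_mul, mul_one] at h5
    exact h5.symm
  have hκ' : κ = 1 ∨ κ = -1 := by
    have h3 : (κ - 1) * (κ + 1) = 0 := by linear_combination hκ
    rcases mul_eq_zero.1 h3 with h4 | h4
    · left; exact sub_eq_zero.1 h4
    · right; exact eq_neg_of_add_eq_zero_left h4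
  rcases hκ' with rfl | rfl
  · left
    rw [one_smul] at h
    have h3 : diagonal (fun i => sgn F (g i) - 1) * C = C * diagonal (fun i => sgn F (f i) - 1) := by
      have e1 : diagonal (fun i => sgn F (g i) - 1) = sg F g - 1 := by
        rw [sg, ← diagonal_one, diagonal_sub]
      have e2 : diagonal (fun i => sgn F (f i) - 1) = sg F f - 1 := by
        rw [sg, ← diagonal_one, diagonal_sub]
      rw [e1, e2, sub_mul, mul_sub, h, one_mul, mul_one]
    have h4 := card_eq_of_conj hC h3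
    have key : ∀ f : ι → ZMod 2, (Finset.univ.filter fun i => sgn F (f i) - 1 ≠ 0)
        = Finset.univ.filter fun i => f i = 1 := by
      intro f
      refine Finset.filter_congr fun i _ => ?_
      rcases h01 (f i) with h | h
      · rw [h, sgn_zero]; simp only [_root_.sub_self, _root_.ne_eq, _root_.not_true_eq_false, _root_.zero_ne_one]
      · rw [h, sgn_one]
        have : (-1 : F) - 1 ≠ 0 := fun h => neg_one_ne_one h2 (sub_eq_zero.1 h)
        simp [this]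
    rw [key, key] at h4
    exact h4.symm
  · right
    have h3 : diagonal (fun i => sgn F (g i) + 1) * C = C * diagonal (fun i => -sgn F (f i) + 1) := by
      have e1 : diagonal (fun i => sgn F (g i) + 1) = sg F g + 1 := by
        rw [sg, ← diagonal_one, diagonal_add]
      have e2 : diagonal (fun i => -sgn F (f i) + 1) = -sg F f + 1 := by
        rw [sg, ← diagonal_one, diagonal_neg, diagonal_add]
      rw [e1, e2, add_mul, mul_add, h, one_mul, mul_one, mul_neg, neg_smul, one_smul]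
    have h4 := card_eq_of_conj hC h3
    have key : (Finset.univ.filter fun i => sgn F (g i) + 1 ≠ 0)
        = Finset.univ.filter fun i => g i = 0 := by
      refine Finset.filter_congr fun i _ => ?_
      rcases h01 (g i) with h | h
      · rw [h, sgn_zero]
        have : (1 : F) + 1 ≠ 0 := by rwa [one_add_one_eq_two]
        simp [this]
      · rw [h, sgn_one]; simp only [_root_.neg_add_cancel, _root_.ne_eq, _root_.not_true_eq_false, _root_.one_ne_zero]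
    have key' : (Finset.univ.filter fun i => -sgn F (f i) + 1 ≠ 0)
        = Finset.univ.filter fun i => f i = 1 := by
      refine Finset.filter_congr fun i _ => ?_
      rcases h01 (f i) with h | h
      · rw [h, sgn_zero]; simp
      · rw [h, sgn_one]
        have : (- -1 : F) + 1 ≠ 0 := by rwa [neg_neg, one_add_one_eq_two]
        exact ⟨fun _ => rfl, fun _ => this⟩
    rw [key, key'] at h4
    exact h4.symm

/-- **the core for `n ≠ 4`** -/
theorem core (h2 : (2 : F) ≠ 0) (hn : 3 ≤ Fintype.card ι) (hn4 : Fintype.card ι ≠ 4)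
    {P : Set (Perm ι)} (h1 : (1 : Perm ι) ∈ P) {M : Matrix ι ι F} (hM : IsUnit M.det) {μ : F}
    (hμ : M * M = μ • (1 : Matrix ι ι F))
    (hE : ∀ s : ι → F, (∀ i, s i * s i = 1) → ∀ p ∈ P, (mono s p).det = 1 →
      ∃ c : F, M * mono s p = c • (mono s p * M)) :
    ∃ (a : F) (f : ι → ZMod 2), a ≠ 0 ∧ M = a • sg F f ∧
      ∀ p ∈ P, ∃ c, ∀ i, f (p i) = f i + c := by
  classical
  have hne : Nonempty ι := by
    rw [← Fintype.card_pos_iff]; omega
  have h01 : ∀ x : ZMod 2, x = 0 ∨ x = 1 := by decide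
  have hneg := neg_one_ne_one h2
  -- step 1: `M` commutes with the diagonal matrices with two entries `-1`
  have comm : ∀ i j : ι, i ≠ j → ∀ a b : ι,
      M a b * (if b = i ∨ b = j then -1 else 1) = (if a = i ∨ a = j then -1 else 1) * M a b := by
    intro i j hij a b
    set d : ι → F := fun k => if k = i ∨ k = j then -1 else 1 with hd
    have hdd : ∀ k, d k * d k = 1 := by
      intro k
      simp only [hd]
      by_cases hk : k = i ∨ k = j
      · rw [if_pos hk]; ring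
      · rw [if_neg hk]; ring
    have hdet : (mono d 1).det = 1 := by
      rw [det_mono, Perm.sign_one]
      have h3 : ∏ k, d k = 1 := by
        rw [Finset.prod_ite]
        have h4 : (Finset.univ.filter fun k => k = i ∨ k = j) = {i, j} := by
          ext k; simp
        rw [h4, Finset.prod_const, Finset.prod_const_one, Finset.card_pair hij]
        ring
      rw [h3]; simp
    obtain ⟨c, hc⟩ := hE d hdd 1 h1 hdet
    rw [mono_diag] at hc
    have hent : ∀ a b, M a b * d b = c * (d a * M a b) := by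
      intro a b
      have h3 := congrFun (congrFun hc a) b
      rw [mul_diagonal, Matrix.smul_apply, diagonal_mul, smul_eq_mul] at h3
      exact h3
    -- some entry is non zero
    obtain ⟨a0, b0, hab⟩ : ∃ a b, M a b ≠ 0 := by
      by_contra hno
      push Not at hno
      have h3 : M = 0 := by
        ext a b; exact hno a b
      rw [h3, det_zero] at hM
      exact not_isUnit_zero hM
    have hcc : c * c = 1 := by
      have h3 := hent a0 b0
      have h4 : d b0 = c * d a0 := by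
        apply mul_left_cancel₀ hab
        rw [h3]; ring
      have h5 := hdd b0
      rw [h4] at h5
      have h6 := hdd a0
      linear_combination h5 - c * c * h6
    have hc1 : c = 1 := by
      have h3 : (c - 1) * (c + 1) = 0 := by linear_combination hcc
      rcases mul_eq_zero.1 h3 with h4 | h4
      · exact sub_eq_zero.1 h4
      · exfalso
        have h5 : c = -1 := eq_neg_of_add_eq_zero_left h4
        have h6 : diagonal (fun k => -d k - 1) * M = M * diagonal (fun k => d k - 1) := by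
          ext a b
          rw [diagonal_mul, mul_diagonal]
          have h7 := hent a b
          rw [h5] at h7
          linear_combination -h7
        have h7 := card_eq_of_conj hM h6
        have h8 : (Finset.univ.filter fun k => d k - 1 ≠ 0) = {i, j} := by
          ext k
          simp only [Finset.mem_filter, Finset.mem_univ, true_and, Finset.mem_insert,
            Finset.mem_singleton, hd]
          by_cases hk : k = i ∨ k = j
          · rw [if_pos hk]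
            exact ⟨fun _ => hk, fun _ h => hneg (sub_eq_zero.1 h)⟩
          · rw [if_neg hk]
            exact ⟨fun h => absurd (sub_self _) h, fun h => absurd h hk⟩
        have h9 : (Finset.univ.filter fun k => -d k - 1 ≠ 0) = ({i, j} : Finset ι)ᶜ := by
          ext k
          simp only [Finset.mem_filter, Finset.mem_univ, true_and, Finset.mem_insert,
            Finset.mem_singleton, Finset.mem_compl, hd]
          by_cases hk : k = i ∨ k = j
          · rw [if_pos hk]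
            exact ⟨fun h => absurd (by ring) h, fun h => absurd hk h⟩
          · rw [if_neg hk]
            refine ⟨fun _ => hk, fun _ h => h2 ?_⟩
            linear_combination -h
        rw [h8, h9, Finset.card_compl, Finset.card_pair hij] at h7
        omega
    have h3 := hent a b
    rw [hc1, one_mul] at h3
    exact h3
  -- step 2: `M` is diagonal
  have hdiag : ∀ a b : ι, a ≠ b → M a b = 0 := by
    intro a b hab
    obtain ⟨k, hk⟩ : ∃ k : ι, k ∉ ({a, b} : Finset ι) := by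
      by_contra hno
      push Not at hno
      have h3 : (Finset.univ : Finset ι) ⊆ {a, b} := fun k _ => hno k
      have h4 := Finset.card_le_card h3
      rw [Finset.card_univ, Finset.card_pair hab] at h4
      omega
    have hka : a ≠ k := by
      rintro rfl; exact hk (by simp)
    have hkb : b ≠ k := by
      rintro rfl; exact hk (by simp)
    have h3 := comm a k hka a b
    rw [if_neg (by rintro (h | h); exacts [hab h.symm, hkb h]), if_pos (Or.inl rfl)] at h3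
    have h4 : (2 : F) * M a b = 0 := by linear_combination h3
    exact (mul_eq_zero.1 h4).resolve_left h2
  obtain ⟨i0⟩ := hne
  have hMd : M = diagonal fun i => M i i := by
    ext a b
    rw [diagonal_apply]
    by_cases hab : a = b
    · rw [if_pos hab, hab]
    · rw [if_neg hab, hdiag a b hab]
  have hsq : ∀ i, M i i * M i i = μ := by
    intro i
    have h3 := congrFun (congrFun hμ i) i
    rw [hMd, diagonal_mul_diagonal, diagonal_apply_eq, Matrix.smul_apply, one_apply_eq, smul_eq_mul,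
      mul_one] at h3
    exact h3
  have hne0 : ∀ i, M i i ≠ 0 := by
    intro i hi
    rw [hMd, det_diagonal] at hM
    exact hM.ne_zero (Finset.prod_eq_zero (Finset.mem_univ i) hi)
  have hpm : ∀ i, M i i = M i0 i0 ∨ M i i = -M i0 i0 := by
    intro i
    have h3 : (M i i - M i0 i0) * (M i i + M i0 i0) = 0 := by
      linear_combination hsq i - hsq i0
    rcases mul_eq_zero.1 h3 with h4 | h4
    · left; exact sub_eq_zero.1 h4
    · right; exact eq_neg_of_add_eq_zero_left h4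
  set a := M i0 i0 with ha
  let f : ι → ZMod 2 := fun i => if M i i = a then 0 else 1
  have hf : ∀ i, M i i = a * sgn F (f i) := by
    intro i
    simp only [f]
    by_cases hi : M i i = a
    · rw [if_pos hi, sgn_zero, mul_one, hi]
    · rw [if_neg hi, sgn_one]
      rcases hpm i with h | h
      · exact absurd h hi
      · rw [h]; ring
  refine ⟨a, f, hne0 i0, ?_, ?_⟩
  · ext i j
    rw [Matrix.smul_apply, sg, diagonal_apply, smul_eq_mul]
    by_cases hij : i = j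
    · rw [if_pos hij, ← hf, hij]
    · rw [if_neg hij, hdiag i j hij, mul_zero]
  · intro p hp
    have : Nonempty ι := ⟨i0⟩
    obtain ⟨s, hs, hdet⟩ := exists_signs (F := F) p
    obtain ⟨c, hc⟩ := hE s hs p hp hdet
    have hent : ∀ j, sgn F (f (p j)) = c * sgn F (f j) := by
      intro j
      have h3 := congrFun (congrFun hc (p j)) j
      rw [hMd, diagonal_mul, Matrix.smul_apply, mul_diagonal, smul_eq_mul, mono_apply, if_pos rfl, hf,
        hf] at h3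
      have h4 : s (p j) ≠ 0 := by
        intro h5
        have h6 := hs (p j)
        rw [h5, zero_mul] at h6
        exact zero_ne_one h6
      have h5 : a * s (p j) * sgn F (f (p j)) = a * s (p j) * (c * sgn F (f j)) := by
        linear_combination h3
      exact mul_left_cancel₀ (mul_ne_zero (hne0 i0) h4) h5
    have hcval : c = sgn F (f (p i0) + f i0) := by
      rw [sgn_add, hent i0, mul_assoc, sgn_mul_self, mul_one]
    refine ⟨f (p i0) + f i0, fun i => ?_⟩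
    apply sgn_inj h2
    rw [hent, hcval, sgn_add (f i), mul_comm]

theorem top_block (h2 : (2 : F) ≠ 0) {p q r : F} (h : p * p + q * r = -1)
    {M N : Matrix (Fin 4) (Fin 4) F} (hNM : N * M = 1) {c : F}
    (hc : M * !![p, q, 0, 0; r, -p, 0, 0; 0, 0, 1, 0; 0, 0, 0, 1]
      = c • (!![p, q, 0, 0; r, -p, 0, 0; 0, 0, 1, 0; 0, 0, 0, 1] * M)) :
    (M 0 2 = 0 ∧ M 0 3 = 0 ∧ M 1 2 = 0 ∧ M 1 3 = 0) ∧
    (M 2 0 = 0 ∧ M 2 1 = 0 ∧ M 3 0 = 0 ∧ M 3 1 = 0) ∧
    (M 0 0 * p + M 0 1 * r = p * M 0 0 + q * M 1 0 ∧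
      M 0 0 * q + M 0 1 * -p = p * M 0 1 + q * M 1 1) := by
  have e : ∀ i j, (M * !![p, q, 0, 0; r, -p, 0, 0; 0, 0, 1, 0; 0, 0, 0, 1]) i j
      = c * ((!![p, q, 0, 0; r, -p, 0, 0; 0, 0, 1, 0; 0, 0, 0, 1] : Matrix (Fin 4) (Fin 4) F) * M) i j := by
    intro i j; rw [hc]; rfl
  simp only [Matrix.mul_apply, Fin.sum_univ_four] at e
  have n : ∀ i j, N i 0 * M 0 j + N i 1 * M 1 j + N i 2 * M 2 j + N i 3 * M 3 j
      = (1 : Matrix (Fin 4) (Fin 4) F) i j := by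
    intro i j; rw [← hNM, Matrix.mul_apply, Fin.sum_univ_four]
  have d22 : M 2 2 = c * M 2 2 := by simpa only [_root_.Fin.isValue, _root_.Matrix.of_apply, _root_.Matrix.cons_val', _root_.Matrix.cons_val, _root_.Matrix.cons_val_fin_one, _root_.Matrix.cons_val_zero, _root_.MulZeroClass.mul_zero, _root_.Matrix.cons_val_one, _root_.add_zero, _root_.mul_one, _root_.zero_add, _root_.MulZeroClass.zero_mul, _root_.one_mul] using e 2 2
  have d23 : M 2 3 = c * M 2 3 := by simpa only [_root_.Fin.isValue, _root_.Matrix.of_apply, _root_.Matrix.cons_val', _root_.Matrix.cons_val, _root_.Matrix.cons_val_fin_one, _root_.Matrix.cons_val_zero, _root_.MulZeroClass.mul_zero, _root_.Matrix.cons_val_one, _root_.add_zero, _root_.mul_one, _root_.zero_add, _root_.MulZeroClass.zero_mul, _root_.one_mul] using e 2 3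
  have d32 : M 3 2 = c * M 3 2 := by simpa using e 3 2
  have d33 : M 3 3 = c * M 3 3 := by simpa using e 3 3
  have b02 : M 0 2 = c * (p * M 0 2 + q * M 1 2) := by simpa only [_root_.Fin.isValue, _root_.Matrix.of_apply, _root_.Matrix.cons_val', _root_.Matrix.cons_val, _root_.Matrix.cons_val_fin_one, _root_.Matrix.cons_val_zero, _root_.MulZeroClass.mul_zero, _root_.Matrix.cons_val_one, _root_.add_zero, _root_.mul_one, _root_.zero_add, _root_.MulZeroClass.zero_mul] using e 0 2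
  have b03 : M 0 3 = c * (p * M 0 3 + q * M 1 3) := by simpa only [_root_.Fin.isValue, _root_.Matrix.of_apply, _root_.Matrix.cons_val', _root_.Matrix.cons_val, _root_.Matrix.cons_val_fin_one, _root_.Matrix.cons_val_zero, _root_.MulZeroClass.mul_zero, _root_.Matrix.cons_val_one, _root_.add_zero, _root_.mul_one, _root_.zero_add, _root_.MulZeroClass.zero_mul] using e 0 3
  have b12 : M 1 2 = c * (r * M 0 2 + -p * M 1 2) := by simpa using e 1 2
  have b13 : M 1 3 = c * (r * M 0 3 + -p * M 1 3) := by simpa using e 1 3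
  have c20 : M 2 0 * p + M 2 1 * r = c * M 2 0 := by simpa only [_root_.Fin.isValue, _root_.Matrix.of_apply, _root_.Matrix.cons_val', _root_.Matrix.cons_val_zero, _root_.Matrix.cons_val_fin_one, _root_.Matrix.cons_val_one, _root_.Matrix.cons_val, _root_.MulZeroClass.mul_zero, _root_.add_zero, _root_.MulZeroClass.zero_mul, _root_.one_mul, _root_.zero_add] using e 2 0
  have c21 : M 2 0 * q + M 2 1 * -p = c * M 2 1 := by simpa only [_root_.Fin.isValue, _root_.mul_neg, _root_.Matrix.of_apply, _root_.Matrix.cons_val', _root_.Matrix.cons_val_one, _root_.Matrix.cons_val_zero, _root_.Matrix.cons_val_fin_one, _root_.Matrix.cons_val, _root_.MulZeroClass.mul_zero, _root_.add_zero, _root_.MulZeroClass.zero_mul, _root_.one_mul, _root_.zero_add] using e 2 1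
  have c30 : M 3 0 * p + M 3 1 * r = c * M 3 0 := by simpa only [_root_.Fin.isValue, _root_.Matrix.of_apply, _root_.Matrix.cons_val', _root_.Matrix.cons_val_zero, _root_.Matrix.cons_val_fin_one, _root_.Matrix.cons_val_one, _root_.Matrix.cons_val, _root_.MulZeroClass.mul_zero, _root_.add_zero, _root_.MulZeroClass.zero_mul, _root_.one_mul, _root_.zero_add] using e 3 0
  have c31 : M 3 0 * q + M 3 1 * -p = c * M 3 1 := by simpa only [_root_.Fin.isValue, _root_.mul_neg, _root_.Matrix.of_apply, _root_.Matrix.cons_val', _root_.Matrix.cons_val_one, _root_.Matrix.cons_val_zero, _root_.Matrix.cons_val_fin_one, _root_.Matrix.cons_val, _root_.MulZeroClass.mul_zero, _root_.add_zero, _root_.MulZeroClass.zero_mul, _root_.one_mul, _root_.zero_add] using e 3 1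
  have a00 : M 0 0 * p + M 0 1 * r = c * (p * M 0 0 + q * M 1 0) := by simpa only [_root_.Fin.isValue, _root_.Matrix.of_apply, _root_.Matrix.cons_val', _root_.Matrix.cons_val_zero, _root_.Matrix.cons_val_fin_one, _root_.Matrix.cons_val_one, _root_.Matrix.cons_val, _root_.MulZeroClass.mul_zero, _root_.add_zero, _root_.MulZeroClass.zero_mul] using e 0 0
  have a01 : M 0 0 * q + M 0 1 * -p = c * (p * M 0 1 + q * M 1 1) := by simpa only [_root_.Fin.isValue, _root_.mul_neg, _root_.Matrix.of_apply, _root_.Matrix.cons_val', _root_.Matrix.cons_val_one, _root_.Matrix.cons_val_zero, _root_.Matrix.cons_val_fin_one, _root_.Matrix.cons_val, _root_.MulZeroClass.mul_zero, _root_.add_zero, _root_.MulZeroClass.zero_mul] using e 0 1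
  have hc1 : c = 1 := by
    by_contra hne
    have hz : ∀ x : F, x = c * x → x = 0 := by
      intro x hx
      have h3 : (1 - c) * x = 0 := by linear_combination hx
      rcases mul_eq_zero.1 h3 with h4 | h4
      · exact absurd (sub_eq_zero.1 h4).symm hne
      · exact h4
    have z22 := hz _ d22
    have z23 := hz _ d23
    have z32 := hz _ d32
    have z33 := hz _ d33
    have n22 : N 2 0 * M 0 2 + N 2 1 * M 1 2 = 1 := by
      have := n 2 2
      rw [z22, z32] at this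
      simpa only [_root_.Fin.isValue, _root_.MulZeroClass.mul_zero, _root_.add_zero, _root_.Matrix.one_apply_eq] using this
    have n23 : N 2 0 * M 0 3 + N 2 1 * M 1 3 = 0 := by
      have := n 2 3
      rw [z23, z33] at this
      simpa only [_root_.Fin.isValue, _root_.MulZeroClass.mul_zero, _root_.add_zero, _root_.ne_eq, _root_.Fin.reduceEq, _root_.not_false_eq_true, _root_.Matrix.one_apply_ne] using this
    have n32 : N 3 0 * M 0 2 + N 3 1 * M 1 2 = 0 := by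
      have := n 3 2
      rw [z22, z32] at this
      simpa only [_root_.Fin.isValue, _root_.MulZeroClass.mul_zero, _root_.add_zero, _root_.ne_eq, _root_.Fin.reduceEq, _root_.not_false_eq_true, _root_.Matrix.one_apply_ne] using this
    have n33 : N 3 0 * M 0 3 + N 3 1 * M 1 3 = 1 := by
      have := n 3 3
      rw [z23, z33] at this
      simpa only [_root_.Fin.isValue, _root_.MulZeroClass.mul_zero, _root_.add_zero, _root_.Matrix.one_apply_eq] using this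
    have hdet : (N 2 0 * N 3 1 - N 2 1 * N 3 0) * (M 0 2 * M 1 3 - M 0 3 * M 1 2) = 1 := by
      calc (N 2 0 * N 3 1 - N 2 1 * N 3 0) * (M 0 2 * M 1 3 - M 0 3 * M 1 2)
          = (N 2 0 * M 0 2 + N 2 1 * M 1 2) * (N 3 0 * M 0 3 + N 3 1 * M 1 3)
            - (N 2 0 * M 0 3 + N 2 1 * M 1 3) * (N 3 0 * M 0 2 + N 3 1 * M 1 2) := by ring
        _ = 1 := by rw [n22, n33, n23]; ring
    have hdet0 : M 0 2 * M 1 3 - M 0 3 * M 1 2 ≠ 0 := by
      intro h0; rw [h0, mul_zero] at hdet; exact zero_ne_one hdet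
    have k1 : (c * p - 1) * (M 0 2 * M 1 3 - M 0 3 * M 1 2) = 0 := by
      linear_combination -b02 * M 1 3 + b03 * M 1 2
    have k2 : (c * p + 1) * (M 0 2 * M 1 3 - M 0 3 * M 1 2) = 0 := by
      linear_combination -b12 * M 0 3 + b13 * M 0 2
    have k3 := (mul_eq_zero.1 k1).resolve_right hdet0
    have k4 := (mul_eq_zero.1 k2).resolve_right hdet0
    apply h2
    linear_combination k4 - k3
  subst hc1
  rw [one_mul] at b02 b03 b12 b13 c20 c21 c30 c31 a00 a01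
  have two : ∀ x : F, 2 * x = 0 → x = 0 := fun x hx => (mul_eq_zero.1 hx).resolve_left h2
  refine ⟨⟨two _ ?_, two _ ?_, two _ ?_, two _ ?_⟩, ⟨two _ ?_, two _ ?_, two _ ?_, two _ ?_⟩, a00, a01⟩
  · linear_combination (1 + p) * b02 + q * b12 + M 0 2 * h
  · linear_combination (1 + p) * b03 + q * b13 + M 0 3 * h
  · linear_combination (1 - p) * b12 + r * b02 + M 1 2 * h
  · linear_combination (1 - p) * b13 + r * b03 + M 1 3 * h
  · linear_combination -(1 + p) * c20 - r * c21 + M 2 0 * h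
  · linear_combination -(1 - p) * c21 - q * c20 + M 2 1 * h
  · linear_combination -(1 + p) * c30 - r * c31 + M 3 0 * h
  · linear_combination -(1 - p) * c31 - q * c30 + M 3 1 * h

/-- **the core for `n = 4`**: `Q₈ × Q₈` and the swap -/
theorem core4 (h2 : (2 : F) ≠ 0) {a b : F} (hab : a * a + b * b = -1)
    {M N : Matrix (Fin 4) (Fin 4) F} (hNM : N * M = 1)
    (he1 : ∃ c : F, M * !![0, 1, 0, 0; -1, 0, 0, 0; 0, 0, 1, 0; 0, 0, 0, 1]
      = c • (!![0, 1, 0, 0; -1, 0, 0, 0; 0, 0, 1, 0; 0, 0, 0, 1] * M))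
    (he2 : ∃ c : F, M * !![a, b, 0, 0; b, -a, 0, 0; 0, 0, 1, 0; 0, 0, 0, 1]
      = c • (!![a, b, 0, 0; b, -a, 0, 0; 0, 0, 1, 0; 0, 0, 0, 1] * M))
    (he3 : ∃ c : F, M * !![1, 0, 0, 0; 0, 1, 0, 0; 0, 0, 0, 1; 0, 0, -1, 0]
      = c • (!![1, 0, 0, 0; 0, 1, 0, 0; 0, 0, 0, 1; 0, 0, -1, 0] * M))
    (he4 : ∃ c : F, M * !![1, 0, 0, 0; 0, 1, 0, 0; 0, 0, a, b; 0, 0, b, -a]
      = c • (!![1, 0, 0, 0; 0, 1, 0, 0; 0, 0, a, b; 0, 0, b, -a] * M))
    (he5 : ∃ c : F, M * !![0, 0, 1, 0; 0, 0, 0, 1; 1, 0, 0, 0; 0, 1, 0, 0]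
      = c • (!![0, 0, 1, 0; 0, 0, 0, 1; 1, 0, 0, 0; 0, 1, 0, 0] * M)) :
    ∃ x : F, x ≠ 0 ∧ (M = x • (1 : Matrix (Fin 4) (Fin 4) F) ∨
      M = x • !![1, 0, 0, 0; 0, 1, 0, 0; 0, 0, -1, 0; 0, 0, 0, -1]) := by
  have two : ∀ x : F, 2 * x = 0 → x = 0 := fun x hx => (mul_eq_zero.1 hx).resolve_left h2
  obtain ⟨c1, hc1⟩ := he1
  obtain ⟨c2, hc2⟩ := he2
  have hc1' : M * !![0, 1, 0, 0; -1, -0, 0, 0; 0, 0, 1, 0; 0, 0, 0, 1]
      = c1 • (!![0, 1, 0, 0; -1, -0, 0, 0; 0, 0, 1, 0; 0, 0, 0, 1] * M) := by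
    rw [neg_zero]; exact hc1
  obtain ⟨⟨m02, m03, m12, m13⟩, ⟨m20, m21, m30, m31⟩, hA1, hA2⟩ :=
    top_block h2 (by ring) hNM hc1'
  obtain ⟨-, -, hA3, hA4⟩ := top_block h2 hab hNM hc2
  have x01 : M 0 1 = 0 := by
    have h3 : 2 * (a * a + b * b) * M 0 1 = 0 := by
      linear_combination a * (-hA4) + a * b * hA2 + b * hA3 - b * b * hA1
    rw [hab] at h3
    apply two
    linear_combination -h3
  have x10 : M 1 0 = 0 := by
    linear_combination -hA1 - x01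
  have x11 : M 1 1 = M 0 0 := by linear_combination -hA2
  have n : ∀ i j, N i 0 * M 0 j + N i 1 * M 1 j + N i 2 * M 2 j + N i 3 * M 3 j
      = (1 : Matrix (Fin 4) (Fin 4) F) i j := by
    intro i j; rw [← hNM, Matrix.mul_apply, Fin.sum_univ_four]
  have x00 : M 0 0 ≠ 0 := by
    intro h0
    have h3 := n 0 0
    rw [h0, x10, m20, m30] at h3
    simp at h3
  obtain ⟨c3, hc3⟩ := he3
  obtain ⟨c4, hc4⟩ := he4
  obtain ⟨c5, hc5⟩ := he5
  have e3 : ∀ i j, (M * (!![1, 0, 0, 0; 0, 1, 0, 0; 0, 0, 0, 1; 0, 0, -1, 0] : Matrix (Fin 4) (Fin 4) F)) i j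
      = c3 * ((!![1, 0, 0, 0; 0, 1, 0, 0; 0, 0, 0, 1; 0, 0, -1, 0] : Matrix (Fin 4) (Fin 4) F) * M) i j := by
    intro i j; rw [hc3]; rfl
  have e4 : ∀ i j, (M * !![1, 0, 0, 0; 0, 1, 0, 0; 0, 0, a, b; 0, 0, b, -a]) i j
      = c4 * ((!![1, 0, 0, 0; 0, 1, 0, 0; 0, 0, a, b; 0, 0, b, -a] : Matrix (Fin 4) (Fin 4) F) * M) i j := by
    intro i j; rw [hc4]; rfl
  have e5 : ∀ i j, (M * (!![0, 0, 1, 0; 0, 0, 0, 1; 1, 0, 0, 0; 0, 1, 0, 0] : Matrix (Fin 4) (Fin 4) F)) i j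
      = c5 * ((!![0, 0, 1, 0; 0, 0, 0, 1; 1, 0, 0, 0; 0, 1, 0, 0] : Matrix (Fin 4) (Fin 4) F) * M) i j := by
    intro i j; rw [hc5]; rfl
  simp only [Matrix.mul_apply, Fin.sum_univ_four] at e3 e4 e5
  have hc31 : c3 = 1 := by
    have h3 : M 0 0 = c3 * M 0 0 := by simpa only [_root_.Fin.isValue, _root_.Matrix.of_apply, _root_.Matrix.cons_val', _root_.Matrix.cons_val_zero, _root_.Matrix.cons_val_fin_one, _root_.mul_one, _root_.Matrix.cons_val_one, _root_.MulZeroClass.mul_zero, _root_.add_zero, _root_.Matrix.cons_val, _root_.one_mul, _root_.MulZeroClass.zero_mul] using e3 0 0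
    have h4 : (c3 - 1) * M 0 0 = 0 := by linear_combination -h3
    exact sub_eq_zero.1 ((mul_eq_zero.1 h4).resolve_right x00)
  have hc41 : c4 = 1 := by
    have h3 : M 0 0 = c4 * M 0 0 := by simpa only [_root_.Fin.isValue, _root_.Matrix.of_apply, _root_.Matrix.cons_val', _root_.Matrix.cons_val_zero, _root_.Matrix.cons_val_fin_one, _root_.mul_one, _root_.Matrix.cons_val_one, _root_.MulZeroClass.mul_zero, _root_.add_zero, _root_.Matrix.cons_val, _root_.one_mul, _root_.MulZeroClass.zero_mul] using e4 0 0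
    have h4 : (c4 - 1) * M 0 0 = 0 := by linear_combination -h3
    exact sub_eq_zero.1 ((mul_eq_zero.1 h4).resolve_right x00)
  subst hc31 hc41
  have d1 : -M 2 3 = M 3 2 := by simpa using e3 2 2
  have d2 : M 2 2 = M 3 3 := by simpa using e3 2 3
  have d3 : M 2 2 * a + M 2 3 * b = a * M 2 2 + b * M 3 2 := by simpa only [_root_.Fin.isValue, _root_.Matrix.of_apply, _root_.Matrix.cons_val', _root_.Matrix.cons_val, _root_.Matrix.cons_val_fin_one, _root_.Matrix.cons_val_zero, _root_.MulZeroClass.mul_zero, _root_.Matrix.cons_val_one, _root_.add_zero, _root_.zero_add, _root_.MulZeroClass.zero_mul, _root_.one_mul] using e4 2 2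
  have d4 : M 2 2 * b + -(M 2 3 * a) = a * M 2 3 + b * M 3 3 := by simpa only [_root_.Fin.isValue, _root_.Matrix.of_apply, _root_.Matrix.cons_val', _root_.Matrix.cons_val, _root_.Matrix.cons_val_fin_one, _root_.Matrix.cons_val_zero, _root_.MulZeroClass.mul_zero, _root_.Matrix.cons_val_one, _root_.add_zero, _root_.zero_add, _root_.mul_neg, _root_.MulZeroClass.zero_mul, _root_.one_mul] using e4 2 3
  have x23 : M 2 3 = 0 := by
    have h3 : 2 * (a * a + b * b) * M 2 3 = 0 := by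
      linear_combination a * (-d4) + a * b * d2 + b * d3 - b * b * d1
    rw [hab] at h3
    apply two
    linear_combination -h3
  have x32 : M 3 2 = 0 := by linear_combination -d1 - x23
  have s1 : M 0 0 = c5 * M 2 2 := by simpa using e5 0 2
  have s2 : M 2 2 = c5 * M 0 0 := by simpa using e5 2 0
  have hc5' : (c5 - 1) * (c5 + 1) = 0 := by
    have h3 : (c5 * c5 - 1) * M 0 0 = 0 := by linear_combination -s1 - c5 * s2
    have h4 := (mul_eq_zero.1 h3).resolve_right x00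
    linear_combination h4
  refine ⟨M 0 0, x00, ?_⟩
  rcases mul_eq_zero.1 hc5' with h | h
  · left
    have h5 : c5 = 1 := sub_eq_zero.1 h
    rw [h5, one_mul] at s2
    ext i j
    (revert i j; simp only [m02, m03, m12, m13, m20, m21, m30, m31, x01, x10, x11, x23, x32, s2, ← d2, _root_.Fin.forall_fin_succ, Fin.isValue, _root_.Matrix.smul_apply, _root_.smul_eq_mul, _root_.Fin.succ_zero_eq_one, _root_.Fin.succ_one_eq_two, Fin.reduceSucc, _root_.IsEmpty.forall_iff, _root_.and_true, _root_.Matrix.one_apply_eq, _root_.mul_one, Nat.reduceAdd, _root_.ne_eq, _root_.zero_ne_one, _root_.not_false_eq_true, _root_.Matrix.one_apply_ne, _root_.MulZeroClass.mul_zero, Fin.reduceEq, _root_.and_self, _root_.Fin.succ_ne_zero])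
  · right
    have h5 : c5 = -1 := eq_neg_of_add_eq_zero_left h
    rw [h5] at s2
    ext i j
    (revert i j; simp only [m02, m03, m12, m13, m20, m21, m30, m31, x01, x10, x11, x23, x32, s2, ← d2, _root_.Fin.forall_fin_succ, Fin.isValue, _root_.Matrix.smul_apply, _root_.Matrix.of_apply, _root_.Matrix.cons_val', _root_.Matrix.cons_val_fin_one, _root_.smul_eq_mul, _root_.Matrix.cons_val_zero, _root_.Matrix.cons_val_succ, _root_.Fin.succ_zero_eq_one, _root_.Fin.succ_one_eq_two, Fin.reduceSucc, _root_.IsEmpty.forall_iff, _root_.and_true, _root_.mul_one, _root_.MulZeroClass.mul_zero, _root_.and_self, _root_.neg_mul, _root_.one_mul, _root_.mul_neg])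

end mat

end Cfsg.Agent.Omega.Lie.CenMat

end

section


/-!
# Sylow 2-subgroups of the symmetric group and their invariant sets (helper584; NODE LIE, K-fact (ZS))

`P` is a Sylow 2-subgroup of `Equiv.Perm ι`.

* `mem_of_sq`: `P ≤ K`, `w ∈ N(K)`, `w² ∈ K` imply `w ∈ K` (any group);
* `const_of_shift`: `f, h : ι → ZMod 2` are shifted by the elements of `P`; if some `p ∈ P` fixes `f` and shifts `h` by
  `1` then `f` is constant;
* `eq_of_card`: two `P`-invariant `0-1`-functions with the same number of ones are equal;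
* `unique_of_shift`: two `0-1`-functions shifted by `P` whose numbers of ones are the same (or complementary) are equal or
  complementary.
-/

set_option autoImplicit false
set_option linter.dupNamespace false

namespace Cfsg.Agent.Omega.Lie.PermSyl

open Equiv

section gen

variable {G : Type*} [Group G] [Finite G]

/-- `N(K)/K` has odd order if `K` contains a Sylow 2-subgroup. -/
theorem mem_of_sq (P : Sylow 2 G) {K : Subgroup G} (hK : (P : Subgroup G) ≤ K) {w : G}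
    (hw : ∀ g ∈ K, w * g * w⁻¹ ∈ K) (hw2 : w * w ∈ K) : w ∈ K := by
  classical
  have : Fact (Nat.Prime 2) := ⟨Nat.prime_two⟩
  have hwN : w ∈ Subgroup.normalizer (K : Set G) := by
    have hle : Subgroup.map (MulAut.conj w).toMonoidHom K ≤ K := by
      rintro _ ⟨g, hg, rfl⟩
      exact hw g hg
    have hcard : Nat.card (Subgroup.map (MulAut.conj w).toMonoidHom K) = Nat.card K :=
      Nat.card_congr (K.equivMapOfInjective _ (MulAut.conj w).injective).symm.toEquiv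
    have heq : Subgroup.map (MulAut.conj w).toMonoidHom K = K :=
      Subgroup.eq_of_le_of_card_ge hle (le_of_eq hcard.symm)
    rw [Subgroup.mem_normalizer_iff]
    intro g
    constructor
    · intro hg; exact hw g hg
    · intro hg
      have h1 : w * g * w⁻¹ ∈ Subgroup.map (MulAut.conj w).toMonoidHom K := by
        rw [heq]; exact hg
      obtain ⟨y, hy, hyx⟩ := h1
      have : y = g := (MulAut.conj w).injective (by simpa only [_root_.MulAut.conj_apply, _root_.mul_left_inj, _root_.mul_right_inj, _root_.MulEquiv.toMonoidHom_eq_coe, _root_.MonoidHom.coe_coe] using hyx)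
      rw [← this]; exact hy
  set N := Subgroup.normalizer (K : Set G) with hN
  have hKN : K ≤ N := Subgroup.le_normalizer
  have hodd : ¬ 2 ∣ K.relIndex N := by
    intro h2
    apply P.not_dvd_index
    refine h2.trans ?_
    have h3 : K.relIndex N ∣ K.index := ⟨N.index, (Subgroup.relIndex_mul_index hKN).symm⟩
    exact h3.trans (Subgroup.index_dvd_of_le hK)
  have : (K.subgroupOf N).Normal := Subgroup.normal_in_normalizer
  let x : N ⧸ K.subgroupOf N := QuotientGroup.mk ⟨w, hwN⟩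
  have hx2 : x ^ 2 = 1 := by
    rw [pow_two]
    change (QuotientGroup.mk (⟨w, hwN⟩ * ⟨w, hwN⟩ : N) : N ⧸ K.subgroupOf N) = 1
    rw [QuotientGroup.eq_one_iff]
    exact hw2
  have hx : x = 1 := by
    have h1 : orderOf x ∣ 2 := orderOf_dvd_of_pow_eq_one hx2
    have h2 : orderOf x ∣ K.relIndex N := orderOf_dvd_natCard x
    have h3 : orderOf x ∣ Nat.gcd 2 (K.relIndex N) := Nat.dvd_gcd h1 h2
    have h4 : Nat.gcd 2 (K.relIndex N) = 1 :=
      ((Nat.Prime.coprime_iff_not_dvd Nat.prime_two).2 hodd)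
    rw [h4, Nat.dvd_one] at h3
    exact orderOf_eq_one_iff.1 h3
  have := (QuotientGroup.eq_one_iff (N := K.subgroupOf N) (⟨w, hwN⟩ : N)).1 hx
  exact this

end gen


section perm

variable {ι : Type*} [Finite ι]

omit [Finite ι] in
theorem apply_inv (g : Perm ι) (i : ι) : g (g⁻¹ i) = i := by simp

/-- the permutations which shift both functions -/
def shiftGroup (f h : ι → ZMod 2) : Subgroup (Perm ι) where
  carrier := {g | ∃ c d : ZMod 2, ∀ i, f (g i) = f i + c ∧ h (g i) = h i + d}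
  mul_mem' := by
    rintro g g' ⟨c, d, h1⟩ ⟨c', d', h2⟩
    refine ⟨c + c', d + d', fun i => ⟨?_, ?_⟩⟩
    · rw [Perm.mul_apply, (h1 _).1, (h2 _).1]; ring
    · rw [Perm.mul_apply, (h1 _).2, (h2 _).2]; ring
  one_mem' := ⟨0, 0, fun i => ⟨by simp, by simp⟩⟩
  inv_mem' := by
    rintro g ⟨c, d, h1⟩
    refine ⟨-c, -d, fun i => ⟨?_, ?_⟩⟩
    · have := (h1 (g⁻¹ i)).1
      rw [apply_inv] at this
      rw [this]; ring
    · have := (h1 (g⁻¹ i)).2
      rw [apply_inv] at this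
      rw [this]; ring

/-- **Lemma U**: an element of `P` which fixes `f` and shifts `h` forces `f` to be constant. -/
theorem const_of_shift (P : Sylow 2 (Perm ι)) {f h : ι → ZMod 2}
    (hf : ∀ p ∈ P, ∃ c, ∀ i, f (p i) = f i + c) (hh : ∀ p ∈ P, ∃ c, ∀ i, h (p i) = h i + c)
    {p : Perm ι} (hpf : ∀ i, f (p i) = f i) (hph : ∀ i, h (p i) = h i + 1) (i j : ι) :
    f i = f j := by
  classical
  have hK : (P : Subgroup (Perm ι)) ≤ shiftGroup f h := by
    intro g hg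
    obtain ⟨c, hc⟩ := hf g hg
    obtain ⟨d, hd⟩ := hh g hg
    exact ⟨c, d, fun i => ⟨hc i, hd i⟩⟩
  have h01 : ∀ x : ZMod 2, x = 0 ∨ x = 1 := by decide
  have hpi : ∀ i, f (p i) = 1 ↔ f i = 1 := fun i => by rw [hpf]
  let w : Perm ι := Perm.ofSubtype (p.subtypePerm (p := fun i => f i = 1) hpi)
  have hw1 : ∀ i, f i = 1 → w i = p i := by
    intro i hi
    have h1 := Perm.ofSubtype_apply_of_mem (p.subtypePerm (p := fun i => f i = 1) hpi) hi
    exact h1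
  have hw0 : ∀ i, f i ≠ 1 → w i = i := by
    intro i hi
    exact Perm.ofSubtype_apply_of_not_mem _ hi
  have hwf : ∀ i, f (w i) = f i := by
    intro i
    by_cases hi : f i = 1
    · rw [hw1 i hi, hpf]
    · rw [hw0 i hi]
  have hwh : ∀ i, h (w i) = h i + f i := by
    intro i
    by_cases hi : f i = 1
    · rw [hw1 i hi, hph, hi]
    · rw [hw0 i hi]
      rcases h01 (f i) with h | h
      · rw [h, add_zero]
      · exact absurd h hi
  have hwf' : ∀ i, f (w⁻¹ i) = f i := by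
    intro i
    have := hwf (w⁻¹ i)
    rw [apply_inv] at this
    exact this.symm
  have hwh' : ∀ i, h (w⁻¹ i) = h i + f i := by
    intro i
    have := hwh (w⁻¹ i)
    rw [apply_inv, hwf'] at this
    rw [this, add_assoc, CharTwo.add_self_eq_zero, add_zero]
  have hw : ∀ g ∈ shiftGroup f h, w * g * w⁻¹ ∈ shiftGroup f h := by
    rintro g ⟨c, d, hg⟩
    refine ⟨c, d + c, fun i => ⟨?_, ?_⟩⟩
    · rw [Perm.mul_apply, Perm.mul_apply, hwf, (hg _).1, hwf']
    · rw [Perm.mul_apply, Perm.mul_apply, hwh, (hg _).1, (hg _).2, hwf', hwh']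
      have : h i + f i + d + (f i + c) = h i + (d + c) + (f i + f i) := by ring
      rw [this, CharTwo.add_self_eq_zero, add_zero]
  have hw2 : w * w ∈ shiftGroup f h := by
    refine ⟨0, 0, fun i => ⟨?_, ?_⟩⟩
    · rw [Perm.mul_apply, hwf, hwf, add_zero]
    · rw [Perm.mul_apply, hwh, hwh, hwf, add_zero, add_assoc, CharTwo.add_self_eq_zero, add_zero]
  obtain ⟨c, d, hcd⟩ := mem_of_sq P hK hw hw2
  have key : ∀ i, f i = d := by
    intro i
    have h1 := (hcd i).2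
    rw [hwh] at h1
    exact add_left_cancel h1
  rw [key i, key j]

/-- **Lemma 1**: two `P`-invariant `0-1`-functions with the same number of ones are equal. -/
theorem eq_of_card [Fintype ι] (P : Sylow 2 (Perm ι)) {a b : ι → ZMod 2}
    (ha : ∀ p ∈ P, ∀ i, a (p i) = a i) (hb : ∀ p ∈ P, ∀ i, b (p i) = b i)
    (hc : (Finset.univ.filter fun i => a i = 1).card = (Finset.univ.filter fun i => b i = 1).card) :
    a = b := by
  classical
  have h01 : ∀ x : ZMod 2, x = 0 ∨ x = 1 := by decide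
  set A := Finset.univ.filter fun i => a i = 1 with hA
  set B := Finset.univ.filter fun i => b i = 1 with hB
  have hcard : (A \ B).card = (B \ A).card := by
    have h1 := Finset.card_sdiff_add_card_inter A B
    have h2 := Finset.card_sdiff_add_card_inter B A
    rw [Finset.inter_comm] at h2
    omega
  have memA : ∀ i, i ∈ A ↔ a i = 1 := fun i => by simp only [hA, _root_.Finset.mem_filter, _root_.Finset.mem_univ, _root_.true_and]
  have memB : ∀ i, i ∈ B ↔ b i = 1 := fun i => by simp only [hB, _root_.Finset.mem_filter, _root_.Finset.mem_univ, _root_.true_and]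
  let e : (A \ B : Finset ι) ≃ (B \ A : Finset ι) := Finset.equivOfCardEq hcard
  let w0 : ι → ι := fun i =>
    if h : i ∈ A \ B then (e ⟨i, h⟩ : ι) else if h : i ∈ B \ A then (e.symm ⟨i, h⟩ : ι) else i
  have w0A : ∀ i (h : i ∈ A \ B), w0 i = (e ⟨i, h⟩ : ι) := by
    intro i h
    simp only [w0, dif_pos h]
  have w0B : ∀ i (h : i ∈ B \ A), w0 i = (e.symm ⟨i, h⟩ : ι) := by
    intro i h
    have h' : i ∉ A \ B := by
      rw [Finset.mem_sdiff] at h ⊢
      tauto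
    simp only [w0, dif_neg h', dif_pos h]
  have w0N : ∀ i, i ∉ A \ B → i ∉ B \ A → w0 i = i := by
    intro i h h'
    simp only [w0, dif_neg h, dif_neg h']
  have hinv : Function.Involutive w0 := by
    intro i
    by_cases h1 : i ∈ A \ B
    · rw [w0A i h1, w0B _ (e ⟨i, h1⟩).2]
      simp
    · by_cases h2 : i ∈ B \ A
      · rw [w0B i h2, w0A _ (e.symm ⟨i, h2⟩).2]
        simp
      · rw [w0N i h1 h2, w0N i h1 h2]
  let w : Perm ι := hinv.toPerm
  have hw : ∀ i, w i = w0 i := fun i => rfl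
  have hwa : ∀ i, a (w i) = b i := by
    intro i
    rw [hw]
    by_cases h1 : i ∈ A \ B
    · have h2 := (e ⟨i, h1⟩).2
      rw [← w0A i h1] at h2
      rw [Finset.mem_sdiff, memA, memB] at h1 h2
      rcases h01 (a (w0 i)) with h3 | h3 <;> rcases h01 (b i) with h4 | h4 <;> rw [h3, h4] <;> (clear * - h1 h4 h2 h3; tauto)
    · by_cases h1' : i ∈ B \ A
      · have h2 := (e.symm ⟨i, h1'⟩).2
        rw [← w0B i h1'] at h2
        rw [Finset.mem_sdiff, memA, memB] at h1' h2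
        rw [h2.1, h1'.1]
      · rw [w0N i h1 h1']
        rw [Finset.mem_sdiff, memA, memB] at h1
        rw [Finset.mem_sdiff, memA, memB] at h1'
        rcases h01 (a i) with h3 | h3 <;> rcases h01 (b i) with h4 | h4 <;> rw [h3, h4]
        · exact absurd ⟨h4, by rw [h3]; decide⟩ h1'
        · exact absurd ⟨h3, by rw [h4]; decide⟩ h1
  have hww : ∀ i, w (w i) = i := hinv
  have hwb : ∀ i, b (w i) = a i := by
    intro i
    have := hwa (w i)
    rw [hww] at this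
    exact this.symm
  let K : Subgroup (Perm ι) :=
    { carrier := {g | ∀ i, a (g i) = a i ∧ b (g i) = b i}
      mul_mem' := by
        intro g g' h1 h2 i
        exact ⟨by rw [Perm.mul_apply, (h1 _).1, (h2 _).1], by rw [Perm.mul_apply, (h1 _).2, (h2 _).2]⟩
      one_mem' := fun i => ⟨rfl, rfl⟩
      inv_mem' := by
        intro g h1 i
        have h2 := h1 (g⁻¹ i)
        rw [apply_inv] at h2
        exact ⟨h2.1.symm, h2.2.symm⟩ }
  have hK : (P : Subgroup (Perm ι)) ≤ K := fun g hg i => ⟨ha g hg i, hb g hg i⟩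
  have hwi : ∀ i, w⁻¹ i = w i := by
    intro i
    rw [Perm.inv_eq_iff_eq, hww]
  have hwm : w ∈ K := by
    refine mem_of_sq P hK ?_ ?_
    · intro g hg i
      constructor
      · rw [Perm.mul_apply, Perm.mul_apply, hwa, (hg _).2, hwi, hwb]
      · rw [Perm.mul_apply, Perm.mul_apply, hwb, (hg _).1, hwi, hwa]
    · intro i
      rw [Perm.mul_apply, hww]
      exact ⟨rfl, rfl⟩
  funext i
  have := (hwm i).1
  rw [hwa] at this
  exact this.symm

/-- **uniqueness** of the `0-1`-functions shifted by a Sylow 2-subgroup of `S_n`, given the number of ones -/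
theorem unique_of_shift [Fintype ι] [Nonempty ι] (P : Sylow 2 (Perm ι)) {a b : ι → ZMod 2}
    (ha : ∀ p ∈ P, ∃ c, ∀ i, a (p i) = a i + c) (hb : ∀ p ∈ P, ∃ c, ∀ i, b (p i) = b i + c)
    (hc : (Finset.univ.filter fun i => a i = 1).card = (Finset.univ.filter fun i => b i = 1).card ∨
      (Finset.univ.filter fun i => a i = 1).card = (Finset.univ.filter fun i => b i = 0).card) :
    (∀ i, b i = a i) ∨ (∀ i, b i = a i + 1) := by
  classical
  have h01 : ∀ x : ZMod 2, x = 0 ∨ x = 1 := by decide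
  have hn : (Finset.univ.filter fun i => b i = 1).card + (Finset.univ.filter fun i => b i = 0).card
      = Fintype.card ι := by
    have h1 := Finset.card_filter_add_card_filter_not (s := (Finset.univ : Finset ι)) (fun i => b i = 1)
    rw [Finset.card_univ] at h1
    rw [← h1]
    congr 2
    refine Finset.filter_congr fun i _ => ?_
    rcases h01 (b i) with h | h <;> simp only [h, _root_.zero_ne_one, _root_.not_false_eq_true, _root_.one_ne_zero, _root_.not_true_eq_false]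
  have hna : (Finset.univ.filter fun i => a i = 1).card + (Finset.univ.filter fun i => a i = 0).card
      = Fintype.card ι := by
    have h1 := Finset.card_filter_add_card_filter_not (s := (Finset.univ : Finset ι)) (fun i => a i = 1)
    rw [Finset.card_univ] at h1
    rw [← h1]
    congr 2
    refine Finset.filter_congr fun i _ => ?_
    rcases h01 (a i) with h | h <;> simp [h]
  have hpos : 0 < Fintype.card ι := Fintype.card_pos
  -- a moved function has as many ones as zeros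
  have half : ∀ (f : ι → ZMod 2) (p : Perm ι), (∀ i, f (p i) = f i + 1) →
      (Finset.univ.filter fun i => f i = 1).card = (Finset.univ.filter fun i => f i = 0).card := by
    intro f p hp
    refine Finset.card_bij (fun i _ => p i) ?_ ?_ ?_
    · intro i hi
      simp only [Finset.mem_filter, Finset.mem_univ, true_and] at hi ⊢
      rw [hp, hi]; decide
    · intro i _ j _ h
      exact p.injective h
    · intro j hj
      simp only [Finset.mem_filter, Finset.mem_univ, true_and] at hj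
      refine ⟨p⁻¹ j, ?_, by simp⟩
      simp only [Finset.mem_filter, Finset.mem_univ, true_and]
      have h1 := hp (p⁻¹ j)
      rw [apply_inv, hj] at h1
      rcases h01 (f (p⁻¹ j)) with h | h
      · rw [h] at h1; exact absurd h1 (by decide)
      · exact h
  -- a constant function has no ones or no zeros
  have cst : ∀ (f : ι → ZMod 2), (∀ i j, f i = f j) →
      (Finset.univ.filter fun i => f i = 1).card = 0 ∨
        (Finset.univ.filter fun i => f i = 0).card = 0 := by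
    intro f hf
    obtain ⟨i0⟩ := (inferInstance : Nonempty ι)
    rcases h01 (f i0) with h | h
    · left
      rw [Finset.card_eq_zero, Finset.filter_eq_empty_iff]
      intro i _
      rw [hf i i0, h]; decide
    · right
      rw [Finset.card_eq_zero, Finset.filter_eq_empty_iff]
      intro i _
      rw [hf i i0, h]; decide
  by_cases hA : ∀ p ∈ P, ∀ i, a (p i) = a i
  · by_cases hB : ∀ p ∈ P, ∀ i, b (p i) = b i
    · rcases hc with hc | hc
      · left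
        intro i
        rw [eq_of_card P hA hB hc]
      · right
        have h1 : a = fun i => b i + 1 := by
          refine eq_of_card P hA (fun p hp i => by rw [hB p hp]) ?_
          rw [hc]
          congr 1
          ext i
          rcases h01 (b i) with h | h <;> simp only [h, _root_.Finset.mem_filter, _root_.Finset.mem_univ, _root_.and_self, _root_.add_eq_right, _root_.one_ne_zero, _root_.and_false]
        intro i
        have h2 := congrFun h1 i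
        rw [h2, add_assoc, CharTwo.add_self_eq_zero, add_zero]
    · exfalso
      push Not at hB
      obtain ⟨p, hp, i, hi⟩ := hB
      obtain ⟨c, hc'⟩ := hb p hp
      have hc1 : c = 1 := by
        rcases h01 c with h | h
        · rw [hc', h, add_zero] at hi
          exact absurd rfl hi
        · exact h
      subst hc1
      have h1 := cst a (const_of_shift P ha hb (hA p hp) hc')
      have h2 := half b p hc'
      omega
  · push Not at hA
    obtain ⟨p, hp, i, hi⟩ := hA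
    obtain ⟨c, hc'⟩ := ha p hp
    have hc1 : c = 1 := by
      rcases h01 c with h | h
      · rw [hc', h, add_zero] at hi
        exact absurd rfl hi
      · exact h
    subst hc1
    have h1 := half a p hc'
    obtain ⟨d, hd⟩ := hb p hp
    rcases h01 d with h | h
    · exfalso
      subst h
      have hd' : ∀ i, b (p i) = b i := fun i => by rw [hd, add_zero]
      have h2 := cst b (const_of_shift P hb ha hd' hc')
      omega
    · subst h
      have key : ∀ i j, (fun k => a k + b k) i = (fun k => a k + b k) j := by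
        refine const_of_shift P (h := a) ?_ ha ?_ hc'
        · intro g hg
          obtain ⟨c, hc⟩ := ha g hg
          obtain ⟨d, hd⟩ := hb g hg
          refine ⟨c + d, fun i => ?_⟩
          simp only [hc, hd]; ring
        · intro i
          simp only [hc', hd]
          have : a i + 1 + (b i + 1) = a i + b i + (1 + 1) := by ring
          rw [this, CharTwo.add_self_eq_zero, add_zero]
      obtain ⟨i0⟩ := (inferInstance : Nonempty ι)
      have h3 : ∀ i, b i = a i + (a i0 + b i0) := by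
        intro i
        have h4 := key i i0
        simp only at h4
        rw [← h4, ← add_assoc, CharTwo.add_self_eq_zero, zero_add]
      rcases h01 (a i0 + b i0) with h | h
      · left
        intro i
        rw [h3 i, h, add_zero]
      · right
        intro i
        rw [h3 i, h]

end perm

end Cfsg.Agent.Omega.Lie.PermSyl

end

section


/-!
# LEMMA C and (L8) (bb OMEGA #15015 ff.), abstract forms

* `fixes` = LEMMA C: a subgroup `K' ≤ H⁰` (a component) centralised by `A`, whose Sylow 2-subgroup `S'` satisfies `[S', T] ≤ A`, fixes `e₀`;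
* `stable` = (L8): the set `Λ` of the moved components is `H`-invariant.
-/

set_option autoImplicit false
set_option linter.unusedSectionVars false

namespace Cfsg.Agent.Omega.Lie.LemC

open Subgroup

variable {H : Type*} [Group H] {F : Type*} [Field F] {M : Type*} [AddCommGroup M] [Module F M] [DistribMulAction H M]

/-- the module data without `E` -/
structure Bas (H0 A : Subgroup H) (e₀ : M) (D : Submodule F M) (B : LinearMap.BilinForm F M) : Prop where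
  normal : H0.Normal
  A_le : A ≤ H0
  lin : ∀ g ∈ H0, ∀ (c : F) (x : M), g • c • x = c • g • x
  semi : ∀ g : H, ∃ σ : F → F, (∀ c, c ≠ 0 → σ c ≠ 0) ∧ ∀ (c : F) (x : M), g • c • x = σ c • g • x
  refl : B.IsRefl
  nd : B.Nondegenerate
  BE : ∀ g ∈ H0, ∀ x y, B (g • x) (g • y) = B x y
  BH : ∀ (g : H) (x y : M), B x y = 0 → B (g • x) (g • y) = 0
  ne : e₀ ≠ 0
  A2 : ∀ a ∈ A, ∀ x, B x e₀ = 0 → a • x - x ∈ D
  A3 : ∀ a ∈ A, ∀ x ∈ D, a • x - x ∈ Submodule.span F {e₀}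
  A4 : ∀ a ∈ A, a • e₀ = e₀
  ker0 : ∀ x ∈ D, (∀ a ∈ A, a • x = x) → x ∈ Submodule.span F {e₀}
  inj : ∀ m, B m e₀ ≠ 0 → ∀ a ∈ A, a • m - m ∈ D → a = 1
  surj : ∀ m, B m e₀ ≠ 0 → ∀ x, B x e₀ = 0 → ∃ a ∈ A, x - (a • m - m) ∈ D
  span : ∀ L : Submodule F M, (∀ h : H, h • e₀ ∈ L) → L = ⊤

/-- the torus -/
structure TorB (A : Subgroup H) (t : F → H) (e₀ : M) (D : Submodule F M) (B : LinearMap.BilinForm F M) : Prop where
  lin : ∀ a, a ≠ 0 → ∀ (c : F) (x : M), t a • c • x = c • t a • x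
  e : ∀ a, a ≠ 0 → t a • e₀ = a⁻¹ • e₀
  P : ∀ a, a ≠ 0 → ∀ x, B x e₀ = 0 → t a • x - a • x ∈ D
  D : ∀ a, a ≠ 0 → ∀ x ∈ D, t a • x - x ∈ Submodule.span F {e₀}
  form : ∀ a, a ≠ 0 → ∀ x y, B (t a • x) (t a • y) = a * B x y
  norm : ∀ a, a ≠ 0 → t a ∈ normalizer (A : Set H)

namespace Bas

variable {H0 A : Subgroup H} {e₀ : M} {D : Submodule F M} {B : LinearMap.BilinForm F M} (d : Bas H0 A e₀ D B)
include d

theorem ker1 {a : H} (ha : a ∈ A) (ha1 : a ≠ 1) {x : M} (hx : a • x = x) : B x e₀ = 0 := by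
  by_contra h
  exact ha1 (d.inj x h a ha (by rw [hx, sub_self]; exact zero_mem _))

/-- the data of THEOREM D -/
theorem dat {E : Subgroup H} (hn : E.Normal) (hE : E ≤ H0) (hA : A ≤ E) (hA1 : ∃ a ∈ A, a ≠ 1)
    (gen : ∀ K : Subgroup H, A ≤ K → (∀ g ∈ E, ∀ k ∈ K, g * k * g⁻¹ ∈ K) → E ≤ K) : ThmD.Dat E A e₀ D B where
  normal := hn
  A_le := hA
  gen := gen
  lin := fun g hg => d.lin g (hE hg)
  semi := d.semi
  refl := d.refl
  nd := d.nd
  BE := fun g hg => d.BE g (hE hg)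
  BH := d.BH
  ne := d.ne
  A2 := d.A2
  A3 := d.A3
  ker0 := d.ker0
  ker1 := fun x hx => by
    obtain ⟨a, ha, ha1⟩ := hA1
    exact d.ker1 ha ha1 (hx a ha)
  span := d.span

variable {t : F → H} (τ : TorB A t e₀ D B)
include τ

/-- **LEMMA C** -/
theorem fixes (hF : ∃ a : F, a ≠ 0 ∧ a ≠ 1) [CharP F 2] {K' S' : Subgroup H} (hK : K' ≤ H0)
    (hA : ∀ k ∈ K', ∀ a ∈ A, a * k = k * a) (hA1 : ∃ a ∈ A, a ≠ 1) (hS : S' ≤ K') (h2 : IsPGroup 2 S')
    (hT : ∀ a, a ≠ 0 → ∀ s ∈ S', s⁻¹ * (t a * s * (t a)⁻¹) ∈ A)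
    (hmax : ∀ N : Subgroup H, N ≤ K' → (∀ k ∈ K', ∀ n ∈ N, k * n * k⁻¹ ∈ N) → S' ≤ N → K' ≤ N) :
    ∀ k ∈ K', k • e₀ = e₀ := by
  obtain ⟨a₁, ha₁, ha₁1⟩ := hA1
  obtain ⟨b, hb0, hb1⟩ := hF
  -- a 2-element acting as a scalar on a vector is trivial on it
  have h2e : ∀ s ∈ S', ∀ (x : M) (c : F), s • x = c • x → s • x = x := by
    intro s hs x c hc
    obtain ⟨n, hn⟩ := h2 ⟨s, hs⟩
    have hn' : s ^ 2 ^ n = 1 := congrArg Subtype.val hn
    have h3 : ∀ j : ℕ, s ^ j • x = c ^ j • x := by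
      intro j
      induction j with
      | zero => rw [pow_zero, pow_zero, one_smul, one_smul]
      | succ j ih =>
        rw [pow_succ', mul_smul, ih, d.lin s (hK (hS hs)), hc, smul_smul, pow_succ]
    have h4 := h3 (2 ^ n)
    rw [hn', one_smul] at h4
    by_cases hx : x = 0
    · rw [hx, smul_zero]
    have h5 : c ^ 2 ^ n = 1 := by
      by_contra h6
      have h7 : (c ^ 2 ^ n - 1) • x = 0 := by rw [sub_smul, one_smul, ← h4, sub_self]
      rcases smul_eq_zero.1 h7 with h8 | h8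
      · exact h6 (sub_eq_zero.1 h8)
      · exact hx h8
    have h6 : (c - 1) ^ 2 ^ n = 0 := by
      rw [sub_pow_char_pow, h5, one_pow, sub_self]
    have h7 : c = 1 := sub_eq_zero.1 (pow_eq_zero_iff (by positivity) |>.1 h6)
    rw [hc, h7, one_smul]
  -- it is enough that `K'` normalises `F e₀`
  suffices hline : ∀ k ∈ K', ∃ c : F, k • e₀ = c • e₀ by
    let N : Subgroup H :=
      { carrier := {k | k ∈ K' ∧ k • e₀ = e₀}
        one_mem' := ⟨one_mem _, one_smul _ _⟩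
        mul_mem' := by
          rintro x y ⟨hx, hx'⟩ ⟨hy, hy'⟩
          exact ⟨K'.mul_mem hx hy, by rw [mul_smul, hy', hx']⟩
        inv_mem' := by
          rintro x ⟨hx, hx'⟩
          exact ⟨K'.inv_mem hx, by rw [inv_smul_eq_iff, hx']⟩ }
    have h3 := hmax N (fun x hx => hx.1) (by
      rintro k hk n ⟨hn, hn'⟩
      refine ⟨K'.mul_mem (K'.mul_mem hk hn) (K'.inv_mem hk), ?_⟩
      obtain ⟨c, hc⟩ := hline k⁻¹ (K'.inv_mem hk)
      rw [mul_smul, mul_smul, hc, d.lin n (hK hn), hn', ← hc, smul_inv_smul]) (by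
      intro s hs
      obtain ⟨c, hc⟩ := hline s (hS hs)
      exact ⟨hS hs, h2e s hs e₀ c hc⟩)
    exact fun k hk => (h3 hk).2
  intro k hk
  by_contra hy0
  push Not at hy0
  have hkH := hK hk
  have hkA : ∀ a ∈ A, ∀ x : M, k⁻¹ • a • x = a • k⁻¹ • x := by
    intro a ha x
    rw [smul_smul, smul_smul]
    congr 1
    rw [inv_mul_eq_iff_eq_mul, ← mul_assoc, ← hA k hk a ha, mul_inv_cancel_right]
  obtain ⟨y, hy⟩ : ∃ y, y = k • e₀ := ⟨_, rfl⟩
  rw [← hy] at hy0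
  have hky : k⁻¹ • y = e₀ := by rw [hy, inv_smul_smul]
  have hyA : ∀ a ∈ A, a • y = y := by
    intro a ha
    rw [hy, smul_smul, hA k hk a ha, mul_smul, d.A4 a ha]
  have hyn : y ≠ 0 := fun h => d.ne (by rw [← hky, h, smul_zero])
  have Bk : ∀ x z, B (k⁻¹ • x) (k⁻¹ • z) = B x z := d.BE k⁻¹ (H0.inv_mem hkH)
  have A2' : ∀ a ∈ A, ∀ x, B x y = 0 → k⁻¹ • (a • x - x) ∈ D := by
    intro a ha x hx
    rw [smul_sub, hkA a ha]
    exact d.A2 a ha _ (by rw [← hky, Bk, hx])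
  have mv : ∀ x, k⁻¹ • x ∈ Submodule.span F {e₀} → ∃ c : F, x = c • y := by
    intro x hx
    obtain ⟨c, hc⟩ := Submodule.mem_span_singleton.1 hx
    refine ⟨c, ?_⟩
    rw [hy, ← d.lin k hkH, hc, smul_inv_smul]
  have A3' : ∀ a ∈ A, ∀ x, k⁻¹ • x ∈ D → ∃ c : F, a • x - x = c • y := by
    intro a ha x hx
    apply mv
    rw [smul_sub, hkA a ha]
    exact d.A3 a ha _ hx
  have ker0' : ∀ x, k⁻¹ • x ∈ D → (∀ a ∈ A, a • x = x) → ∃ c : F, x = c • y := by
    intro x hx hxA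
    exact mv _ (d.ker0 _ hx fun a ha => by rw [← hkA a ha, hxA a ha])
  have A3'' : ∀ a ∈ A, ∀ x ∈ D, ∃ c : F, a • x - x = c • e₀ := by
    intro a ha x hx
    obtain ⟨c, hc⟩ := Submodule.mem_span_singleton.1 (d.A3 a ha x hx)
    exact ⟨c, hc.symm⟩
  have ker0'' : ∀ x ∈ D, (∀ a ∈ A, a • x = x) → ∃ c : F, x = c • e₀ := by
    intro x hx hxA
    obtain ⟨c, hc⟩ := Submodule.mem_span_singleton.1 (d.ker0 x hx hxA)
    exact ⟨c, hc.symm⟩
  have indep : ∀ α β : F, α • e₀ = β • y → α • e₀ = 0 := by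
    intro α β h
    by_cases hβ : β = 0
    · rw [h, hβ, zero_smul]
    · exact absurd (by rw [mul_smul, h, smul_smul, inv_mul_cancel₀ hβ, one_smul]) (hy0 (β⁻¹ * α))
  -- quadratic
  have orth : ∀ z : M, (∀ a ∈ A, a • z = z) → ∀ a ∈ A, ∀ m, B (a • m - m) z = 0 := by
    intro z hz a ha m
    have h3 := d.BE a (d.A_le ha) m z
    rw [hz a ha] at h3
    rw [map_sub, LinearMap.sub_apply, h3, sub_self]
  have quad : ∀ a ∈ A, ∀ c ∈ A, ∀ m : M, a • (c • m - m) = c • m - m := by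
    intro a ha c hc m
    have h3 := d.A2 a ha _ (orth e₀ d.A4 c hc m)
    have h4 := A2' a ha _ (orth y hyA c hc m)
    set w := a • (c • m - m) - (c • m - m) with hw
    have h5 : ∀ a' ∈ A, a' • w = w := by
      intro a' ha'
      obtain ⟨α, hα⟩ := A3'' a' ha' w h3
      obtain ⟨β, hβ⟩ := A3' a' ha' w h4
      have := indep α β (by rw [← hα, hβ])
      rw [this] at hα
      exact sub_eq_zero.1 hα
    obtain ⟨α, hα⟩ := ker0'' w h3 h5
    obtain ⟨β, hβ⟩ := ker0' w h4 h5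
    have h6 := indep α β (by rw [← hα, hβ])
    rw [h6] at hα
    exact sub_eq_zero.1 (hw ▸ hα)
  -- `m`
  obtain ⟨m, hm, hmy⟩ : ∃ m, B m e₀ ≠ 0 ∧ B m y = 0 := by
    by_contra hcon
    push Not at hcon
    have hcon' : ∀ m, B m y = 0 → B m e₀ = 0 := fun m h => by
      by_contra h3
      exact hcon m h3 h
    obtain ⟨m₁, hm₁⟩ : ∃ m₁, B m₁ y ≠ 0 := by
      by_contra h3
      push Not at h3
      exact hyn (d.nd.2 y h3)
    apply hy0 ((B m₁ e₀ / B m₁ y)⁻¹)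
    have h3 : e₀ - (B m₁ e₀ / B m₁ y) • y = 0 := by
      apply d.nd.2
      intro m
      have h4 := hcon' (m - (B m y / B m₁ y) • m₁) (by
        rw [map_sub, LinearMap.sub_apply, map_smul, LinearMap.smul_apply, smul_eq_mul, div_mul_cancel₀ _ hm₁,
          sub_self])
      rw [map_sub, LinearMap.sub_apply, map_smul, LinearMap.smul_apply, smul_eq_mul, sub_eq_zero] at h4
      rw [map_sub, map_smul, smul_eq_mul, h4]
      field_simp
      ring
    have h4 : B m₁ e₀ / B m₁ y ≠ 0 := by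
      intro h5
      rw [h5, zero_smul, sub_zero] at h3
      exact d.ne h3
    exact ((inv_smul_eq_iff₀ h4).2 (sub_eq_zero.1 h3)).symm
  have hmA : ∀ a ∈ A, ∃ c : F, a • m - m = c • y := fun a ha =>
    ker0' _ (A2' a ha m hmy) fun c hc => quad c hc a ha m
  -- `C_M(A) = e + y`
  have hye : B y e₀ = 0 := d.ker1 ha₁ ha₁1 (hyA a₁ ha₁)
  have CMA : ∀ x : M, (∀ a ∈ A, a • x = x) → ∃ α β : F, x = α • e₀ + β • y := by
    intro x hx
    obtain ⟨a, ha, h3⟩ := d.surj m hm x (d.ker1 ha₁ ha₁1 (hx a₁ ha₁))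
    obtain ⟨c, hc⟩ := hmA a ha
    rw [hc] at h3
    obtain ⟨α, hα⟩ := ker0'' _ h3 fun a' ha' => by rw [smul_sub, hx a' ha', d.lin a' (d.A_le ha'), hyA a' ha']
    exact ⟨α, c, by rw [← hα]; abel⟩
  have DA : ∀ x ∈ D, (∀ a ∈ A, a • x = x) → ∃ c : F, x = c • e₀ := ker0''
  -- the eigenvector `u`
  have hbb : b - b⁻¹ ≠ 0 := by
    intro h0
    have h1 : b * b = 1 := by
      rw [sub_eq_zero] at h0
      nth_rewrite 2 [h0]
      exact mul_inv_cancel₀ hb0
    have h2 : (b - 1) * (b - 1) = 0 := by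
      have h3 : (2 : F) = 0 := CharTwo.two_eq_zero
      linear_combination h1 - (b - 1) * h3
    exact hb1 (sub_eq_zero.1 (mul_self_eq_zero.1 h2))
  have tA : ∀ x : M, (∀ a ∈ A, a • x = x) → ∀ a ∈ A, a • t b • x = t b • x := by
    intro x hx a ha
    have h3 : (t b)⁻¹ * a * t b ∈ A := by
      have := (mem_normalizer_iff.1 (inv_mem (τ.norm b hb0)) a).1 ha
      rwa [inv_inv] at this
    have h4 : a • t b • x = t b • ((t b)⁻¹ * a * t b) • x := by
      rw [smul_smul, smul_smul]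
      congr 1
      group
    rw [h4, hx _ h3]
  obtain ⟨c₀, hc₀⟩ := DA (t b • y - b • y) (τ.P b hb0 y hye) fun a ha => by
    rw [smul_sub, tA y hyA a ha, d.lin a (d.A_le ha), hyA a ha]
  have hty : t b • y = b • y + c₀ • e₀ := by rw [← hc₀]; abel
  have hcd : c₀ / (b - b⁻¹) * (b - b⁻¹) = c₀ := div_mul_cancel₀ _ hbb
  obtain ⟨u, hu⟩ : ∃ u, u = y + (c₀ / (b - b⁻¹)) • e₀ := ⟨_, rfl⟩
  have hun : ∀ c : F, u ≠ c • e₀ := by
    intro c' h
    apply hy0 (c' - c₀ / (b - b⁻¹))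
    rw [sub_smul, ← h, hu]; abel
  have htu : t b • u = b • u := by
    rw [hu, smul_add, hty, τ.lin b hb0, τ.e b hb0, smul_add, smul_smul, smul_smul, add_assoc, ← add_smul]
    congr 2
    linear_combination -hcd
  have huA : ∀ a ∈ A, a • u = u := by
    intro a ha
    rw [hu, smul_add, hyA a ha, d.lin a (d.A_le ha), d.A4 a ha]
  have CMA' : ∀ x : M, (∀ a ∈ A, a • x = x) → ∃ α β : F, x = α • e₀ + β • u := by
    intro x hx
    obtain ⟨α, β, h3⟩ := CMA x hx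
    refine ⟨α - β * (c₀ / (b - b⁻¹)), β, ?_⟩
    rw [h3, hu, sub_smul, smul_add, smul_smul]; abel
  have indep' : ∀ α β : F, α • e₀ + β • u = 0 → α = 0 ∧ β = 0 := by
    intro α β h
    have hβ : β = 0 := by
      by_contra hβ
      apply hun (-(β⁻¹ * α))
      have h1 : β • u = -(α • e₀) := by rw [eq_neg_iff_add_eq_zero, add_comm]; exact h
      have h2 : u = β⁻¹ • β • u := by rw [smul_smul, inv_mul_cancel₀ hβ, one_smul]
      rw [h2, h1, smul_neg, neg_smul, smul_smul]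
    rw [hβ, zero_smul, add_zero] at h
    exact ⟨(smul_eq_zero.1 h).resolve_right d.ne, hβ⟩
  -- `S'` is trivial on `C_M(A)`
  have tS : ∀ x : M, (∀ a ∈ A, a • x = x) → ∀ s ∈ S', t b • s • x = s • t b • x := by
    intro x hx s hs
    have h3 : t b • s • x = s • (s⁻¹ * (t b * s * (t b)⁻¹)) • t b • x := by
      rw [smul_smul, smul_smul, smul_smul]
      congr 1
      group
    rw [h3, tA x hx _ (hT b hb0 s hs)]
  have KC : ∀ x : M, (∀ a ∈ A, a • x = x) → ∀ k' ∈ K', ∀ a ∈ A, a • k' • x = k' • x := by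
    intro x hx k' hk' a ha
    rw [smul_smul, hA k' hk' a ha, mul_smul, hx a ha]
  have Se : ∀ s ∈ S', s • e₀ = e₀ := by
    intro s hs
    obtain ⟨α, β, h3⟩ := CMA' (s • e₀) (KC e₀ d.A4 s (hS hs))
    have h4 : t b • s • e₀ = b⁻¹ • s • e₀ := by
      rw [tS e₀ d.A4 s hs, τ.e b hb0, d.lin s (hK (hS hs))]
    rw [h3, smul_add, τ.lin b hb0, τ.lin b hb0, τ.e b hb0, htu, smul_add, smul_smul, smul_smul, smul_smul,
      smul_smul] at h4
    have h5 : (α * b⁻¹ - b⁻¹ * α) • e₀ + (β * b - b⁻¹ * β) • u = 0 := by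
      rw [sub_smul, sub_smul, sub_add_sub_comm, h4, sub_self]
    obtain ⟨-, h6⟩ := indep' _ _ h5
    have h7 : β = 0 := by
      have : β * (b - b⁻¹) = 0 := by linear_combination h6
      exact (mul_eq_zero.1 this).resolve_right hbb
    rw [h7, zero_smul, add_zero] at h3
    exact h2e s hs e₀ α h3
  have Su : ∀ s ∈ S', s • u = u := by
    intro s hs
    obtain ⟨α, β, h3⟩ := CMA' (s • u) (KC u huA s (hS hs))
    have h4 : t b • s • u = b • s • u := by
      rw [tS u huA s hs, htu, d.lin s (hK (hS hs))]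
    rw [h3, smul_add, τ.lin b hb0, τ.lin b hb0, τ.e b hb0, htu, smul_add, smul_smul, smul_smul, smul_smul,
      smul_smul] at h4
    have h5 : (α * b⁻¹ - b * α) • e₀ + (β * b - b * β) • u = 0 := by
      rw [sub_smul, sub_smul, sub_add_sub_comm, h4, sub_self]
    obtain ⟨h6, -⟩ := indep' _ _ h5
    have h7 : α = 0 := by
      have : α * (b - b⁻¹) = 0 := by linear_combination -h6
      exact (mul_eq_zero.1 this).resolve_right hbb
    rw [h7, zero_smul, zero_add] at h3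
    exact h2e s hs u β h3
  -- the kernel
  let N : Subgroup H :=
    { carrier := {n | n ∈ K' ∧ ∀ x : M, (∀ a ∈ A, a • x = x) → n • x = x}
      one_mem' := ⟨one_mem _, fun x _ => one_smul _ x⟩
      mul_mem' := by
        rintro x y ⟨hx, hx'⟩ ⟨hy, hy'⟩
        exact ⟨K'.mul_mem hx hy, fun z hz => by rw [mul_smul, hy' z hz, hx' z hz]⟩
      inv_mem' := by
        rintro x ⟨hx, hx'⟩
        exact ⟨K'.inv_mem hx, fun z hz => by rw [inv_smul_eq_iff, hx' z hz]⟩ }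
  have h3 := hmax N (fun x hx => hx.1) (by
    rintro k' hk' n ⟨hn, hn'⟩
    refine ⟨K'.mul_mem (K'.mul_mem hk' hn) (K'.inv_mem hk'), fun x hx => ?_⟩
    rw [mul_smul, mul_smul, hn' _ (KC x hx k'⁻¹ (K'.inv_mem hk')), smul_inv_smul]) (by
    intro s hs
    refine ⟨hS hs, fun x hx => ?_⟩
    obtain ⟨α, β, h4⟩ := CMA' x hx
    rw [h4, smul_add, d.lin s (hK (hS hs)), d.lin s (hK (hS hs)), Se s hs, Su s hs])
  have h4 := (h3 hk).2 e₀ d.A4
  rw [← hy] at h4
  exact hy0 1 (by rw [one_smul, h4])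

/-- **(L8)** the set `Λ` of the moved components is invariant -/
theorem stable (hF : ∃ a : F, a ≠ 0 ∧ a ≠ 1) {Λ : Set (Subgroup H)} (h1 : ∀ K ∈ Λ, ∃ a ∈ A, a ∈ K ∧ a ≠ 1)
    (h2 : ∀ (h : H), ∀ K ∈ Λ, K.map (MulAut.conj h).toMonoidHom ∈ Λ ∨ ∀ k ∈ K, (h * k * h⁻¹) • e₀ = e₀)
    (hA : ∀ a ∈ A, ∀ K ∈ Λ, K.map (MulAut.conj a).toMonoidHom ∈ Λ)
    (hT : ∀ a, a ≠ 0 → ∀ K ∈ Λ, K.map (MulAut.conj (t a)).toMonoidHom ∈ Λ ∧
      K.map (MulAut.conj (t a)⁻¹).toMonoidHom ∈ Λ) :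
    ∀ h : H, ∀ K ∈ Λ, K.map (MulAut.conj h).toMonoidHom ∈ Λ := by
  obtain ⟨b, hb0, hb1⟩ := hF
  have cjcj : ∀ (g h : H) (K : Subgroup H), (K.map (MulAut.conj h).toMonoidHom).map (MulAut.conj g).toMonoidHom =
      K.map (MulAut.conj (g * h)).toMonoidHom := by
    intro g h K
    rw [Subgroup.map_map]
    congr 1
    ext x
    simp
  let Γ : Subgroup H :=
    { carrier := {h | (∀ K ∈ Λ, K.map (MulAut.conj h).toMonoidHom ∈ Λ) ∧
        ∀ K ∈ Λ, K.map (MulAut.conj h⁻¹).toMonoidHom ∈ Λ}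
      one_mem' := by
        have h3 : ∀ K : Subgroup H, K.map (MulAut.conj (1 : H)).toMonoidHom = K := by
          intro K
          ext x
          simp only [_root_.map_one, _root_.MulEquiv.toMonoidHom_eq_coe, _root_.Subgroup.mem_map, _root_.MonoidHom.coe_coe, _root_.MulAut.one_apply, _root_.exists_eq_right]
        refine ⟨fun K hK => by rw [h3]; exact hK, fun K hK => by rw [inv_one, h3]; exact hK⟩
      mul_mem' := by
        rintro x y ⟨hx, hx'⟩ ⟨hy, hy'⟩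
        refine ⟨fun K hK => ?_, fun K hK => ?_⟩
        · rw [← cjcj]
          exact hx _ (hy _ hK)
        · rw [mul_inv_rev, ← cjcj]
          exact hy' _ (hx' _ hK)
      inv_mem' := by
        rintro x ⟨hx, hx'⟩
        exact ⟨hx', fun K hK => by rw [inv_inv]; exact hx K hK⟩ }
  have hAΓ : A ≤ Γ := fun a ha => ⟨hA a ha, hA a⁻¹ (A.inv_mem ha)⟩
  have hTΓ : ∀ a, a ≠ 0 → t a ∈ Γ := fun a ha => ⟨fun K hK => (hT a ha K hK).1, fun K hK => (hT a ha K hK).2⟩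
  -- opposite points
  have half : ∀ h : H, B e₀ (h • e₀) ≠ 0 → ∀ K ∈ Λ, K.map (MulAut.conj h⁻¹).toMonoidHom ∈ Λ := by
    intro h hh K hK
    rcases h2 h⁻¹ K hK with h3 | h3
    · exact h3
    · exfalso
      obtain ⟨a, ha, haK, ha1⟩ := h1 K hK
      apply hh
      apply d.refl
      apply d.ker1 ha ha1
      have h4 := h3 a haK
      rw [inv_inv, mul_smul, mul_smul, inv_smul_eq_iff] at h4
      exact h4
  have opp : ∀ h : H, B e₀ (h • e₀) ≠ 0 → h ∈ Γ := by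
    intro h hh
    refine ⟨fun K hK => ?_, half h hh⟩
    have h3 := half h⁻¹ (fun h4 => hh ?_) K hK
    · rwa [inv_inv] at h3
    · have h5 := d.BH h _ _ h4
      rw [smul_inv_smul] at h5
      exact d.refl _ _ h5
  let M₁ : Submodule F M := Submodule.span F {x | ∃ h ∈ Γ, x = h • e₀}
  let M₂ : Submodule F M := Submodule.span F {x | ∃ h, h ∉ Γ ∧ x = h • e₀}
  have perp : ∀ x ∈ M₁, ∀ y ∈ M₂, B x y = 0 := by
    intro x hx y hy
    induction hx using Submodule.span_induction with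
    | mem x hx =>
      obtain ⟨g, hg, rfl⟩ := hx
      induction hy using Submodule.span_induction with
      | mem y hy =>
        obtain ⟨h, hh, rfl⟩ := hy
        by_contra h3
        apply hh
        have h4 : g⁻¹ * h ∈ Γ := opp _ (fun h5 => h3 (by
          have h6 := d.BH g _ _ h5
          rwa [smul_smul, mul_inv_cancel_left] at h6))
        have := Γ.mul_mem hg h4
        rwa [mul_inv_cancel_left] at this
      | zero => exact map_zero _
      | add y z _ _ hy hz => rw [map_add, hy, hz, add_zero]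
      | smul c y _ hy => rw [map_smul, hy, smul_zero]
    | zero => rw [map_zero, LinearMap.zero_apply]
    | add x z _ _ hx hz => rw [map_add, LinearMap.add_apply, hx, hz, add_zero]
    | smul c x _ hx => rw [map_smul, LinearMap.smul_apply, hx, smul_zero]
  have htop : M₁ ⊔ M₂ = ⊤ := d.span _ fun h => by
    by_cases hh : h ∈ Γ
    · exact Submodule.mem_sup_left (Submodule.subset_span ⟨h, hh, rfl⟩)
    · exact Submodule.mem_sup_right (Submodule.subset_span ⟨h, hh, rfl⟩)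
  have zero_of : ∀ z, (∀ x ∈ M₁, B z x = 0) → (∀ x ∈ M₂, B z x = 0) → z = 0 := by
    intro z hz1 hz2
    refine d.nd.1 z fun y => ?_
    have hy : y ∈ M₁ ⊔ M₂ := by rw [htop]; trivial
    obtain ⟨x, hx, x', hx', rfl⟩ := Submodule.mem_sup.1 hy
    rw [map_add, hz1 x hx, hz2 x' hx', add_zero]
  have he1 : e₀ ∈ M₁ := Submodule.subset_span ⟨1, Γ.one_mem, (one_smul _ _).symm⟩
  have inv1 : ∀ g : H, g ∈ Γ → (∀ (c : F) (x : M), g • c • x = c • g • x) → ∀ x ∈ M₁, g • x ∈ M₁ := by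
    intro g hg hlin x hx
    induction hx using Submodule.span_induction with
    | mem x hx =>
      obtain ⟨h, hh, rfl⟩ := hx
      rw [smul_smul]
      exact Submodule.subset_span ⟨g * h, Γ.mul_mem hg hh, rfl⟩
    | zero => rw [smul_zero]; exact zero_mem _
    | add x y _ _ hx hy => rw [smul_add]; exact add_mem hx hy
    | smul c x _ hx => rw [hlin]; exact Submodule.smul_mem _ _ hx
  have inv2 : ∀ g : H, g ∈ Γ → (∀ (c : F) (x : M), g • c • x = c • g • x) → ∀ x ∈ M₂, g • x ∈ M₂ := by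
    intro g hg hlin x hx
    induction hx using Submodule.span_induction with
    | mem x hx =>
      obtain ⟨h, hh, rfl⟩ := hx
      rw [smul_smul]
      refine Submodule.subset_span ⟨g * h, fun h3 => hh ?_, rfl⟩
      have := Γ.mul_mem (Γ.inv_mem hg) h3
      rwa [inv_mul_cancel_left] at this
    | zero => rw [smul_zero]; exact zero_mem _
    | add x y _ _ hx hy => rw [smul_add]; exact add_mem hx hy
    | smul c x _ hx => rw [hlin]; exact Submodule.smul_mem _ _ hx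
  -- `m ∈ M₁` opposite to `e₀`
  obtain ⟨m, hm1, hm⟩ : ∃ m ∈ M₁, B m e₀ ≠ 0 := by
    by_contra hcon
    push Not at hcon
    refine d.ne (zero_of e₀ (fun x hx => d.refl _ _ (hcon x hx)) fun x hx => perp _ he1 x hx)
  have hM₂ : ∀ x ∈ M₂, t b • x = x := by
    intro x hx
    have hxe : B x e₀ = 0 := d.refl _ _ (perp _ he1 x hx)
    obtain ⟨a, ha, h3⟩ := d.surj m hm x hxe
    have h4 : a • m - m ∈ M₁ := M₁.sub_mem (inv1 a (hAΓ ha) (d.lin a (d.A_le ha)) m hm1) hm1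
    have h5 := τ.D b hb0 _ h3
    obtain ⟨c, hc⟩ := Submodule.mem_span_singleton.1 h5
    have h6 : t b • x - x ∈ M₁ := by
      have e : t b • x - x = (t b • (a • m - m) - (a • m - m)) + c • e₀ := by
        rw [hc]
        simp only [smul_sub]
        abel
      rw [e]
      exact M₁.add_mem (M₁.sub_mem (inv1 _ (hTΓ b hb0) (τ.lin b hb0) _ h4) h4) (M₁.smul_mem c he1)
    have h7 : t b • x - x ∈ M₂ := M₂.sub_mem (inv2 _ (hTΓ b hb0) (τ.lin b hb0) _ hx) hx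
    exact sub_eq_zero.1 (zero_of _ (fun y hy => d.refl _ _ (perp y hy _ h7)) fun y hy => perp _ h6 y hy)
  intro h
  by_cases hh : h ∈ Γ
  · exact hh.1
  exfalso
  have h3 : h • e₀ ∈ M₂ := Submodule.subset_span ⟨h, hh, rfl⟩
  have h4 : h • e₀ = 0 := by
    refine zero_of _ (fun y hy => d.refl _ _ (perp y hy _ h3)) fun y hy => ?_
    have h5 := τ.form b hb0 (h • e₀) y
    rw [hM₂ _ h3, hM₂ _ hy] at h5
    have h6 : (b - 1) * B (h • e₀) y = 0 := by linear_combination -h5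
    exact (mul_eq_zero.1 h6).resolve_left (sub_ne_zero.2 hb1)
  exact d.ne ((smul_eq_zero_iff_eq h).1 h4)

end Bas

end Cfsg.Agent.Omega.Lie.LemC

end

private theorem dce_6c7201d16ee0 : _root_.True := by
  try have : _root_.True := by simp only [_root_.Cfsg.Agent.Omega.Lie.CenMat.sgn.eq_1]
  try have : _root_.True := by simp only [_root_.Cfsg.Agent.Omega.Lie.ThmD.sp.eq_1]
  try have : _root_.True := by simp only [_root_.Cfsg.Agent.Omega.Lie.CenMat.sg.eq_1]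
  exact _root_.True.intro
end

-- part: Mrg/Omega/NO3S/MidB/TGEnd_mg
section
prune_inst 0x84200200412212000000050030000004040000920060000118000742024ed3408000014044001d121022020000040000000000100000000000000000000100008028500012000104660009803087180c00000000000000000000000000041000000000000
set_option linter.all false
open scoped Cfsg.Agent.FastGrp

-- part: Mrg/Omega/NO3S/MidB/TF
section
-- merged: Cfsg.Agent.Mrg.Omega.NO3S.MidQ.TNTwo
section

section


/-!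
# TYPE N: components and the final count (TEXT 426-2, (h) - (k))

* `TNG` : the output of (a) - (g);
* `Cmp V Z R A B` : `A`, `B` are in one component at `R`; `bb V Z R A` the block of `A`, `cc V Z R A` the product of
  the other blocks;
* `TNG.false`.
-/

set_option autoImplicit false
set_option linter.unusedSectionVars false

namespace Cfsg.Agent.Omega.NO3S.MidQ

open Subgroup Cfsg.Agent.Omega.NO3S.PT Cfsg.Agent.Omega.NoFF.Basic Cfsg.Agent.ZN
open scoped Pointwise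

variable {G : Type*} [Group G] {V Z X Y R L A A' B B' : Subgroup G}

/-- `A`, `B` are in one component at `R` -/
def Cmp (V Z R A B : Subgroup G) : Prop := Relation.EqvGen (Jo V Z R) A B

/-- the block of `A` at `R` -/
def bb (V Z R A : Subgroup G) : Subgroup G := R ⊔ sSup {B | Adj V Z B R ∧ Cmp V Z R A B}

/-- the product of the other blocks at `R` -/
def cc (V Z R A : Subgroup G) : Subgroup G := R ⊔ sSup {B | Adj V Z B R ∧ ¬ Cmp V Z R A B}

theorem Cmp.cj (h : Cmp V Z R A B) (g : G) : Cmp V Z (cj g R) (cj g A) (cj g B) := by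
  unfold Cmp at h
  induction h with
  | rel A B h => exact Relation.EqvGen.rel _ _ (h.cj g)
  | refl A => exact Relation.EqvGen.refl _
  | symm A B _ ih => exact Relation.EqvGen.symm _ _ ih
  | trans A B C _ _ ih1 ih2 => exact Relation.EqvGen.trans _ _ _ ih1 ih2

theorem cmp_cj {g : G} : Cmp V Z (cj g R) (cj g A) (cj g B) ↔ Cmp V Z R A B := by
  refine ⟨fun h => ?_, fun h => h.cj g⟩
  have := h.cj g⁻¹
  rwa [cj_cj, cj_cj, cj_cj, inv_mul_cancel, cj_one, cj_one, cj_one] at this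

theorem Cmp.symm (h : Cmp V Z R A B) : Cmp V Z R B A := Relation.EqvGen.symm _ _ h

theorem Cmp.trans {C : Subgroup G} (h : Cmp V Z R A B) (h' : Cmp V Z R B C) : Cmp V Z R A C :=
  Relation.EqvGen.trans _ _ _ h h'

theorem Jo.cmp (h : Jo V Z R A B) : Cmp V Z R A B := Relation.EqvGen.rel _ _ h

theorem adj_cj {g : G} : Adj V Z (cj g A) (cj g B) ↔ Adj V Z A B := by
  refine ⟨fun h => ?_, fun h => h.cj g⟩
  have := h.cj g⁻¹
  rwa [cj_cj, cj_cj, inv_mul_cancel, cj_one, cj_one] at this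

theorem cj_sup' (g : G) (A B : Subgroup G) : cj g (A ⊔ B) = cj g A ⊔ cj g B := by
  refine le_antisymm ?_ (sup_le (cj_le_cj.2 le_sup_left) (cj_le_cj.2 le_sup_right))
  rw [cj_le_iff]
  refine sup_le ?_ ?_
  · rw [← cj_le_iff]; exact le_sup_left
  · rw [← cj_le_iff]; exact le_sup_right

theorem bb_cj (V Z R A : Subgroup G) (g : G) : bb V Z (cj g R) (cj g A) = cj g (bb V Z R A) := by
  have key : ∀ (g : G) (R A : Subgroup G), cj g (bb V Z R A) ≤ bb V Z (cj g R) (cj g A) := by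
    intro g R A
    rw [bb, cj_sup']
    refine sup_le le_sup_left ?_
    rw [cj_le_iff]
    refine sSup_le ?_
    rintro B ⟨h1, h2⟩
    rw [le_cj_iff, inv_inv]
    exact (le_sSup (show cj g B ∈ {B | Adj V Z B (cj g R) ∧ Cmp V Z (cj g R) (cj g A) B} from
      ⟨h1.cj g, h2.cj g⟩)).trans le_sup_right
  refine le_antisymm ?_ (key g R A)
  have h1 := key g⁻¹ (cj g R) (cj g A)
  rw [cj_cj, cj_cj, inv_mul_cancel, cj_one, cj_one, cj_le_iff, inv_inv] at h1
  exact h1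

theorem bb_congr {A B : Subgroup G} (h : Cmp V Z R A B) : bb V Z R A = bb V Z R B := by
  have h1 : {C | Adj V Z C R ∧ Cmp V Z R A C} = {C | Adj V Z C R ∧ Cmp V Z R B C} := by
    ext C
    exact ⟨fun h2 => ⟨h2.1, h.symm.trans h2.2⟩, fun h2 => ⟨h2.1, h.trans h2.2⟩⟩
  rw [bb, bb, h1]

theorem R_le_bb (V Z R A : Subgroup G) : R ≤ bb V Z R A := le_sup_left

theorem R_le_cc (V Z R A : Subgroup G) : R ≤ cc V Z R A := le_sup_left

theorem le_bb (hB : Adj V Z B R) (h : Cmp V Z R A B) : B ≤ bb V Z R A :=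
  (le_sSup (show B ∈ {B | Adj V Z B R ∧ Cmp V Z R A B} from ⟨hB, h⟩)).trans le_sup_right

theorem le_cc (hB : Adj V Z B R) (h : ¬ Cmp V Z R A B) : B ≤ cc V Z R A :=
  (le_sSup (show B ∈ {B | Adj V Z B R ∧ ¬ Cmp V Z R A B} from ⟨hB, h⟩)).trans le_sup_right

/-- counting conjugates -/
theorem relIndex_le_of_conj [Finite G] {W N : Subgroup G} {e : G} (h : ∀ y ∈ W, y * e * y⁻¹ * e⁻¹ ∈ N) :
    (centralizer ({e} : Set G)).relIndex W ≤ Nat.card N := by
  rw [Subgroup.relIndex, Subgroup.index]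
  let f : W ⧸ (centralizer ({e} : Set G)).subgroupOf W → N := Quotient.lift
    (fun y : W => (⟨y * e * (y : G)⁻¹ * e⁻¹, h y y.2⟩ : N)) (by
      intro a b hab
      have h1 : (a : G)⁻¹ * b ∈ centralizer ({e} : Set G) := by
        have h2 := QuotientGroup.leftRel_apply.1 hab
        exact mem_subgroupOf.1 h2
      have h3 : (a : G)⁻¹ * b * e = e * ((a : G)⁻¹ * b) := mem_centralizer_singleton_iff.1 h1
      apply Subtype.ext
      show (a : G) * e * (a : G)⁻¹ * e⁻¹ = b * e * (b : G)⁻¹ * e⁻¹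
      have h4 : (b : G) * e = a * e * ((a : G)⁻¹ * b) := by
        rw [mul_assoc (a : G), ← h3]; group
      rw [h4]
      group)
  refine Nat.card_le_card_of_injective f ?_
  rintro ⟨a⟩ ⟨b⟩ hab
  have h1 : (a : G) * e * (a : G)⁻¹ * e⁻¹ = b * e * (b : G)⁻¹ * e⁻¹ := congrArg Subtype.val hab
  apply Quotient.sound
  apply QuotientGroup.leftRel_apply.2
  rw [mem_subgroupOf]
  show (a : G)⁻¹ * b ∈ centralizer ({e} : Set G)
  rw [mem_centralizer_singleton_iff]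
  have h2 : (a : G) * e * (a : G)⁻¹ = b * e * (b : G)⁻¹ := mul_right_cancel h1
  calc (a : G)⁻¹ * b * e = (a : G)⁻¹ * (b * e * (b : G)⁻¹) * b := by group
    _ = (a : G)⁻¹ * (a * e * (a : G)⁻¹) * b := by rw [h2]
    _ = e * ((a : G)⁻¹ * b) := by group

namespace Mid

variable [Finite G] {S : Sylow 2 G} {P : Subgroup G} (h : Mid S P V Z)
include h

/-- ordered adjacent pairs are conjugate -/
theorem exists_adj {R' : Subgroup G} (hA : Adj V Z A R) (hA' : Adj V Z A' R') : ∃ g : G, cj g R = R' ∧ cj g A = A' := by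
  obtain ⟨L, hL, hAL, hRL⟩ := hA.line
  obtain ⟨L', hL', hAL', hRL'⟩ := hA'.line
  obtain ⟨g, hg, hgL⟩ := h.exists_conj₂ hA.right hL hRL hA'.right hL' hRL'
  have h1 : PT.cj g A ≤ L' := by rw [hgL]; exact cj_le_cj.2 hAL
  have h2 : PT.cj g A ≠ R' := by
    rw [hg]
    exact fun e => hA.ne (cj_inj.1 e)
  obtain ⟨k, hk, hkA⟩ := h.K_trans hA'.right hL' hRL' (hA.left.cj g) h1 hA'.left hAL' h2 hA'.ne
  refine ⟨k * g, ?_, by rw [← cj_cj, hkA]⟩
  rw [← cj_cj, ← hg]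
  exact cj_eq_iff.2 (kx_normalizes le_rfl (h.pt_le_ws hA'.right) hk)

/-- a 2-element normalising a point fixes a line on it -/
theorem exists_fix_line (hR : IsCj Z R) {t : G} (ht : TwoEl t) (htR : PT.cj t R = R) :
    ∃ L, IsCj V L ∧ R ≤ L ∧ PT.cj t L = L := by
  obtain ⟨g, rfl⟩ := hR
  obtain ⟨m, hm, htm⟩ := exists_le_conj (h.pl.conj g).S_le_N ht.isPGroup ((zpowers_le).2 (cj_eq_iff.1 htR))
  refine ⟨PT.cj m (PT.cj g V), ⟨m * g, by rw [cj_cj]⟩, ?_, ?_⟩
  · rw [← cj_eq_iff.2 hm]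
    rw [cj_eq_iff.2 hm]
    have h1 := cj_le_cj (g := m) |>.2 (cj_le_cj (g := g) |>.2 h.pl.ZV)
    rwa [cj_eq_iff.2 hm] at h1
  · have h1 : t ∈ PT.cj m ((g • S : Sylow 2 G) : Subgroup G) := htm (mem_zpowers t)
    have h2 := ((h.pl.conj g).conj m)
    exact cj_eq_iff.2 (h2.PN (h2.SP h1))

end Mid


theorem card_mul_relIndex' {A B : Subgroup G} (h : A ≤ B) : Nat.card A * A.relIndex B = Nat.card B := by
  rw [Subgroup.relIndex, ← Nat.card_congr (Subgroup.subgroupOfEquivOfLe h).toEquiv]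
  exact Subgroup.card_mul_index _

/-- `|K L| |K ∩ L| = |K| |L|` for commuting subgroups -/
theorem card_sup_mul' [Finite G] {K L : Subgroup G} (h : ∀ a ∈ K, ∀ b ∈ L, a * b = b * a) :
    Nat.card (K ⊔ L : Subgroup G) * Nat.card (K ⊓ L : Subgroup G) = Nat.card K * Nat.card L := by
  have hLK : L ≤ normalizer (K : Set G) := by
    refine (?_ : L ≤ centralizer (K : Set G)).trans (centralizer_le_normalizer _)
    intro b hb
    exact mem_centralizer_iff.mpr fun a ha => h a ha b hb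
  have hKn : (K.subgroupOf (K ⊔ L)).Normal :=
    normal_subgroupOf_of_le_normalizer (sup_le le_normalizer hLK)
  have h1 := relIndex_sup_left (L.subgroupOf (K ⊔ L)) (K.subgroupOf (K ⊔ L))
  rw [← Subgroup.subgroupOf_sup le_sup_left le_sup_right, Subgroup.subgroupOf_self,
    Subgroup.relIndex_subgroupOf le_sup_right, relIndex_top_right] at h1
  have h2 : Nat.card K * K.relIndex L = Nat.card (K ⊔ L : Subgroup G) := by
    rw [← h1]
    exact card_mul_relIndex' le_sup_left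
  have h3 : Nat.card (K ⊓ L : Subgroup G) * K.relIndex L = Nat.card L := by
    rw [← Subgroup.inf_relIndex_right K L]
    exact card_mul_relIndex' inf_le_right
  calc _ = Nat.card (K ⊔ L : Subgroup G) * Nat.card (K ⊓ L : Subgroup G) := rfl
    _ = Nat.card K * (Nat.card (K ⊓ L : Subgroup G) * K.relIndex L) := by rw [← h2]; ring
    _ = _ := by rw [h3]

namespace TNG

variable [Finite G] {S : Sylow 2 G} {P : Subgroup G} (h : TNG S P V Z)
include h

theorem mid : Mid S P V Z := h.toTN.toMid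

theorem card_pt (hX : IsCj Z X) : Nat.card X = Nat.card Z := by
  obtain ⟨g, rfl⟩ := hX
  exact card_cj g Z

theorem one_lt : 1 < Nat.card Z := by
  have h1 := (Subgroup.one_lt_card_iff_ne_bot Z).2 h.mid.pl.Zne
  exact h1

/-- `L ≤ U` if `R`, `B ≤ U` -/
theorem line_le' {U : Subgroup G} (hR : IsCj Z R) (hB : IsCj Z B) (hne : B ≠ R) (hL : IsCj V L) (hRL : R ≤ L)
    (hBL : B ≤ L) (hRU : R ≤ U) (hBU : B ≤ U) : L ≤ U := by
  obtain ⟨T, Q, h'⟩ := h.mid.flag hR hL hRL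
  intro v hv
  obtain ⟨x, hx, y, hy, rfl⟩ := h'.pl.exists_mul h'.pl.isCj_self hRL ((isCj_iff hR).2 hB) hBL hne.symm hv
  exact mul_mem (hRU hx) (hBU hy)

/-- a subgroup containing all `B ~ R` contains `W_R` -/
theorem ws_le_of {U : Subgroup G} (hR : IsCj Z R) (hRU : R ≤ U) (hU : ∀ B, Adj V Z B R → B ≤ U) : ws V R ≤ U := by
  refine ws_le fun L hL hRL => ?_
  obtain ⟨Y, hY, hYL, hYR⟩ := h.mid.exists_second hR hL hRL
  exact h.line_le' hR hY hYR hL hRL hYL hRU (hU Y ⟨hY, hR, hYR, L, hL, hYL, hRL⟩)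

/-- some `E` is joined to `A` -/
theorem exists_jo (hA : Adj V Z A R) : ∃ E, Jo V Z R A E := by
  by_contra hcon
  push Not at hcon
  have h1 : ws V R ≤ cw V Z R A := h.ws_le_of hA.right (h.mid.R_le_cw hA) fun B hB => by
    by_contra h2
    exact hcon B ((h.mid.jo_iff hA hB).2 h2)
  have h2 := h.h2 R A hA
  rw [relIndex_eq_one.2 (h1.trans inf_le_right)] at h2
  have h3 := h.one_lt
  omega

theorem cmp_line (hA : Adj V Z A R) (hA' : Adj V Z A' R) (hL : IsCj V L) (hRL : R ≤ L) (hAL : A ≤ L)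
    (hAL' : A' ≤ L) : Cmp V Z R A A' := by
  obtain ⟨E, hE⟩ := h.exists_jo hA
  exact hE.cmp.trans (h.mid.jo_line_left hE hA' hL hRL hAL hAL').cmp.symm

theorem wz_cmp (hc : Cmp V Z R A B) : ws V A ⊔ zu V Z R = ws V B ⊔ zu V Z R := by
  unfold Cmp at hc
  induction hc with
  | rel A B h1 => exact h.wz R A B h1
  | refl A => rfl
  | symm A B _ ih => exact ih.symm
  | trans A B C _ _ ih1 ih2 => exact ih1.trans ih2

theorem com_cmp (hA : Adj V Z A R) (hc : Cmp V Z R A B) : Com V A B := by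
  have h1 : ws V B ≤ centralizer ((ws V A : Subgroup G) : Set G) := by
    have h2 : ws V B ≤ ws V A ⊔ zu V Z R := by rw [h.wz_cmp hc]; exact le_sup_left
    refine h2.trans (sup_le (h.mid.com_self hA.left) ?_)
    exact inf_le_right.trans (centralizer_le (le_UU hA))
  exact comm_symm h1

/-- not all `B ~ R` are in one component -/
theorem exists_not_cmp (hA : Adj V Z A R) : ∃ B, Adj V Z B R ∧ ¬ Cmp V Z R A B := by
  by_contra hcon
  push Not at hcon
  obtain ⟨A₀, R₀, B₀, hc⟩ := h.ex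
  obtain ⟨g, hg, -⟩ := h.mid.exists_adj hc.l hA
  have h1 := hc.cj g
  rw [hg] at h1
  exact h1.ne (h.com_cmp h1.l ((hcon _ h1.l).symm.trans (hcon _ h1.r.symm)))

/-- there are at least three components -/
theorem exists_three (hA : Adj V Z A R) : ∃ B C, Adj V Z B R ∧ Adj V Z C R ∧ ¬ Cmp V Z R A B ∧ ¬ Cmp V Z R A C ∧
    ¬ Cmp V Z R B C := by
  obtain ⟨B, hB, hAB⟩ := h.exists_not_cmp hA
  by_contra hcon
  push Not at hcon
  have hdi : ∀ C, Adj V Z C R → Cmp V Z R A C ∨ Cmp V Z R B C := by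
    intro C hC
    by_cases h1 : Cmp V Z R A C
    · exact Or.inl h1
    · exact Or.inr (hcon B C hB hC hAB h1)
  obtain ⟨g, hgR, hgA⟩ := h.mid.exists_adj hA hB
  have hcg : ∀ {C D : Subgroup G}, Cmp V Z R (cj g C) (cj g D) ↔ Cmp V Z R C D := by
    intro C D
    have h1 := cmp_cj (V := V) (Z := Z) (R := R) (A := C) (B := D) (g := g)
    rwa [hgR] at h1
  have hag : ∀ {C : Subgroup G}, Adj V Z C R → Adj V Z (cj g C) R := by
    intro C hC
    have h1 := hC.cj g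
    rwa [hgR] at h1
  have hsw : ∀ C, Adj V Z C R → (Cmp V Z R A (cj g C) ↔ ¬ Cmp V Z R A C) := by
    intro C hC
    constructor
    · intro h1 h2
      have h3 := hcg.2 h2
      rw [hgA] at h3
      exact hAB (h1.trans h3.symm)
    · intro h1
      rcases hdi _ (hag hC) with h2 | h2
      · exact h2
      · rw [← hgA] at h2
        exact absurd (hcg.1 h2) h1
  obtain ⟨m, hm, ht⟩ := exists_odd_pow g
  have hpR : ∀ k : ℕ, cj (g ^ k) R = R := by
    intro k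
    induction k with
    | zero => rw [pow_zero, cj_one]
    | succ k ih => rw [pow_succ, ← cj_cj, hgR, ih]
  have hap : ∀ (k : ℕ) {C : Subgroup G}, Adj V Z C R → Adj V Z (cj (g ^ k) C) R := by
    intro k C hC
    have h1 := hC.cj (g ^ k)
    rwa [hpR k] at h1
  have hev : ∀ (k : ℕ) (C : Subgroup G), Adj V Z C R → (Cmp V Z R A (cj (g ^ (2 * k)) C) ↔ Cmp V Z R A C) := by
    intro k
    induction k with
    | zero => intro C _; rw [mul_zero, pow_zero, cj_one]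
    | succ k ih =>
      intro C hC
      have e : g ^ (2 * (k + 1)) = g * (g * g ^ (2 * k)) := by
        rw [← pow_succ', ← pow_succ']
        rfl
      rw [e, ← cj_cj, hsw _ (by rw [← cj_cj]; exact hag (hap _ hC)), ← cj_cj, hsw _ (hap _ hC), not_not]
      exact ih C hC
  have hod : ∀ C, Adj V Z C R → (Cmp V Z R A (cj (g ^ m) C) ↔ ¬ Cmp V Z R A C) := by
    intro C hC
    obtain ⟨k, rfl⟩ := hm
    rw [pow_succ', ← cj_cj, hsw _ (hap _ hC), hev k C hC]
  obtain ⟨L, hL, hRL, htL⟩ := h.mid.exists_fix_line hA.right ht (hpR m)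
  obtain ⟨Y, hY, hYL, hYR⟩ := h.mid.exists_second hA.right hL hRL
  have hYa : Adj V Z Y R := ⟨hY, hA.right, hYR, L, hL, hYL, hRL⟩
  have h1 : Cmp V Z R Y (cj (g ^ m) Y) := by
    refine h.cmp_line hYa (hap m hYa) hL hRL hYL ?_
    rw [← htL]
    exact cj_le_cj.2 hYL
  have h2 := hod Y hYa
  by_cases h3 : Cmp V Z R A Y
  · exact (h2.1 (h3.trans h1)) h3
  · exact h3 ((h2.2 h3).trans h1.symm)

/-! ### (i) -/

theorem bb_le (hR : IsCj Z R) : bb V Z R A ≤ ws V R := by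
  refine sup_le (h.mid.pt_le_ws hR) (sSup_le ?_)
  rintro B ⟨hB, -⟩
  exact h.mid.adj_le_ws hB.symm

theorem cc_le (hR : IsCj Z R) : cc V Z R A ≤ ws V R := by
  refine sup_le (h.mid.pt_le_ws hR) (sSup_le ?_)
  rintro B ⟨hB, -⟩
  exact h.mid.adj_le_ws hB.symm

theorem bb_le_cw {D : Subgroup G} (hD : Adj V Z D R) (hAD : ¬ Cmp V Z R A D) : bb V Z R A ≤ cw V Z R D := by
  refine sup_le (h.mid.R_le_cw hD) (sSup_le ?_)
  rintro B ⟨hB, hAB⟩
  by_contra h1
  exact hAD (hAB.trans ((h.mid.jo_iff hD hB).2 h1).cmp.symm)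

theorem cc_le_cw {D : Subgroup G} (hD : Adj V Z D R) (hAD : Cmp V Z R A D) : cc V Z R A ≤ cw V Z R D := by
  refine sup_le (h.mid.R_le_cw hD) (sSup_le ?_)
  rintro B ⟨hB, hAB⟩
  by_contra h1
  exact hAB (hAD.trans ((h.mid.jo_iff hD hB).2 h1).cmp)

theorem bb_inf_cc (hR : IsCj Z R) : bb V Z R A ⊓ cc V Z R A = R := by
  apply le_antisymm
  · rintro w ⟨h1, h2⟩
    refine h.cen R hR w (h.bb_le hR h1) fun D hD u hu => ?_
    by_cases h3 : Cmp V Z R A D
    · exact (mem_cw.1 (h.cc_le_cw hD h3 h2)).2 u hu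
    · exact (mem_cw.1 (h.bb_le_cw hD h3 h1)).2 u hu
  · exact le_inf (R_le_bb V Z R A) (R_le_cc V Z R A)

theorem bb_sup_cc (hR : IsCj Z R) : bb V Z R A ⊔ cc V Z R A = ws V R := by
  apply le_antisymm (sup_le (h.bb_le hR) (h.cc_le hR))
  refine h.ws_le_of hR ((R_le_bb V Z R A).trans le_sup_left) fun B hB => ?_
  by_cases h1 : Cmp V Z R A B
  · exact (le_bb hB h1).trans le_sup_left
  · exact (le_cc hB h1).trans le_sup_right

theorem card_bb {R' : Subgroup G} (hA : Adj V Z A R) (hA' : Adj V Z A' R') :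
    Nat.card (bb V Z R A) = Nat.card (bb V Z R' A') := by
  obtain ⟨g, hg, hgA⟩ := h.mid.exists_adj hA hA'
  rw [← hg, ← hgA, bb_cj, card_cj]

theorem ws_comm' (hR : IsCj Z R) {K K' : Subgroup G} (hK : K ≤ ws V R) (hK' : K' ≤ ws V R) :
    ∀ a ∈ K, ∀ b ∈ K', a * b = b * a := fun _ ha _ hb => h.mid.ws_comm hR (hK ha) (hK' hb)

theorem card_mul (hR : IsCj Z R) : Nat.card (ws V R) * Nat.card Z = Nat.card (bb V Z R A) * Nat.card (cc V Z R A) := by
  rw [← card_sup_mul' (h.ws_comm' hR (h.bb_le hR) (h.cc_le hR)), h.bb_sup_cc hR, h.bb_inf_cc hR, h.card_pt hR]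

/-- `|W_R| s² ≥ n³` -/
theorem le_card_ws (hA : Adj V Z A R) :
    Nat.card (bb V Z R A) ^ 3 ≤ Nat.card (ws V R) * Nat.card Z ^ 2 := by
  obtain ⟨B, C, hB, hC, hAB, hAC, hBC⟩ := h.exists_three hA
  have hR := hA.right
  have hZ0 : 0 < Nat.card Z := Nat.card_pos
  -- `bb B ⊔ bb C ≤ cc A`
  have hsub : ∀ {D : Subgroup G}, ¬ Cmp V Z R A D → bb V Z R D ≤ cc V Z R A := by
    intro D hD
    refine sup_le (R_le_cc V Z R A) (sSup_le ?_)
    rintro E ⟨hE, hDE⟩
    exact le_cc hE fun e => hD (e.trans hDE.symm)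
  have h1 : bb V Z R B ⊓ bb V Z R C ≤ R := by
    have h0 : bb V Z R C ≤ cc V Z R B := by
      refine sup_le (R_le_cc V Z R B) (sSup_le ?_)
      rintro E ⟨hE, hCE⟩
      exact le_cc hE fun e => hBC (e.trans hCE.symm)
    calc bb V Z R B ⊓ bb V Z R C ≤ bb V Z R B ⊓ cc V Z R B := inf_le_inf_left _ h0
      _ = R := h.bb_inf_cc hR
  have h2 := card_sup_mul' (h.ws_comm' hR (h.bb_le (A := B) hR) (h.bb_le (A := C) hR))
  have h3 : Nat.card (bb V Z R B ⊓ bb V Z R C : Subgroup G) ≤ Nat.card Z := by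
    rw [← h.card_pt hR]
    exact Nat.card_le_card_of_injective _ (Subgroup.inclusion_injective h1)
  have h4 : Nat.card (bb V Z R B ⊔ bb V Z R C : Subgroup G) ≤ Nat.card (cc V Z R A) :=
    Nat.card_le_card_of_injective _ (Subgroup.inclusion_injective (sup_le (hsub hAB) (hsub hAC)))
  have h5 := h.card_mul (A := A) hR
  rw [h.card_bb hB hA, h.card_bb hC hA] at h2
  set n := Nat.card (bb V Z R A)
  set s := Nat.card Z
  have h6 : n * n ≤ Nat.card (cc V Z R A) * s := by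
    rw [← h2]
    exact Nat.mul_le_mul h4 h3
  calc n ^ 3 = n * (n * n) := by ring
    _ ≤ n * (Nat.card (cc V Z R A) * s) := Nat.mul_le_mul_left _ h6
    _ = (n * Nat.card (cc V Z R A)) * s := by ring
    _ = Nat.card (ws V R) * s ^ 2 := by rw [← h5]; ring


/-! ### (j) -/

/-- **(j)** -/
theorem index_le (hj : Jo V Z R A B) :
    (ws V B).relIndex (ws V A) * Nat.card Z ≤ Nat.card (bb V Z R A) := by
  have hm := h.mid
  have hj' := h.symm _ _ _ hj
  obtain ⟨C, hC, hCA⟩ : ∃ C, Adj V Z C B ∧ ¬ A ≤ centralizer ((ws V C : Subgroup G) : Set G) := by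
    by_contra hcon
    push Not at hcon
    refine hj'.mv (comm_symm (sSup_le ?_))
    rintro _ ⟨C, hC, rfl⟩
    exact comm_symm (hcon C hC)
  have hcr : Cr V Z C B R := ⟨hC, hj.r, fun e => hCA ((hm.adj_le_ws hj.l.symm).trans e.symm)⟩
  obtain ⟨E, hE⟩ := h.exists_jo hC.symm
  obtain ⟨α, hα, hα1⟩ := hm.pt_ne_bot hj.l.left
  obtain ⟨ε, hε, hε1⟩ := hm.pt_ne_bot hE.r.left
  have hαR : α ∈ ws V R := hm.adj_le_ws hj.l.symm hα
  have hαU : α ∈ UU V Z B := le_UU hj.r.symm hαR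
  have hεC : ε ∈ ws V C := hm.adj_le_ws hE.r.symm hε
  have hαC : α ∉ centralizer ((ws V C : Subgroup G) : Set G) := by
    intro h1
    refine hCA fun a ha => mem_centralizer_iff.2 fun w hw => ?_
    exact hm.t3 hj.l.left (hm.twoEl_ws hC.left hw) hα hα1 (mem_centralizer_iff.1 h1 w hw) a ha
  have hcen : ∀ w ∈ ws V C, α * w = w * α → w ∈ cw V Z C B := fun w hw hw' =>
    (h.cent C B hC.symm α hαU w hw hw').resolve_right hαC
  have hcom : Com V A B := h.com_cmp hj.l hj.cmp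
  have key : ∀ y ∈ ws V A, y * ε * y⁻¹ * ε⁻¹ ∈ bb V Z C B ⊓ cw V Z C B := by
    intro y hy
    have hyB : ∀ x ∈ ws V B, y * x = x * y := fun x hx => (mem_centralizer_iff.1 (hcom hy) x hx).symm
    have h1 : cj y C = C := by
      rw [cj_eq_iff]
      refine centralizer_le_normalizer _ (mem_centralizer_iff.2 fun c hc => ?_)
      exact (hyB c (hm.adj_le_ws hC.symm hc)).symm
    have h2 : cj y B = B := by
      rw [cj_eq_iff]
      refine centralizer_le_normalizer _ (mem_centralizer_iff.2 fun c hc => ?_)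
      exact (hyB c (hm.pt_le_ws hC.right hc)).symm
    have h3 : ε ∈ bb V Z C B := le_bb hE.r hE.cmp hε
    have h4 : y * ε * y⁻¹ ∈ bb V Z C B := by
      have h5 := bb_cj V Z C B y
      rw [h1, h2] at h5
      rw [h5]
      exact conj_mem_cj h3
    have h6 : y * ε * y⁻¹ ∈ ws V C := h.bb_le hC.left h4
    refine ⟨(bb V Z C B).mul_mem h4 ((bb V Z C B).inv_mem h3),
      hcen _ ((ws V C).mul_mem h6 ((ws V C).inv_mem hεC)) ?_⟩
    have hyα : y * α = α * y := hm.ws_comm hj.l.left hy (hm.pt_le_ws hj.l.left hα)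
    have h7 := hyB _ (hm.pt_le_ws hC.right (h.comm C B R hcr ε hεC α hαR))
    have hyα' : y⁻¹ * α = α * y⁻¹ := by
      rw [inv_mul_eq_iff_eq_mul, ← mul_assoc, hyα, mul_inv_cancel_right]
    have h8 : y * ε * y⁻¹ * α * (y * ε * y⁻¹)⁻¹ = ε * α * ε⁻¹ := by
      calc y * ε * y⁻¹ * α * (y * ε * y⁻¹)⁻¹ = y * ε * (y⁻¹ * α) * y * ε⁻¹ * y⁻¹ := by group
        _ = y * ε * (α * y⁻¹) * y * ε⁻¹ * y⁻¹ := by rw [hyα']
        _ = y * (ε * α * ε⁻¹ * α⁻¹) * α * y⁻¹ := by group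
        _ = (ε * α * ε⁻¹ * α⁻¹) * y * α * y⁻¹ := by rw [h7]
        _ = (ε * α * ε⁻¹ * α⁻¹) * (y * α) * y⁻¹ := by group
        _ = ε * α * ε⁻¹ := by rw [hyα]; group
    have h9 : y * ε * y⁻¹ * ε⁻¹ = ε⁻¹ * (y * ε * y⁻¹) := hm.ws_comm hC.left h6 ((ws V C).inv_mem hεC)
    rw [h9]
    calc α * (ε⁻¹ * (y * ε * y⁻¹)) = ε⁻¹ * (ε * α * ε⁻¹) * (y * ε * y⁻¹) := by group
      _ = ε⁻¹ * (y * ε * y⁻¹ * α * (y * ε * y⁻¹)⁻¹) * (y * ε * y⁻¹) := by rw [h8]
      _ = ε⁻¹ * (y * ε * y⁻¹) * α := by group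
  have h1 := relIndex_le_of_conj key
  -- `|N| s ≤ |bb|`
  have h2 : Nat.card Z * Nat.card (bb V Z C B ⊓ cw V Z C B : Subgroup G) ≤ Nat.card (bb V Z C B) := by
    have h3 : E ⊓ (bb V Z C B ⊓ cw V Z C B) = ⊥ := by
      rw [eq_bot_iff]
      rintro x ⟨hx, -, hx'⟩
      exact mem_bot.2 (hm.inf_cw hE hx hx')
    have h4 := card_sup_mul' (K := E) (L := bb V Z C B ⊓ cw V Z C B)
      (h.ws_comm' hC.left (hm.adj_le_ws hE.r.symm) (inf_le_left.trans (h.bb_le hC.left)))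
    rw [h3, card_bot, mul_one, h.card_pt hE.r.left] at h4
    rw [← h4]
    exact Nat.card_le_card_of_injective _ (Subgroup.inclusion_injective
      (sup_le (le_bb hE.r hE.cmp) inf_le_left))
  -- `C_{W_A}(ε) ≤ W_A ∩ W_B`
  have h3 : centralizer ({ε} : Set G) ⊓ ws V A ≤ ws V B := by
    rintro y ⟨hy, hyA⟩
    have hyε : y * ε = ε * y := mem_centralizer_singleton_iff.1 hy
    have h4 : y ∈ ws V (cj ε A) := by
      rw [ws_cj, mem_cj]
      have e : ε⁻¹ * y * ε = y := by rw [mul_assoc, hyε, inv_mul_cancel_left]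
      rw [e]
      exact hyA
    have h5 : cj ε A ≠ A := by
      intro e
      have h6 := hm.t3n hj.l.left (hm.twoEl_ws hC.left hεC) e α hα
      exact hε1 (hm.inf_cw hE hε (hcen ε hεC h6.symm))
    have h6 : cj ε A ≤ A ⊔ B := by
      intro x hx
      rw [mem_cj] at hx
      have h7 := h.comm C B R hcr ε hεC _ (hm.adj_le_ws hj.l.symm hx)
      have e : x = (ε * (ε⁻¹ * x * ε) * ε⁻¹ * (ε⁻¹ * x * ε)⁻¹) * (ε⁻¹ * x * ε) := by group
      rw [e]
      exact mul_mem (mem_sup_right h7) (mem_sup_left hx)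
    have h7 := h.infc R A B _ hj (hj.l.left.cj ε) h6 h5
    have h8 : y ∈ ws V A ⊓ ws V (cj ε A) := ⟨hyA, h4⟩
    rw [h7] at h8
    exact h8.2
  have h4 : (ws V B).relIndex (ws V A) ≤ (centralizer ({ε} : Set G)).relIndex (ws V A) := by
    rw [← inf_relIndex_right (centralizer ({ε} : Set G))]
    exact relIndex_le_of_le_left h3 (by
      rw [inf_relIndex_right]
      exact Subgroup.index_ne_zero_of_finite)
  rw [h.card_bb hj.l hC.symm]
  calc (ws V B).relIndex (ws V A) * Nat.card Z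
      ≤ Nat.card (bb V Z C B ⊓ cw V Z C B : Subgroup G) * Nat.card Z := Nat.mul_le_mul_right _ (h4.trans h1)
    _ = Nat.card Z * Nat.card (bb V Z C B ⊓ cw V Z C B : Subgroup G) := mul_comm _ _
    _ ≤ _ := h2

/-! ### (k) -/

/-- (0.b) `[W_R, U_A] ≤ A` -/
theorem comm_UU (hA : Adj V Z A R) {u w : G} (hu : u ∈ UU V Z A) (hw : w ∈ ws V R) : u * w * u⁻¹ * w⁻¹ ∈ A := by
  let K : Subgroup G :=
    { carrier := {g | g ∈ centralizer (A : Set G) ∧ ∀ w ∈ ws V R, g * w * g⁻¹ * w⁻¹ ∈ A}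
      one_mem' := ⟨one_mem _, fun w _ => by simp⟩
      mul_mem' := by
        rintro a b ⟨ha, ha'⟩ ⟨hb, hb'⟩
        refine ⟨mul_mem ha hb, fun w hw => ?_⟩
        have e : a * b * w * (a * b)⁻¹ * w⁻¹ = a * (b * w * b⁻¹ * w⁻¹) * a⁻¹ * (a * w * a⁻¹ * w⁻¹) := by group
        have e2 : a * (b * w * b⁻¹ * w⁻¹) * a⁻¹ = b * w * b⁻¹ * w⁻¹ := by
          rw [← mem_centralizer_iff.1 ha _ (hb' w hw), mul_inv_cancel_right]
        rw [e, e2]
        exact A.mul_mem (hb' w hw) (ha' w hw)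
      inv_mem' := by
        rintro a ⟨ha, ha'⟩
        refine ⟨inv_mem ha, fun w hw => ?_⟩
        have e : a⁻¹ * w * a⁻¹⁻¹ * w⁻¹ = a⁻¹ * (a * w * a⁻¹ * w⁻¹)⁻¹ * a := by group
        have h1 := A.inv_mem (ha' w hw)
        rw [e, mul_assoc, mem_centralizer_iff.1 ha _ h1, inv_mul_cancel_left]
        exact h1 }
  have h1 : UU V Z A ≤ K := by
    refine sSup_le ?_
    rintro _ ⟨C, hC, rfl⟩ c hc
    refine ⟨h.mid.ws_le_cent' hC hc, fun w hw => ?_⟩
    by_cases h2 : Com V C R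
    · have h3 := mem_centralizer_iff.1 (h2 hc) w hw
      have e : c * w * c⁻¹ * w⁻¹ = 1 := by rw [← h3]; group
      rw [e]
      exact one_mem _
    · exact h.comm C A R ⟨hC, hA, h2⟩ c hc w hw
  exact (h1 hu).2 w hw

/-- the group generated by the `U_D`, `D` in the component of the line `L` at `X` -/
def nn (V Z X L : Subgroup G) : Subgroup G :=
  sSup {U | ∃ D A, Adj V Z D X ∧ Adj V Z A X ∧ A ≤ L ∧ Cmp V Z X A D ∧ U = UU V Z D}

omit [Finite G] h in
theorem nn_cj (V Z X L : Subgroup G) (g : G) : nn V Z (cj g X) (cj g L) = cj g (nn V Z X L) := by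
  have key : ∀ (g : G) (X L : Subgroup G), cj g (nn V Z X L) ≤ nn V Z (cj g X) (cj g L) := by
    intro g X L
    rw [cj_le_iff]
    refine sSup_le ?_
    rintro _ ⟨D, A, h1, h2, h3, h4, rfl⟩
    rw [le_cj_iff, inv_inv, ← UU_cj]
    exact le_sSup ⟨cj g D, cj g A, h1.cj g, h2.cj g, cj_le_cj.2 h3, h4.cj g, rfl⟩
  refine le_antisymm ?_ (key g X L)
  have h1 := key g⁻¹ (cj g X) (cj g L)
  rw [cj_cj, cj_cj, inv_mul_cancel, cj_one, cj_one, cj_le_iff, inv_inv] at h1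
  exact h1

/-- `I_L ∩ cc R B ≤ R` -/
theorem inf_cc (hB : Adj V Z B R) (hL : IsCj V L) (hRL : R ≤ L) (hBL : B ≤ L)
    {u : G} (hu : u ∈ ws V B) (huR : u ∈ ws V R) (huc : u ∈ cc V Z R B) : u ∈ R := by
  have hm := h.mid
  refine hm.lemF_flag (N := nn V Z) (fun g X L _ _ _ => nn_cj V Z X L g) ?_ ?_ hB.right hL hRL hB.left hBL
    hB.ne huR hu ?_
  · intro X L hX hL hXL
    refine sSup_le ?_
    rintro _ ⟨D, A, h1, h2, h3, h4, rfl⟩
    exact hm.UU_le_cent_adj h1.symm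
  · intro X L hX hL hXL
    obtain ⟨A, hA, hAL, hAX⟩ := hm.exists_second hX hL hXL
    have hAa : Adj V Z A X := ⟨hA, hX, hAX, L, hL, hAL, hXL⟩
    obtain ⟨E, hE⟩ := h.exists_jo hAa
    have hE' := h.symm _ _ _ hE
    obtain ⟨n, hn, v, hv, hnv⟩ : ∃ n ∈ UU V Z E, ∃ v ∈ A, n * v ≠ v * n := by
      by_contra hcon
      push Not at hcon
      exact hE'.mv fun v hv => mem_centralizer_iff.2 fun n hn => hcon n hn v hv
    refine ⟨n, ?_, v, hAL hv, fun h1 => hnv ?_⟩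
    · exact (le_sSup (show UU V Z E ∈ {U | ∃ D A, Adj V Z D X ∧ Adj V Z A X ∧ A ≤ L ∧ Cmp V Z X A D ∧ U = UU V Z D}
        from ⟨E, A, hE.r, hAa, hAL, hE.cmp, rfl⟩)) hn
    · have h2 := h.comm_UU hE.r hn (hm.adj_le_ws hAa.symm hv)
      by_contra h3
      have h4 : n * v * n⁻¹ * v⁻¹ ≠ 1 := fun e => h3 (by
        rw [mul_inv_eq_one, mul_inv_eq_iff_eq_mul] at e
        exact e)
      exact hE.r.ne (hm.pts_eq hE.r.left hX h2 h1 h4)
  · intro n hn
    have h1 : nn V Z R L ≤ centralizer ({u} : Set G) := by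
      refine sSup_le ?_
      rintro _ ⟨D, A, h1, h2, h3, h4, rfl⟩ x hx
      rw [mem_centralizer_singleton_iff]
      have h5 : Cmp V Z R B D := (h.cmp_line hB h2 hL hRL hBL h3).trans h4
      exact (mem_cw.1 (h.cc_le_cw h1 h5 huc)).2 x hx
    have h2 : n * u = u * n := mem_centralizer_singleton_iff.1 (h1 hn)
    rw [h2, mul_inv_cancel_right, mul_inv_cancel]
    exact one_mem _

/-- **THEOREM N1**, second half -/
theorem false : False := by
  have hm := h.mid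
  obtain ⟨B, R, B₀, hc⟩ := h.ex
  have hB : Adj V Z B R := hc.l
  have hR := hB.right
  obtain ⟨A, hBA⟩ := h.exists_jo hB
  have hj : Jo V Z R A B := h.symm _ _ _ hBA
  obtain ⟨L, hL, hBL, hRL⟩ := hB.line
  obtain ⟨B', hB'p, hBL', hBR', hBB'⟩ := hm.exists_third hR hB.left hL hRL hBL hB.ne.symm
  have hB' : Adj V Z B' R := ⟨hB'p, hR, hBR', L, hL, hBL', hRL⟩
  have hj2 : Jo V Z R A B' := hm.jo_line_right hj hB' hL hRL hBL hBL'
  have i1 := h.index_le hj
  have i2 := h.index_le hj2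
  have hn := h.le_card_ws hj.l
  set n := Nat.card (bb V Z R A) with hn0
  set s := Nat.card Z with hs0
  have hs : 1 < s := h.one_lt
  -- the line group
  have hI : ws V B ⊓ ws V B' ≤ ws V R := hm.inf_le hL hB.left hB'p hR hBL hBL' hRL hBB'.symm
  have hIc : ws V B ⊓ ws V B' ≤ cw V Z R B := by
    intro x hx
    rw [mem_cw]
    exact ⟨hI hx, fun u hu => (mem_centralizer_iff.1 (hm.UU_le_centralizer B hu) x hx.1).symm⟩
  have hIR : (ws V B ⊓ ws V B') ⊓ cc V Z R B = R := by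
    apply le_antisymm
    · rintro u ⟨hu, hu'⟩
      exact h.inf_cc hB hL hRL hBL hu.1 (hI hu) hu'
    · exact le_inf (le_inf (hm.adj_le_ws hB) (hm.adj_le_ws hB')) (R_le_cc V Z R B)
  have c1 := card_sup_mul' (h.ws_comm' hR hI (h.cc_le (A := B) hR))
  rw [hIR, h.card_pt hR] at c1
  have c2 : Nat.card (ws V B ⊓ ws V B' ⊔ cc V Z R B : Subgroup G) ≤ Nat.card (cw V Z R B) :=
    Nat.card_le_card_of_injective _ (Subgroup.inclusion_injective
      (sup_le hIc (h.cc_le_cw hB (Relation.EqvGen.refl _))))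
  have c3 : Nat.card (cw V Z R B) * s = Nat.card (ws V R) := by
    have h1 := card_mul_relIndex' (cw_le (V := V) (Z := Z) (R := R) (A := B))
    rw [cw, inf_comm, inf_relIndex_right, h.h2 R B hB] at h1
    rw [cw, inf_comm]
    exact h1
  have c4 := h.card_mul (A := B) hR
  rw [h.card_bb hB hj.l] at c4
  have hcc0 : 0 < Nat.card (cc V Z R B) := Nat.card_pos
  have c5 : Nat.card (ws V B ⊓ ws V B' : Subgroup G) * s ≤ n := by
    refine Nat.le_of_mul_le_mul_right ?_ hcc0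
    calc Nat.card (ws V B ⊓ ws V B' : Subgroup G) * s * Nat.card (cc V Z R B)
        = (Nat.card (ws V B ⊓ ws V B' : Subgroup G) * Nat.card (cc V Z R B)) * s := by ring
      _ = (Nat.card (ws V B ⊓ ws V B' ⊔ cc V Z R B : Subgroup G) * s) * s := by rw [← c1]
      _ ≤ (Nat.card (cw V Z R B) * s) * s := by gcongr
      _ = n * Nat.card (cc V Z R B) := by rw [c3, ← c4]
  -- `|D| s ≤ |I|`
  have d1 : B ⊓ (ws V B ⊓ ws V B' ⊓ ws V A) = ⊥ := by
    rw [eq_bot_iff]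
    rintro x ⟨hx, -, hx'⟩
    rw [mem_bot]
    refine hm.inf_cw hj hx (mem_cw.2 ⟨hm.adj_le_ws hB.symm hx, fun u hu => ?_⟩)
    exact (mem_centralizer_iff.1 (hm.UU_le_centralizer A hu) x hx').symm
  have hBI : B ≤ ws V B ⊓ ws V B' :=
    le_inf (hm.pt_le_ws hB.left) (hm.adj_le_ws ⟨hB'p, hB.left, hBB', L, hL, hBL', hBL⟩)
  have d2 := card_sup_mul' (h.ws_comm' hB.left (hm.pt_le_ws hB.left)
    ((inf_le_left.trans inf_le_left : ws V B ⊓ ws V B' ⊓ ws V A ≤ ws V B)))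
  rw [d1, card_bot, mul_one, h.card_pt hB.left] at d2
  have d3 : s * Nat.card (ws V B ⊓ ws V B' ⊓ ws V A : Subgroup G) ≤ Nat.card (ws V B ⊓ ws V B' : Subgroup G) := by
    rw [← d2]
    exact Nat.card_le_card_of_injective _ (Subgroup.inclusion_injective (sup_le hBI inf_le_left))
  -- `|W_A| ≤ i₁ i₂ |D|`
  have e1 := card_mul_relIndex' (inf_le_right : ws V B ⊓ ws V B' ⊓ ws V A ≤ ws V A)
  rw [inf_relIndex_right] at e1
  have e2 : (ws V B ⊓ ws V B').relIndex (ws V A) ≤ (ws V B).relIndex (ws V A) * (ws V B').relIndex (ws V A) :=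
    relIndex_inf_le
  have e3 : Nat.card (ws V A) = Nat.card (ws V R) := by
    obtain ⟨g, hg⟩ := hj.l.left
    obtain ⟨g', hg'⟩ := hR
    rw [hg, hg', ws_cj, ws_cj, card_cj, card_cj]
  have hW0 : 0 < Nat.card (ws V R) := Nat.card_pos
  rw [e3] at e1
  have e4 : Nat.card (ws V R) * s ^ 4 ≤ n ^ 3 := by
    rw [← e1]
    calc Nat.card (ws V B ⊓ ws V B' ⊓ ws V A : Subgroup G) * (ws V B ⊓ ws V B').relIndex (ws V A) * s ^ 4
        ≤ Nat.card (ws V B ⊓ ws V B' ⊓ ws V A : Subgroup G) *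
            ((ws V B).relIndex (ws V A) * (ws V B').relIndex (ws V A)) * s ^ 4 := by gcongr
      _ = ((ws V B).relIndex (ws V A) * s) * ((ws V B').relIndex (ws V A) * s) *
            ((s * Nat.card (ws V B ⊓ ws V B' ⊓ ws V A : Subgroup G)) * s) := by ring
      _ ≤ n * n * n := by
        refine Nat.mul_le_mul (Nat.mul_le_mul i1 i2) ?_
        exact (Nat.mul_le_mul_right _ d3).trans c5
      _ = n ^ 3 := by ring
  have e5 : Nat.card (ws V R) * s ^ 4 ≤ Nat.card (ws V R) * s ^ 2 := e4.trans hn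
  have e6 := Nat.le_of_mul_le_mul_left e5 hW0
  have e7 : s ^ 2 < s ^ 4 := Nat.pow_lt_pow_right hs (by norm_num)
  omega

end TNG

end Cfsg.Agent.Omega.NO3S.MidQ

end

section


/-!
# TYPE N without (H3): the count (bb OMEGA #18317 (3), TEXT 426-3)

* `DistP V Z` : **(DIST)** `α γ⁻¹ ∈ C_{W_R}(⟨U_D : D ~ R⟩)`, `α ∈ A#`, `γ ∈ C#`, `A, C ~ R`, only if `A, C, R` are on
  a line;
* `TNF.FG S P V Z` : the output of (a) - (g) and (DIST), no (H3);
* `TNF.cx V Z R A` : `C_{W_R}(⟨U_D : D in the component of A⟩)`;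
* `TNF.FG.false`.
-/

set_option autoImplicit false
set_option linter.unusedSectionVars false

namespace Cfsg.Agent.Omega.NO3S.MidQ

open Subgroup Cfsg.Agent.Omega.NO3S.PT Cfsg.Agent.Omega.NoFF.Basic Cfsg.Agent.ZN
open scoped Pointwise

variable {G : Type*} [Group G] {V Z X Y R L A A' B B' : Subgroup G}

/-- **(DIST)** -/
def DistP (V Z : Subgroup G) : Prop :=
  ∀ R A C, Adj V Z A R → Adj V Z C R → ∀ α ∈ A, α ≠ 1 → ∀ γ ∈ C, γ ≠ 1 →
    (∀ D, Adj V Z D R → ∀ u ∈ UU V Z D, u * (α * γ⁻¹) = α * γ⁻¹ * u) → ∃ L, IsCj V L ∧ R ≤ L ∧ A ≤ L ∧ C ≤ L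

namespace TNF

/-- the output of (a) - (g) and (DIST) -/
structure FG [Finite G] (S : Sylow 2 G) (P V Z : Subgroup G) : Prop extends Mid S P V Z where
  comm : ∀ A R B, Cr V Z A R B → ∀ a ∈ ws V A, ∀ b ∈ ws V B, a * b * a⁻¹ * b⁻¹ ∈ R
  ex : ∃ A R B, Cr V Z A R B
  h2 : H2 V Z
  symm : ∀ R A B, Jo V Z R A B → Jo V Z R B A
  cent : ∀ R A, Adj V Z A R → ∀ g ∈ UU V Z A, ∀ w ∈ ws V R, g * w = w * g →
    w ∈ cw V Z R A ∨ g ∈ centralizer ((ws V R : Subgroup G) : Set G)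
  infc : ∀ R A B Y, Jo V Z R A B → IsCj Z Y → Y ≤ A ⊔ B → Y ≠ A → ws V A ⊓ ws V Y = ws V A ⊓ ws V B
  wz : ∀ R A B, Jo V Z R A B → ws V A ⊔ zu V Z R = ws V B ⊔ zu V Z R
  dist : DistP V Z

/-- the subgroup generated by the `U_D`, `D` in the component of `A` at `R` -/
def nc (V Z R A : Subgroup G) : Subgroup G := sSup {U | ∃ D, Adj V Z D R ∧ Cmp V Z R A D ∧ U = UU V Z D}

/-- `C_{W_R}(⟨U_D : D in the component of A⟩)` -/
def cx (V Z R A : Subgroup G) : Subgroup G := ws V R ⊓ centralizer ((nc V Z R A : Subgroup G) : Set G)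

theorem mem_cx {x : G} : x ∈ cx V Z R A ↔
    x ∈ ws V R ∧ ∀ D, Adj V Z D R → Cmp V Z R A D → ∀ u ∈ UU V Z D, u * x = x * u := by
  rw [cx, mem_inf]
  refine and_congr_right fun _ => ?_
  constructor
  · intro h1 D hD hAD u hu
    exact mem_centralizer_iff.1 h1 u ((le_sSup (show UU V Z D ∈ {U | ∃ D, Adj V Z D R ∧ Cmp V Z R A D ∧
      U = UU V Z D} from ⟨D, hD, hAD, rfl⟩)) hu)
  · intro h1
    have h2 : nc V Z R A ≤ centralizer ({x} : Set G) := by
      refine sSup_le ?_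
      rintro _ ⟨D, hD, hAD, rfl⟩ u hu
      exact mem_centralizer_singleton_iff.2 (h1 D hD hAD u hu)
    exact mem_centralizer_iff.2 fun u hu => mem_centralizer_singleton_iff.1 (h2 hu)

theorem nc_cj (V Z R A : Subgroup G) (g : G) : nc V Z (cj g R) (cj g A) = cj g (nc V Z R A) := by
  have key : ∀ (g : G) (R A : Subgroup G), cj g (nc V Z R A) ≤ nc V Z (cj g R) (cj g A) := by
    intro g R A
    rw [cj_le_iff]
    refine sSup_le ?_
    rintro _ ⟨D, h1, h2, rfl⟩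
    rw [le_cj_iff, inv_inv, ← UU_cj]
    exact le_sSup ⟨cj g D, h1.cj g, h2.cj g, rfl⟩
  refine le_antisymm ?_ (key g R A)
  have h1 := key g⁻¹ (cj g R) (cj g A)
  rw [cj_cj, cj_cj, inv_mul_cancel, cj_one, cj_one, cj_le_iff, inv_inv] at h1
  exact h1

theorem cx_cj (V Z R A : Subgroup G) (g : G) : cx V Z (cj g R) (cj g A) = cj g (cx V Z R A) := by
  rw [cx, cx, ws_cj, nc_cj, cj_inf, ← cj_centralizer]

theorem cx_le : cx V Z R A ≤ ws V R := inf_le_left

theorem cx_le_cw (hA : Adj V Z A R) : cx V Z R A ≤ cw V Z R A := fun _ hx =>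
  mem_cw.2 ⟨(mem_cx.1 hx).1, (mem_cx.1 hx).2 A hA (Relation.EqvGen.refl _)⟩

theorem cx_congr (h : Cmp V Z R A B) : cx V Z R A = cx V Z R B := by
  ext x
  rw [mem_cx, mem_cx]
  refine and_congr_right fun _ => ⟨fun h1 D hD hBD => h1 D hD (h.trans hBD), fun h1 D hD hAD =>
    h1 D hD (h.symm.trans hAD)⟩

/-- counting conjugates -/
theorem relIndex_le_of_conj' [Finite G] {W : Subgroup G} {T : Set G} {e : G} (h : ∀ y ∈ W, y * e * y⁻¹ * e⁻¹ ∈ T) :
    (centralizer ({e} : Set G)).relIndex W ≤ Nat.card T := by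
  rw [Subgroup.relIndex, Subgroup.index]
  let f : W ⧸ (centralizer ({e} : Set G)).subgroupOf W → T := Quotient.lift
    (fun y : W => (⟨y * e * (y : G)⁻¹ * e⁻¹, h y y.2⟩ : T)) (by
      intro a b hab
      have h1 : (a : G)⁻¹ * b ∈ centralizer ({e} : Set G) := by
        have h2 := QuotientGroup.leftRel_apply.1 hab
        exact mem_subgroupOf.1 h2
      have h3 : (a : G)⁻¹ * b * e = e * ((a : G)⁻¹ * b) := mem_centralizer_singleton_iff.1 h1
      apply Subtype.ext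
      show (a : G) * e * (a : G)⁻¹ * e⁻¹ = b * e * (b : G)⁻¹ * e⁻¹
      have h4 : (b : G) * e = a * e * ((a : G)⁻¹ * b) := by
        rw [mul_assoc (a : G), ← h3]; group
      rw [h4]
      group)
  refine Nat.card_le_card_of_injective f ?_
  rintro ⟨a⟩ ⟨b⟩ hab
  have h1 : (a : G) * e * (a : G)⁻¹ * e⁻¹ = b * e * (b : G)⁻¹ * e⁻¹ := congrArg Subtype.val hab
  apply Quotient.sound
  apply QuotientGroup.leftRel_apply.2
  rw [mem_subgroupOf]
  show (a : G)⁻¹ * b ∈ centralizer ({e} : Set G)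
  rw [mem_centralizer_singleton_iff]
  have h2 : (a : G) * e * (a : G)⁻¹ = b * e * (b : G)⁻¹ := mul_right_cancel h1
  calc (a : G)⁻¹ * b * e = (a : G)⁻¹ * (b * e * (b : G)⁻¹) * b := by group
    _ = (a : G)⁻¹ * (a * e * (a : G)⁻¹) * b := by rw [h2]
    _ = e * ((a : G)⁻¹ * b) := by group

/-- a set of elements of `M` which are congruent modulo `C` if they are congruent modulo `N` has at most `|M : N| |C|`
elements -/
theorem card_le_of_cong [Finite G] {M N C : Subgroup G} {T : Set G} (hT : ∀ t ∈ T, t ∈ M)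
    (hC : ∀ t ∈ T, ∀ t' ∈ T, t⁻¹ * t' ∈ N → t⁻¹ * t' ∈ C) :
    Nat.card T ≤ N.relIndex M * Nat.card C := by
  classical
  let q : T → M ⧸ N.subgroupOf M := fun t => QuotientGroup.mk ⟨t.1, hT t.1 t.2⟩
  let r : M ⧸ N.subgroupOf M → Option T := fun c => if h : ∃ t : T, q t = c then some h.choose else none
  have hq : ∀ t t' : T, q t = q t' → t.1⁻¹ * t'.1 ∈ C := by
    intro t t' htt
    have h1 := QuotientGroup.eq.1 htt
    rw [mem_subgroupOf] at h1
    exact hC t.1 t.2 t'.1 t'.2 h1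
  let s : T → T := fun t => if h : ∃ t' : T, q t' = q t then h.choose else t
  have hs : ∀ t, q (s t) = q t := by
    intro t
    have h1 : ∃ t' : T, q t' = q t := ⟨t, rfl⟩
    show q (if h : ∃ t' : T, q t' = q t then h.choose else t) = q t
    rw [dif_pos h1]
    exact h1.choose_spec
  have hs2 : ∀ t t', q t = q t' → s t = s t' := by
    intro t t' htt
    have h1 : ∃ t₀ : T, q t₀ = q t := ⟨t, rfl⟩
    have h2 : ∃ t₀ : T, q t₀ = q t' := ⟨t', rfl⟩
    show (if h : ∃ t₀ : T, q t₀ = q t then h.choose else t) = (if h : ∃ t₀ : T, q t₀ = q t' then h.choose else t')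
    rw [dif_pos h1, dif_pos h2]
    congr 1
    ext t₀
    rw [htt]
  let f : T → (M ⧸ N.subgroupOf M) × C := fun t => (q t, ⟨(s t).1⁻¹ * t.1, hq _ _ (hs t)⟩)
  have hf : Function.Injective f := by
    intro t t' htt
    have h1 : q t = q t' := congrArg Prod.fst htt
    have h2 : (s t).1⁻¹ * t.1 = (s t').1⁻¹ * t'.1 := congrArg Subtype.val (congrArg Prod.snd htt)
    rw [hs2 t t' h1] at h2
    exact Subtype.ext (mul_left_cancel h2)
  have h1 := Nat.card_le_card_of_injective f hf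
  rw [Nat.card_prod] at h1
  exact h1

namespace FG

variable [Finite G] {S : Sylow 2 G} {P : Subgroup G} (h : FG S P V Z)
include h

theorem mid : Mid S P V Z := h.toMid

theorem card_pt (hX : IsCj Z X) : Nat.card X = Nat.card Z := by
  obtain ⟨g, rfl⟩ := hX
  exact card_cj g Z

theorem one_lt : 1 < Nat.card Z := by
  have h1 := (Subgroup.one_lt_card_iff_ne_bot Z).2 h.mid.pl.Zne
  exact h1

/-- `L ≤ U` if `R`, `B ≤ U` -/
theorem line_le' {U : Subgroup G} (hR : IsCj Z R) (hB : IsCj Z B) (hne : B ≠ R) (hL : IsCj V L) (hRL : R ≤ L)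
    (hBL : B ≤ L) (hRU : R ≤ U) (hBU : B ≤ U) : L ≤ U := by
  obtain ⟨T, Q, h'⟩ := h.mid.flag hR hL hRL
  intro v hv
  obtain ⟨x, hx, y, hy, rfl⟩ := h'.pl.exists_mul h'.pl.isCj_self hRL ((isCj_iff hR).2 hB) hBL hne.symm hv
  exact mul_mem (hRU hx) (hBU hy)

/-- a subgroup containing all `B ~ R` contains `W_R` -/
theorem ws_le_of {U : Subgroup G} (hR : IsCj Z R) (hRU : R ≤ U) (hU : ∀ B, Adj V Z B R → B ≤ U) : ws V R ≤ U := by
  refine ws_le fun L hL hRL => ?_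
  obtain ⟨Y, hY, hYL, hYR⟩ := h.mid.exists_second hR hL hRL
  exact h.line_le' hR hY hYR hL hRL hYL hRU (hU Y ⟨hY, hR, hYR, L, hL, hYL, hRL⟩)

/-- some `E` is joined to `A` -/
theorem exists_jo (hA : Adj V Z A R) : ∃ E, Jo V Z R A E := by
  by_contra hcon
  push Not at hcon
  have h1 : ws V R ≤ cw V Z R A := h.ws_le_of hA.right (h.mid.R_le_cw hA) fun B hB => by
    by_contra h2
    exact hcon B ((h.mid.jo_iff hA hB).2 h2)
  have h2 := h.h2 R A hA
  rw [relIndex_eq_one.2 (h1.trans inf_le_right)] at h2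
  have h3 := h.one_lt
  omega

theorem cmp_line (hA : Adj V Z A R) (hA' : Adj V Z A' R) (hL : IsCj V L) (hRL : R ≤ L) (hAL : A ≤ L)
    (hAL' : A' ≤ L) : Cmp V Z R A A' := by
  obtain ⟨E, hE⟩ := h.exists_jo hA
  exact hE.cmp.trans (h.mid.jo_line_left hE hA' hL hRL hAL hAL').cmp.symm

theorem wz_cmp (hc : Cmp V Z R A B) : ws V A ⊔ zu V Z R = ws V B ⊔ zu V Z R := by
  unfold Cmp at hc
  induction hc with
  | rel A B h1 => exact h.wz R A B h1
  | refl A => rfl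
  | symm A B _ ih => exact ih.symm
  | trans A B C _ _ ih1 ih2 => exact ih1.trans ih2

theorem com_cmp (hA : Adj V Z A R) (hc : Cmp V Z R A B) : Com V A B := by
  have h1 : ws V B ≤ centralizer ((ws V A : Subgroup G) : Set G) := by
    have h2 : ws V B ≤ ws V A ⊔ zu V Z R := by rw [h.wz_cmp hc]; exact le_sup_left
    refine h2.trans (sup_le (h.mid.com_self hA.left) ?_)
    exact inf_le_right.trans (centralizer_le (le_UU hA))
  exact comm_symm h1

/-- not all `B ~ R` are in one component -/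
theorem exists_not_cmp (hA : Adj V Z A R) : ∃ B, Adj V Z B R ∧ ¬ Cmp V Z R A B := by
  by_contra hcon
  push Not at hcon
  obtain ⟨A₀, R₀, B₀, hc⟩ := h.ex
  obtain ⟨g, hg, -⟩ := h.mid.exists_adj hc.l hA
  have h1 := hc.cj g
  rw [hg] at h1
  exact h1.ne (h.com_cmp h1.l ((hcon _ h1.l).symm.trans (hcon _ h1.r.symm)))

/-- there are at least three components -/
theorem exists_three (hA : Adj V Z A R) : ∃ B C, Adj V Z B R ∧ Adj V Z C R ∧ ¬ Cmp V Z R A B ∧ ¬ Cmp V Z R A C ∧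
    ¬ Cmp V Z R B C := by
  obtain ⟨B, hB, hAB⟩ := h.exists_not_cmp hA
  by_contra hcon
  push Not at hcon
  have hdi : ∀ C, Adj V Z C R → Cmp V Z R A C ∨ Cmp V Z R B C := by
    intro C hC
    by_cases h1 : Cmp V Z R A C
    · exact Or.inl h1
    · exact Or.inr (hcon B C hB hC hAB h1)
  obtain ⟨g, hgR, hgA⟩ := h.mid.exists_adj hA hB
  have hcg : ∀ {C D : Subgroup G}, Cmp V Z R (cj g C) (cj g D) ↔ Cmp V Z R C D := by
    intro C D
    have h1 := cmp_cj (V := V) (Z := Z) (R := R) (A := C) (B := D) (g := g)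
    rwa [hgR] at h1
  have hag : ∀ {C : Subgroup G}, Adj V Z C R → Adj V Z (cj g C) R := by
    intro C hC
    have h1 := hC.cj g
    rwa [hgR] at h1
  have hsw : ∀ C, Adj V Z C R → (Cmp V Z R A (cj g C) ↔ ¬ Cmp V Z R A C) := by
    intro C hC
    constructor
    · intro h1 h2
      have h3 := hcg.2 h2
      rw [hgA] at h3
      exact hAB (h1.trans h3.symm)
    · intro h1
      rcases hdi _ (hag hC) with h2 | h2
      · exact h2
      · rw [← hgA] at h2
        exact absurd (hcg.1 h2) h1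
  obtain ⟨m, hm, ht⟩ := exists_odd_pow g
  have hpR : ∀ k : ℕ, cj (g ^ k) R = R := by
    intro k
    induction k with
    | zero => rw [pow_zero, cj_one]
    | succ k ih => rw [pow_succ, ← cj_cj, hgR, ih]
  have hap : ∀ (k : ℕ) {C : Subgroup G}, Adj V Z C R → Adj V Z (cj (g ^ k) C) R := by
    intro k C hC
    have h1 := hC.cj (g ^ k)
    rwa [hpR k] at h1
  have hev : ∀ (k : ℕ) (C : Subgroup G), Adj V Z C R → (Cmp V Z R A (cj (g ^ (2 * k)) C) ↔ Cmp V Z R A C) := by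
    intro k
    induction k with
    | zero => intro C _; rw [mul_zero, pow_zero, cj_one]
    | succ k ih =>
      intro C hC
      have e : g ^ (2 * (k + 1)) = g * (g * g ^ (2 * k)) := by
        rw [← pow_succ', ← pow_succ']
        rfl
      rw [e, ← cj_cj, hsw _ (by rw [← cj_cj]; exact hag (hap _ hC)), ← cj_cj, hsw _ (hap _ hC), not_not]
      exact ih C hC
  have hod : ∀ C, Adj V Z C R → (Cmp V Z R A (cj (g ^ m) C) ↔ ¬ Cmp V Z R A C) := by
    intro C hC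
    obtain ⟨k, rfl⟩ := hm
    rw [pow_succ', ← cj_cj, hsw _ (hap _ hC), hev k C hC]
  obtain ⟨L, hL, hRL, htL⟩ := h.mid.exists_fix_line hA.right ht (hpR m)
  obtain ⟨Y, hY, hYL, hYR⟩ := h.mid.exists_second hA.right hL hRL
  have hYa : Adj V Z Y R := ⟨hY, hA.right, hYR, L, hL, hYL, hRL⟩
  have h1 : Cmp V Z R Y (cj (g ^ m) Y) := by
    refine h.cmp_line hYa (hap m hYa) hL hRL hYL ?_
    rw [← htL]
    exact cj_le_cj.2 hYL
  have h2 := hod Y hYa
  by_cases h3 : Cmp V Z R A Y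
  · exact (h2.1 (h3.trans h1)) h3
  · exact h3 ((h2.2 h3).trans h1.symm)

theorem bb_le (hR : IsCj Z R) : bb V Z R A ≤ ws V R := by
  refine sup_le (h.mid.pt_le_ws hR) (sSup_le ?_)
  rintro B ⟨hB, -⟩
  exact h.mid.adj_le_ws hB.symm

/-- `B ≤ cx A` if `B` is not in the component of `A` -/
theorem pt_le_cx (hB : Adj V Z B R) (hAB : ¬ Cmp V Z R A B) : B ≤ cx V Z R A := by
  intro x hx
  refine mem_cx.2 ⟨h.mid.adj_le_ws hB.symm hx, fun D hD hAD u hu => ?_⟩
  by_contra hne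
  have h1 : Jo V Z R D B := ⟨hD, hB, fun e => hne (mem_centralizer_iff.1 (e hx) u hu)⟩
  exact hAB (hAD.trans h1.cmp)

theorem R_le_cx (hA : Adj V Z A R) : R ≤ cx V Z R A := fun _ hx =>
  mem_cx.2 ⟨h.mid.pt_le_ws hA.right hx, fun _ hD _ => (mem_cw.1 (h.mid.R_le_cw hD hx)).2⟩

/-- the block of `B` is in `cx A` -/
theorem bb_le_cx (hA : Adj V Z A R) (hAB : ¬ Cmp V Z R A B) : bb V Z R B ≤ cx V Z R A := by
  refine sup_le (h.R_le_cx hA) (sSup_le ?_)
  rintro C ⟨hC, hBC⟩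
  exact h.pt_le_cx hC fun e => hAB (e.trans hBC.symm)

theorem bb_sup_cx (hA : Adj V Z A R) : bb V Z R A ⊔ cx V Z R A = ws V R := by
  apply le_antisymm (sup_le (h.bb_le hA.right) cx_le)
  refine h.ws_le_of hA.right ((R_le_bb V Z R A).trans le_sup_left) fun B hB => ?_
  by_cases h1 : Cmp V Z R A B
  · exact (le_bb hB h1).trans le_sup_left
  · exact (h.pt_le_cx hB h1).trans le_sup_right

theorem card_cx {R' : Subgroup G} (hA : Adj V Z A R) (hA' : Adj V Z A' R') :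
    Nat.card (cx V Z R A) = Nat.card (cx V Z R' A') := by
  obtain ⟨g, hg, hgA⟩ := h.mid.exists_adj hA hA'
  rw [← hg, ← hgA, cx_cj, card_cj]

theorem ws_comm' (hR : IsCj Z R) {K K' : Subgroup G} (hK : K ≤ ws V R) (hK' : K' ≤ ws V R) :
    ∀ a ∈ K, ∀ b ∈ K', a * b = b * a := fun _ ha _ hb => h.mid.ws_comm hR (hK ha) (hK' hb)

theorem card_ws {R' : Subgroup G} (hR : IsCj Z R) (hR' : IsCj Z R') : Nat.card (ws V R) = Nat.card (ws V R') := by
  obtain ⟨g, hg⟩ := hR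
  obtain ⟨g', hg'⟩ := hR'
  rw [hg, hg', ws_cj, ws_cj, card_cj, card_cj]

/-- `|W_R|² s ≤ |cx|³` -/
theorem le_card_ws (hA : Adj V Z A R) :
    Nat.card (ws V R) ^ 2 * Nat.card Z ≤ Nat.card (cx V Z R A) ^ 3 := by
  obtain ⟨B, C, hB, hC, hAB, hAC, hBC⟩ := h.exists_three hA
  have hR := hA.right
  -- `cx C ⊔ cx B = W_R`
  have s1 : cx V Z R C ⊔ cx V Z R B = ws V R := by
    refine le_antisymm (sup_le cx_le cx_le) ?_
    rw [← h.bb_sup_cx hB]
    exact sup_le ((h.bb_le_cx hC fun e => hBC e.symm).trans le_sup_left) le_sup_right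
  have s2 : cx V Z R A ⊔ (cx V Z R C ⊓ cx V Z R B) = ws V R := by
    refine le_antisymm (sup_le cx_le (inf_le_left.trans cx_le)) ?_
    rw [← h.bb_sup_cx hA]
    exact sup_le ((le_inf (h.bb_le_cx hC fun e => hAC e.symm) (h.bb_le_cx hB fun e => hAB e.symm)).trans
      le_sup_right) le_sup_left
  have c1 := card_sup_mul' (h.ws_comm' hR (cx_le (V := V) (Z := Z) (R := R) (A := C))
    (cx_le (V := V) (Z := Z) (R := R) (A := B)))
  have c2 := card_sup_mul' (h.ws_comm' hR (cx_le (V := V) (Z := Z) (R := R) (A := A))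
    (inf_le_left.trans cx_le : cx V Z R C ⊓ cx V Z R B ≤ ws V R))
  rw [s1, h.card_cx hC hA, h.card_cx hB hA] at c1
  rw [s2] at c2
  have h1 : R ≤ cx V Z R A ⊓ (cx V Z R C ⊓ cx V Z R B) := le_inf (h.R_le_cx hA) (le_inf (h.R_le_cx hC) (h.R_le_cx hB))
  have h3 : Nat.card Z ≤ Nat.card (cx V Z R A ⊓ (cx V Z R C ⊓ cx V Z R B) : Subgroup G) := by
    rw [← h.card_pt hR]
    exact Nat.card_le_card_of_injective _ (Subgroup.inclusion_injective h1)
  set c := Nat.card (cx V Z R A)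
  set w := Nat.card (ws V R)
  calc w ^ 2 * Nat.card Z ≤ w ^ 2 * Nat.card (cx V Z R A ⊓ (cx V Z R C ⊓ cx V Z R B) : Subgroup G) :=
        Nat.mul_le_mul_left _ h3
    _ = w * (w * Nat.card (cx V Z R A ⊓ (cx V Z R C ⊓ cx V Z R B) : Subgroup G)) := by ring
    _ = w * (c * Nat.card (cx V Z R C ⊓ cx V Z R B : Subgroup G)) := by rw [c2]
    _ = c * (w * Nat.card (cx V Z R C ⊓ cx V Z R B : Subgroup G)) := by ring
    _ = c ^ 3 := by rw [c1]; ring

/-- (0.b) `[W_R, U_A] ≤ A` -/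
theorem comm_UU (hA : Adj V Z A R) {u w : G} (hu : u ∈ UU V Z A) (hw : w ∈ ws V R) : u * w * u⁻¹ * w⁻¹ ∈ A := by
  let K : Subgroup G :=
    { carrier := {g | g ∈ centralizer (A : Set G) ∧ ∀ w ∈ ws V R, g * w * g⁻¹ * w⁻¹ ∈ A}
      one_mem' := ⟨one_mem _, fun w _ => by simp⟩
      mul_mem' := by
        rintro a b ⟨ha, ha'⟩ ⟨hb, hb'⟩
        refine ⟨mul_mem ha hb, fun w hw => ?_⟩
        have e : a * b * w * (a * b)⁻¹ * w⁻¹ = a * (b * w * b⁻¹ * w⁻¹) * a⁻¹ * (a * w * a⁻¹ * w⁻¹) := by group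
        have e2 : a * (b * w * b⁻¹ * w⁻¹) * a⁻¹ = b * w * b⁻¹ * w⁻¹ := by
          rw [← mem_centralizer_iff.1 ha _ (hb' w hw), mul_inv_cancel_right]
        rw [e, e2]
        exact A.mul_mem (hb' w hw) (ha' w hw)
      inv_mem' := by
        rintro a ⟨ha, ha'⟩
        refine ⟨inv_mem ha, fun w hw => ?_⟩
        have e : a⁻¹ * w * a⁻¹⁻¹ * w⁻¹ = a⁻¹ * (a * w * a⁻¹ * w⁻¹)⁻¹ * a := by group
        have h1 := A.inv_mem (ha' w hw)
        rw [e, mul_assoc, mem_centralizer_iff.1 ha _ h1, inv_mul_cancel_left]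
        exact h1 }
  have h1 : UU V Z A ≤ K := by
    refine sSup_le ?_
    rintro _ ⟨C, hC, rfl⟩ c hc
    refine ⟨h.mid.ws_le_cent' hC hc, fun w hw => ?_⟩
    by_cases h2 : Com V C R
    · have h3 := mem_centralizer_iff.1 (h2 hc) w hw
      have e : c * w * c⁻¹ * w⁻¹ = 1 := by rw [← h3]; group
      rw [e]
      exact one_mem _
    · exact h.comm C A R ⟨hC, hA, h2⟩ c hc w hw
  exact (h1 hu).2 w hw

/-- `I_L ∩ cx R B ≤ R` -/
theorem inf_cx (hB : Adj V Z B R) (hL : IsCj V L) (hRL : R ≤ L) (hBL : B ≤ L)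
    {u : G} (hu : u ∈ ws V B) (huR : u ∈ ws V R) (huc : u ∈ cx V Z R B) : u ∈ R := by
  have hm := h.mid
  refine hm.lemF_flag (N := TNG.nn V Z) (fun g X L _ _ _ => TNG.nn_cj V Z X L g) ?_ ?_ hB.right hL hRL hB.left hBL
    hB.ne huR hu ?_
  · intro X L hX hL hXL
    refine sSup_le ?_
    rintro _ ⟨D, A, h1, h2, h3, h4, rfl⟩
    exact hm.UU_le_cent_adj h1.symm
  · intro X L hX hL hXL
    obtain ⟨A, hA, hAL, hAX⟩ := hm.exists_second hX hL hXL
    have hAa : Adj V Z A X := ⟨hA, hX, hAX, L, hL, hAL, hXL⟩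
    obtain ⟨E, hE⟩ := h.exists_jo hAa
    have hE' := h.symm _ _ _ hE
    obtain ⟨n, hn, v, hv, hnv⟩ : ∃ n ∈ UU V Z E, ∃ v ∈ A, n * v ≠ v * n := by
      by_contra hcon
      push Not at hcon
      exact hE'.mv fun v hv => mem_centralizer_iff.2 fun n hn => hcon n hn v hv
    refine ⟨n, ?_, v, hAL hv, fun h1 => hnv ?_⟩
    · exact (le_sSup (show UU V Z E ∈ {U | ∃ D A, Adj V Z D X ∧ Adj V Z A X ∧ A ≤ L ∧ Cmp V Z X A D ∧ U = UU V Z D}
        from ⟨E, A, hE.r, hAa, hAL, hE.cmp, rfl⟩)) hn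
    · have h2 := h.comm_UU hE.r hn (hm.adj_le_ws hAa.symm hv)
      by_contra h3
      have h4 : n * v * n⁻¹ * v⁻¹ ≠ 1 := fun e => h3 (by
        rw [mul_inv_eq_one, mul_inv_eq_iff_eq_mul] at e
        exact e)
      exact hE.r.ne (hm.pts_eq hE.r.left hX h2 h1 h4)
  · intro n hn
    have h1 : TNG.nn V Z R L ≤ centralizer ({u} : Set G) := by
      refine sSup_le ?_
      rintro _ ⟨D, A, h1, h2, h3, h4, rfl⟩ x hx
      rw [mem_centralizer_singleton_iff]
      have h5 : Cmp V Z R B D := (h.cmp_line hB h2 hL hRL hBL h3).trans h4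
      exact (mem_cx.1 huc).2 D h1 h5 x hx
    have h2 : n * u = u * n := mem_centralizer_singleton_iff.1 (h1 hn)
    rw [h2, mul_inv_cancel_right, mul_inv_cancel]
    exact one_mem _

/-- an element of a line on `R` which is centralised by all `U_D`, `D ~ R`, is in `R` -/
theorem line_cen (hR : IsCj Z R) (hL : IsCj V L) (hRL : R ≤ L) {x : G} (hx : x ∈ L)
    (hc : ∀ D, Adj V Z D R → ∀ u ∈ UU V Z D, u * x = x * u) : x ∈ R := by
  by_contra hxR
  have hm := h.mid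
  have hx1 : x ≠ 1 := fun e => hxR (e ▸ one_mem _)
  obtain ⟨X, hX, hXL, hxX⟩ := hm.exists_point hL hx hx1
  have hXR : X ≠ R := fun e => hxR (e ▸ hxX)
  have hXa : Adj V Z X R := ⟨hX, hR, hXR, L, hL, hXL, hRL⟩
  obtain ⟨E, hE⟩ := h.exists_jo hXa
  have hE' := h.symm _ _ _ hE
  exact hx1 (hm.inf_cw hE' hxX (mem_cw.2 ⟨hm.line_le hL hRL hx, hc E hE.r⟩))

/-! ### (j) -/

/-- **(j)** -/
theorem index_le (hj : Jo V Z R A B) :
    (ws V B).relIndex (ws V A) * Nat.card (cx V Z R A) ≤ Nat.card (ws V R) := by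
  have hm := h.mid
  have hj' := h.symm _ _ _ hj
  obtain ⟨C, hC, hCA⟩ : ∃ C, Adj V Z C B ∧ ¬ A ≤ centralizer ((ws V C : Subgroup G) : Set G) := by
    by_contra hcon
    push Not at hcon
    refine hj'.mv (comm_symm (sSup_le ?_))
    rintro _ ⟨C, hC, rfl⟩
    exact comm_symm (hcon C hC)
  have hcr : Cr V Z C B R := ⟨hC, hj.r, fun e => hCA ((hm.adj_le_ws hj.l.symm).trans e.symm)⟩
  obtain ⟨E, hE⟩ := h.exists_jo hC.symm
  obtain ⟨α, hα, hα1⟩ := hm.pt_ne_bot hj.l.left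
  obtain ⟨ε, hε, hε1⟩ := hm.pt_ne_bot hE.r.left
  have hαR : α ∈ ws V R := hm.adj_le_ws hj.l.symm hα
  have hαU : α ∈ UU V Z B := le_UU hj.r.symm hαR
  have hεC : ε ∈ ws V C := hm.adj_le_ws hE.r.symm hε
  have hαC : α ∉ centralizer ((ws V C : Subgroup G) : Set G) := by
    intro h1
    refine hCA fun a ha => mem_centralizer_iff.2 fun w hw => ?_
    exact hm.t3 hj.l.left (hm.twoEl_ws hC.left hw) hα hα1 (mem_centralizer_iff.1 h1 w hw) a ha
  have hcen : ∀ w ∈ ws V C, α * w = w * α → w ∈ cw V Z C B := fun w hw hw' =>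
    (h.cent C B hC.symm α hαU w hw hw').resolve_right hαC
  have hcom : Com V A B := h.com_cmp hj.l hj.cmp
  have hyC : ∀ y ∈ ws V A, cj y C = C ∧ cj y B = B ∧ ∀ x ∈ ws V B, y * x = x * y := by
    intro y hy
    have hyB : ∀ x ∈ ws V B, y * x = x * y := fun x hx => (mem_centralizer_iff.1 (hcom hy) x hx).symm
    refine ⟨?_, ?_, hyB⟩
    · rw [cj_eq_iff]
      refine centralizer_le_normalizer _ (mem_centralizer_iff.2 fun c hc => ?_)
      exact (hyB c (hm.adj_le_ws hC.symm hc)).symm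
    · rw [cj_eq_iff]
      refine centralizer_le_normalizer _ (mem_centralizer_iff.2 fun c hc => ?_)
      exact (hyB c (hm.pt_le_ws hC.right hc)).symm
  have key : ∀ y ∈ ws V A, y * ε * y⁻¹ * ε⁻¹ ∈ bb V Z C B ⊓ cw V Z C B := by
    intro y hy
    obtain ⟨h1, h2, hyB⟩ := hyC y hy
    have h3 : ε ∈ bb V Z C B := le_bb hE.r hE.cmp hε
    have h4 : y * ε * y⁻¹ ∈ bb V Z C B := by
      have h5 := bb_cj V Z C B y
      rw [h1, h2] at h5
      rw [h5]
      exact conj_mem_cj h3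
    have h6 : y * ε * y⁻¹ ∈ ws V C := h.bb_le hC.left h4
    refine ⟨(bb V Z C B).mul_mem h4 ((bb V Z C B).inv_mem h3),
      hcen _ ((ws V C).mul_mem h6 ((ws V C).inv_mem hεC)) ?_⟩
    have hyα : y * α = α * y := hm.ws_comm hj.l.left hy (hm.pt_le_ws hj.l.left hα)
    have h7 := hyB _ (hm.pt_le_ws hC.right (h.comm C B R hcr ε hεC α hαR))
    have hyα' : y⁻¹ * α = α * y⁻¹ := by
      rw [inv_mul_eq_iff_eq_mul, ← mul_assoc, hyα, mul_inv_cancel_right]
    have h8 : y * ε * y⁻¹ * α * (y * ε * y⁻¹)⁻¹ = ε * α * ε⁻¹ := by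
      calc y * ε * y⁻¹ * α * (y * ε * y⁻¹)⁻¹ = y * ε * (y⁻¹ * α) * y * ε⁻¹ * y⁻¹ := by group
        _ = y * ε * (α * y⁻¹) * y * ε⁻¹ * y⁻¹ := by rw [hyα']
        _ = y * (ε * α * ε⁻¹ * α⁻¹) * α * y⁻¹ := by group
        _ = (ε * α * ε⁻¹ * α⁻¹) * y * α * y⁻¹ := by rw [h7]
        _ = (ε * α * ε⁻¹ * α⁻¹) * (y * α) * y⁻¹ := by group
        _ = ε * α * ε⁻¹ := by rw [hyα]; group
    have h9 : y * ε * y⁻¹ * ε⁻¹ = ε⁻¹ * (y * ε * y⁻¹) := hm.ws_comm hC.left h6 ((ws V C).inv_mem hεC)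
    rw [h9]
    calc α * (ε⁻¹ * (y * ε * y⁻¹)) = ε⁻¹ * (ε * α * ε⁻¹) * (y * ε * y⁻¹) := by group
      _ = ε⁻¹ * (y * ε * y⁻¹ * α * (y * ε * y⁻¹)⁻¹) * (y * ε * y⁻¹) := by rw [h8]
      _ = ε⁻¹ * (y * ε * y⁻¹) * α := by group
  -- the set of the values
  let T : Set G := {t | ∃ y ∈ ws V A, t = y * ε * y⁻¹ * ε⁻¹}
  have h1 : (centralizer ({ε} : Set G)).relIndex (ws V A) ≤ Nat.card T :=
    relIndex_le_of_conj' fun y hy => ⟨y, hy, rfl⟩
  have h2 : Nat.card T ≤ (cx V Z C B).relIndex (cw V Z C B) * Nat.card C := by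
    refine card_le_of_cong ?_ ?_
    · rintro _ ⟨y, hy, rfl⟩
      exact (key y hy).2
    · rintro _ ⟨y, hy, rfl⟩ _ ⟨y', hy', rfl⟩ hx
      obtain ⟨e1, e2, hyB⟩ := hyC y hy
      obtain ⟨e1', e2', hyB'⟩ := hyC y' hy'
      have hE1 : Adj V Z (cj y E) C := by
        have h5 := hE.r.cj y
        rwa [e1] at h5
      have hE2 : Adj V Z (cj y' E) C := by
        have h5 := hE.r.cj y'
        rwa [e1'] at h5
      have q1 : y * ε * y⁻¹ ∈ cj y E := conj_mem_cj hε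
      have q2 : y' * ε * y'⁻¹ ∈ cj y' E := conj_mem_cj hε
      have w1 := hm.adj_le_ws hE1.symm q1
      have w2 := hm.adj_le_ws hE2.symm q2
      have e : (y * ε * y⁻¹ * ε⁻¹)⁻¹ * (y' * ε * y'⁻¹ * ε⁻¹) = y' * ε * y'⁻¹ * (y * ε * y⁻¹)⁻¹ := by
        have c1 : ε⁻¹ * (y' * ε * y'⁻¹) = y' * ε * y'⁻¹ * ε⁻¹ := (hm.ws_comm hC.left w2 ((ws V C).inv_mem hεC)).symm
        have c2 : (y * ε * y⁻¹)⁻¹ * (y' * ε * y'⁻¹) = (y' * ε * y'⁻¹) * (y * ε * y⁻¹)⁻¹ :=
          (hm.ws_comm hC.left w2 ((ws V C).inv_mem w1)).symm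
        calc (y * ε * y⁻¹ * ε⁻¹)⁻¹ * (y' * ε * y'⁻¹ * ε⁻¹)
            = ε * (y * ε * y⁻¹)⁻¹ * ((y' * ε * y'⁻¹) * ε⁻¹) := by group
          _ = ε * (y * ε * y⁻¹)⁻¹ * (ε⁻¹ * (y' * ε * y'⁻¹)) := by rw [c1]
          _ = ε * ((y * ε * y⁻¹)⁻¹ * ε⁻¹) * (y' * ε * y'⁻¹) := by group
          _ = ε * (ε⁻¹ * (y * ε * y⁻¹)⁻¹) * (y' * ε * y'⁻¹) := by
            rw [hm.ws_comm hC.left ((ws V C).inv_mem w1) ((ws V C).inv_mem hεC)]
          _ = (y * ε * y⁻¹)⁻¹ * (y' * ε * y'⁻¹) := by group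
          _ = _ := c2
      rw [e] at hx ⊢
      have hb1 : y' * ε * y'⁻¹ * (y * ε * y⁻¹)⁻¹ ∈ bb V Z C B := by
        rw [← e]
        exact mul_mem (inv_mem (key y hy).1) (key y' hy').1
      have hcen' : ∀ D, Adj V Z D C → ∀ u ∈ UU V Z D,
          u * (y' * ε * y'⁻¹ * (y * ε * y⁻¹)⁻¹) = y' * ε * y'⁻¹ * (y * ε * y⁻¹)⁻¹ * u := by
        intro D hD
        by_cases h5 : Cmp V Z C B D
        · exact (mem_cx.1 hx).2 D hD h5
        · have h6 := h.bb_le_cx hD (B := B) (fun e => h5 e.symm) hb1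
          exact (mem_cx.1 h6).2 D hD (Relation.EqvGen.refl _)
      have n1 : y * ε * y⁻¹ ≠ 1 := fun e => hε1 (by
        rw [mul_inv_eq_one] at e
        exact mul_left_cancel (e.trans (mul_one y).symm))
      have n2 : y' * ε * y'⁻¹ ≠ 1 := fun e => hε1 (by
        rw [mul_inv_eq_one] at e
        exact mul_left_cancel (e.trans (mul_one y').symm))
      obtain ⟨L, hL, hCL, h7, h8⟩ := h.dist C (cj y' E) (cj y E) hE2 hE1 _ q2 n2 _ q1 n1 hcen'
      exact h.line_cen hC.left hL hCL (mul_mem (h7 q2) (inv_mem (h8 q1))) hcen'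
  -- `C_{W_A}(ε) ≤ W_A ∩ W_B`
  have h3 : centralizer ({ε} : Set G) ⊓ ws V A ≤ ws V B := by
    rintro y ⟨hy, hyA⟩
    have hyε : y * ε = ε * y := mem_centralizer_singleton_iff.1 hy
    have h4 : y ∈ ws V (cj ε A) := by
      rw [ws_cj, mem_cj]
      have e : ε⁻¹ * y * ε = y := by rw [mul_assoc, hyε, inv_mul_cancel_left]
      rw [e]
      exact hyA
    have h5 : cj ε A ≠ A := by
      intro e
      have h6 := hm.t3n hj.l.left (hm.twoEl_ws hC.left hεC) e α hα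
      exact hε1 (hm.inf_cw hE hε (hcen ε hεC h6.symm))
    have h6 : cj ε A ≤ A ⊔ B := by
      intro x hx
      rw [mem_cj] at hx
      have h7 := h.comm C B R hcr ε hεC _ (hm.adj_le_ws hj.l.symm hx)
      have e : x = (ε * (ε⁻¹ * x * ε) * ε⁻¹ * (ε⁻¹ * x * ε)⁻¹) * (ε⁻¹ * x * ε) := by group
      rw [e]
      exact mul_mem (mem_sup_right h7) (mem_sup_left hx)
    have h7 := h.infc R A B _ hj (hj.l.left.cj ε) h6 h5
    have h8 : y ∈ ws V A ⊓ ws V (cj ε A) := ⟨hyA, h4⟩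
    rw [h7] at h8
    exact h8.2
  have h4 : (ws V B).relIndex (ws V A) ≤ (centralizer ({ε} : Set G)).relIndex (ws V A) := by
    rw [← inf_relIndex_right (centralizer ({ε} : Set G))]
    exact relIndex_le_of_le_left h3 (by
      rw [inf_relIndex_right]
      exact Subgroup.index_ne_zero_of_finite)
  -- orders
  have h5 := card_mul_relIndex' (cx_le_cw (V := V) (Z := Z) hC.symm)
  have h6 : Nat.card (cw V Z C B) * Nat.card Z = Nat.card (ws V C) := by
    have h1 := card_mul_relIndex' (cw_le (V := V) (Z := Z) (R := C) (A := B))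
    rw [cw, inf_comm, inf_relIndex_right, h.h2 C B hC.symm] at h1
    rw [cw, inf_comm]
    exact h1
  rw [h.card_pt hC.left] at h2
  rw [h.card_cx hj.l hC.symm, h.card_ws hj.l.right hC.left]
  calc (ws V B).relIndex (ws V A) * Nat.card (cx V Z C B)
      ≤ (cx V Z C B).relIndex (cw V Z C B) * Nat.card Z * Nat.card (cx V Z C B) :=
        Nat.mul_le_mul_right _ ((h4.trans h1).trans h2)
    _ = Nat.card (cx V Z C B) * (cx V Z C B).relIndex (cw V Z C B) * Nat.card Z := by ring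
    _ = Nat.card (ws V C) := by rw [h5, h6]

/-- **THEOREM N1** without (H3), second half -/
theorem false : False := by
  have hm := h.mid
  obtain ⟨B, R, B₀, hc⟩ := h.ex
  have hB : Adj V Z B R := hc.l
  have hR := hB.right
  obtain ⟨A, hBA⟩ := h.exists_jo hB
  have hj : Jo V Z R A B := h.symm _ _ _ hBA
  obtain ⟨L, hL, hBL, hRL⟩ := hB.line
  obtain ⟨B', hB'p, hBL', hBR', hBB'⟩ := hm.exists_third hR hB.left hL hRL hBL hB.ne.symm
  have hB' : Adj V Z B' R := ⟨hB'p, hR, hBR', L, hL, hBL', hRL⟩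
  have hj2 : Jo V Z R A B' := hm.jo_line_right hj hB' hL hRL hBL hBL'
  have i1 := h.index_le hj
  have i2 := h.index_le hj2
  have hn := h.le_card_ws hj.l
  set c := Nat.card (cx V Z R A) with hc0
  set s := Nat.card Z with hs0
  set w := Nat.card (ws V R) with hw0
  have hs : 1 < s := h.one_lt
  -- the line group
  have hI : ws V B ⊓ ws V B' ≤ ws V R := hm.inf_le hL hB.left hB'p hR hBL hBL' hRL hBB'.symm
  have hIc : ws V B ⊓ ws V B' ≤ cw V Z R B := by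
    intro x hx
    rw [mem_cw]
    exact ⟨hI hx, fun u hu => (mem_centralizer_iff.1 (hm.UU_le_centralizer B hu) x hx.1).symm⟩
  have hIR : (ws V B ⊓ ws V B') ⊓ cx V Z R B = R := by
    apply le_antisymm
    · rintro u ⟨hu, hu'⟩
      exact h.inf_cx hB hL hRL hBL hu.1 (hI hu) hu'
    · exact le_inf (le_inf (hm.adj_le_ws hB) (hm.adj_le_ws hB')) (h.R_le_cx hB)
  have c1 := card_sup_mul' (h.ws_comm' hR hI (cx_le (V := V) (Z := Z) (R := R) (A := B)))
  rw [hIR, h.card_pt hR, h.card_cx hB hj.l] at c1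
  have c2 : Nat.card (ws V B ⊓ ws V B' ⊔ cx V Z R B : Subgroup G) ≤ Nat.card (cw V Z R B) :=
    Nat.card_le_card_of_injective _ (Subgroup.inclusion_injective (sup_le hIc (cx_le_cw hB)))
  have c3 : Nat.card (cw V Z R B) * s = w := by
    have h1 := card_mul_relIndex' (cw_le (V := V) (Z := Z) (R := R) (A := B))
    rw [cw, inf_comm, inf_relIndex_right, h.h2 R B hB] at h1
    rw [cw, inf_comm]
    exact h1
  -- `|I| c ≤ w`
  have c5 : Nat.card (ws V B ⊓ ws V B' : Subgroup G) * c ≤ w := by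
    calc Nat.card (ws V B ⊓ ws V B' : Subgroup G) * c
        = Nat.card (ws V B ⊓ ws V B' ⊔ cx V Z R B : Subgroup G) * s := c1.symm
      _ ≤ Nat.card (cw V Z R B) * s := Nat.mul_le_mul_right _ c2
      _ = w := c3
  -- `|D| s ≤ |I|`
  have d1 : B ⊓ (ws V B ⊓ ws V B' ⊓ ws V A) = ⊥ := by
    rw [eq_bot_iff]
    rintro x ⟨hx, -, hx'⟩
    rw [mem_bot]
    refine hm.inf_cw hj hx (mem_cw.2 ⟨hm.adj_le_ws hB.symm hx, fun u hu => ?_⟩)
    exact (mem_centralizer_iff.1 (hm.UU_le_centralizer A hu) x hx').symm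
  have hBI : B ≤ ws V B ⊓ ws V B' :=
    le_inf (hm.pt_le_ws hB.left) (hm.adj_le_ws ⟨hB'p, hB.left, hBB', L, hL, hBL', hBL⟩)
  have d2 := card_sup_mul' (h.ws_comm' hB.left (hm.pt_le_ws hB.left)
    ((inf_le_left.trans inf_le_left : ws V B ⊓ ws V B' ⊓ ws V A ≤ ws V B)))
  rw [d1, card_bot, mul_one, h.card_pt hB.left] at d2
  have d3 : s * Nat.card (ws V B ⊓ ws V B' ⊓ ws V A : Subgroup G) ≤ Nat.card (ws V B ⊓ ws V B' : Subgroup G) := by
    rw [← d2]
    exact Nat.card_le_card_of_injective _ (Subgroup.inclusion_injective (sup_le hBI inf_le_left))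
  -- `|W_A| ≤ i₁ i₂ |D|`
  have e1 := card_mul_relIndex' (inf_le_right : ws V B ⊓ ws V B' ⊓ ws V A ≤ ws V A)
  rw [inf_relIndex_right] at e1
  have e2 : (ws V B ⊓ ws V B').relIndex (ws V A) ≤ (ws V B).relIndex (ws V A) * (ws V B').relIndex (ws V A) :=
    relIndex_inf_le
  have e3 : Nat.card (ws V A) = w := h.card_ws hj.l.left hR
  have hW0 : 0 < w := Nat.card_pos
  rw [e3] at e1
  have e4 : w * s * c ^ 3 ≤ w ^ 3 := by
    calc w * s * c ^ 3
        = (Nat.card (ws V B ⊓ ws V B' ⊓ ws V A : Subgroup G) * (ws V B ⊓ ws V B').relIndex (ws V A)) * s * c ^ 3 := by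
          rw [e1]
      _ ≤ Nat.card (ws V B ⊓ ws V B' ⊓ ws V A : Subgroup G) *
            ((ws V B).relIndex (ws V A) * (ws V B').relIndex (ws V A)) * s * c ^ 3 := by gcongr
      _ = ((ws V B).relIndex (ws V A) * c) * ((ws V B').relIndex (ws V A) * c) *
            ((s * Nat.card (ws V B ⊓ ws V B' ⊓ ws V A : Subgroup G)) * c) := by ring
      _ ≤ w * w * w := by
        refine Nat.mul_le_mul (Nat.mul_le_mul i1 i2) ?_
        exact (Nat.mul_le_mul_right _ d3).trans c5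
      _ = w ^ 3 := by ring
  have e5 : w * s * (w ^ 2 * s) ≤ w ^ 3 := (Nat.mul_le_mul_left _ hn).trans e4
  have e6 : w ^ 3 * (s * s) ≤ w ^ 3 * 1 := by
    calc w ^ 3 * (s * s) = w * s * (w ^ 2 * s) := by ring
      _ ≤ w ^ 3 := e5
      _ = w ^ 3 * 1 := (mul_one _).symm
  have e7 := Nat.le_of_mul_le_mul_left e6 (pow_pos hW0 3)
  nlinarith only [hs, e7]

end FG

end TNF

end Cfsg.Agent.Omega.NO3S.MidQ

end

end

-- merged: Cfsg.Agent.Mrg.Omega.NO3S.MidQ.TNOne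
section

/-!
# TYPE N, THEOREM N1, steps (0), (a) - (g) (TEXT 426-2)

Let `h : TN S P V Z`.

* `TN.uu_comm`, `TN.uu_sq` : `[U_R, U_R] ≤ R`, `g² ∈ R` for `g ∈ U_R`;
* `TN.exists_crit` : if `R ~ A`, some `(R, B)` is critical with middle `A`;
* with `H2`: `TN.exists_jo`, `TN.cent_or` (a); `TN.mem_cw_of_cr`, `TN.exists_of_cr` (b); `TN.jo_symm` (c);
  `TN.exists_cj_pt`, `TN.inf_const` (d); `TN.not_jo` (e); `TN.comm_mem_zu` (f); `TN.sup_zu`, `TN.com_of_jo` (g);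
* `TN.tng` : **the output `TNG`**.
-/

set_option autoImplicit false
set_option linter.unusedSectionVars false

namespace Cfsg.Agent.Omega.NO3S.MidQ

open Subgroup Cfsg.Agent.Omega.NO3S.PT Cfsg.Agent.Omega.NoFF.Basic Cfsg.Agent.ZN
open scoped Pointwise

variable {G : Type*} [Group G] {V Z X Y R L A A' B B' C : Subgroup G}

/-- the elements `g` which centralise `N` and all `[g, t]`, `t ∈ T`, are in `N` -/
def cmod (N T : Subgroup G) : Subgroup G where
  carrier := {g | (∀ n ∈ N, g * n = n * g) ∧ ∀ t ∈ T, g * t * g⁻¹ * t⁻¹ ∈ N}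
  one_mem' := ⟨fun n _ => by rw [one_mul, mul_one], fun t _ => by simp⟩
  mul_mem' := by
    rintro g g' ⟨h1, h2⟩ ⟨h3, h4⟩
    refine ⟨fun n hn => by rw [mul_assoc, h3 n hn, ← mul_assoc, h1 n hn, mul_assoc], fun t ht => ?_⟩
    have e : g * g' * t * (g * g')⁻¹ * t⁻¹ = g * (g' * t * g'⁻¹ * t⁻¹) * g⁻¹ * (g * t * g⁻¹ * t⁻¹) := by group
    rw [e, h1 _ (h4 t ht)]
    have e2 : g' * t * g'⁻¹ * t⁻¹ * g * g⁻¹ * (g * t * g⁻¹ * t⁻¹) =
      (g' * t * g'⁻¹ * t⁻¹) * (g * t * g⁻¹ * t⁻¹) := by group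
    rw [e2]
    exact N.mul_mem (h4 t ht) (h2 t ht)
  inv_mem' := by
    rintro g ⟨h1, h2⟩
    refine ⟨fun n hn => ?_, fun t ht => ?_⟩
    · have h3 := h1 n hn
      calc g⁻¹ * n = g⁻¹ * (n * g) * g⁻¹ := by group
        _ = g⁻¹ * (g * n) * g⁻¹ := by rw [h3]
        _ = n * g⁻¹ := by group
    · have h3 := N.inv_mem (h2 t ht)
      have h4 := h1 _ h3
      have e : g⁻¹ * t * g⁻¹⁻¹ * t⁻¹ = g⁻¹ * ((g * t * g⁻¹ * t⁻¹)⁻¹ * g) := by group
      rw [e, ← h4, ← mul_assoc, inv_mul_cancel, one_mul]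
      exact h3

theorem mem_cmod {N T : Subgroup G} {g : G} :
    g ∈ cmod N T ↔ (∀ n ∈ N, g * n = n * g) ∧ ∀ t ∈ T, g * t * g⁻¹ * t⁻¹ ∈ N := Iff.rfl

theorem comm_inv_mem {N : Subgroup G} {g t : G} (h : g * t * g⁻¹ * t⁻¹ ∈ N) : t * g * t⁻¹ * g⁻¹ ∈ N := by
  have h1 := N.inv_mem h
  have e : (g * t * g⁻¹ * t⁻¹)⁻¹ = t * g * t⁻¹ * g⁻¹ := by group
  rwa [e] at h1

theorem mem_zu_iff {x : G} : x ∈ zu V Z R ↔ x ∈ UU V Z R ∧ ∀ u ∈ UU V Z R, u * x = x * u := by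
  rw [zu, mem_inf, mem_centralizer_iff]
  rfl

namespace Mid

variable [Finite G] {S : Sylow 2 G} {P : Subgroup G} (h : Mid S P V Z)
include h

theorem cj_UU {g : G} (hg : g ∈ UU V Z R) (hR : IsCj Z R) : PT.cj g R = R :=
  cj_eq_iff.2 (centralizer_le_normalizer _ (h.UU_le_cent_pt hR hg))

/-- `U_A` fixes `R` for `R ~ A` -/
theorem cj_UU_adj {g : G} (hg : g ∈ UU V Z A) (hA : Adj V Z A R) : PT.cj g R = R :=
  cj_eq_iff.2 (centralizer_le_normalizer _ (h.UU_le_cent_adj hA.symm hg))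

theorem card_pt (hX : IsCj Z X) : Nat.card X = Nat.card Z := by
  obtain ⟨g, rfl⟩ := hX
  exact card_cj g Z

theorem one_lt_card_pt : 1 < Nat.card Z := by
  obtain ⟨z, hz, hz1⟩ := h.pt_ne_bot h.pl.isCj_self
  exact Finite.one_lt_card_iff_nontrivial.2 ⟨⟨⟨z, hz⟩, 1, fun e => hz1 (congrArg Subtype.val e)⟩⟩

theorem adj_cj_UU (hA : Adj V Z A R) (hB : Adj V Z B R) {g : G} (hg : g ∈ UU V Z A) : Adj V Z (PT.cj g B) R := by
  have h1 := hB.cj g
  rwa [h.cj_UU_adj hg hA] at h1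

end Mid

theorem exists_mul_sup_tn {A B : Subgroup G} (hc : ∀ a ∈ A, ∀ b ∈ B, a * b = b * a) {v : G} (hv : v ∈ A ⊔ B) :
    ∃ a ∈ A, ∃ b ∈ B, v = a * b := by
  let T : Subgroup G :=
    { carrier := {v | ∃ a ∈ A, ∃ b ∈ B, v = a * b}
      one_mem' := ⟨1, one_mem _, 1, one_mem _, (one_mul 1).symm⟩
      mul_mem' := by
        rintro _ _ ⟨a, ha, b, hb, rfl⟩ ⟨a', ha', b', hb', rfl⟩
        refine ⟨a * a', mul_mem ha ha', b * b', mul_mem hb hb', ?_⟩
        calc a * b * (a' * b') = a * (b * a') * b' := by group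
          _ = a * (a' * b) * b' := by rw [hc a' ha' b hb]
          _ = a * a' * (b * b') := by group
      inv_mem' := by
        rintro _ ⟨a, ha, b, hb, rfl⟩
        refine ⟨a⁻¹, inv_mem ha, b⁻¹, inv_mem hb, ?_⟩
        rw [mul_inv_rev, hc a⁻¹ (inv_mem ha) b⁻¹ (inv_mem hb)] }
  have h1 : A ⊔ B ≤ T := sup_le (fun a ha => ⟨a, ha, 1, one_mem _, (mul_one a).symm⟩)
    (fun b hb => ⟨1, one_mem _, b, hb, (one_mul b).symm⟩)
  exact h1 hv

namespace TN

variable [Finite G] {S : Sylow 2 G} {P : Subgroup G} (h : TN S P V Z)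
include h

/-- **(0.a)** `U_R' ≤ R` -/
theorem uu_comm (_hR : IsCj Z R) {g g' : G} (hg : g ∈ UU V Z R) (hg' : g' ∈ UU V Z R) :
    g * g' * g⁻¹ * g'⁻¹ ∈ R := by
  have key : ∀ B, Adj V Z B R → UU V Z R ≤ cmod R (ws V B) := by
    intro B hB
    refine sSup_le ?_
    rintro _ ⟨A, hA, rfl⟩
    intro w hw
    refine mem_cmod.2 ⟨fun n hn => ?_, fun t ht => ?_⟩
    · exact (mem_centralizer_iff.1 (h.ws_le_cent' hA hw) n hn).symm
    · by_cases hc : Com V A B
      · have e : w * t = t * w := (mem_centralizer_iff.1 (hc hw) t ht).symm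
        have e2 : w * t * w⁻¹ * t⁻¹ = 1 := by rw [e]; group
        rw [e2]
        exact one_mem _
      · exact h.comm A R B ⟨hA, hB.symm, hc⟩ w hw t ht
  have key2 : UU V Z R ≤ cmod R (UU V Z R) := by
    refine sSup_le ?_
    rintro _ ⟨B, hB, rfl⟩
    intro w hw
    refine mem_cmod.2 ⟨fun n hn => ?_, fun t ht => ?_⟩
    · exact (mem_centralizer_iff.1 (h.ws_le_cent' hB hw) n hn).symm
    · exact comm_inv_mem ((mem_cmod.1 (key B hB ht)).2 w hw)
  exact (mem_cmod.1 (key2 hg)).2 g' hg'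

/-- **(0.a)** `g² ∈ R` for `g ∈ U_R` -/
theorem uu_sq (hR : IsCj Z R) {g : G} (hg : g ∈ UU V Z R) : g * g ∈ R := by
  let T : Subgroup G :=
    { carrier := {g | g ∈ UU V Z R ∧ g * g ∈ R}
      one_mem' := ⟨one_mem _, by rw [one_mul]; exact one_mem _⟩
      mul_mem' := by
        rintro a b ⟨ha, ha2⟩ ⟨hb, hb2⟩
        refine ⟨mul_mem ha hb, ?_⟩
        have e : a * b * (a * b) = (a * a) * (a⁻¹ * b * a⁻¹⁻¹ * b⁻¹) * (b * b) := by group
        rw [e]
        exact mul_mem (mul_mem ha2 (h.uu_comm hR (inv_mem ha) hb)) hb2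
      inv_mem' := by
        rintro a ⟨ha, ha2⟩
        refine ⟨inv_mem ha, ?_⟩
        rw [← mul_inv_rev]
        exact inv_mem ha2 }
  have hT : UU V Z R ≤ T := by
    refine sSup_le ?_
    rintro _ ⟨A, hA, rfl⟩
    intro w hw
    exact ⟨le_UU hA hw, by rw [h.ws_sq hA.left hw]; exact one_mem _⟩
  exact (hT hg).2

/-- **(0.b)** `[U_A, W_R] ≤ A` for `A ~ R` -/
theorem comm_adj (hA : Adj V Z A R) {u w : G} (hu : u ∈ UU V Z A) (hw : w ∈ ws V R) : u * w * u⁻¹ * w⁻¹ ∈ A :=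
  h.uu_comm hA.left hu (le_UU hA.symm hw)

/-- for `R ~ A` some `(R, B)` is critical with middle `A` -/
theorem exists_crit (hA : Adj V Z R A) : ∃ B, Cr V Z R A B := by
  obtain ⟨X, Y, W, hc⟩ := h.ex
  obtain ⟨L, hL, hXL, hYL⟩ := hc.l.line
  obtain ⟨M, hM, hRM, hAM⟩ := hA.line
  obtain ⟨g, hg1, hg2⟩ := h.exists_conj₂ hc.l.right hL hYL hA.right hM hAM
  have h1 : PT.cj g X ≤ M := by rw [hg2]; exact cj_le_cj.2 hXL
  have h2 : PT.cj g X ≠ A := by rw [hg1]; exact fun e => hc.l.ne (cj_inj.1 e)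
  obtain ⟨k, hk, hk2⟩ := h.K_trans hA.right hM hAM (hc.l.left.cj g) h1 hA.left hRM h2 hA.ne
  have hkA : PT.cj k A = A := cj_eq_iff.2 (kx_normalizes le_rfl (h.pt_le_ws hA.right) hk)
  refine ⟨PT.cj (k * g) W, ?_⟩
  have h3 := hc.cj (k * g)
  rwa [← cj_cj k g X, hk2, ← cj_cj k g Y, ← hg1, hkA] at h3

variable (h2 : H2 V Z)
include h2

/-! ### (a) -/

theorem relIndex_cw (hA : Adj V Z A R) : (cw V Z R A).relIndex (ws V R) = Nat.card Z := by
  rw [cw, inf_relIndex_left]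
  exact h2 R A hA

theorem card_cw (hA : Adj V Z A R) : Nat.card (cw V Z R A) * Nat.card Z = Nat.card (ws V R) := by
  have h3 := relIndex_mul_relIndex ⊥ (cw V Z R A) (ws V R) bot_le cw_le
  rwa [relIndex_bot_left, relIndex_bot_left, h.relIndex_cw h2 hA] at h3

theorem ws_not_le (hA : Adj V Z A R) : ¬ ws V R ≤ cw V Z R A := by
  intro h1
  have h3 := h.relIndex_cw h2 hA
  rw [relIndex_eq_one.2 h1] at h3
  have := h.one_lt_card_pt
  omega

theorem exists_not_mem (hA : Adj V Z A R) : ∃ w ∈ ws V R, w ∉ cw V Z R A := by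
  by_contra hno
  push Not at hno
  exact h.ws_not_le h2 hA hno

/-- **(a)** some `E` is joined to `A` -/
theorem exists_jo (hA : Adj V Z A R) : ∃ E, Jo V Z R A E := by
  by_contra hno
  push Not at hno
  refine h.ws_not_le h2 hA (ws_le fun L hL hRL => ?_)
  obtain ⟨Y, hY, hYL, hYR⟩ := h.exists_second hA.right hL hRL
  have hYA : Adj V Z Y R := ⟨hY, hA.right, hYR, L, hL, hYL, hRL⟩
  have h3 : Y ≤ cw V Z R A := by
    by_contra h4
    exact hno Y ((h.jo_iff hA hYA).2 h4)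
  exact h.line_le_of_pt hA hYA hL hRL hYL h3

/-- **(a)** `W_R = B × C_{W_R}(U_A)` if `A → B` -/
theorem exists_mul_cw (hj : Jo V Z R A B) {u : G} (hu : u ∈ ws V R) :
    ∃ ε ∈ B, ∃ κ ∈ cw V Z R A, u = ε * κ := by
  have hBW : B ≤ ws V R := h.adj_le_ws hj.r.symm
  let f : B → (ws V R) ⧸ (cw V Z R A).subgroupOf (ws V R) := fun x => QuotientGroup.mk ⟨x.1, hBW x.2⟩
  have hf : Function.Injective f := by
    intro x y hxy
    have h3 := QuotientGroup.eq.1 hxy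
    rw [mem_subgroupOf] at h3
    have h4 : x.1⁻¹ * y.1 ∈ cw V Z R A := h3
    have h5 := h.inf_cw hj (mul_mem (inv_mem x.2) y.2) h4
    exact Subtype.ext (inv_mul_eq_one.1 h5)
  have hcard : Nat.card ((ws V R) ⧸ (cw V Z R A).subgroupOf (ws V R)) ≤ Nat.card B := by
    have h3 := h.relIndex_cw h2 hj.l
    rw [h.card_pt hj.r.left, ← h3]
    exact le_of_eq rfl
  obtain ⟨x, hx⟩ := (hf.bijective_of_nat_card_le hcard).2 (QuotientGroup.mk ⟨u, hu⟩)
  have h3 := QuotientGroup.eq.1 hx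
  rw [mem_subgroupOf] at h3
  have h4 : x.1⁻¹ * u ∈ cw V Z R A := h3
  exact ⟨x.1, x.2, _, h4, by group⟩

/-- **(a)** -/
theorem cent_or (hA : Adj V Z A R) {g u : G} (hg : g ∈ UU V Z A) (hu : u ∈ ws V R) (hgu : g * u = u * g) :
    u ∈ cw V Z R A ∨ ∀ w ∈ ws V R, g * w = w * g := by
  obtain ⟨E, hj⟩ := h.exists_jo h2 hA
  obtain ⟨ε, hε, κ, hκ, rfl⟩ := h.exists_mul_cw h2 hj hu
  have h3 := (mem_cw.1 hκ).2 g hg
  have h4 : g * ε = ε * g := by
    apply mul_right_cancel (b := κ)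
    calc g * ε * κ = g * (ε * κ) := by group
      _ = ε * κ * g := hgu
      _ = ε * (κ * g) := by group
      _ = ε * (g * κ) := by rw [h3]
      _ = ε * g * κ := by group
  by_cases h5 : ε = 1
  · left
    rw [h5, one_mul]
    exact hκ
  · right
    intro w hw
    have h6 := h.t3 hj.r.left (h.twoEl_UU hg) hε h5 h4
    obtain ⟨ε', hε', κ', hκ', rfl⟩ := h.exists_mul_cw h2 hj hw
    rw [← mul_assoc, h6 ε' hε', mul_assoc, (mem_cw.1 hκ').2 g hg, mul_assoc]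

/-! ### (b) -/

/-- `C_{W_B}(g) = C_{W_B}(U_A)` for `g ∈ W_R - C(W_B)`, `(R, B)` critical with middle `A` -/
theorem mem_cw_of_comm (hc : Cr V Z R A B) {g w : G} (hg : g ∈ ws V R) (hgB : ¬ ∀ x ∈ ws V B, g * x = x * g)
    (hw : w ∈ ws V B) (hgw : g * w = w * g) : w ∈ cw V Z B A :=
  (h.cent_or h2 hc.r (le_UU hc.l hg) hw hgw).resolve_right hgB

/-- **(b)** `C_{W_B}(W_R) = C_{W_B}(U_A)` -/
theorem mem_cw_of_cr (hc : Cr V Z R A B) {w : G} (hw : w ∈ ws V B) (hwR : ∀ x ∈ ws V R, w * x = x * w) :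
    w ∈ cw V Z B A := by
  have h3 : ∃ g ∈ ws V R, ¬ ∀ x ∈ ws V B, g * x = x * g := by
    by_contra hno
    push Not at hno
    exact hc.ne fun g hg => mem_centralizer_iff.2 fun x hx => (hno g hg x hx).symm
  obtain ⟨g, hg, hgB⟩ := h3
  exact h.mem_cw_of_comm h2 hc hg hgB hw (hwR g hg).symm

/-- **(b)** `[W_B, ε] = A` for `ε ∈ W_R - C(U_A)` -/
theorem exists_comm (hc : Cr V Z R A B) {ε α : G} (hε : ε ∈ ws V R) (hε' : ε ∉ cw V Z R A) (hα : α ∈ A) :
    ∃ w ∈ ws V B, w * ε * w⁻¹ * ε⁻¹ = α := by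
  have hA : IsCj Z A := hc.l.right
  have hval : ∀ w ∈ ws V B, w * ε * w⁻¹ * ε⁻¹ ∈ A := fun w hw =>
    h.uu_comm hA (le_UU hc.r.symm hw) (le_UU hc.l hε)
  have hcen : ∀ w ∈ ws V B, ∀ a ∈ A, w * a = a * w := fun w hw a ha =>
    (mem_centralizer_iff.1 (h.ws_le_cent' hc.r.symm hw) a ha).symm
  let f : ws V B →* A :=
    { toFun := fun w => ⟨w.1 * ε * w.1⁻¹ * ε⁻¹, hval w.1 w.2⟩
      map_one' := Subtype.ext (by simp only [_root_.OneMemClass.coe_one, _root_.one_mul, _root_.inv_one, _root_.mul_one, _root_.mul_inv_cancel])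
      map_mul' := by
        intro w w'
        apply Subtype.ext
        show w.1 * w'.1 * ε * (w.1 * w'.1)⁻¹ * ε⁻¹ = (w.1 * ε * w.1⁻¹ * ε⁻¹) * (w'.1 * ε * w'.1⁻¹ * ε⁻¹)
        have e1 : w.1 * w'.1 * ε * (w.1 * w'.1)⁻¹ * ε⁻¹ =
          w.1 * (w'.1 * ε * w'.1⁻¹ * ε⁻¹) * (ε * w.1⁻¹ * ε⁻¹) := by group
        rw [e1, hcen _ w.2 _ (hval _ w'.2), mul_assoc]
        have e2 : w.1 * (ε * w.1⁻¹ * ε⁻¹) = w.1 * ε * w.1⁻¹ * ε⁻¹ := by group
        rw [e2]
        exact h.ws_comm hA (h.pt_le_ws hA (hval _ w'.2)) (h.pt_le_ws hA (hval _ w.2)) }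
  have hker : f.ker = (cw V Z B A).subgroupOf (ws V B) := by
    ext w
    rw [MonoidHom.mem_ker, mem_subgroupOf]
    constructor
    · intro h3
      have h4 : w.1 * ε * w.1⁻¹ * ε⁻¹ = 1 := congrArg Subtype.val h3
      rw [mul_inv_eq_one, mul_inv_eq_iff_eq_mul] at h4
      have h5 := (h.cent_or h2 hc.l.symm (le_UU hc.r.symm w.2) hε h4).resolve_left hε'
      exact h.mem_cw_of_cr h2 hc w.2 h5
    · intro h3
      apply Subtype.ext
      show w.1 * ε * w.1⁻¹ * ε⁻¹ = 1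
      have h4 := (mem_cw.1 h3).2 ε (le_UU hc.l hε)
      rw [mul_inv_eq_one, mul_inv_eq_iff_eq_mul]
      exact h4.symm
  have hrange : f.range = ⊤ := by
    apply eq_top_of_card_eq
    rw [← index_ker, hker, h.card_pt hA]
    exact h.relIndex_cw h2 hc.r
  have hmem : (⟨α, hα⟩ : A) ∈ f.range := by rw [hrange]; exact mem_top _
  obtain ⟨w, hw⟩ := hmem
  exact ⟨w.1, w.2, congrArg Subtype.val hw⟩

/-! ### (c) -/

/-- **(c)** `joined` is symmetric -/
theorem jo_symm (hj : Jo V Z R A B) : Jo V Z R B A := by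
  by_contra hno
  have h3 : A ≤ cw V Z R B := by
    by_contra h4
    exact hno ((h.jo_iff hj.r hj.l).2 h4)
  have hle : cw V Z R A ≤ cw V Z R B := by
    intro x hx
    refine mem_cw.2 ⟨(mem_cw.1 hx).1, fun u hu => ?_⟩
    have h5 : u * x * u⁻¹ * x⁻¹ ∈ B := h.comm_adj hj.r hu (mem_cw.1 hx).1
    have hA' : PT.cj u A = A := cj_eq_iff.2 (centralizer_le_normalizer _
      (mem_centralizer_iff.2 fun a ha => ((mem_cw.1 (h3 ha)).2 u hu).symm))
    have hR' : PT.cj u R = R := h.cj_UU_adj hu hj.r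
    have h6 : u * x * u⁻¹ ∈ cw V Z R A := by
      have h8 := conj_mem_cj (g := u) hx
      rwa [← cw_cj, hR', hA'] at h8
    have h7 := h.inf_cw hj h5 (mul_mem h6 (inv_mem hx))
    rwa [mul_inv_eq_one, mul_inv_eq_iff_eq_mul] at h7
  have heq : cw V Z R A = cw V Z R B := by
    refine Subgroup.eq_of_le_of_card_ge hle (le_of_eq ?_)
    have e1 := h.card_cw h2 hj.l
    have e2 := h.card_cw h2 hj.r
    exact Nat.eq_of_mul_eq_mul_right Nat.card_pos (e2.trans e1.symm)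
  obtain ⟨L, hL, hBL, hRL⟩ := hj.r.line
  refine (h.jo_iff hj.l hj.r).1 hj ?_
  rw [heq]
  exact hBL.trans (h.line_le_cw hL hRL hBL)

theorem jo_ne (hj : Jo V Z R A B) : A ≠ B := by
  rintro rfl
  exact hj.mv ((le_centralizer_iff.1 (h.UU_le_cent_pt hj.l.left)))

/-! ### (d) -/

omit h2 in
theorem cj_le_sup (hA : Adj V Z A R) (hB : Adj V Z B R) {g : G} (hg : g ∈ UU V Z A) : PT.cj g B ≤ A ⊔ B := by
  intro x hx
  rw [mem_cj] at hx
  have h3 := h.comm_adj hA hg (h.adj_le_ws hB.symm hx)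
  have e : x = (g * (g⁻¹ * x * g) * g⁻¹ * (g⁻¹ * x * g)⁻¹) * (g⁻¹ * x * g) := by group
  rw [e]
  exact mul_mem (mem_sup_left h3) (mem_sup_right hx)

omit h2 in
theorem comm_pts (hA : Adj V Z A R) (hB : Adj V Z B R) : ∀ a ∈ A, ∀ b ∈ B, a * b = b * a := fun _ ha _ hb =>
  h.ws_comm hA.right (h.adj_le_ws hA.symm ha) (h.adj_le_ws hB.symm hb)

/-- **(d)** `A, B` joined at `R`, `(R, C)` critical with middle `A`: every `v ∈ AB - A` is in some `B^w`, `w ∈ W_C` -/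
theorem exists_cj_mem (hj : Jo V Z R A B) (hc : Cr V Z R A C) {v : G} (hv : v ∈ A ⊔ B) (hvA : v ∉ A) :
    ∃ w ∈ ws V C, v ∈ PT.cj w B := by
  obtain ⟨α, hα, β, hβ, rfl⟩ := exists_mul_sup_tn (h.comm_pts hj.l hj.r) hv
  have hβ1 : β ≠ 1 := fun e => hvA (by rw [e, mul_one]; exact hα)
  obtain ⟨w, hw, hwβ⟩ := h.exists_comm h2 hc (h.adj_le_ws hj.r.symm hβ) (fun e => hβ1 (h.inf_cw hj hβ e)) hα
  refine ⟨w, hw, ?_⟩
  have e : α * β = w * β * w⁻¹ := by rw [← hwβ]; group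
  rw [e]
  exact conj_mem_cj hβ

/-- **(d)** every point `Y ≠ A` contained in `AB` is `B^w` for some `w ∈ W_C` -/
theorem exists_cj_pt (hj : Jo V Z R A B) (hc : Cr V Z R A C) (hY : IsCj Z Y) (hYAB : Y ≤ A ⊔ B) (hYA : Y ≠ A) :
    ∃ w ∈ ws V C, Y = PT.cj w B := by
  obtain ⟨y, hy, hy1⟩ := h.pt_ne_bot hY
  have h3 : y ∉ A := fun e => hYA (h.pts_eq hY hj.l.left hy e hy1)
  obtain ⟨w, hw, hwy⟩ := h.exists_cj_mem h2 hj hc (hYAB hy) h3
  exact ⟨w, hw, h.pts_eq hY (hj.r.left.cj w) hy hwy hy1⟩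

/-- **(d)** `W_A ∩ W_Y = W_A ∩ W_B` for the points `Y ≠ A` contained in `AB` -/
theorem inf_const (hj : Jo V Z R A B) (hY : IsCj Z Y) (hYAB : Y ≤ A ⊔ B) (hYA : Y ≠ A) :
    ws V A ⊓ ws V Y = ws V A ⊓ ws V B := by
  obtain ⟨C, hc⟩ := h.exists_crit hj.l.symm
  obtain ⟨w, hw, rfl⟩ := h.exists_cj_pt h2 hj hc hY hYAB hYA
  have hwU : w ∈ UU V Z A := le_UU hc.r.symm hw
  have e1 : PT.cj w (ws V A ⊓ ws V B) = ws V A ⊓ ws V (PT.cj w B) := by
    rw [cj_inf, ← ws_cj, ← ws_cj, h.cj_UU hwU hj.l.left]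
  have e2 : PT.cj w (ws V A ⊓ ws V B) = ws V A ⊓ ws V B := by
    refine cj_eq_iff.2 (centralizer_le_normalizer _ ?_)
    exact centralizer_le (inf_le_left : ws V A ⊓ ws V B ≤ ws V A) (h.UU_le_centralizer A hwU)
  rw [← e1, e2]

/-- a third point in `AB` -/
theorem exists_third_pt (hj : Jo V Z R A B) : ∃ Y, IsCj Z Y ∧ Y ≤ A ⊔ B ∧ Y ≠ A ∧ Y ≠ B := by
  obtain ⟨C, hc⟩ := h.exists_crit hj.l.symm
  obtain ⟨α, hα, hα1⟩ := h.pt_ne_bot hj.l.left
  obtain ⟨β, hβ, hβ1⟩ := h.pt_ne_bot hj.r.left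
  have hne := h.jo_ne h2 hj
  have hv : α * β ∈ A ⊔ B := mul_mem (mem_sup_left hα) (mem_sup_right hβ)
  have hvA : α * β ∉ A := by
    intro e
    have h3 : β ∈ A := by
      have h4 := mul_mem (inv_mem hα) e
      rwa [inv_mul_cancel_left] at h4
    exact hne (h.pts_eq hj.l.left hj.r.left h3 hβ hβ1)
  have hvB : α * β ∉ B := by
    intro e
    have h3 : α ∈ B := by
      have h4 := mul_mem e (inv_mem hβ)
      rwa [mul_inv_cancel_right] at h4
    exact hne (h.pts_eq hj.l.left hj.r.left hα h3 hα1)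
  obtain ⟨w, hw, hwv⟩ := h.exists_cj_mem h2 hj hc hv hvA
  refine ⟨PT.cj w B, hj.r.left.cj w, h.cj_le_sup hj.l hj.r (le_UU hc.r.symm hw), ?_, ?_⟩
  · intro e
    rw [e] at hwv
    exact hvA hwv
  · intro e
    rw [e] at hwv
    exact hvB hwv

/-! ### (e) -/

/-- **(e)** a critical pair `(C, R)` with middle `Q` is not joined at `Q` -/
theorem not_jo {Q : Subgroup G} (hc : Cr V Z C Q R) : ¬ Jo V Z Q R C := by
  intro hj
  obtain ⟨w, hw, hwC⟩ : ∃ w ∈ UU V Z R, PT.cj w C ≠ C := by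
    by_contra hno
    push Not at hno
    refine hj.mv fun c hcC => mem_centralizer_iff.2 fun w hw => ?_
    exact h.t3n hj.r.left (h.twoEl_UU hw) (hno w hw) c hcC
  have hj' := h.jo_symm h2 hj
  obtain ⟨E, hE⟩ := h.exists_crit hj'.l.symm
  obtain ⟨w', hw', hD⟩ := h.exists_cj_pt h2 hj' hE (hj.r.left.cj w)
    (by rw [sup_comm]; exact h.cj_le_sup hj.l hj.r hw) hwC
  have hw'U : w' ∈ UU V Z C := le_UU hE.r.symm hw'
  have hcr : Cr V Z C Q (PT.cj w C) := by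
    have h3 := hc.cj w'
    rwa [h.cj_UU hw'U hj.r.left, h.cj_UU_adj hw'U hj.r, ← hD] at h3
  have hwQ : PT.cj w Q = Q := h.cj_UU_adj hw hj.l
  obtain ⟨y, hy, hy'⟩ := h.exists_not_mem h2 hc.l.symm
  have hyN : y ∈ normalizer ((UU V Z R : Subgroup G) : Set G) :=
    normalizer_le_UU V Z R (centralizer_le_normalizer _ (h.ws_le_cent hc.l hc.r hy))
  have hyD : w * y * w⁻¹ ∈ ws V (PT.cj w C) := by
    rw [ws_cj]
    exact conj_mem_cj hy
  have ht : w * y * w⁻¹ * y⁻¹ ∈ UU V Z R := by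
    have h3 := (mem_normalizer_iff.1 hyN w⁻¹).1 (inv_mem hw)
    have e : w * y * w⁻¹ * y⁻¹ = w * (y * w⁻¹ * y⁻¹) := by group
    rw [e]
    exact mul_mem hw h3
  have ht2 := h.uu_sq hc.r.right ht
  have hyy : y * y = 1 := h.ws_sq hc.l.left hy
  have hyi : y⁻¹ = y := inv_eq_of_mul_eq_one_left hyy
  have hcomm : w * y * w⁻¹ * y * (w * y * w⁻¹)⁻¹ * y⁻¹ ∈ R := by
    have e : w * y * w⁻¹ * y * (w * y * w⁻¹)⁻¹ * y⁻¹ =
        w * y * w⁻¹ * y⁻¹ * (w * y * w⁻¹ * y⁻¹) := by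
      have e1 : (w * y * w⁻¹)⁻¹ = w * y * w⁻¹ := by
        rw [mul_inv_rev, mul_inv_rev, inv_inv, hyi, mul_assoc]
      rw [e1]
      nth_rewrite 2 [← hyi]
      group
    rw [e]
    exact ht2
  have hcomm' := h.comm _ Q _ hcr.symm _ hyD y hy
  have h1 : w * y * w⁻¹ * y * (w * y * w⁻¹)⁻¹ * y⁻¹ = 1 := by
    by_contra hne
    exact hc.r.ne (h.pts_eq hc.l.right hc.r.right hcomm' hcomm hne)
  rw [mul_inv_eq_one, mul_inv_eq_iff_eq_mul] at h1
  rcases h.cent_or h2 hcr.r (le_UU hc.l hy) hyD h1.symm with h3 | h3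
  · rw [← hwQ, cw_cj, mem_cj] at h3
    have e : w⁻¹ * (w * y * w⁻¹) * w = y := by group
    rw [e] at h3
    exact hy' h3
  · exact hy' (h.mem_cw_of_cr h2 hcr.symm hy h3)

/-- **(e)** `U_R` centralises `C` -/
theorem cent_of_cr {Q : Subgroup G} (hc : Cr V Z C Q R) : C ≤ centralizer ((UU V Z R : Subgroup G) : Set G) := by
  by_contra h3
  exact h.not_jo h2 hc ⟨hc.r.symm, hc.l, h3⟩

/-! ### (f) -/

/-- **(f)** `[U_R, W_C] ≤ Z(U_R)` -/
theorem comm_mem_zu {Q : Subgroup G} (hc : Cr V Z C Q R) {u y : G} (hu : u ∈ UU V Z R) (hy : y ∈ ws V C) :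
    u * y * u⁻¹ * y⁻¹ ∈ zu V Z R := by
  have hN : UU V Z R ≤ normalizer ((ws V C : Subgroup G) : Set G) := by
    intro v hv
    refine normalizer_le_ws V C (centralizer_le_normalizer _ (mem_centralizer_iff.2 fun c hcC => ?_))
    exact (mem_centralizer_iff.1 (h.cent_of_cr h2 hc hcC) v hv).symm
  have hyN : y ∈ normalizer ((UU V Z R : Subgroup G) : Set G) :=
    normalizer_le_UU V Z R (centralizer_le_normalizer _ (h.ws_le_cent hc.l hc.r hy))
  have hx1 : u * y * u⁻¹ * y⁻¹ ∈ ws V C :=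
    mul_mem ((mem_normalizer_iff.1 (hN hu) y).1 hy) (inv_mem hy)
  have hx2 : u * y * u⁻¹ * y⁻¹ ∈ UU V Z R := by
    have h3 := (mem_normalizer_iff.1 hyN u⁻¹).1 (inv_mem hu)
    have e : u * y * u⁻¹ * y⁻¹ = u * (y * u⁻¹ * y⁻¹) := by group
    rw [e]
    exact mul_mem hu h3
  refine mem_zu_iff.2 ⟨hx2, fun v hv => ?_⟩
  have h3 := h.uu_comm hc.r.right hv hx2
  have h4 := mul_mem ((mem_normalizer_iff.1 (hN hv) _).1 hx1) (inv_mem hx1)
  have h5 := h.star' hc h3 h4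
  rwa [mul_inv_eq_one, mul_inv_eq_iff_eq_mul] at h5

/-! ### (g) -/

/-- `W_{B^w} ≤ W_B Z(U_R)` for `w ∈ W_C`, `(C, R)` critical -/
theorem ws_cj_le {Q : Subgroup G} (hc : Cr V Z C Q R) (hB : Adj V Z B R) {w : G} (hw : w ∈ ws V C) :
    ws V (PT.cj w B) ≤ ws V B ⊔ zu V Z R := by
  intro x hx
  rw [ws_cj, mem_cj] at hx
  have h3 := comm_inv_mem (h.comm_mem_zu h2 hc (le_UU hB hx) hw)
  have e : x = (w * (w⁻¹ * x * w) * w⁻¹ * (w⁻¹ * x * w)⁻¹) * (w⁻¹ * x * w) := by group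
  rw [e]
  exact mul_mem (mem_sup_right h3) (mem_sup_left hx)

theorem sup_zu_cj {Q : Subgroup G} (hc : Cr V Z C Q R) (hB : Adj V Z B R) {w : G} (hw : w ∈ ws V C) :
    ws V (PT.cj w B) ⊔ zu V Z R = ws V B ⊔ zu V Z R := by
  have hwR : PT.cj w R = R := cj_eq_iff.2 (centralizer_le_normalizer _ (h.ws_le_cent hc.l hc.r hw))
  have hB' : Adj V Z (PT.cj w B) R := by
    have h3 := hB.cj w
    rwa [hwR] at h3
  apply le_antisymm
  · exact sup_le (h.ws_cj_le h2 hc hB hw) le_sup_right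
  · refine sup_le ?_ le_sup_right
    have h3 := h.ws_cj_le h2 hc hB' (inv_mem hw)
    rwa [cj_cj, inv_mul_cancel, cj_one] at h3

/-- **(g)** `W_A Z(U_R) = W_B Z(U_R)` if `A`, `B` are joined at `R` -/
theorem sup_zu (hj : Jo V Z R A B) : ws V A ⊔ zu V Z R = ws V B ⊔ zu V Z R := by
  obtain ⟨Y, hY, hYAB, hYA, hYB⟩ := h.exists_third_pt h2 hj
  have key : ∀ A B, Jo V Z R A B → Y ≤ A ⊔ B → Y ≠ A → ws V Y ⊔ zu V Z R = ws V B ⊔ zu V Z R := by
    intro A B hj hYAB hYA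
    obtain ⟨C, hc⟩ := h.exists_crit hj.l.symm
    obtain ⟨w, hw, rfl⟩ := h.exists_cj_pt h2 hj hc hY hYAB hYA
    exact h.sup_zu_cj h2 hc.symm hj.r hw
  rw [← key A B hj hYAB hYA, key B A (h.jo_symm h2 hj) (by rw [sup_comm]; exact hYAB) hYB]

end TN

end Cfsg.Agent.Omega.NO3S.MidQ

end

-- merged: Cfsg.Agent.Mrg.Omega.NO3S.MidB.TF
section

section


/-!
# NO-3S, natural lines, critical distance 2, the `(R, B)`-frame, TYPE N: the hypotheses and the first facts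

* `TF S P V Z` : `Mid`, **(N)** `[W_A, W_B] ≤ R` for every critical pair `(A, B)` with middle `R`, and there is a
  critical pair (nothing else);
* `Sml V Z` : an element of `U_A` which centralises a joined point `B`, centralises `W_R`; `Bg V Z` the opposite;
* `Md V Z R π` : `π : W_R → M` has kernel `R`; `lamR`, `PhiR` the points `π (A)` and the endomorphisms of `M` induced by
  the elements of `U_A` (minus 1).
-/

set_option autoImplicit false
set_option linter.unusedSectionVars false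

namespace Cfsg.Agent.Omega.NO3S.MidB

open Subgroup Cfsg.Agent.Omega.NO3S.PT Cfsg.Agent.Omega.NoFF.Basic Cfsg.Agent.ZN
open Cfsg.Agent.Omega.NO3S.MidQ (Adj Com Cr UU ws_of kx_of isCj_iff adj_iff com_iff cr_iff UU_of isCj_symm isCj_trans
  com_cj UU_cj le_UU normalizer_le_UU isPGroup_sSup FlagCan PtCan ff mem_ff ff_cj TypN cw mem_cw cw_le cw_cj Jo jo_cj zu)
open scoped Pointwise

variable {G : Type*} [Group G] {V Z X Y R L A A' B B' C : Subgroup G}

/-- **TYPE N**, nothing else -/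
structure TF [Finite G] (S : Sylow 2 G) (P V Z : Subgroup G) : Prop extends Mid S P V Z where
  comm : TypN V Z
  ex : ∃ A R B, Cr V Z A R B

/-- (A1): an element of `U_A` which centralises a joined point `B`, centralises `W_R` -/
def Sml (V Z : Subgroup G) : Prop :=
  ∀ R A B, Jo V Z R A B → ∀ g ∈ UU V Z A, (∀ b ∈ B, g * b = b * g) → ∀ w ∈ ws V R, g * w = w * g

/-- (A2): for all joined `A`, `B` some element of `U_A` centralises `B` but not `W_R` -/
def Bg (V Z : Subgroup G) : Prop :=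
  ∀ R A B, Jo V Z R A B → ∃ g ∈ UU V Z A, (∀ b ∈ B, g * b = b * g) ∧ ∃ w ∈ ws V R, g * w ≠ w * g

/-- `π : W_R → M` is surjective with kernel `R` -/
structure Md {M : Type*} [AddCommGroup M] (V R : Subgroup G) (π : G → M) : Prop where
  fin : Finite M
  mul : ∀ a ∈ ws V R, ∀ b ∈ ws V R, π (a * b) = π a + π b
  ker : ∀ a ∈ ws V R, (π a = 0 ↔ a ∈ R)
  surj : ∀ m, ∃ a ∈ ws V R, π a = m

namespace Mid

variable [Finite G] {S : Sylow 2 G} {P : Subgroup G} (h : Mid S P V Z)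
include h

theorem cj_UU {g : G} (hg : g ∈ UU V Z R) (hR : IsCj Z R) : PT.cj g R = R :=
  cj_eq_iff.2 (centralizer_le_normalizer _ (h.UU_le_cent_pt hR hg))

/-- `U_A` fixes `R` for `R ~ A` -/
theorem cj_UU_adj {g : G} (hg : g ∈ UU V Z A) (hA : Adj V Z A R) : PT.cj g R = R :=
  cj_eq_iff.2 (centralizer_le_normalizer _ (h.UU_le_cent_adj hA.symm hg))

theorem card_pt (hX : IsCj Z X) : Nat.card X = Nat.card Z := by
  obtain ⟨g, rfl⟩ := hX
  exact card_cj g Z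

theorem one_lt_card_pt : 1 < Nat.card Z := by
  obtain ⟨z, hz, hz1⟩ := h.pt_ne_bot h.pl.isCj_self
  exact Finite.one_lt_card_iff_nontrivial.2 ⟨⟨⟨z, hz⟩, 1, fun e => hz1 (congrArg Subtype.val e)⟩⟩

theorem adj_cj_UU (hA : Adj V Z A R) (hB : Adj V Z B R) {g : G} (hg : g ∈ UU V Z A) : Adj V Z (PT.cj g B) R := by
  have h1 := hB.cj g
  rwa [h.cj_UU_adj hg hA] at h1

/-- ordered adjacent pairs are conjugate -/
theorem exists_adj {R' : Subgroup G} (hA : Adj V Z A R) (hA' : Adj V Z A' R') : ∃ g : G, cj g R = R' ∧ cj g A = A' := by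
  obtain ⟨L, hL, hAL, hRL⟩ := hA.line
  obtain ⟨L', hL', hAL', hRL'⟩ := hA'.line
  obtain ⟨g, hg, hgL⟩ := h.exists_conj₂ hA.right hL hRL hA'.right hL' hRL'
  have h1 : PT.cj g A ≤ L' := by rw [hgL]; exact cj_le_cj.2 hAL
  have h2 : PT.cj g A ≠ R' := by
    rw [hg]
    exact fun e => hA.ne (cj_inj.1 e)
  obtain ⟨k, hk, hkA⟩ := h.K_trans hA'.right hL' hRL' (hA.left.cj g) h1 hA'.left hAL' h2 hA'.ne
  refine ⟨k * g, ?_, by rw [← cj_cj, hkA]⟩
  rw [← cj_cj, ← hg]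
  exact cj_eq_iff.2 (kx_normalizes le_rfl (h.pt_le_ws hA'.right) hk)

/-- a 2-element normalising a point fixes a line on it -/
theorem exists_fix_line (hR : IsCj Z R) {t : G} (ht : TwoEl t) (htR : PT.cj t R = R) :
    ∃ L, IsCj V L ∧ R ≤ L ∧ PT.cj t L = L := by
  obtain ⟨g, rfl⟩ := hR
  obtain ⟨m, hm, htm⟩ := exists_le_conj (h.pl.conj g).S_le_N ht.isPGroup ((zpowers_le).2 (cj_eq_iff.1 htR))
  refine ⟨PT.cj m (PT.cj g V), ⟨m * g, by rw [cj_cj]⟩, ?_, ?_⟩
  · rw [← cj_eq_iff.2 hm]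
    rw [cj_eq_iff.2 hm]
    have h1 := cj_le_cj (g := m) |>.2 (cj_le_cj (g := g) |>.2 h.pl.ZV)
    rwa [cj_eq_iff.2 hm] at h1
  · have h1 : t ∈ PT.cj m ((g • S : Sylow 2 G) : Subgroup G) := htm (mem_zpowers t)
    have h2 := ((h.pl.conj g).conj m)
    exact cj_eq_iff.2 (h2.PN (h2.SP h1))

/-- `L ≤ U` if `R`, `B ≤ U` -/
theorem line_le' {U : Subgroup G} (hR : IsCj Z R) (hB : IsCj Z B) (hne : B ≠ R) (hL : IsCj V L) (hRL : R ≤ L)
    (hBL : B ≤ L) (hRU : R ≤ U) (hBU : B ≤ U) : L ≤ U := by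
  obtain ⟨T, Q, h'⟩ := h.flag hR hL hRL
  intro v hv
  obtain ⟨x, hx, y, hy, rfl⟩ := h'.pl.exists_mul h'.pl.isCj_self hRL ((isCj_iff hR).2 hB) hBL hne.symm hv
  exact mul_mem (hRU hx) (hBU hy)

/-- a subgroup containing all `B ~ R` contains `W_R` -/
theorem ws_le_of {U : Subgroup G} (hR : IsCj Z R) (hRU : R ≤ U) (hU : ∀ B, Adj V Z B R → B ≤ U) : ws V R ≤ U := by
  refine ws_le fun L hL hRL => ?_
  obtain ⟨Y, hY, hYL, hYR⟩ := h.exists_second hR hL hRL
  exact h.line_le' hR hY hYR hL hRL hYL hRU (hU Y ⟨hY, hR, hYR, L, hL, hYL, hRL⟩)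

end Mid

namespace TF

variable [Finite G] {S : Sylow 2 G} {P : Subgroup G} (h : TF S P V Z)
include h

/-- **(0.a)** `U_R' ≤ R` -/
theorem uu_comm (hR : IsCj Z R) {g g' : G} (hg : g ∈ UU V Z R) (hg' : g' ∈ UU V Z R) :
    g * g' * g⁻¹ * g'⁻¹ ∈ R := h.UU_comm h.comm hR hg hg'

/-- **(0.a)** `g² ∈ R` for `g ∈ U_R` -/
theorem uu_sq (hR : IsCj Z R) {g : G} (hg : g ∈ UU V Z R) : g * g ∈ R := h.UU_sq h.comm hR hg

/-- **(0.b)** `[U_A, W_R] ≤ A` for `A ~ R` -/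
theorem comm_adj (hA : Adj V Z A R) {u w : G} (hu : u ∈ UU V Z A) (hw : w ∈ ws V R) : u * w * u⁻¹ * w⁻¹ ∈ A :=
  h.UU_ws h.comm hA hu hw

/-- for `R ~ A` some `(R, B)` is critical with middle `A` -/
theorem exists_crit (hA : Adj V Z R A) : ∃ B, Cr V Z R A B := by
  obtain ⟨X, Y, W, hc⟩ := h.ex
  obtain ⟨L, hL, hXL, hYL⟩ := hc.l.line
  obtain ⟨M, hM, hRM, hAM⟩ := hA.line
  obtain ⟨g, hg1, hg2⟩ := h.exists_conj₂ hc.l.right hL hYL hA.right hM hAM
  have h1 : PT.cj g X ≤ M := by rw [hg2]; exact cj_le_cj.2 hXL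
  have h2 : PT.cj g X ≠ A := by rw [hg1]; exact fun e => hc.l.ne (cj_inj.1 e)
  obtain ⟨k, hk, hk2⟩ := h.K_trans hA.right hM hAM (hc.l.left.cj g) h1 hA.left hRM h2 hA.ne
  have hkA : PT.cj k A = A := cj_eq_iff.2 (kx_normalizes le_rfl (h.pt_le_ws hA.right) hk)
  refine ⟨PT.cj (k * g) W, ?_⟩
  have h3 := hc.cj (k * g)
  rwa [← cj_cj k g X, hk2, ← cj_cj k g Y, ← hg1, hkA] at h3

theorem cj_le_sup (hA : Adj V Z A R) (hB : Adj V Z B R) {g : G} (hg : g ∈ UU V Z A) : PT.cj g B ≤ A ⊔ B := by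
  intro x hx
  rw [mem_cj] at hx
  have h3 := h.comm_adj hA hg (h.adj_le_ws hB.symm hx)
  have e : x = (g * (g⁻¹ * x * g) * g⁻¹ * (g⁻¹ * x * g)⁻¹) * (g⁻¹ * x * g) := by group
  rw [e]
  exact mul_mem (mem_sup_left h3) (mem_sup_right hx)

theorem comm_pts (hA : Adj V Z A R) (hB : Adj V Z B R) : ∀ a ∈ A, ∀ b ∈ B, a * b = b * a := fun _ ha _ hb =>
  h.ws_comm hA.right (h.adj_le_ws hA.symm ha) (h.adj_le_ws hB.symm hb)

end TF

end Cfsg.Agent.Omega.NO3S.MidB

end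

section


/-!
# TYPE N is impossible, K-free: the interfaces (bb OMEGA #18317)

`h : TF S P V Z`.  The pieces, as hypotheses of the others:

* `JVal V Z` : (0) if `A → B` at `R` (`U_A` moves `B`), `1 ≠ β ∈ B`, then `[U_A, β] = A` elementwise;
* `JSym V Z` : (1) `Jo` is symmetric;
* `JDist V Z` : (2) for `A, C ~ R`, `α ∈ A`, `γ ∈ C`: `α γ` centralised by all `U_X`, `X ~ R`, is in `R`;
* `JTrans V Z` : (5) (in case (A2)) `Jo` is transitive (different lines);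
* `JDich V Z` : (5') (in case (A2)) the dichotomy.
-/

set_option autoImplicit false

namespace Cfsg.Agent.Omega.NO3S.MidB

open Subgroup Cfsg.Agent.Omega.NO3S.PT
open Cfsg.Agent.Omega.NO3S.MidQ (Adj Com Cr UU Jo)

variable {G : Type*} [Group G]

/-- (1) -/
def JSym (V Z : Subgroup G) : Prop := ∀ R A B, Jo V Z R A B → Jo V Z R B A

/-- (0) -/
def JVal (V Z : Subgroup G) : Prop :=
  ∀ R A B, Jo V Z R A B → ∀ β ∈ B, β ≠ 1 → ∀ α ∈ A, ∃ g ∈ UU V Z A, g * β * g⁻¹ * β⁻¹ = α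

/-- (2) -/
def JDist (V Z : Subgroup G) : Prop :=
  ∀ R A C, Adj V Z A R → Adj V Z C R → ∀ α ∈ A, ∀ γ ∈ C,
    (∀ X, Adj V Z X R → ∀ u ∈ UU V Z X, u * (α * γ) = α * γ * u) → α * γ ∈ R

/-- (5) -/
def JTrans (V Z : Subgroup G) : Prop :=
  ∀ R A B C, Jo V Z R A B → Jo V Z R B C → (∀ L, IsCj V L → R ≤ L → A ≤ L → ¬ C ≤ L) → Jo V Z R A C

/-- (5') -/
def JDich (V Z : Subgroup G) : Prop :=
  ∀ R Y I J, Jo V Z R Y J → Adj V Z I R →
    (∀ g ∈ UU V Z Y, ∃ g' ∈ UU V Z Y, (∀ b ∈ J, g' * b * g'⁻¹ = g * b * g⁻¹) ∧ ∀ i ∈ I, g' * i = i * g') ∨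
    ∀ α ∈ I, ∃ γ ∈ J, ∀ g ∈ UU V Z Y, g * (α * γ) = α * γ * g

end Cfsg.Agent.Omega.NO3S.MidB

end

section


/-!
# NO-3S, the `(R, B)`-frame, TYPE N: the output of (a) - (g)

`TG S P V Z` : `MidQ.TNG` without (H3), over `MidB.Mid`.
-/

set_option autoImplicit false

namespace Cfsg.Agent.Omega.NO3S.MidB

open Subgroup Cfsg.Agent.Omega.NO3S.PT
open Cfsg.Agent.Omega.NO3S.MidQ (Adj Com Cr UU cw Jo zu H2)

variable {G : Type*} [Group G]

/-- the output of (a) - (g) -/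
structure TG [Finite G] (S : Sylow 2 G) (P V Z : Subgroup G) : Prop extends TF S P V Z where
  h2 : H2 V Z
  /-- (c) -/
  symm : ∀ R A B, Jo V Z R A B → Jo V Z R B A
  /-- (a) -/
  cent : ∀ R A, Adj V Z A R → ∀ g ∈ UU V Z A, ∀ w ∈ ws V R, g * w = w * g →
    w ∈ cw V Z R A ∨ g ∈ centralizer ((ws V R : Subgroup G) : Set G)
  /-- (d) -/
  infc : ∀ R A B Y, Jo V Z R A B → IsCj Z Y → Y ≤ A ⊔ B → Y ≠ A → ws V A ⊓ ws V Y = ws V A ⊓ ws V B
  /-- (g) -/
  wz : ∀ R A B, Jo V Z R A B → ws V A ⊔ zu V Z R = ws V B ⊔ zu V Z R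

end Cfsg.Agent.Omega.NO3S.MidB

end

end
end

-- part: Mrg/Omega/NO3S/MidB/TGEnd
section
-- merged: Cfsg.Agent.Mrg.Omega.NO3S.MidB.TFOne
section

/-!
# NO-3S, the `(R, B)`-frame, TYPE N: steps (a) - (g) (port of `MidQ/TNOne.lean`, helper317)

Let `h : TF S P V Z` and `H2 V Z`:

* `TF.exists_jo`, `TF.cent_or` (a); `TF.mem_cw_of_cr`, `TF.exists_of_cr` (b); `TF.jo_symm` (c);
  `TF.exists_cj_pt`, `TF.inf_const` (d); `TF.not_jo` (e); `TF.comm_mem_zu` (f); `TF.sup_zu`, `TF.com_of_jo` (g);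
* `TF.tg` : **the output `TG`**.
-/

set_option autoImplicit false
set_option linter.unusedSectionVars false

namespace Cfsg.Agent.Omega.NO3S.MidB

open Subgroup Cfsg.Agent.Omega.NO3S.PT Cfsg.Agent.Omega.NoFF.Basic Cfsg.Agent.ZN
open Cfsg.Agent.Omega.NO3S.MidQ (Adj Com Cr UU ws_of kx_of isCj_iff adj_iff com_iff cr_iff UU_of isCj_symm isCj_trans
  com_cj UU_cj le_UU normalizer_le_UU isPGroup_sSup FlagCan PtCan ff mem_ff ff_cj TypN cw mem_cw cw_le cw_cj Jo jo_cj zu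
  H2 comm_inv_mem mem_zu_iff exists_mul_sup_tn)
open scoped Pointwise

variable {G : Type*} [Group G] {V Z X Y R L A A' B B' C : Subgroup G}

namespace TF

variable [Finite G] {S : Sylow 2 G} {P : Subgroup G} (h : TF S P V Z)
include h

variable (h2 : H2 V Z)
include h2

/-! ### (a) -/

theorem relIndex_cw (hA : Adj V Z A R) : (cw V Z R A).relIndex (ws V R) = Nat.card Z := by
  rw [cw, inf_relIndex_left]
  exact h2 R A hA

theorem card_cw (hA : Adj V Z A R) : Nat.card (cw V Z R A) * Nat.card Z = Nat.card (ws V R) := by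
  have h3 := relIndex_mul_relIndex ⊥ (cw V Z R A) (ws V R) bot_le cw_le
  rwa [relIndex_bot_left, relIndex_bot_left, h.relIndex_cw h2 hA] at h3

theorem ws_not_le (hA : Adj V Z A R) : ¬ ws V R ≤ cw V Z R A := by
  intro h1
  have h3 := h.relIndex_cw h2 hA
  rw [relIndex_eq_one.2 h1] at h3
  have := h.one_lt_card_pt
  omega

theorem exists_not_mem (hA : Adj V Z A R) : ∃ w ∈ ws V R, w ∉ cw V Z R A := by
  by_contra hno
  push Not at hno
  exact h.ws_not_le h2 hA hno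

/-- **(a)** some `E` is joined to `A` -/
theorem exists_jo (hA : Adj V Z A R) : ∃ E, Jo V Z R A E := by
  by_contra hno
  push Not at hno
  refine h.ws_not_le h2 hA (ws_le fun L hL hRL => ?_)
  obtain ⟨Y, hY, hYL, hYR⟩ := h.exists_second hA.right hL hRL
  have hYA : Adj V Z Y R := ⟨hY, hA.right, hYR, L, hL, hYL, hRL⟩
  have h3 : Y ≤ cw V Z R A := by
    by_contra h4
    exact hno Y ((h.jo_iff hA hYA).2 h4)
  exact h.line_le_of_pt hA hYA hL hRL hYL h3

/-- **(a)** `W_R = B × C_{W_R}(U_A)` if `A → B` -/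
theorem exists_mul_cw (hj : Jo V Z R A B) {u : G} (hu : u ∈ ws V R) :
    ∃ ε ∈ B, ∃ κ ∈ cw V Z R A, u = ε * κ := by
  have hBW : B ≤ ws V R := h.adj_le_ws hj.r.symm
  let f : B → (ws V R) ⧸ (cw V Z R A).subgroupOf (ws V R) := fun x => QuotientGroup.mk ⟨x.1, hBW x.2⟩
  have hf : Function.Injective f := by
    intro x y hxy
    have h3 := QuotientGroup.eq.1 hxy
    rw [mem_subgroupOf] at h3
    have h4 : x.1⁻¹ * y.1 ∈ cw V Z R A := h3
    have h5 := h.inf_cw hj (mul_mem (inv_mem x.2) y.2) h4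
    exact Subtype.ext (inv_mul_eq_one.1 h5)
  have hcard : Nat.card ((ws V R) ⧸ (cw V Z R A).subgroupOf (ws V R)) ≤ Nat.card B := by
    have h3 := h.relIndex_cw h2 hj.l
    rw [h.card_pt hj.r.left, ← h3]
    exact le_of_eq rfl
  obtain ⟨x, hx⟩ := (hf.bijective_of_nat_card_le hcard).2 (QuotientGroup.mk ⟨u, hu⟩)
  have h3 := QuotientGroup.eq.1 hx
  rw [mem_subgroupOf] at h3
  have h4 : x.1⁻¹ * u ∈ cw V Z R A := h3
  exact ⟨x.1, x.2, _, h4, by group⟩

/-- **(a)** -/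
theorem cent_or (hA : Adj V Z A R) {g u : G} (hg : g ∈ UU V Z A) (hu : u ∈ ws V R) (hgu : g * u = u * g) :
    u ∈ cw V Z R A ∨ ∀ w ∈ ws V R, g * w = w * g := by
  obtain ⟨E, hj⟩ := h.exists_jo h2 hA
  obtain ⟨ε, hε, κ, hκ, rfl⟩ := h.exists_mul_cw h2 hj hu
  have h3 := (mem_cw.1 hκ).2 g hg
  have h4 : g * ε = ε * g := by
    apply mul_right_cancel (b := κ)
    calc g * ε * κ = g * (ε * κ) := by group
      _ = ε * κ * g := hgu
      _ = ε * (κ * g) := by group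
      _ = ε * (g * κ) := by rw [h3]
      _ = ε * g * κ := by group
  by_cases h5 : ε = 1
  · left
    rw [h5, one_mul]
    exact hκ
  · right
    intro w hw
    have h6 := h.t3 hj.r.symm (h.twoEl_UU hg) (fun z hz => (mem_cw.1 (h.R_le_cw hA hz)).2 g hg) hε h5 h4
    obtain ⟨ε', hε', κ', hκ', rfl⟩ := h.exists_mul_cw h2 hj hw
    rw [← mul_assoc, h6 ε' hε', mul_assoc, (mem_cw.1 hκ').2 g hg, mul_assoc]

/-! ### (b) -/

/-- `C_{W_B}(g) = C_{W_B}(U_A)` for `g ∈ W_R - C(W_B)`, `(R, B)` critical with middle `A` -/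
theorem mem_cw_of_comm (hc : Cr V Z R A B) {g w : G} (hg : g ∈ ws V R) (hgB : ¬ ∀ x ∈ ws V B, g * x = x * g)
    (hw : w ∈ ws V B) (hgw : g * w = w * g) : w ∈ cw V Z B A :=
  (h.cent_or h2 hc.r (le_UU hc.l hg) hw hgw).resolve_right hgB

/-- **(b)** `C_{W_B}(W_R) = C_{W_B}(U_A)` -/
theorem mem_cw_of_cr (hc : Cr V Z R A B) {w : G} (hw : w ∈ ws V B) (hwR : ∀ x ∈ ws V R, w * x = x * w) :
    w ∈ cw V Z B A := by
  have h3 : ∃ g ∈ ws V R, ¬ ∀ x ∈ ws V B, g * x = x * g := by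
    by_contra hno
    push Not at hno
    exact hc.ne fun g hg => mem_centralizer_iff.2 fun x hx => (hno g hg x hx).symm
  obtain ⟨g, hg, hgB⟩ := h3
  exact h.mem_cw_of_comm h2 hc hg hgB hw (hwR g hg).symm

/-- **(b)** `[W_B, ε] = A` for `ε ∈ W_R - C(U_A)` -/
theorem exists_comm (hc : Cr V Z R A B) {ε α : G} (hε : ε ∈ ws V R) (hε' : ε ∉ cw V Z R A) (hα : α ∈ A) :
    ∃ w ∈ ws V B, w * ε * w⁻¹ * ε⁻¹ = α := by
  have hA : IsCj Z A := hc.l.right
  have hval : ∀ w ∈ ws V B, w * ε * w⁻¹ * ε⁻¹ ∈ A := fun w hw =>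
    h.uu_comm hA (le_UU hc.r.symm hw) (le_UU hc.l hε)
  have hcen : ∀ w ∈ ws V B, ∀ a ∈ A, w * a = a * w := fun w hw a ha =>
    (mem_centralizer_iff.1 (h.ws_le_cent' hc.r.symm hw) a ha).symm
  let f : ws V B →* A :=
    { toFun := fun w => ⟨w.1 * ε * w.1⁻¹ * ε⁻¹, hval w.1 w.2⟩
      map_one' := Subtype.ext (by simp only [_root_.OneMemClass.coe_one, _root_.one_mul, _root_.inv_one, _root_.mul_one, _root_.mul_inv_cancel])
      map_mul' := by
        intro w w'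
        apply Subtype.ext
        show w.1 * w'.1 * ε * (w.1 * w'.1)⁻¹ * ε⁻¹ = (w.1 * ε * w.1⁻¹ * ε⁻¹) * (w'.1 * ε * w'.1⁻¹ * ε⁻¹)
        have e1 : w.1 * w'.1 * ε * (w.1 * w'.1)⁻¹ * ε⁻¹ =
          w.1 * (w'.1 * ε * w'.1⁻¹ * ε⁻¹) * (ε * w.1⁻¹ * ε⁻¹) := by group
        rw [e1, hcen _ w.2 _ (hval _ w'.2), mul_assoc]
        have e2 : w.1 * (ε * w.1⁻¹ * ε⁻¹) = w.1 * ε * w.1⁻¹ * ε⁻¹ := by group
        rw [e2]
        exact h.ws_comm hA (h.pt_le_ws hA (hval _ w'.2)) (h.pt_le_ws hA (hval _ w.2)) }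
  have hker : f.ker = (cw V Z B A).subgroupOf (ws V B) := by
    ext w
    rw [MonoidHom.mem_ker, mem_subgroupOf]
    constructor
    · intro h3
      have h4 : w.1 * ε * w.1⁻¹ * ε⁻¹ = 1 := congrArg Subtype.val h3
      rw [mul_inv_eq_one, mul_inv_eq_iff_eq_mul] at h4
      have h5 := (h.cent_or h2 hc.l.symm (le_UU hc.r.symm w.2) hε h4).resolve_left hε'
      exact h.mem_cw_of_cr h2 hc w.2 h5
    · intro h3
      apply Subtype.ext
      show w.1 * ε * w.1⁻¹ * ε⁻¹ = 1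
      have h4 := (mem_cw.1 h3).2 ε (le_UU hc.l hε)
      rw [mul_inv_eq_one, mul_inv_eq_iff_eq_mul]
      exact h4.symm
  have hrange : f.range = ⊤ := by
    apply eq_top_of_card_eq
    rw [← index_ker, hker, h.card_pt hA]
    exact h.relIndex_cw h2 hc.r
  have hmem : (⟨α, hα⟩ : A) ∈ f.range := by rw [hrange]; exact mem_top _
  obtain ⟨w, hw⟩ := hmem
  exact ⟨w.1, w.2, congrArg Subtype.val hw⟩

/-! ### (c) -/

/-- **(c)** `joined` is symmetric -/
theorem jo_symm (hj : Jo V Z R A B) : Jo V Z R B A := by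
  by_contra hno
  have h3 : A ≤ cw V Z R B := by
    by_contra h4
    exact hno ((h.jo_iff hj.r hj.l).2 h4)
  have hle : cw V Z R A ≤ cw V Z R B := by
    intro x hx
    refine mem_cw.2 ⟨(mem_cw.1 hx).1, fun u hu => ?_⟩
    have h5 : u * x * u⁻¹ * x⁻¹ ∈ B := h.comm_adj hj.r hu (mem_cw.1 hx).1
    have hA' : PT.cj u A = A := cj_eq_iff.2 (centralizer_le_normalizer _
      (mem_centralizer_iff.2 fun a ha => ((mem_cw.1 (h3 ha)).2 u hu).symm))
    have hR' : PT.cj u R = R := h.cj_UU_adj hu hj.r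
    have h6 : u * x * u⁻¹ ∈ cw V Z R A := by
      have h8 := conj_mem_cj (g := u) hx
      rwa [← cw_cj, hR', hA'] at h8
    have h7 := h.inf_cw hj h5 (mul_mem h6 (inv_mem hx))
    rwa [mul_inv_eq_one, mul_inv_eq_iff_eq_mul] at h7
  have heq : cw V Z R A = cw V Z R B := by
    refine Subgroup.eq_of_le_of_card_ge hle (le_of_eq ?_)
    have e1 := h.card_cw h2 hj.l
    have e2 := h.card_cw h2 hj.r
    exact Nat.eq_of_mul_eq_mul_right Nat.card_pos (e2.trans e1.symm)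
  obtain ⟨L, hL, hBL, hRL⟩ := hj.r.line
  refine (h.jo_iff hj.l hj.r).1 hj ?_
  rw [heq]
  exact hBL.trans (h.line_le_cw hL hRL hBL)

theorem jo_ne (hj : Jo V Z R A B) : A ≠ B := by
  rintro rfl
  exact hj.mv ((le_centralizer_iff.1 (h.UU_le_cent_pt hj.l.left)))

/-! ### (d) -/

/-- **(d)** `A, B` joined at `R`, `(R, C)` critical with middle `A`: every `v ∈ AB - A` is in some `B^w`, `w ∈ W_C` -/
theorem exists_cj_mem (hj : Jo V Z R A B) (hc : Cr V Z R A C) {v : G} (hv : v ∈ A ⊔ B) (hvA : v ∉ A) :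
    ∃ w ∈ ws V C, v ∈ PT.cj w B := by
  obtain ⟨α, hα, β, hβ, rfl⟩ := exists_mul_sup_tn (h.comm_pts hj.l hj.r) hv
  have hβ1 : β ≠ 1 := fun e => hvA (by rw [e, mul_one]; exact hα)
  obtain ⟨w, hw, hwβ⟩ := h.exists_comm h2 hc (h.adj_le_ws hj.r.symm hβ) (fun e => hβ1 (h.inf_cw hj hβ e)) hα
  refine ⟨w, hw, ?_⟩
  have e : α * β = w * β * w⁻¹ := by rw [← hwβ]; group
  rw [e]
  exact conj_mem_cj hβ

/-- **(d)** every point `Y ≠ A` contained in `AB` is `B^w` for some `w ∈ W_C` -/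
theorem exists_cj_pt (hj : Jo V Z R A B) (hc : Cr V Z R A C) (hY : IsCj Z Y) (hYAB : Y ≤ A ⊔ B) (hYA : Y ≠ A) :
    ∃ w ∈ ws V C, Y = PT.cj w B := by
  obtain ⟨y, hy, hy1⟩ := h.pt_ne_bot hY
  have h3 : y ∉ A := fun e => hYA (h.pts_eq hY hj.l.left hy e hy1)
  obtain ⟨w, hw, hwy⟩ := h.exists_cj_mem h2 hj hc (hYAB hy) h3
  exact ⟨w, hw, h.pts_eq hY (hj.r.left.cj w) hy hwy hy1⟩

/-- **(d)** `W_A ∩ W_Y = W_A ∩ W_B` for the points `Y ≠ A` contained in `AB` -/
theorem inf_const (hj : Jo V Z R A B) (hY : IsCj Z Y) (hYAB : Y ≤ A ⊔ B) (hYA : Y ≠ A) :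
    ws V A ⊓ ws V Y = ws V A ⊓ ws V B := by
  obtain ⟨C, hc⟩ := h.exists_crit hj.l.symm
  obtain ⟨w, hw, rfl⟩ := h.exists_cj_pt h2 hj hc hY hYAB hYA
  have hwU : w ∈ UU V Z A := le_UU hc.r.symm hw
  have e1 : PT.cj w (ws V A ⊓ ws V B) = ws V A ⊓ ws V (PT.cj w B) := by
    rw [cj_inf, ← ws_cj, ← ws_cj, h.cj_UU hwU hj.l.left]
  have e2 : PT.cj w (ws V A ⊓ ws V B) = ws V A ⊓ ws V B := by
    refine cj_eq_iff.2 (centralizer_le_normalizer _ ?_)
    exact centralizer_le (inf_le_left : ws V A ⊓ ws V B ≤ ws V A) (h.UU_le_centralizer A hwU)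
  rw [← e1, e2]

/-- a third point in `AB` -/
theorem exists_third_pt (hj : Jo V Z R A B) : ∃ Y, IsCj Z Y ∧ Y ≤ A ⊔ B ∧ Y ≠ A ∧ Y ≠ B := by
  obtain ⟨C, hc⟩ := h.exists_crit hj.l.symm
  obtain ⟨α, hα, hα1⟩ := h.pt_ne_bot hj.l.left
  obtain ⟨β, hβ, hβ1⟩ := h.pt_ne_bot hj.r.left
  have hne := h.jo_ne h2 hj
  have hv : α * β ∈ A ⊔ B := mul_mem (mem_sup_left hα) (mem_sup_right hβ)
  have hvA : α * β ∉ A := by
    intro e
    have h3 : β ∈ A := by
      have h4 := mul_mem (inv_mem hα) e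
      rwa [inv_mul_cancel_left] at h4
    exact hne (h.pts_eq hj.l.left hj.r.left h3 hβ hβ1)
  have hvB : α * β ∉ B := by
    intro e
    have h3 : α ∈ B := by
      have h4 := mul_mem e (inv_mem hβ)
      rwa [mul_inv_cancel_right] at h4
    exact hne (h.pts_eq hj.l.left hj.r.left hα h3 hα1)
  obtain ⟨w, hw, hwv⟩ := h.exists_cj_mem h2 hj hc hv hvA
  refine ⟨PT.cj w B, hj.r.left.cj w, h.cj_le_sup hj.l hj.r (le_UU hc.r.symm hw), ?_, ?_⟩
  · intro e
    rw [e] at hwv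
    exact hvA hwv
  · intro e
    rw [e] at hwv
    exact hvB hwv

/-! ### (e) -/

/-- **(e)** a critical pair `(C, R)` with middle `Q` is not joined at `Q` -/
theorem not_jo {Q : Subgroup G} (hc : Cr V Z C Q R) : ¬ Jo V Z Q R C := by
  intro hj
  obtain ⟨w, hw, hwC⟩ : ∃ w ∈ UU V Z R, PT.cj w C ≠ C := by
    by_contra hno
    push Not at hno
    refine hj.mv fun c hcC => mem_centralizer_iff.2 fun w hw => ?_
    exact h.t3n hj.r.symm (h.twoEl_UU hw) (fun z hz => (mem_cw.1 (h.R_le_cw hj.l hz)).2 w hw)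
      (hno w hw) c hcC
  have hj' := h.jo_symm h2 hj
  obtain ⟨E, hE⟩ := h.exists_crit hj'.l.symm
  obtain ⟨w', hw', hD⟩ := h.exists_cj_pt h2 hj' hE (hj.r.left.cj w)
    (by rw [sup_comm]; exact h.cj_le_sup hj.l hj.r hw) hwC
  have hw'U : w' ∈ UU V Z C := le_UU hE.r.symm hw'
  have hcr : Cr V Z C Q (PT.cj w C) := by
    have h3 := hc.cj w'
    rwa [h.cj_UU hw'U hj.r.left, h.cj_UU_adj hw'U hj.r, ← hD] at h3
  have hwQ : PT.cj w Q = Q := h.cj_UU_adj hw hj.l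
  obtain ⟨y, hy, hy'⟩ := h.exists_not_mem h2 hc.l.symm
  have hyN : y ∈ normalizer ((UU V Z R : Subgroup G) : Set G) :=
    normalizer_le_UU V Z R (centralizer_le_normalizer _ (h.ws_le_cent hc.l hc.r hy))
  have hyD : w * y * w⁻¹ ∈ ws V (PT.cj w C) := by
    rw [ws_cj]
    exact conj_mem_cj hy
  have ht : w * y * w⁻¹ * y⁻¹ ∈ UU V Z R := by
    have h3 := (mem_normalizer_iff.1 hyN w⁻¹).1 (inv_mem hw)
    have e : w * y * w⁻¹ * y⁻¹ = w * (y * w⁻¹ * y⁻¹) := by group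
    rw [e]
    exact mul_mem hw h3
  have ht2 := h.uu_sq hc.r.right ht
  have hyy : y * y = 1 := h.ws_sq hc.l.left hy
  have hyi : y⁻¹ = y := inv_eq_of_mul_eq_one_left hyy
  have hcomm : w * y * w⁻¹ * y * (w * y * w⁻¹)⁻¹ * y⁻¹ ∈ R := by
    have e : w * y * w⁻¹ * y * (w * y * w⁻¹)⁻¹ * y⁻¹ =
        w * y * w⁻¹ * y⁻¹ * (w * y * w⁻¹ * y⁻¹) := by
      have e1 : (w * y * w⁻¹)⁻¹ = w * y * w⁻¹ := by
        rw [mul_inv_rev, mul_inv_rev, inv_inv, hyi, mul_assoc]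
      rw [e1]
      nth_rewrite 2 [← hyi]
      group
    rw [e]
    exact ht2
  have hcomm' := h.comm _ Q _ hcr.symm _ hyD y hy
  have h1 : w * y * w⁻¹ * y * (w * y * w⁻¹)⁻¹ * y⁻¹ = 1 := by
    by_contra hne
    exact hc.r.ne (h.pts_eq hc.l.right hc.r.right hcomm' hcomm hne)
  rw [mul_inv_eq_one, mul_inv_eq_iff_eq_mul] at h1
  rcases h.cent_or h2 hcr.r (le_UU hc.l hy) hyD h1.symm with h3 | h3
  · rw [← hwQ, cw_cj, mem_cj] at h3
    have e : w⁻¹ * (w * y * w⁻¹) * w = y := by group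
    rw [e] at h3
    exact hy' h3
  · exact hy' (h.mem_cw_of_cr h2 hcr.symm hy h3)

/-- **(e)** `U_R` centralises `C` -/
theorem cent_of_cr {Q : Subgroup G} (hc : Cr V Z C Q R) : C ≤ centralizer ((UU V Z R : Subgroup G) : Set G) := by
  by_contra h3
  exact h.not_jo h2 hc ⟨hc.r.symm, hc.l, h3⟩

/-! ### (f) -/

/-- **(f)** `[U_R, W_C] ≤ Z(U_R)` -/
theorem comm_mem_zu {Q : Subgroup G} (hc : Cr V Z C Q R) {u y : G} (hu : u ∈ UU V Z R) (hy : y ∈ ws V C) :
    u * y * u⁻¹ * y⁻¹ ∈ zu V Z R := by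
  have hN : UU V Z R ≤ normalizer ((ws V C : Subgroup G) : Set G) := by
    intro v hv
    refine normalizer_le_ws V C (centralizer_le_normalizer _ (mem_centralizer_iff.2 fun c hcC => ?_))
    exact (mem_centralizer_iff.1 (h.cent_of_cr h2 hc hcC) v hv).symm
  have hyN : y ∈ normalizer ((UU V Z R : Subgroup G) : Set G) :=
    normalizer_le_UU V Z R (centralizer_le_normalizer _ (h.ws_le_cent hc.l hc.r hy))
  have hx1 : u * y * u⁻¹ * y⁻¹ ∈ ws V C :=
    mul_mem ((mem_normalizer_iff.1 (hN hu) y).1 hy) (inv_mem hy)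
  have hx2 : u * y * u⁻¹ * y⁻¹ ∈ UU V Z R := by
    have h3 := (mem_normalizer_iff.1 hyN u⁻¹).1 (inv_mem hu)
    have e : u * y * u⁻¹ * y⁻¹ = u * (y * u⁻¹ * y⁻¹) := by group
    rw [e]
    exact mul_mem hu h3
  refine mem_zu_iff.2 ⟨hx2, fun v hv => ?_⟩
  have h3 := h.uu_comm hc.r.right hv hx2
  have h4 := mul_mem ((mem_normalizer_iff.1 (hN hv) _).1 hx1) (inv_mem hx1)
  have h5 := h.star' hc h3 h4
  rwa [mul_inv_eq_one, mul_inv_eq_iff_eq_mul] at h5

/-! ### (g) -/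

/-- `W_{B^w} ≤ W_B Z(U_R)` for `w ∈ W_C`, `(C, R)` critical -/
theorem ws_cj_le {Q : Subgroup G} (hc : Cr V Z C Q R) (hB : Adj V Z B R) {w : G} (hw : w ∈ ws V C) :
    ws V (PT.cj w B) ≤ ws V B ⊔ zu V Z R := by
  intro x hx
  rw [ws_cj, mem_cj] at hx
  have h3 := comm_inv_mem (h.comm_mem_zu h2 hc (le_UU hB hx) hw)
  have e : x = (w * (w⁻¹ * x * w) * w⁻¹ * (w⁻¹ * x * w)⁻¹) * (w⁻¹ * x * w) := by group
  rw [e]
  exact mul_mem (mem_sup_right h3) (mem_sup_left hx)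

theorem sup_zu_cj {Q : Subgroup G} (hc : Cr V Z C Q R) (hB : Adj V Z B R) {w : G} (hw : w ∈ ws V C) :
    ws V (PT.cj w B) ⊔ zu V Z R = ws V B ⊔ zu V Z R := by
  have hwR : PT.cj w R = R := cj_eq_iff.2 (centralizer_le_normalizer _ (h.ws_le_cent hc.l hc.r hw))
  have hB' : Adj V Z (PT.cj w B) R := by
    have h3 := hB.cj w
    rwa [hwR] at h3
  apply le_antisymm
  · exact sup_le (h.ws_cj_le h2 hc hB hw) le_sup_right
  · refine sup_le ?_ le_sup_right
    have h3 := h.ws_cj_le h2 hc hB' (inv_mem hw)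
    rwa [cj_cj, inv_mul_cancel, cj_one] at h3

/-- **(g)** `W_A Z(U_R) = W_B Z(U_R)` if `A`, `B` are joined at `R` -/
theorem sup_zu (hj : Jo V Z R A B) : ws V A ⊔ zu V Z R = ws V B ⊔ zu V Z R := by
  obtain ⟨Y, hY, hYAB, hYA, hYB⟩ := h.exists_third_pt h2 hj
  have key : ∀ A B, Jo V Z R A B → Y ≤ A ⊔ B → Y ≠ A → ws V Y ⊔ zu V Z R = ws V B ⊔ zu V Z R := by
    intro A B hj hYAB hYA
    obtain ⟨C, hc⟩ := h.exists_crit hj.l.symm
    obtain ⟨w, hw, rfl⟩ := h.exists_cj_pt h2 hj hc hY hYAB hYA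
    exact h.sup_zu_cj h2 hc.symm hj.r hw
  rw [← key A B hj hYAB hYA, key B A (h.jo_symm h2 hj) (by rw [sup_comm]; exact hYAB) hYB]

/-- **the output of (a) - (g)** -/
theorem tg : TG S P V Z where
  toTF := h
  h2 := h2
  symm _ _ _ hj := h.jo_symm h2 hj
  cent R A hA g hg w hw hgw := by
    rcases h.cent_or h2 hA hg hw hgw with h3 | h3
    · exact Or.inl h3
    · exact Or.inr (mem_centralizer_iff.2 fun x hx => (h3 x hx).symm)
  infc _ _ _ _ hj hY hYAB hYA := h.inf_const h2 hj hY hYAB hYA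
  wz _ _ _ hj := h.sup_zu h2 hj

end TF

end Cfsg.Agent.Omega.NO3S.MidB

end

-- merged: Cfsg.Agent.Mrg.Omega.NO3S.MidB.TGTwo
section

/-!
# NO-3S, the `(R, B)`-frame, TYPE N: the count without (H3) (bb OMEGA #18317 (3))

`MidQ/TNFCount.lean` over `MidB.Mid`.

* `TG.false` : `TG S P V Z → JDist V Z → False`.
-/

set_option autoImplicit false
set_option linter.unusedSectionVars false

namespace Cfsg.Agent.Omega.NO3S.MidB

open Subgroup Cfsg.Agent.Omega.NO3S.PT Cfsg.Agent.Omega.NoFF.Basic Cfsg.Agent.ZN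
open Cfsg.Agent.Omega.NO3S.MidQ (Adj Com Cr UU ws_of kx_of isCj_iff adj_iff com_iff cr_iff UU_of isCj_symm isCj_trans
  com_cj UU_cj le_UU normalizer_le_UU isPGroup_sSup FlagCan PtCan ff mem_ff ff_cj TypN cw mem_cw cw_le cw_cj Jo jo_cj zu
  H2 Cmp cmp_cj adj_cj cj_sup' bb bb_cj bb_congr R_le_bb le_bb card_mul_relIndex' card_sup_mul' DistP)
open Cfsg.Agent.Omega.NO3S.MidQ.TNF (nc cx mem_cx nc_cj cx_cj cx_le cx_le_cw cx_congr relIndex_le_of_conj'
  card_le_of_cong)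
open Cfsg.Agent.Omega.NO3S.MidQ.TNG (nn nn_cj)
open scoped Pointwise

variable {G : Type*} [Group G] {V Z X Y R L A A' B B' : Subgroup G}

namespace TG

variable [Finite G] {S : Sylow 2 G} {P : Subgroup G} (h : TG S P V Z)
include h

theorem mid : Mid S P V Z := h.toMid

theorem card_pt (hX : IsCj Z X) : Nat.card X = Nat.card Z := by
  obtain ⟨g, rfl⟩ := hX
  exact card_cj g Z

theorem one_lt : 1 < Nat.card Z := by
  have h1 := (Subgroup.one_lt_card_iff_ne_bot Z).2 h.mid.pl.Zne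
  exact h1

/-- `L ≤ U` if `R`, `B ≤ U` -/
theorem line_le' {U : Subgroup G} (hR : IsCj Z R) (hB : IsCj Z B) (hne : B ≠ R) (hL : IsCj V L) (hRL : R ≤ L)
    (hBL : B ≤ L) (hRU : R ≤ U) (hBU : B ≤ U) : L ≤ U := by
  obtain ⟨T, Q, h'⟩ := h.mid.flag hR hL hRL
  intro v hv
  obtain ⟨x, hx, y, hy, rfl⟩ := h'.pl.exists_mul h'.pl.isCj_self hRL ((isCj_iff hR).2 hB) hBL hne.symm hv
  exact mul_mem (hRU hx) (hBU hy)

/-- a subgroup containing all `B ~ R` contains `W_R` -/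
theorem ws_le_of {U : Subgroup G} (hR : IsCj Z R) (hRU : R ≤ U) (hU : ∀ B, Adj V Z B R → B ≤ U) : ws V R ≤ U := by
  refine ws_le fun L hL hRL => ?_
  obtain ⟨Y, hY, hYL, hYR⟩ := h.mid.exists_second hR hL hRL
  exact h.line_le' hR hY hYR hL hRL hYL hRU (hU Y ⟨hY, hR, hYR, L, hL, hYL, hRL⟩)

/-- some `E` is joined to `A` -/
theorem exists_jo (hA : Adj V Z A R) : ∃ E, Jo V Z R A E := by
  by_contra hcon
  push Not at hcon
  have h1 : ws V R ≤ cw V Z R A := h.ws_le_of hA.right (h.mid.R_le_cw hA) fun B hB => by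
    by_contra h2
    exact hcon B ((h.mid.jo_iff hA hB).2 h2)
  have h2 := h.h2 R A hA
  rw [relIndex_eq_one.2 (h1.trans inf_le_right)] at h2
  have h3 := h.one_lt
  omega

theorem cmp_line (hA : Adj V Z A R) (hA' : Adj V Z A' R) (hL : IsCj V L) (hRL : R ≤ L) (hAL : A ≤ L)
    (hAL' : A' ≤ L) : Cmp V Z R A A' := by
  obtain ⟨E, hE⟩ := h.exists_jo hA
  exact hE.cmp.trans (h.mid.jo_line_left hE hA' hL hRL hAL hAL').cmp.symm

theorem wz_cmp (hc : Cmp V Z R A B) : ws V A ⊔ zu V Z R = ws V B ⊔ zu V Z R := by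
  unfold Cmp at hc
  induction hc with
  | rel A B h1 => exact h.wz R A B h1
  | refl A => rfl
  | symm A B _ ih => exact ih.symm
  | trans A B C _ _ ih1 ih2 => exact ih1.trans ih2

theorem com_cmp (hA : Adj V Z A R) (hc : Cmp V Z R A B) : Com V A B := by
  have h1 : ws V B ≤ centralizer ((ws V A : Subgroup G) : Set G) := by
    have h2 : ws V B ≤ ws V A ⊔ zu V Z R := by rw [h.wz_cmp hc]; exact le_sup_left
    refine h2.trans (sup_le (h.mid.com_self hA.left) ?_)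
    exact inf_le_right.trans (centralizer_le (le_UU hA))
  exact comm_symm h1

/-- not all `B ~ R` are in one component -/
theorem exists_not_cmp (hA : Adj V Z A R) : ∃ B, Adj V Z B R ∧ ¬ Cmp V Z R A B := by
  by_contra hcon
  push Not at hcon
  obtain ⟨A₀, R₀, B₀, hc⟩ := h.ex
  obtain ⟨g, hg, -⟩ := h.mid.exists_adj hc.l hA
  have h1 := hc.cj g
  rw [hg] at h1
  exact h1.ne (h.com_cmp h1.l ((hcon _ h1.l).symm.trans (hcon _ h1.r.symm)))

/-- there are at least three components -/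
theorem exists_three (hA : Adj V Z A R) : ∃ B C, Adj V Z B R ∧ Adj V Z C R ∧ ¬ Cmp V Z R A B ∧ ¬ Cmp V Z R A C ∧
    ¬ Cmp V Z R B C := by
  obtain ⟨B, hB, hAB⟩ := h.exists_not_cmp hA
  by_contra hcon
  push Not at hcon
  have hdi : ∀ C, Adj V Z C R → Cmp V Z R A C ∨ Cmp V Z R B C := by
    intro C hC
    by_cases h1 : Cmp V Z R A C
    · exact Or.inl h1
    · exact Or.inr (hcon B C hB hC hAB h1)
  obtain ⟨g, hgR, hgA⟩ := h.mid.exists_adj hA hB
  have hcg : ∀ {C D : Subgroup G}, Cmp V Z R (cj g C) (cj g D) ↔ Cmp V Z R C D := by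
    intro C D
    have h1 := cmp_cj (V := V) (Z := Z) (R := R) (A := C) (B := D) (g := g)
    rwa [hgR] at h1
  have hag : ∀ {C : Subgroup G}, Adj V Z C R → Adj V Z (cj g C) R := by
    intro C hC
    have h1 := hC.cj g
    rwa [hgR] at h1
  have hsw : ∀ C, Adj V Z C R → (Cmp V Z R A (cj g C) ↔ ¬ Cmp V Z R A C) := by
    intro C hC
    constructor
    · intro h1 h2
      have h3 := hcg.2 h2
      rw [hgA] at h3
      exact hAB (h1.trans h3.symm)
    · intro h1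
      rcases hdi _ (hag hC) with h2 | h2
      · exact h2
      · rw [← hgA] at h2
        exact absurd (hcg.1 h2) h1
  obtain ⟨m, hm, ht⟩ := exists_odd_pow g
  have hpR : ∀ k : ℕ, cj (g ^ k) R = R := by
    intro k
    induction k with
    | zero => rw [pow_zero, cj_one]
    | succ k ih => rw [pow_succ, ← cj_cj, hgR, ih]
  have hap : ∀ (k : ℕ) {C : Subgroup G}, Adj V Z C R → Adj V Z (cj (g ^ k) C) R := by
    intro k C hC
    have h1 := hC.cj (g ^ k)
    rwa [hpR k] at h1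
  have hev : ∀ (k : ℕ) (C : Subgroup G), Adj V Z C R → (Cmp V Z R A (cj (g ^ (2 * k)) C) ↔ Cmp V Z R A C) := by
    intro k
    induction k with
    | zero => intro C _; rw [mul_zero, pow_zero, cj_one]
    | succ k ih =>
      intro C hC
      have e : g ^ (2 * (k + 1)) = g * (g * g ^ (2 * k)) := by
        rw [← pow_succ', ← pow_succ']
        rfl
      rw [e, ← cj_cj, hsw _ (by rw [← cj_cj]; exact hag (hap _ hC)), ← cj_cj, hsw _ (hap _ hC), not_not]
      exact ih C hC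
  have hod : ∀ C, Adj V Z C R → (Cmp V Z R A (cj (g ^ m) C) ↔ ¬ Cmp V Z R A C) := by
    intro C hC
    obtain ⟨k, rfl⟩ := hm
    rw [pow_succ', ← cj_cj, hsw _ (hap _ hC), hev k C hC]
  obtain ⟨L, hL, hRL, htL⟩ := h.mid.exists_fix_line hA.right ht (hpR m)
  obtain ⟨Y, hY, hYL, hYR⟩ := h.mid.exists_second hA.right hL hRL
  have hYa : Adj V Z Y R := ⟨hY, hA.right, hYR, L, hL, hYL, hRL⟩
  have h1 : Cmp V Z R Y (cj (g ^ m) Y) := by
    refine h.cmp_line hYa (hap m hYa) hL hRL hYL ?_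
    rw [← htL]
    exact cj_le_cj.2 hYL
  have h2 := hod Y hYa
  by_cases h3 : Cmp V Z R A Y
  · exact (h2.1 (h3.trans h1)) h3
  · exact h3 ((h2.2 h3).trans h1.symm)

theorem bb_le (hR : IsCj Z R) : bb V Z R A ≤ ws V R := by
  refine sup_le (h.mid.pt_le_ws hR) (sSup_le ?_)
  rintro B ⟨hB, -⟩
  exact h.mid.adj_le_ws hB.symm

/-- `B ≤ cx A` if `B` is not in the component of `A` -/
theorem pt_le_cx (hB : Adj V Z B R) (hAB : ¬ Cmp V Z R A B) : B ≤ cx V Z R A := by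
  intro x hx
  refine mem_cx.2 ⟨h.mid.adj_le_ws hB.symm hx, fun D hD hAD u hu => ?_⟩
  by_contra hne
  have h1 : Jo V Z R D B := ⟨hD, hB, fun e => hne (mem_centralizer_iff.1 (e hx) u hu)⟩
  exact hAB (hAD.trans h1.cmp)

theorem R_le_cx (hA : Adj V Z A R) : R ≤ cx V Z R A := fun _ hx =>
  mem_cx.2 ⟨h.mid.pt_le_ws hA.right hx, fun _ hD _ => (mem_cw.1 (h.mid.R_le_cw hD hx)).2⟩

/-- the block of `B` is in `cx A` -/
theorem bb_le_cx (hA : Adj V Z A R) (hAB : ¬ Cmp V Z R A B) : bb V Z R B ≤ cx V Z R A := by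
  refine sup_le (h.R_le_cx hA) (sSup_le ?_)
  rintro C ⟨hC, hBC⟩
  exact h.pt_le_cx hC fun e => hAB (e.trans hBC.symm)

theorem bb_sup_cx (hA : Adj V Z A R) : bb V Z R A ⊔ cx V Z R A = ws V R := by
  apply le_antisymm (sup_le (h.bb_le hA.right) cx_le)
  refine h.ws_le_of hA.right ((R_le_bb V Z R A).trans le_sup_left) fun B hB => ?_
  by_cases h1 : Cmp V Z R A B
  · exact (le_bb hB h1).trans le_sup_left
  · exact (h.pt_le_cx hB h1).trans le_sup_right

theorem card_cx {R' : Subgroup G} (hA : Adj V Z A R) (hA' : Adj V Z A' R') :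
    Nat.card (cx V Z R A) = Nat.card (cx V Z R' A') := by
  obtain ⟨g, hg, hgA⟩ := h.mid.exists_adj hA hA'
  rw [← hg, ← hgA, cx_cj, card_cj]

theorem ws_comm' (hR : IsCj Z R) {K K' : Subgroup G} (hK : K ≤ ws V R) (hK' : K' ≤ ws V R) :
    ∀ a ∈ K, ∀ b ∈ K', a * b = b * a := fun _ ha _ hb => h.mid.ws_comm hR (hK ha) (hK' hb)

theorem card_ws {R' : Subgroup G} (hR : IsCj Z R) (hR' : IsCj Z R') : Nat.card (ws V R) = Nat.card (ws V R') := by
  obtain ⟨g, hg⟩ := hR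
  obtain ⟨g', hg'⟩ := hR'
  rw [hg, hg', ws_cj, ws_cj, card_cj, card_cj]

/-- `|W_R|² s ≤ |cx|³` -/
theorem le_card_ws (hA : Adj V Z A R) :
    Nat.card (ws V R) ^ 2 * Nat.card Z ≤ Nat.card (cx V Z R A) ^ 3 := by
  obtain ⟨B, C, hB, hC, hAB, hAC, hBC⟩ := h.exists_three hA
  have hR := hA.right
  -- `cx C ⊔ cx B = W_R`
  have s1 : cx V Z R C ⊔ cx V Z R B = ws V R := by
    refine le_antisymm (sup_le cx_le cx_le) ?_
    rw [← h.bb_sup_cx hB]
    exact sup_le ((h.bb_le_cx hC fun e => hBC e.symm).trans le_sup_left) le_sup_right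
  have s2 : cx V Z R A ⊔ (cx V Z R C ⊓ cx V Z R B) = ws V R := by
    refine le_antisymm (sup_le cx_le (inf_le_left.trans cx_le)) ?_
    rw [← h.bb_sup_cx hA]
    exact sup_le ((le_inf (h.bb_le_cx hC fun e => hAC e.symm) (h.bb_le_cx hB fun e => hAB e.symm)).trans
      le_sup_right) le_sup_left
  have c1 := card_sup_mul' (h.ws_comm' hR (cx_le (V := V) (Z := Z) (R := R) (A := C))
    (cx_le (V := V) (Z := Z) (R := R) (A := B)))
  have c2 := card_sup_mul' (h.ws_comm' hR (cx_le (V := V) (Z := Z) (R := R) (A := A))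
    (inf_le_left.trans cx_le : cx V Z R C ⊓ cx V Z R B ≤ ws V R))
  rw [s1, h.card_cx hC hA, h.card_cx hB hA] at c1
  rw [s2] at c2
  have h1 : R ≤ cx V Z R A ⊓ (cx V Z R C ⊓ cx V Z R B) := le_inf (h.R_le_cx hA) (le_inf (h.R_le_cx hC) (h.R_le_cx hB))
  have h3 : Nat.card Z ≤ Nat.card (cx V Z R A ⊓ (cx V Z R C ⊓ cx V Z R B) : Subgroup G) := by
    rw [← h.card_pt hR]
    exact Nat.card_le_card_of_injective _ (Subgroup.inclusion_injective h1)
  set c := Nat.card (cx V Z R A)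
  set w := Nat.card (ws V R)
  calc w ^ 2 * Nat.card Z ≤ w ^ 2 * Nat.card (cx V Z R A ⊓ (cx V Z R C ⊓ cx V Z R B) : Subgroup G) :=
        Nat.mul_le_mul_left _ h3
    _ = w * (w * Nat.card (cx V Z R A ⊓ (cx V Z R C ⊓ cx V Z R B) : Subgroup G)) := by ring
    _ = w * (c * Nat.card (cx V Z R C ⊓ cx V Z R B : Subgroup G)) := by rw [c2]
    _ = c * (w * Nat.card (cx V Z R C ⊓ cx V Z R B : Subgroup G)) := by ring
    _ = c ^ 3 := by rw [c1]; ring

/-- (0.b) `[W_R, U_A] ≤ A` -/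
theorem comm_UU (hA : Adj V Z A R) {u w : G} (hu : u ∈ UU V Z A) (hw : w ∈ ws V R) : u * w * u⁻¹ * w⁻¹ ∈ A := by
  let K : Subgroup G :=
    { carrier := {g | g ∈ centralizer (A : Set G) ∧ ∀ w ∈ ws V R, g * w * g⁻¹ * w⁻¹ ∈ A}
      one_mem' := ⟨one_mem _, fun w _ => by simp⟩
      mul_mem' := by
        rintro a b ⟨ha, ha'⟩ ⟨hb, hb'⟩
        refine ⟨mul_mem ha hb, fun w hw => ?_⟩
        have e : a * b * w * (a * b)⁻¹ * w⁻¹ = a * (b * w * b⁻¹ * w⁻¹) * a⁻¹ * (a * w * a⁻¹ * w⁻¹) := by group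
        have e2 : a * (b * w * b⁻¹ * w⁻¹) * a⁻¹ = b * w * b⁻¹ * w⁻¹ := by
          rw [← mem_centralizer_iff.1 ha _ (hb' w hw), mul_inv_cancel_right]
        rw [e, e2]
        exact A.mul_mem (hb' w hw) (ha' w hw)
      inv_mem' := by
        rintro a ⟨ha, ha'⟩
        refine ⟨inv_mem ha, fun w hw => ?_⟩
        have e : a⁻¹ * w * a⁻¹⁻¹ * w⁻¹ = a⁻¹ * (a * w * a⁻¹ * w⁻¹)⁻¹ * a := by group
        have h1 := A.inv_mem (ha' w hw)
        rw [e, mul_assoc, mem_centralizer_iff.1 ha _ h1, inv_mul_cancel_left]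
        exact h1 }
  have h1 : UU V Z A ≤ K := by
    refine sSup_le ?_
    rintro _ ⟨C, hC, rfl⟩ c hc
    refine ⟨h.mid.ws_le_cent' hC hc, fun w hw => ?_⟩
    by_cases h2 : Com V C R
    · have h3 := mem_centralizer_iff.1 (h2 hc) w hw
      have e : c * w * c⁻¹ * w⁻¹ = 1 := by rw [← h3]; group
      rw [e]
      exact one_mem _
    · exact h.comm C A R ⟨hC, hA, h2⟩ c hc w hw
  exact (h1 hu).2 w hw

/-- `I_L ∩ cx R B ≤ R` -/
theorem inf_cx (hB : Adj V Z B R) (hL : IsCj V L) (hRL : R ≤ L) (hBL : B ≤ L)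
    {u : G} (hu : u ∈ ws V B) (huR : u ∈ ws V R) (huc : u ∈ cx V Z R B) : u ∈ R := by
  have hm := h.mid
  refine hm.lemF_flag (N := nn V Z) (fun g X L _ _ _ => nn_cj V Z X L g) ?_ ?_ hB.right hL hRL hB.left hBL
    hB.ne huR hu ?_
  · intro X L hX hL hXL
    refine sSup_le ?_
    rintro _ ⟨D, A, h1, h2, h3, h4, rfl⟩
    exact hm.UU_le_cent_adj h1.symm
  · intro X L hX hL hXL
    obtain ⟨A, hA, hAL, hAX⟩ := hm.exists_second hX hL hXL
    have hAa : Adj V Z A X := ⟨hA, hX, hAX, L, hL, hAL, hXL⟩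
    obtain ⟨E, hE⟩ := h.exists_jo hAa
    have hE' := h.symm _ _ _ hE
    obtain ⟨n, hn, v, hv, hnv⟩ : ∃ n ∈ UU V Z E, ∃ v ∈ A, n * v ≠ v * n := by
      by_contra hcon
      push Not at hcon
      exact hE'.mv fun v hv => mem_centralizer_iff.2 fun n hn => hcon n hn v hv
    refine ⟨n, ?_, v, hAL hv, fun h1 => hnv ?_⟩
    · exact (le_sSup (show UU V Z E ∈ {U | ∃ D A, Adj V Z D X ∧ Adj V Z A X ∧ A ≤ L ∧ Cmp V Z X A D ∧ U = UU V Z D}
        from ⟨E, A, hE.r, hAa, hAL, hE.cmp, rfl⟩)) hn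
    · have h2 := h.comm_UU hE.r hn (hm.adj_le_ws hAa.symm hv)
      by_contra h3
      have h4 : n * v * n⁻¹ * v⁻¹ ≠ 1 := fun e => h3 (by
        rw [mul_inv_eq_one, mul_inv_eq_iff_eq_mul] at e
        exact e)
      exact hE.r.ne (hm.pts_eq hE.r.left hX h2 h1 h4)
  · intro n hn
    have h1 : nn V Z R L ≤ centralizer ({u} : Set G) := by
      refine sSup_le ?_
      rintro _ ⟨D, A, h1, h2, h3, h4, rfl⟩ x hx
      rw [mem_centralizer_singleton_iff]
      have h5 : Cmp V Z R B D := (h.cmp_line hB h2 hL hRL hBL h3).trans h4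
      exact (mem_cx.1 huc).2 D h1 h5 x hx
    have h2 : n * u = u * n := mem_centralizer_singleton_iff.1 (h1 hn)
    rw [h2, mul_inv_cancel_right, mul_inv_cancel]
    exact one_mem _

/-! ### (j) -/

/-- **(j)** -/
theorem index_le (hd : JDist V Z) (hj : Jo V Z R A B) :
    (ws V B).relIndex (ws V A) * Nat.card (cx V Z R A) ≤ Nat.card (ws V R) := by
  have hm := h.mid
  have hj' := h.symm _ _ _ hj
  obtain ⟨C, hC, hCA⟩ : ∃ C, Adj V Z C B ∧ ¬ A ≤ centralizer ((ws V C : Subgroup G) : Set G) := by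
    by_contra hcon
    push Not at hcon
    refine hj'.mv (comm_symm (sSup_le ?_))
    rintro _ ⟨C, hC, rfl⟩
    exact comm_symm (hcon C hC)
  have hcr : Cr V Z C B R := ⟨hC, hj.r, fun e => hCA ((hm.adj_le_ws hj.l.symm).trans e.symm)⟩
  obtain ⟨E, hE⟩ := h.exists_jo hC.symm
  obtain ⟨α, hα, hα1⟩ := hm.pt_ne_bot hj.l.left
  obtain ⟨ε, hε, hε1⟩ := hm.pt_ne_bot hE.r.left
  have hαR : α ∈ ws V R := hm.adj_le_ws hj.l.symm hα
  have hαU : α ∈ UU V Z B := le_UU hj.r.symm hαR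
  have hεC : ε ∈ ws V C := hm.adj_le_ws hE.r.symm hε
  have hαC : α ∉ centralizer ((ws V C : Subgroup G) : Set G) := by
    intro h1
    refine hCA fun a ha => mem_centralizer_iff.2 fun w hw => ?_
    exact hm.t3 hj.l.symm (hm.twoEl_ws hC.left hw)
      (fun z hz => (mem_centralizer_iff.1 (hm.ws_le_cent hC hj.r hw) z hz).symm) hα hα1
      (mem_centralizer_iff.1 h1 w hw) a ha
  have hcen : ∀ w ∈ ws V C, α * w = w * α → w ∈ cw V Z C B := fun w hw hw' =>
    (h.cent C B hC.symm α hαU w hw hw').resolve_right hαC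
  have hcom : Com V A B := h.com_cmp hj.l hj.cmp
  have hyC : ∀ y ∈ ws V A, cj y C = C ∧ cj y B = B ∧ ∀ x ∈ ws V B, y * x = x * y := by
    intro y hy
    have hyB : ∀ x ∈ ws V B, y * x = x * y := fun x hx => (mem_centralizer_iff.1 (hcom hy) x hx).symm
    refine ⟨?_, ?_, hyB⟩
    · rw [cj_eq_iff]
      refine centralizer_le_normalizer _ (mem_centralizer_iff.2 fun c hc => ?_)
      exact (hyB c (hm.adj_le_ws hC.symm hc)).symm
    · rw [cj_eq_iff]
      refine centralizer_le_normalizer _ (mem_centralizer_iff.2 fun c hc => ?_)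
      exact (hyB c (hm.pt_le_ws hC.right hc)).symm
  have key : ∀ y ∈ ws V A, y * ε * y⁻¹ * ε⁻¹ ∈ bb V Z C B ⊓ cw V Z C B := by
    intro y hy
    obtain ⟨h1, h2, hyB⟩ := hyC y hy
    have h3 : ε ∈ bb V Z C B := le_bb hE.r hE.cmp hε
    have h4 : y * ε * y⁻¹ ∈ bb V Z C B := by
      have h5 := bb_cj V Z C B y
      rw [h1, h2] at h5
      rw [h5]
      exact conj_mem_cj h3
    have h6 : y * ε * y⁻¹ ∈ ws V C := h.bb_le hC.left h4
    refine ⟨(bb V Z C B).mul_mem h4 ((bb V Z C B).inv_mem h3),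
      hcen _ ((ws V C).mul_mem h6 ((ws V C).inv_mem hεC)) ?_⟩
    have hyα : y * α = α * y := hm.ws_comm hj.l.left hy (hm.pt_le_ws hj.l.left hα)
    have h7 := hyB _ (hm.pt_le_ws hC.right (h.comm C B R hcr ε hεC α hαR))
    have hyα' : y⁻¹ * α = α * y⁻¹ := by
      rw [inv_mul_eq_iff_eq_mul, ← mul_assoc, hyα, mul_inv_cancel_right]
    have h8 : y * ε * y⁻¹ * α * (y * ε * y⁻¹)⁻¹ = ε * α * ε⁻¹ := by
      calc y * ε * y⁻¹ * α * (y * ε * y⁻¹)⁻¹ = y * ε * (y⁻¹ * α) * y * ε⁻¹ * y⁻¹ := by group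
        _ = y * ε * (α * y⁻¹) * y * ε⁻¹ * y⁻¹ := by rw [hyα']
        _ = y * (ε * α * ε⁻¹ * α⁻¹) * α * y⁻¹ := by group
        _ = (ε * α * ε⁻¹ * α⁻¹) * y * α * y⁻¹ := by rw [h7]
        _ = (ε * α * ε⁻¹ * α⁻¹) * (y * α) * y⁻¹ := by group
        _ = ε * α * ε⁻¹ := by rw [hyα]; group
    have h9 : y * ε * y⁻¹ * ε⁻¹ = ε⁻¹ * (y * ε * y⁻¹) := hm.ws_comm hC.left h6 ((ws V C).inv_mem hεC)
    rw [h9]
    calc α * (ε⁻¹ * (y * ε * y⁻¹)) = ε⁻¹ * (ε * α * ε⁻¹) * (y * ε * y⁻¹) := by group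
      _ = ε⁻¹ * (y * ε * y⁻¹ * α * (y * ε * y⁻¹)⁻¹) * (y * ε * y⁻¹) := by rw [h8]
      _ = ε⁻¹ * (y * ε * y⁻¹) * α := by group
  -- the set of the values
  let T : Set G := {t | ∃ y ∈ ws V A, t = y * ε * y⁻¹ * ε⁻¹}
  have h1 : (centralizer ({ε} : Set G)).relIndex (ws V A) ≤ Nat.card T :=
    relIndex_le_of_conj' fun y hy => ⟨y, hy, rfl⟩
  have h2 : Nat.card T ≤ (cx V Z C B).relIndex (cw V Z C B) * Nat.card C := by
    refine card_le_of_cong ?_ ?_
    · rintro _ ⟨y, hy, rfl⟩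
      exact (key y hy).2
    · rintro _ ⟨y, hy, rfl⟩ _ ⟨y', hy', rfl⟩ hx
      obtain ⟨e1, e2, hyB⟩ := hyC y hy
      obtain ⟨e1', e2', hyB'⟩ := hyC y' hy'
      have hE1 : Adj V Z (cj y E) C := by
        have h5 := hE.r.cj y
        rwa [e1] at h5
      have hE2 : Adj V Z (cj y' E) C := by
        have h5 := hE.r.cj y'
        rwa [e1'] at h5
      have q1 : y * ε * y⁻¹ ∈ cj y E := conj_mem_cj hε
      have q2 : y' * ε * y'⁻¹ ∈ cj y' E := conj_mem_cj hε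
      have w1 := hm.adj_le_ws hE1.symm q1
      have w2 := hm.adj_le_ws hE2.symm q2
      have e : (y * ε * y⁻¹ * ε⁻¹)⁻¹ * (y' * ε * y'⁻¹ * ε⁻¹) = y' * ε * y'⁻¹ * (y * ε * y⁻¹)⁻¹ := by
        have c1 : ε⁻¹ * (y' * ε * y'⁻¹) = y' * ε * y'⁻¹ * ε⁻¹ := (hm.ws_comm hC.left w2 ((ws V C).inv_mem hεC)).symm
        have c2 : (y * ε * y⁻¹)⁻¹ * (y' * ε * y'⁻¹) = (y' * ε * y'⁻¹) * (y * ε * y⁻¹)⁻¹ :=
          (hm.ws_comm hC.left w2 ((ws V C).inv_mem w1)).symm
        calc (y * ε * y⁻¹ * ε⁻¹)⁻¹ * (y' * ε * y'⁻¹ * ε⁻¹)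
            = ε * (y * ε * y⁻¹)⁻¹ * ((y' * ε * y'⁻¹) * ε⁻¹) := by group
          _ = ε * (y * ε * y⁻¹)⁻¹ * (ε⁻¹ * (y' * ε * y'⁻¹)) := by rw [c1]
          _ = ε * ((y * ε * y⁻¹)⁻¹ * ε⁻¹) * (y' * ε * y'⁻¹) := by group
          _ = ε * (ε⁻¹ * (y * ε * y⁻¹)⁻¹) * (y' * ε * y'⁻¹) := by
            rw [hm.ws_comm hC.left ((ws V C).inv_mem w1) ((ws V C).inv_mem hεC)]
          _ = (y * ε * y⁻¹)⁻¹ * (y' * ε * y'⁻¹) := by group
          _ = _ := c2
      rw [e] at hx ⊢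
      have hb1 : y' * ε * y'⁻¹ * (y * ε * y⁻¹)⁻¹ ∈ bb V Z C B := by
        rw [← e]
        exact mul_mem (inv_mem (key y hy).1) (key y' hy').1
      have hcen' : ∀ D, Adj V Z D C → ∀ u ∈ UU V Z D,
          u * (y' * ε * y'⁻¹ * (y * ε * y⁻¹)⁻¹) = y' * ε * y'⁻¹ * (y * ε * y⁻¹)⁻¹ * u := by
        intro D hD
        by_cases h5 : Cmp V Z C B D
        · exact (mem_cx.1 hx).2 D hD h5
        · have h6 := h.bb_le_cx hD (B := B) (fun e => h5 e.symm) hb1
          exact (mem_cx.1 h6).2 D hD (Relation.EqvGen.refl _)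
      exact hd C (cj y' E) (cj y E) hE2 hE1 _ q2 _ (inv_mem q1) hcen'
  -- `C_{W_A}(ε) ≤ W_A ∩ W_B`
  have h3 : centralizer ({ε} : Set G) ⊓ ws V A ≤ ws V B := by
    rintro y ⟨hy, hyA⟩
    have hyε : y * ε = ε * y := mem_centralizer_singleton_iff.1 hy
    have h4 : y ∈ ws V (cj ε A) := by
      rw [ws_cj, mem_cj]
      have e : ε⁻¹ * y * ε = y := by rw [mul_assoc, hyε, inv_mul_cancel_left]
      rw [e]
      exact hyA
    have h5 : cj ε A ≠ A := by
      intro e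
      have h6 := hm.t3n hj.l.symm (hm.twoEl_ws hC.left hεC)
        (fun z hz => (mem_centralizer_iff.1 (hm.ws_le_cent hC hj.r hεC) z hz).symm) e α hα
      exact hε1 (hm.inf_cw hE hε (hcen ε hεC h6.symm))
    have h6 : cj ε A ≤ A ⊔ B := by
      intro x hx
      rw [mem_cj] at hx
      have h7 := h.comm C B R hcr ε hεC _ (hm.adj_le_ws hj.l.symm hx)
      have e : x = (ε * (ε⁻¹ * x * ε) * ε⁻¹ * (ε⁻¹ * x * ε)⁻¹) * (ε⁻¹ * x * ε) := by group
      rw [e]
      exact mul_mem (mem_sup_right h7) (mem_sup_left hx)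
    have h7 := h.infc R A B _ hj (hj.l.left.cj ε) h6 h5
    have h8 : y ∈ ws V A ⊓ ws V (cj ε A) := ⟨hyA, h4⟩
    rw [h7] at h8
    exact h8.2
  have h4 : (ws V B).relIndex (ws V A) ≤ (centralizer ({ε} : Set G)).relIndex (ws V A) := by
    rw [← inf_relIndex_right (centralizer ({ε} : Set G))]
    exact relIndex_le_of_le_left h3 (by
      rw [inf_relIndex_right]
      exact Subgroup.index_ne_zero_of_finite)
  -- orders
  have h5 := card_mul_relIndex' (cx_le_cw (V := V) (Z := Z) hC.symm)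
  have h6 : Nat.card (cw V Z C B) * Nat.card Z = Nat.card (ws V C) := by
    have h1 := card_mul_relIndex' (cw_le (V := V) (Z := Z) (R := C) (A := B))
    rw [cw, inf_comm, inf_relIndex_right, h.h2 C B hC.symm] at h1
    rw [cw, inf_comm]
    exact h1
  rw [h.card_pt hC.left] at h2
  rw [h.card_cx hj.l hC.symm, h.card_ws hj.l.right hC.left]
  calc (ws V B).relIndex (ws V A) * Nat.card (cx V Z C B)
      ≤ (cx V Z C B).relIndex (cw V Z C B) * Nat.card Z * Nat.card (cx V Z C B) :=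
        Nat.mul_le_mul_right _ ((h4.trans h1).trans h2)
    _ = Nat.card (cx V Z C B) * (cx V Z C B).relIndex (cw V Z C B) * Nat.card Z := by ring
    _ = Nat.card (ws V C) := by rw [h5, h6]

/-- **(3)**: THEOREM N1 without (H3), second half -/
theorem false (hd : JDist V Z) : False := by
  have hm := h.mid
  obtain ⟨B, R, B₀, hc⟩ := h.ex
  have hB : Adj V Z B R := hc.l
  have hR := hB.right
  obtain ⟨A, hBA⟩ := h.exists_jo hB
  have hj : Jo V Z R A B := h.symm _ _ _ hBA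
  obtain ⟨L, hL, hBL, hRL⟩ := hB.line
  obtain ⟨B', hB'p, hBL', hBR', hBB'⟩ := hm.exists_third hR hB.left hL hRL hBL hB.ne.symm
  have hB' : Adj V Z B' R := ⟨hB'p, hR, hBR', L, hL, hBL', hRL⟩
  have hj2 : Jo V Z R A B' := hm.jo_line_right hj hB' hL hRL hBL hBL'
  have i1 := h.index_le hd hj
  have i2 := h.index_le hd hj2
  have hn := h.le_card_ws hj.l
  set c := Nat.card (cx V Z R A) with hc0
  set s := Nat.card Z with hs0
  set w := Nat.card (ws V R) with hw0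
  have hs : 1 < s := h.one_lt
  -- the line group
  have hI : ws V B ⊓ ws V B' ≤ ws V R := hm.inf_le hL hB.left hB'p hR hBL hBL' hRL hBB'.symm
  have hIc : ws V B ⊓ ws V B' ≤ cw V Z R B := by
    intro x hx
    rw [mem_cw]
    exact ⟨hI hx, fun u hu => (mem_centralizer_iff.1 (hm.UU_le_centralizer B hu) x hx.1).symm⟩
  have hIR : (ws V B ⊓ ws V B') ⊓ cx V Z R B = R := by
    apply le_antisymm
    · rintro u ⟨hu, hu'⟩
      exact h.inf_cx hB hL hRL hBL hu.1 (hI hu) hu'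
    · exact le_inf (le_inf (hm.adj_le_ws hB) (hm.adj_le_ws hB')) (h.R_le_cx hB)
  have c1 := card_sup_mul' (h.ws_comm' hR hI (cx_le (V := V) (Z := Z) (R := R) (A := B)))
  rw [hIR, h.card_pt hR, h.card_cx hB hj.l] at c1
  have c2 : Nat.card (ws V B ⊓ ws V B' ⊔ cx V Z R B : Subgroup G) ≤ Nat.card (cw V Z R B) :=
    Nat.card_le_card_of_injective _ (Subgroup.inclusion_injective (sup_le hIc (cx_le_cw hB)))
  have c3 : Nat.card (cw V Z R B) * s = w := by
    have h1 := card_mul_relIndex' (cw_le (V := V) (Z := Z) (R := R) (A := B))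
    rw [cw, inf_comm, inf_relIndex_right, h.h2 R B hB] at h1
    rw [cw, inf_comm]
    exact h1
  -- `|I| c ≤ w`
  have c5 : Nat.card (ws V B ⊓ ws V B' : Subgroup G) * c ≤ w := by
    calc Nat.card (ws V B ⊓ ws V B' : Subgroup G) * c
        = Nat.card (ws V B ⊓ ws V B' ⊔ cx V Z R B : Subgroup G) * s := c1.symm
      _ ≤ Nat.card (cw V Z R B) * s := Nat.mul_le_mul_right _ c2
      _ = w := c3
  -- `|D| s ≤ |I|`
  have d1 : B ⊓ (ws V B ⊓ ws V B' ⊓ ws V A) = ⊥ := by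
    rw [eq_bot_iff]
    rintro x ⟨hx, -, hx'⟩
    rw [mem_bot]
    refine hm.inf_cw hj hx (mem_cw.2 ⟨hm.adj_le_ws hB.symm hx, fun u hu => ?_⟩)
    exact (mem_centralizer_iff.1 (hm.UU_le_centralizer A hu) x hx').symm
  have hBI : B ≤ ws V B ⊓ ws V B' :=
    le_inf (hm.pt_le_ws hB.left) (hm.adj_le_ws ⟨hB'p, hB.left, hBB', L, hL, hBL', hBL⟩)
  have d2 := card_sup_mul' (h.ws_comm' hB.left (hm.pt_le_ws hB.left)
    ((inf_le_left.trans inf_le_left : ws V B ⊓ ws V B' ⊓ ws V A ≤ ws V B)))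
  rw [d1, card_bot, mul_one, h.card_pt hB.left] at d2
  have d3 : s * Nat.card (ws V B ⊓ ws V B' ⊓ ws V A : Subgroup G) ≤ Nat.card (ws V B ⊓ ws V B' : Subgroup G) := by
    rw [← d2]
    exact Nat.card_le_card_of_injective _ (Subgroup.inclusion_injective (sup_le hBI inf_le_left))
  -- `|W_A| ≤ i₁ i₂ |D|`
  have e1 := card_mul_relIndex' (inf_le_right : ws V B ⊓ ws V B' ⊓ ws V A ≤ ws V A)
  rw [inf_relIndex_right] at e1
  have e2 : (ws V B ⊓ ws V B').relIndex (ws V A) ≤ (ws V B).relIndex (ws V A) * (ws V B').relIndex (ws V A) :=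
    relIndex_inf_le
  have e3 : Nat.card (ws V A) = w := h.card_ws hj.l.left hR
  have hW0 : 0 < w := Nat.card_pos
  rw [e3] at e1
  have e4 : w * s * c ^ 3 ≤ w ^ 3 := by
    calc w * s * c ^ 3
        = (Nat.card (ws V B ⊓ ws V B' ⊓ ws V A : Subgroup G) * (ws V B ⊓ ws V B').relIndex (ws V A)) * s * c ^ 3 := by
          rw [e1]
      _ ≤ Nat.card (ws V B ⊓ ws V B' ⊓ ws V A : Subgroup G) *
            ((ws V B).relIndex (ws V A) * (ws V B').relIndex (ws V A)) * s * c ^ 3 := by gcongr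
      _ = ((ws V B).relIndex (ws V A) * c) * ((ws V B').relIndex (ws V A) * c) *
            ((s * Nat.card (ws V B ⊓ ws V B' ⊓ ws V A : Subgroup G)) * c) := by ring
      _ ≤ w * w * w := by
        refine Nat.mul_le_mul (Nat.mul_le_mul i1 i2) ?_
        exact (Nat.mul_le_mul_right _ d3).trans c5
      _ = w ^ 3 := by ring
  have e5 : w * s * (w ^ 2 * s) ≤ w ^ 3 := (Nat.mul_le_mul_left _ hn).trans e4
  have e6 : w ^ 3 * (s * s) ≤ w ^ 3 * 1 := by
    calc w ^ 3 * (s * s) = w * s * (w ^ 2 * s) := by ring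
      _ ≤ w ^ 3 := e5
      _ = w ^ 3 * 1 := (mul_one _).symm
  have e7 := Nat.le_of_mul_le_mul_left e6 (pow_pos hW0 3)
  nlinarith only [hs, e7]

end TG

end Cfsg.Agent.Omega.NO3S.MidB

end

-- merged: Cfsg.Agent.Mrg.Omega.NO3S.MidB.TGEnd
section

section


/-!
# NO-3S, the `(R, B)`-frame, TYPE N: (H2) and (DIST) are contradictory (bb OMEGA #18317 (3))
-/

set_option autoImplicit false

namespace Cfsg.Agent.Omega.NO3S.MidB

open Subgroup
open Cfsg.Agent.Omega.NO3S.MidQ (H2)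

variable {G : Type*} [Group G] [Finite G] {S : Sylow 2 G} {P V Z : Subgroup G}

/-- **(3)** -/
theorem TF.false_of_h2 (h : TF S P V Z) (h2 : H2 V Z) (hd : JDist V Z) : False := (h.tg h2).false hd

end Cfsg.Agent.Omega.NO3S.MidB

end

section


/-!
# TYPE N, case (A2): the blocks (bb OMEGA #18317, TCARD 5 D)

* `Eqv V Z R A B` : `A`, `B ~ R` are on a line with `R` or joined at `R`; an equivalence relation;
* `blk V Z R A` : the block of `A` at `R`, `TF.mem_blk`;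
* `Good V Z R H`, `TF.good_sup`.
-/

set_option autoImplicit false
set_option linter.unusedSectionVars false

namespace Cfsg.Agent.Omega.NO3S.MidB

open Subgroup Cfsg.Agent.Omega.NO3S.PT Cfsg.Agent.Omega.NoFF.Basic Cfsg.Agent.ZN
open Cfsg.Agent.Omega.NO3S.MidQ (Adj Com Cr UU ws_of kx_of isCj_iff adj_iff com_iff cr_iff UU_of isCj_symm isCj_trans
  com_cj UU_cj le_UU normalizer_le_UU isPGroup_sSup FlagCan PtCan ff mem_ff ff_cj TypN cw mem_cw cw_le cw_cj Jo jo_cj zu)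
open scoped Pointwise

variable {G : Type*} [Group G] {V Z X Y R L A A' B B' C E F H : Subgroup G}

/-- `A`, `B ~ R` are on one line with `R` or joined -/
def Eqv (V Z R A B : Subgroup G) : Prop :=
  Adj V Z A R ∧ Adj V Z B R ∧ ((∃ L, IsCj V L ∧ R ≤ L ∧ A ≤ L ∧ B ≤ L) ∨ Jo V Z R A B)

/-- the block of `A` at `R` -/
def blk (V Z R A : Subgroup G) : Subgroup G := R ⊔ sSup {E | Eqv V Z R A E}

/-- `R ≤ H` and `H` is a union of `R` and points `~ R` -/
def Good (V Z R H : Subgroup G) : Prop := R ≤ H ∧ ∀ x ∈ H, x ∉ R → ∃ E, Adj V Z E R ∧ E ≤ H ∧ x ∈ E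

theorem Eqv.cj (he : Eqv V Z R A B) (g : G) : Eqv V Z (cj g R) (cj g A) (cj g B) := by
  obtain ⟨h1, h2, h3⟩ := he
  refine ⟨h1.cj g, h2.cj g, ?_⟩
  rcases h3 with ⟨L, hL, hRL, hAL, hBL⟩ | h3
  · exact Or.inl ⟨PT.cj g L, hL.cj g, cj_le_cj.2 hRL, cj_le_cj.2 hAL, cj_le_cj.2 hBL⟩
  · exact Or.inr (jo_cj.2 h3)

theorem eqv_le_blk (he : Eqv V Z R A E) : E ≤ blk V Z R A := le_sup_of_le_right (le_sSup he)

theorem R_le_blk : R ≤ blk V Z R A := le_sup_left

theorem blk_cj (g : G) : blk V Z (cj g R) (cj g A) = cj g (blk V Z R A) := by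
  have key : ∀ (g : G) (R A : Subgroup G), blk V Z (cj g R) (cj g A) ≤ cj g (blk V Z R A) := by
    intro g R A
    refine sup_le (cj_le_cj.2 R_le_blk) (sSup_le fun E hE => ?_)
    have h1 : Eqv V Z R A (cj g⁻¹ E) := by
      have h2 := hE.cj g⁻¹
      rwa [cj_cj, cj_cj, inv_mul_cancel, cj_one, cj_one] at h2
    have h3 := eqv_le_blk h1
    rwa [cj_le_iff, inv_inv] at h3
  refine le_antisymm (key g R A) ?_
  have h1 := key g⁻¹ (cj g R) (cj g A)
  rw [cj_cj, cj_cj, inv_mul_cancel, cj_one, cj_one] at h1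
  rwa [cj_le_iff]

namespace TF

variable [Finite G] {S : Sylow 2 G} {P : Subgroup G} (h : TF S P V Z)
include h

theorem eqv_refl (hA : Adj V Z A R) : Eqv V Z R A A := by
  obtain ⟨L, hL, hAL, hRL⟩ := hA.line
  exact ⟨hA, hA, Or.inl ⟨L, hL, hRL, hAL, hAL⟩⟩

theorem eqv_symm (hs : JSym V Z) (he : Eqv V Z R A B) : Eqv V Z R B A := by
  obtain ⟨h1, h2, h3⟩ := he
  refine ⟨h2, h1, ?_⟩
  rcases h3 with ⟨L, hL, hRL, hAL, hBL⟩ | h3
  · exact Or.inl ⟨L, hL, hRL, hBL, hAL⟩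
  · exact Or.inr (hs _ _ _ h3)

theorem eqv_trans (ht : JTrans V Z) (he : Eqv V Z R A B) (he' : Eqv V Z R B C) : Eqv V Z R A C := by
  obtain ⟨h1, h2, h3⟩ := he
  obtain ⟨-, h4, h5⟩ := he'
  refine ⟨h1, h4, ?_⟩
  rcases h3 with ⟨L, hL, hRL, hAL, hBL⟩ | h3
  · rcases h5 with ⟨M, hM, hRM, hBM, hCM⟩ | h5
    · left
      have e := h.line_unique h2.left h2.right h2.ne hL hM hBL hRL hBM hRM
      exact ⟨L, hL, hRL, hAL, e ▸ hCM⟩
    · exact Or.inr (h.jo_line_left h5 h1 hL hRL hBL hAL)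
  · rcases h5 with ⟨M, hM, hRM, hBM, hCM⟩ | h5
    · exact Or.inr (h.jo_line_right h3 h4 hM hRM hBM hCM)
    · by_cases hl : ∃ L, IsCj V L ∧ R ≤ L ∧ A ≤ L ∧ C ≤ L
      · exact Or.inl hl
      · exact Or.inr (ht R A B C h3 h5 fun L hL hRL hAL hCL => hl ⟨L, hL, hRL, hAL, hCL⟩)

/-- an element of a line on `R` is in `R` or in a point `~ R` of the line -/
theorem line_pt (hR : IsCj Z R) (hL : IsCj V L) (hRL : R ≤ L) {x : G} (hx : x ∈ L) (hxR : x ∉ R) :
    ∃ E, Adj V Z E R ∧ E ≤ L ∧ x ∈ E := by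
  obtain ⟨E, hE, hEL, hxE⟩ := h.exists_point hL hx (fun e => hxR (e ▸ one_mem _))
  exact ⟨E, ⟨hE, hR, fun e => hxR (e ▸ hxE), L, hL, hEL, hRL⟩, hEL, hxE⟩

/-- the points are disjoint from `R` -/
theorem not_mem_R (hE : Adj V Z E R) {x : G} (hx : x ∈ E) (hx1 : x ≠ 1) : x ∉ R := fun e =>
  hE.ne (h.pts_eq hE.left hE.right hx e hx1)

/-- the product of elements of two joined points is in a point of `⟨E, F⟩` -/
theorem jo_mul (hv : JVal V Z) (hj : Jo V Z R E F) {x y : G} (hx : x ∈ E) (hy : y ∈ F) (hy1 : y ≠ 1) :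
    ∃ g ∈ UU V Z E, x * y ∈ PT.cj g F ∧ PT.cj g F ≤ E ⊔ F ∧ Adj V Z (PT.cj g F) R ∧ Jo V Z R E (PT.cj g F) := by
  obtain ⟨g, hg, hgy⟩ := hv R E F hj y hy hy1 x hx
  refine ⟨g, hg, ?_, h.cj_le_sup hj.l hj.r hg, h.adj_cj_UU hj.l hj.r hg, ?_⟩
  · have h1 : g * y * g⁻¹ = x * y := by rw [← hgy]; group
    rw [← h1]
    exact conj_mem_cj hy
  · have h1 := jo_cj (g := g).2 hj
    rwa [h.cj_UU_adj hg hj.l, h.cj_UU hg hj.l.left] at h1

/-- the elements of a block -/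
theorem mem_blk (hs : JSym V Z) (hv : JVal V Z) (ht : JTrans V Z) (hA : Adj V Z A R) {x : G} :
    x ∈ blk V Z R A ↔ x ∈ R ∨ ∃ E, Eqv V Z R A E ∧ x ∈ E := by
  constructor
  swap
  · rintro (hx | ⟨E, hE, hx⟩)
    · exact R_le_blk hx
    · exact eqv_le_blk hE hx
  -- a line with one point in the block
  have hline : ∀ {F L : Subgroup G}, Eqv V Z R A F → IsCj V L → R ≤ L → F ≤ L → ∀ x ∈ L,
      x ∈ R ∨ ∃ E, Eqv V Z R A E ∧ x ∈ E := by
    intro F L hF hL hRL hFL x hx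
    by_cases hxR : x ∈ R
    · exact Or.inl hxR
    obtain ⟨E, hE, hEL, hxE⟩ := h.line_pt hA.right hL hRL hx hxR
    exact Or.inr ⟨E, h.eqv_trans ht hF ⟨hF.2.1, hE, Or.inl ⟨L, hL, hRL, hFL, hEL⟩⟩, hxE⟩
  let K : Subgroup G :=
    { carrier := {x | x ∈ R ∨ ∃ E, Eqv V Z R A E ∧ x ∈ E}
      one_mem' := Or.inl (one_mem _)
      inv_mem' := by
        rintro x (hx | ⟨E, hE, hx⟩)
        · exact Or.inl (inv_mem hx)
        · exact Or.inr ⟨E, hE, inv_mem hx⟩
      mul_mem' := by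
        rintro x y (hx | ⟨E, hE, hx⟩) (hy | ⟨F, hF, hy⟩)
        · exact Or.inl (mul_mem hx hy)
        · obtain ⟨L, hL, hFL, hRL⟩ := hF.2.1.line
          exact hline hF hL hRL hFL _ (mul_mem (hRL hx) (hFL hy))
        · obtain ⟨L, hL, hEL, hRL⟩ := hE.2.1.line
          exact hline hE hL hRL hEL _ (mul_mem (hEL hx) (hRL hy))
        · by_cases hy1 : y = 1
          · rw [hy1, mul_one]
            exact Or.inr ⟨E, hE, hx⟩
          rcases (h.eqv_trans ht (h.eqv_symm hs hE) hF).2.2 with ⟨L, hL, hRL, hEL, hFL⟩ | hj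
          · exact hline hE hL hRL hEL _ (mul_mem (hEL hx) (hFL hy))
          · obtain ⟨g, hg, h1, -, h3, h4⟩ := h.jo_mul hv hj hx hy hy1
            exact Or.inr ⟨_, h.eqv_trans ht hE ⟨hE.2.1, h3, Or.inr h4⟩, h1⟩ }
  have hK : blk V Z R A ≤ K := sup_le (fun x hx => Or.inl hx) (sSup_le fun E hE x hx => Or.inr ⟨E, hE, hx⟩)
  exact fun hx => hK hx

theorem blk_le_ws (hA : Adj V Z A R) : blk V Z R A ≤ ws V R :=
  sup_le (h.pt_le_ws hA.right) (sSup_le fun _ hE => h.adj_le_ws hE.2.1.symm)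

/-- a point in a block is equivalent to its base point -/
theorem eqv_of_le (hs : JSym V Z) (hv : JVal V Z) (ht : JTrans V Z) (hA : Adj V Z A R) (hE : Adj V Z E R) {x : G}
    (hx : x ∈ E) (hx1 : x ≠ 1) (hxb : x ∈ blk V Z R A) : Eqv V Z R A E := by
  rcases (h.mem_blk hs hv ht hA).1 hxb with h1 | ⟨F, hF, h1⟩
  · exact absurd h1 (h.not_mem_R hE hx hx1)
  · rwa [h.pts_eq hE.left hF.2.1.left hx h1 hx1]

theorem blk_eq (hs : JSym V Z) (ht : JTrans V Z) (he : Eqv V Z R A B) : blk V Z R A = blk V Z R B := by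
  unfold blk
  congr 2
  ext E
  exact ⟨fun h1 => h.eqv_trans ht (h.eqv_symm hs he) h1, fun h1 => h.eqv_trans ht he h1⟩

theorem good_R : Good V Z R R := ⟨le_rfl, fun _ hx hxR => absurd hx hxR⟩

/-- **one step** -/
theorem good_sup (hs : JSym V Z) (hv : JVal V Z) (ht : JTrans V Z) (hH : Good V Z R H) (hHD : H ≤ blk V Z R A)
    (hA : Adj V Z A R) (hE : Eqv V Z R A E) (hn : ¬ E ≤ H) :
    Good V Z R (H ⊔ E) ∧ H ⊓ E = ⊥ ∧ Nat.card ↥(H ⊔ E) = Nat.card H * Nat.card Z := by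
  have hHW : H ≤ ws V R := hHD.trans (h.blk_le_ws hA)
  have hEW : E ≤ ws V R := h.adj_le_ws hE.2.1.symm
  have hmem : ∀ x ∈ H ⊔ E, ∃ a ∈ H, ∃ b ∈ E, x = a * b := by
    let K : Subgroup G :=
      { carrier := {x | ∃ a ∈ H, ∃ b ∈ E, x = a * b}
        one_mem' := ⟨1, one_mem _, 1, one_mem _, (mul_one 1).symm⟩
        inv_mem' := by
          rintro _ ⟨a, ha, b, hb, rfl⟩
          refine ⟨a⁻¹, inv_mem ha, b⁻¹, inv_mem hb, ?_⟩
          rw [mul_inv_rev, h.ws_comm hA.right ((ws V R).inv_mem (hEW hb)) ((ws V R).inv_mem (hHW ha))]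
        mul_mem' := by
          rintro _ _ ⟨a, ha, b, hb, rfl⟩ ⟨c, hc, d, hd, rfl⟩
          refine ⟨a * c, mul_mem ha hc, b * d, mul_mem hb hd, ?_⟩
          rw [mul_assoc, ← mul_assoc b c d, h.ws_comm hA.right (hEW hb) (hHW hc)]
          simp only [mul_assoc] }
    have hK : H ⊔ E ≤ K := sup_le (fun x hx => ⟨x, hx, 1, one_mem _, (mul_one x).symm⟩)
      (fun x hx => ⟨1, one_mem _, x, hx, (one_mul x).symm⟩)
    exact fun x hx => hK hx
  have hinf : H ⊓ E = ⊥ := by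
    rw [eq_bot_iff]
    rintro x ⟨hx, hx'⟩
    rw [mem_bot]
    by_contra hx1
    obtain ⟨F, hF, hFH, hxF⟩ := hH.2 x hx (h.not_mem_R hE.2.1 hx' hx1)
    exact hn (h.pts_eq hE.2.1.left hF.left hx' hxF hx1 ▸ hFH)
  refine ⟨⟨hH.1.trans le_sup_left, ?_⟩, hinf, ?_⟩
  · intro x hx hxR
    obtain ⟨a, ha, b, hb, rfl⟩ := hmem x hx
    by_cases hb1 : b = 1
    · rw [hb1, mul_one] at hxR ⊢
      obtain ⟨F, hF, hFH, haF⟩ := hH.2 a ha hxR
      exact ⟨F, hF, hFH.trans le_sup_left, haF⟩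
    by_cases haR : a ∈ R
    · obtain ⟨L, hL, hEL, hRL⟩ := hE.2.1.line
      obtain ⟨F, hF, hFL, hxF⟩ := h.line_pt hA.right hL hRL (mul_mem (hRL haR) (hEL hb)) hxR
      exact ⟨F, hF, hFL.trans (h.line_le' hA.right hE.2.1.left hE.2.1.ne hL hRL hEL (hH.1.trans le_sup_left)
        le_sup_right), hxF⟩
    · obtain ⟨F, hF, hFH, haF⟩ := hH.2 a ha haR
      have ha1 : a ≠ 1 := fun e => haR (e ▸ one_mem _)
      have h1 := h.eqv_of_le hs hv ht hA hF haF ha1 (hHD ha)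
      rcases (h.eqv_trans ht (h.eqv_symm hs h1) hE).2.2 with ⟨L, hL, hRL, hFL, hEL⟩ | hj
      · exact absurd (hEL.trans (h.line_le' hA.right hF.left hF.ne hL hRL hFL hH.1 hFH)) hn
      · obtain ⟨g, hg, h2, h3, h4, -⟩ := h.jo_mul hv hj haF hb hb1
        exact ⟨_, h4, h3.trans (sup_le (hFH.trans le_sup_left) le_sup_right), h2⟩
  · have h1 : Nat.card E = Nat.card Z := h.card_pt hE.2.1.left
    rw [← h1, ← Nat.card_prod]
    symm
    refine Nat.card_congr (Equiv.ofBijective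
      (fun p : H × E => (⟨(p.1 : G) * p.2, mul_mem (mem_sup_left p.1.2) (mem_sup_right p.2.2)⟩ : ↥(H ⊔ E))) ⟨?_, ?_⟩)
    · rintro ⟨a, b⟩ ⟨c, d⟩ e
      have e1 : (a : G) * b = c * d := congrArg Subtype.val e
      have e2 : (c : G)⁻¹ * a = d * (b : G)⁻¹ := by
        rw [eq_mul_inv_iff_mul_eq, mul_assoc, e1, inv_mul_cancel_left]
      have e3 : (c : G)⁻¹ * a ∈ H ⊓ E := by
        refine ⟨H.mul_mem (H.inv_mem c.2) a.2, ?_⟩
        change (c : G)⁻¹ * a ∈ E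
        rw [e2]
        exact E.mul_mem d.2 (E.inv_mem b.2)
      rw [hinf, mem_bot] at e3
      have e4 : (a : G) = c := (inv_mul_eq_one.1 e3).symm
      rw [e3] at e2
      have e5 : (d : G) = b := mul_inv_eq_one.1 e2.symm
      exact Prod.ext (Subtype.ext e4) (Subtype.ext e5.symm)
    · rintro ⟨x, hx⟩
      obtain ⟨a, ha, b, hb, rfl⟩ := hmem x hx
      exact ⟨(⟨a, ha⟩, ⟨b, hb⟩), rfl⟩

end TF

end Cfsg.Agent.Omega.NO3S.MidB

end

section


/-!
# TYPE N, case (A2): the fields of `SLB` except `two` (bb OMEGA #18317, TCARD 5 D)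

* `Bk V Z X` : the blocks at `X`;
* `TF.exists_jo_blk`; `TF.card_blk` : the blocks have order `|Z| ^ (m + 1)`, `m ≥ 3`;
* `TF.slb_of` : `SLB` from the field `two`.
-/

set_option autoImplicit false
set_option linter.unusedSectionVars false

namespace Cfsg.Agent.Omega.NO3S.MidB

open Subgroup Cfsg.Agent.Omega.NO3S.PT Cfsg.Agent.Omega.NoFF.Basic Cfsg.Agent.ZN
open Cfsg.Agent.Omega.NO3S.MidQ (Adj Com Cr UU ws_of kx_of isCj_iff adj_iff com_iff cr_iff UU_of isCj_symm isCj_trans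
  com_cj UU_cj le_UU normalizer_le_UU isPGroup_sSup FlagCan PtCan ff mem_ff ff_cj TypN cw mem_cw cw_le cw_cj Jo jo_cj zu
  Sb SLB)
open scoped Pointwise

variable {G : Type*} [Group G] {V Z X Y R L A A' B B' C E F H : Subgroup G}

/-- the blocks at `X` -/
def Bk (V Z X : Subgroup G) : Set (Subgroup G) := {B | ∃ A, Adj V Z A X ∧ B = blk V Z X A}

namespace TF

variable [Finite G] {S : Sylow 2 G} {P : Subgroup G} (h : TF S P V Z)
include h

/-- there are joined points -/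
theorem exists_jo_blk : ∃ R A B, Jo V Z R A B := by
  obtain ⟨A, R, B, hc⟩ := h.ex
  by_contra hcon
  apply hc.ne
  have hB := hc.r.right
  have h1 : ws V B ≤ centralizer ((UU V Z R : Subgroup G) : Set G) := by
    refine h.ws_le_of hB ?_ fun F hF => ?_
    · exact le_centralizer_iff.1 (h.UU_le_cent_adj hc.r.symm)
    · by_contra hF'
      exact hcon ⟨B, R, F, hc.r, hF, hF'⟩
  exact (le_UU hc.l).trans (le_centralizer_iff.1 h1)

/-- good subgroups of a block: the order of the block is a power of `|Z|` -/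
theorem card_pow_of (hs : JSym V Z) (hv : JVal V Z) (ht : JTrans V Z) (hA : Adj V Z A R) :
    ∀ (n : ℕ) (H : Subgroup G), Nat.card (blk V Z R A) ≤ Nat.card H + n → Good V Z R H → H ≤ blk V Z R A →
      ∀ j, Nat.card H = Nat.card Z ^ j → ∃ k, j ≤ k ∧ Nat.card (blk V Z R A) = Nat.card Z ^ k := by
  have hZ := h.one_lt_card_pt
  intro n
  induction n with
  | zero =>
    intro H hc _ hle j hj
    have h1 : H = blk V Z R A := Subgroup.eq_of_le_of_card_ge hle (by omega)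
    exact ⟨j, le_rfl, by rw [← h1, hj]⟩
  | succ n ih =>
    intro H hc hH hle j hj
    by_cases h1 : H = blk V Z R A
    · exact ⟨j, le_rfl, by rw [← h1, hj]⟩
    obtain ⟨x, hx, hxH⟩ := SetLike.exists_of_lt (lt_of_le_of_ne hle h1)
    rcases (h.mem_blk hs hv ht hA).1 hx with h2 | ⟨E, hE, hxE⟩
    · exact absurd (hH.1 h2) hxH
    obtain ⟨h3, -, h4⟩ := h.good_sup hs hv ht hH hle hA hE (fun e => hxH (e hxE))
    have h5 : 0 < Nat.card H := Nat.card_pos
    have h6 : Nat.card H + 1 ≤ Nat.card ↥(H ⊔ E) := by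
      rw [h4]
      calc Nat.card H + 1 ≤ Nat.card H + Nat.card H := by omega
        _ = Nat.card H * 2 := by ring
        _ ≤ Nat.card H * Nat.card Z := Nat.mul_le_mul_left _ hZ
    obtain ⟨k, hk, hk2⟩ := ih (H ⊔ E) (by omega) h3 (sup_le hle (eqv_le_blk hE)) (j + 1) (by rw [h4, hj, pow_succ])
    exact ⟨k, by omega, hk2⟩

/-- in case (A2) the order of a block with joined points is at least `|Z| ^ 4` -/
theorem card_blk_jo (hs : JSym V Z) (hv : JVal V Z) (ht : JTrans V Z) (hB : Bg V Z) (hj : Jo V Z R A B) :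
    ∃ k, 4 ≤ k ∧ Nat.card (blk V Z R A) = Nat.card Z ^ k := by
  have hA := hj.l
  obtain ⟨g, hg, hgB, w, hw, hgw⟩ := hB R A B hj
  -- the fourth point
  obtain ⟨E, hE, hEg⟩ : ∃ E, Adj V Z E R ∧ ¬ E ≤ centralizer {g} := by
    by_contra hcon
    push Not at hcon
    have h1 : ws V R ≤ centralizer {g} := by
      refine h.ws_le_of hA.right (fun x hx => ?_) hcon
      rw [mem_centralizer_singleton_iff]
      exact (mem_centralizer_iff.1 (h.UU_le_cent_adj hA.symm hg) x hx)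
    exact hgw (mem_centralizer_singleton_iff.1 (h1 hw)).symm
  have hjE : Jo V Z R A E := ⟨hA, hE, fun e => hEg fun x hx =>
    mem_centralizer_singleton_iff.2 (mem_centralizer_iff.1 (e hx) g hg).symm⟩
  have hRg : R ≤ centralizer {g} := fun x hx =>
    mem_centralizer_singleton_iff.2 (mem_centralizer_iff.1 (h.UU_le_cent_adj hA.symm hg) x hx)
  have hAg : A ≤ centralizer {g} := fun x hx =>
    mem_centralizer_singleton_iff.2 (mem_centralizer_iff.1 (h.UU_le_cent_pt hA.left hg) x hx)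
  have hBg : B ≤ centralizer {g} := fun x hx => mem_centralizer_singleton_iff.2 (hgB x hx).symm
  obtain ⟨L, hL, hAL, hRL⟩ := hA.line
  -- the chain
  have h0 : R ≤ blk V Z R A := R_le_blk
  obtain ⟨g1, -, c1⟩ := h.good_sup hs hv ht h.good_R h0 hA (h.eqv_refl hA) (fun e => by
    obtain ⟨a, ha, ha1⟩ := h.pt_ne_bot hA.left
    exact h.not_mem_R hA ha ha1 (e ha))
  have h1 : R ⊔ A ≤ blk V Z R A := sup_le h0 (eqv_le_blk (h.eqv_refl hA))
  obtain ⟨g2, -, c2⟩ := h.good_sup hs hv ht g1 h1 hA ⟨hA, hj.r, Or.inr hj⟩ (fun e =>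
    (h.jo_iff hA hj.r).1 hj (e.trans ((sup_le hRL hAL).trans (h.line_le_cw hL hRL hAL))))
  have h2 : R ⊔ A ⊔ B ≤ blk V Z R A := sup_le h1 (eqv_le_blk ⟨hA, hj.r, Or.inr hj⟩)
  obtain ⟨g3, -, c3⟩ := h.good_sup hs hv ht g2 h2 hA ⟨hA, hE, Or.inr hjE⟩ (fun e =>
    hEg (e.trans (sup_le (sup_le hRg hAg) hBg)))
  have h3 : R ⊔ A ⊔ B ⊔ E ≤ blk V Z R A := sup_le h2 (eqv_le_blk ⟨hA, hE, Or.inr hjE⟩)
  refine h.card_pow_of hs hv ht hA (Nat.card (blk V Z R A)) _ (by omega) g3 h3 4 ?_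
  rw [c3, c2, c1, h.card_pt hA.right]
  ring

/-- **the order of the blocks** -/
theorem card_blk (hs : JSym V Z) (hv : JVal V Z) (ht : JTrans V Z) (hB : Bg V Z) :
    ∃ m, 3 ≤ m ∧ ∀ R A, Adj V Z A R → Nat.card (blk V Z R A) = Nat.card Z ^ (m + 1) := by
  obtain ⟨R₀, A₀, B₀, hj⟩ := h.exists_jo_blk
  obtain ⟨k, hk, hk2⟩ := h.card_blk_jo hs hv ht hB hj
  refine ⟨k - 1, by omega, fun R A hA => ?_⟩
  obtain ⟨g, rfl, rfl⟩ := h.exists_adj hj.l hA
  rw [blk_cj, card_cj, hk2]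
  congr 1
  omega

/-- **`SLB` from the field `two`** -/
theorem slb_of (hs : JSym V Z) (hv : JVal V Z) (ht : JTrans V Z) (hB : Bg V Z)
    (two : ∀ R A B A' B', Sb V Z (Bk V Z) R A B → Sb V Z (Bk V Z) R A' B' →
      ∃ g : G, cj g R = R ∧ cj g A = A' ∧ cj g B = B') : ∃ Blk m, SLB V Z Blk m := by
  obtain ⟨m, hm, hcard⟩ := h.card_blk hs hv ht hB
  refine ⟨Bk V Z, m, ?_⟩
  exact
  { three := hm
    can := by
      rintro g X - _ ⟨A, hA, rfl⟩
      exact ⟨PT.cj g A, hA.cj g, (blk_cj g).symm⟩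
    le := by
      rintro X - _ ⟨A, hA, rfl⟩
      exact ⟨R_le_blk, h.blk_le_ws hA⟩
    line := by
      intro X hX L hL hXL
      obtain ⟨Y, hY, hYL, hYX⟩ := h.exists_second hX hL hXL
      have hYX' : Adj V Z Y X := ⟨hY, hX, hYX, L, hL, hYL, hXL⟩
      exact ⟨_, ⟨Y, hYX', rfl⟩, h.line_le' hX hY hYX hL hXL hYL R_le_blk (eqv_le_blk (h.eqv_refl hYX'))⟩
    inf := by
      rintro X - _ ⟨A, hA, rfl⟩ _ ⟨A', hA', rfl⟩ hne b hb hb'
      by_contra hbX
      rcases (h.mem_blk hs hv ht hA).1 hb with h1 | ⟨E, hE, hbE⟩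
      · exact hbX h1
      have h2 := h.eqv_of_le hs hv ht hA' hE.2.1 hbE (fun e => hbX (e ▸ one_mem _)) hb'
      exact hne ((h.blk_eq hs ht h2).trans (h.blk_eq hs ht hE).symm)
    all := by
      rintro X hX _ ⟨A, hA, rfl⟩ b hb hbX
      rcases (h.mem_blk hs hv ht hA).1 hb with h1 | ⟨E, hE, hbE⟩
      · exact absurd h1 hbX
      · obtain ⟨L, hL, hEL, hXL⟩ := hE.2.1.line
        exact ⟨L, hL, hXL, hEL hbE⟩
    card := by
      rintro X - _ ⟨A, hA, rfl⟩
      exact hcard X A hA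
    other := by
      rintro R A hA _ ⟨C, hC, rfl⟩ hn b hb u hu
      rcases (h.mem_blk hs hv ht hC).1 hb with h1 | ⟨E, hE, hbE⟩
      · exact (mem_centralizer_iff.1 (h.UU_le_cent_adj hA.symm hu) b h1).symm
      by_contra hub
      have hj : Jo V Z R A E := ⟨hA, hE.2.1, fun e => hub (mem_centralizer_iff.1 (e hbE) u hu)⟩
      exact hn (eqv_le_blk (h.eqv_trans ht hE (h.eqv_symm hs ⟨hA, hE.2.1, Or.inr hj⟩)))
    cent := by
      rintro R A hA _ ⟨C, hC, rfl⟩ hAB L hL hRL hAL b hb hub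
      rcases (h.mem_blk hs hv ht hC).1 hb with h1 | ⟨E, hE, hbE⟩
      · exact hRL h1
      obtain ⟨a, ha, ha1⟩ := h.pt_ne_bot hA.left
      have h2 := h.eqv_of_le hs hv ht hC hA ha ha1 (hAB ha)
      rcases (h.eqv_trans ht (h.eqv_symm hs h2) hE).2.2 with ⟨M, hM, hRM, hAM, hEM⟩ | hj
      · have e := h.line_unique hA.left hA.right hA.ne hM hL hAM hRM hAL hRL
        exact e ▸ hEM hbE
      · have h3 := h.inf_cw hj hbE (mem_cw.2 ⟨h.adj_le_ws hE.2.1.symm hbE, fun u hu => hub u hu⟩)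
        rw [h3]
        exact one_mem _
    two := two }

end TF

end Cfsg.Agent.Omega.NO3S.MidB

end

section


/-!
# TYPE N is impossible, K-free: (2) (DIST) (bb OMEGA #18317, TCARD 5 #19054, part B)

`h : TF S P V Z`.

* `TF.exists_jo_dist` : something is joined to `A` at `R`;
* `TF.exists_moved` : `1 ≠ α ∈ A` is moved by some `U_X`, `X ~ R`;
* `exists_conj_of_max` : a 2-subgroup of maximal order of `E` contains a conjugate of every 2-element of `E`;
* `TF.dist` : `JSym → JVal → JDist`.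
-/

set_option autoImplicit false
set_option linter.unusedSectionVars false

namespace Cfsg.Agent.Omega.NO3S.MidB

open Subgroup Cfsg.Agent.Omega.NO3S.PT Cfsg.Agent.Omega.NoFF.Basic Cfsg.Agent.ZN
open Cfsg.Agent.Omega.NO3S.MidQ (Adj Com Cr UU Jo le_UU isCj_iff UU_cj)
open scoped Pointwise

variable {G : Type*} [Group G] {V Z X Y R L A C : Subgroup G}

/-- a 2-subgroup `T` of maximal order of `E` contains a conjugate (in `E`) of every 2-element of `E` -/
theorem exists_conj_of_max [Finite G] {E T : Subgroup G} (hT : IsPGroup 2 T) (hTE : T ≤ E)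
    (hmax : ∀ D : Subgroup G, IsPGroup 2 D → D ≤ E → Nat.card D ≤ Nat.card T) {t : G} (ht : TwoEl t) (htE : t ∈ E) :
    ∃ e ∈ E, e⁻¹ * t * e ∈ T := by
  have : Fact (Nat.Prime 2) := ⟨Nat.prime_two⟩
  obtain ⟨Q, hQ⟩ := (hT.comap_subtype (K := E)).exists_le_sylow
  have hTQ : T = (Q : Subgroup E).map E.subtype := by
    refine Subgroup.eq_of_le_of_card_ge ?_ ?_
    · intro x hx
      exact ⟨⟨x, hTE hx⟩, hQ (show (⟨x, hTE hx⟩ : E) ∈ T.comap E.subtype from hx), rfl⟩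
    · exact hmax _ (Q.isPGroup'.map _) (map_subtype_le _)
  obtain ⟨Q', hQ'⟩ := (ht.isPGroup.comap_subtype (K := E)).exists_le_sylow
  obtain ⟨e, he⟩ := MulAction.exists_smul_eq E Q Q'
  refine ⟨e, e.2, ?_⟩
  have h1 : (⟨t, htE⟩ : E) ∈ Q' := hQ' (show (⟨t, htE⟩ : E) ∈ (zpowers t).comap E.subtype from mem_zpowers t)
  rw [← he] at h1
  have h2 : (⟨t, htE⟩ : E) ∈ ((e • Q : Sylow 2 E) : Subgroup E) := h1
  rw [Sylow.coe_subgroup_smul] at h2
  rw [Subgroup.mem_pointwise_smul_iff_inv_smul_mem] at h2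
  have h3 : e⁻¹ * (⟨t, htE⟩ : E) * e ∈ (Q : Subgroup E) := by
    have h4 : (MulAut.conj e)⁻¹ • (⟨t, htE⟩ : E) = e⁻¹ * (⟨t, htE⟩ : E) * e := by
      rw [← map_inv, MulAut.smul_def, MulAut.conj_apply, inv_inv]
    rwa [← h4]
  rw [hTQ]
  exact ⟨_, h3, rfl⟩

namespace TF

variable [Finite G] {S : Sylow 2 G} {P : Subgroup G} (h : TF S P V Z)
include h

/-- something is joined to `A` at `R` -/
theorem exists_jo_dist (hA : Adj V Z A R) : ∃ X, Jo V Z R A X := by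
  by_contra hcon
  push Not at hcon
  obtain ⟨B, hB⟩ := h.exists_crit hA.symm
  have h0 : R ≤ centralizer ((UU V Z A : Subgroup G) : Set G) :=
    le_centralizer_iff.1 (h.UU_le_cent_adj hA.symm)
  have h1 : ws V R ≤ centralizer ((UU V Z A : Subgroup G) : Set G) := by
    refine h.ws_le_of hA.right h0 fun X hX => ?_
    by_contra h2
    exact hcon X ⟨hA, hX, h2⟩
  exact hB.ne (h1.trans (centralizer_le (le_UU hB.r.symm)))

/-- `1 ≠ α ∈ A` is moved by some `U_X` -/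
theorem exists_moved (hs : JSym V Z) (hA : Adj V Z A R) {α : G} (hα : α ∈ A) (hα1 : α ≠ 1) :
    ∃ X, Adj V Z X R ∧ ∃ u ∈ UU V Z X, u * α ≠ α * u := by
  by_contra hcon
  push Not at hcon
  obtain ⟨X, hX⟩ := h.exists_jo_dist hA
  have h1 := hs _ _ _ hX
  refine h1.mv fun a ha => mem_centralizer_iff.2 fun u hu => ?_
  exact h.t3 hA.symm (h.twoEl_UU hu)
    (fun y hy => (mem_centralizer_iff.1 (h.UU_le_cent_adj h1.l.symm hu) y hy).symm) hα hα1 (hcon X h1.l u hu) a ha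

/-- **(2) (DIST)** -/
theorem dist (hs : JSym V Z) (hv : JVal V Z) : JDist V Z := by
  intro R A C hA hC α hα γ hγ hu
  have hR := hA.right
  have hαW : α ∈ ws V R := h.adj_le_ws hA.symm hα
  have hγW : γ ∈ ws V R := h.adj_le_ws hC.symm hγ
  by_cases hα1 : α = 1
  · subst hα1
    by_cases hγ1 : γ = 1
    · rw [hγ1, one_mul]; exact one_mem _
    · exfalso
      obtain ⟨X, hX, u, huX, hne⟩ := h.exists_moved hs hC hγ hγ1
      have := hu X hX u huX
      rw [one_mul] at this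
      exact hne this
  by_cases hγ1 : γ = 1
  · subst hγ1
    exfalso
    obtain ⟨X, hX, u, huX, hne⟩ := h.exists_moved hs hA hα hα1
    have := hu X hX u huX
    rw [mul_one] at this
    exact hne this
  -- (i)
  have hi : ∀ X, Adj V Z X R → ∀ g ∈ UU V Z X, g * γ = γ * g → g * α = α * g := by
    intro X hX g hg h1
    have h2 := hu X hX g hg
    have h3 : g * α * γ = α * g * γ := by
      rw [mul_assoc, h2, mul_assoc, mul_assoc, ← h1]
    exact mul_right_cancel h3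
  -- (ii)
  obtain ⟨X, hX⟩ := h.exists_jo_dist hA
  have hXA := hs _ _ _ hX
  have hXC : Jo V Z R X C := by
    refine ⟨hX.r, hC, fun hle => ?_⟩
    refine hXA.mv fun a ha => mem_centralizer_iff.2 fun u huX => ?_
    have h1 : u * γ = γ * u := mem_centralizer_iff.1 (hle hγ) u huX
    exact h.t3 hA.symm (h.twoEl_UU huX)
      (fun y hy => (mem_centralizer_iff.1 (h.UU_le_cent_adj hX.r.symm huX) y hy).symm) hα hα1
      (hi X hX.r u huX h1) a ha
  have hCX := hs _ _ _ hXC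
  obtain ⟨ξ, hξ, hξ1⟩ := h.pt_ne_bot hX.r.left
  have hξW : ξ ∈ ws V R := h.adj_le_ws hX.r.symm hξ
  obtain ⟨τ, hτ, hτξ⟩ := hv R A X hX ξ hξ hξ1 α hα
  obtain ⟨τ', hτ', hτξ'⟩ := hv R C X hCX ξ hξ hξ1 γ hγ
  have hτ'γ : τ' * γ = γ * τ' := (mem_centralizer_iff.1 (h.UU_le_cent_pt hC.left hτ') γ hγ).symm
  have hτ'α := hi C hC τ' hτ' hτ'γ
  -- `t = τ' τ`
  set u0 := α * γ with hu0
  have hαγ : α * γ = γ * α := h.ws_comm hR hαW hγW
  have hu0W : u0 ∈ ws V R := mul_mem hαW hγW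
  have hu0sq : u0 * u0 = 1 := h.ws_sq hR hu0W
  have ht1 : (τ' * τ) * ξ * (τ' * τ)⁻¹ = u0 * ξ := by
    have h1 : τ * ξ * τ⁻¹ = α * ξ := by rw [← hτξ]; group
    have h2 : τ' * ξ * τ'⁻¹ = γ * ξ := by rw [← hτξ']; group
    calc (τ' * τ) * ξ * (τ' * τ)⁻¹ = τ' * (τ * ξ * τ⁻¹) * τ'⁻¹ := by group
      _ = τ' * α * τ'⁻¹ * (τ' * ξ * τ'⁻¹) := by rw [h1]; group
      _ = α * (γ * ξ) := by rw [hτ'α, mul_inv_cancel_right, h2]
      _ = u0 * ξ := by rw [hu0, mul_assoc]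
  have htR : τ' * τ ∈ centralizer (R : Set G) :=
    mul_mem (h.UU_le_cent_adj hC.symm hτ') (h.UU_le_cent_adj hA.symm hτ)
  -- `R0`
  let R0 : Subgroup G :=
    { carrier := {w | w ∈ ws V R ∧ ∀ Y, Adj V Z Y R → ∀ u ∈ UU V Z Y, u * w = w * u}
      one_mem' := ⟨one_mem _, fun _ _ u _ => by rw [mul_one, one_mul]⟩
      mul_mem' := by
        rintro a b ⟨ha, ha'⟩ ⟨hb, hb'⟩
        exact ⟨mul_mem ha hb, fun Y hY u hu => by rw [← mul_assoc, ha' Y hY u hu, mul_assoc, hb' Y hY u hu, mul_assoc]⟩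
      inv_mem' := by
        rintro a ⟨ha, ha'⟩
        exact ⟨inv_mem ha, fun Y hY u hu => by
          rw [mul_inv_eq_iff_eq_mul, mul_assoc, ha' Y hY u hu, inv_mul_cancel_left]⟩ }
  have hR0W : R0 ≤ ws V R := fun w hw => hw.1
  have hR0N : ∀ g ∈ centralizer (R : Set G), ∀ w ∈ R0, g * w * g⁻¹ ∈ R0 := by
    intro g hg w hw
    have hgR : PT.cj g R = R := cj_eq_iff.2 (centralizer_le_normalizer _ hg)
    refine ⟨(mem_normalizer_iff.1 (normalizer_le_ws V R (centralizer_le_normalizer _ hg)) w).1 hw.1,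
      fun Y hY u hu => ?_⟩
    have h1 : Adj V Z (PT.cj g⁻¹ Y) R := by
      have h2 := hY.cj g⁻¹
      rwa [show PT.cj g⁻¹ R = R by rw [← hgR, cj_cj, inv_mul_cancel, cj_one, hgR]] at h2
    have h3 : g⁻¹ * u * g ∈ UU V Z (PT.cj g⁻¹ Y) := by
      rw [UU_cj]
      have := conj_mem_cj (g := g⁻¹) hu
      rwa [inv_inv] at this
    have h4 := hw.2 _ h1 _ h3
    calc u * (g * w * g⁻¹) = g * ((g⁻¹ * u * g) * w) * g⁻¹ := by group
      _ = g * w * g⁻¹ * u := by rw [h4]; group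
  have hu0R0 : u0 ∈ R0 := ⟨hu0W, hu⟩
  -- `E`
  let E : Subgroup G :=
    { carrier := {g | g ∈ centralizer (R : Set G) ∧ g * ξ * g⁻¹ * ξ⁻¹ ∈ R0}
      one_mem' := ⟨one_mem _, by simp only [one_mul, inv_one, mul_one, mul_inv_cancel]; exact one_mem _⟩
      mul_mem' := by
        rintro a b ⟨ha, ha'⟩ ⟨hb, hb'⟩
        refine ⟨mul_mem ha hb, ?_⟩
        have e : a * b * ξ * (a * b)⁻¹ * ξ⁻¹ = a * (b * ξ * b⁻¹ * ξ⁻¹) * a⁻¹ * (a * ξ * a⁻¹ * ξ⁻¹) := by group
        rw [e]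
        exact mul_mem (hR0N a ha _ hb') ha'
      inv_mem' := by
        rintro a ⟨ha, ha'⟩
        refine ⟨inv_mem ha, ?_⟩
        have e : a⁻¹ * ξ * a⁻¹⁻¹ * ξ⁻¹ = a⁻¹ * (a * ξ * a⁻¹ * ξ⁻¹)⁻¹ * a⁻¹⁻¹ := by group
        rw [e]
        exact hR0N a⁻¹ (inv_mem ha) _ (inv_mem ha') }
  -- an odd power
  obtain ⟨m, hm, ht2⟩ := exists_odd_pow (τ' * τ)
  set t := (τ' * τ) ^ m with ht
  have hcomm0 : ∀ w ∈ R0, (τ' * τ) * w = w * (τ' * τ) := fun w hw => by
    rw [mul_assoc, hw.2 A hA τ hτ, ← mul_assoc, hw.2 C hC τ' hτ', mul_assoc]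
  have hcomm : ∀ w ∈ R0, t * w = w * t := fun w hw =>
    (Commute.pow_left (hcomm0 w hw : Commute (τ' * τ) w) m).eq
  have hpow : ∀ n : ℕ, (τ' * τ) ^ n * ξ * ((τ' * τ) ^ n)⁻¹ = u0 ^ n * ξ := by
    intro n
    induction n with
    | zero => simp
    | succ n ih =>
      have h1 : (τ' * τ) * u0 ^ n = u0 ^ n * (τ' * τ) :=
        (Commute.pow_right (hcomm0 u0 hu0R0 : Commute (τ' * τ) u0) n).eq
      calc (τ' * τ) ^ (n + 1) * ξ * ((τ' * τ) ^ (n + 1))⁻¹
          = (τ' * τ) * ((τ' * τ) ^ n * ξ * ((τ' * τ) ^ n)⁻¹) * (τ' * τ)⁻¹ := by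
            rw [pow_succ' (τ' * τ) n, mul_inv_rev]
            simp only [mul_assoc]
        _ = (τ' * τ) * u0 ^ n * ξ * (τ' * τ)⁻¹ := by rw [ih]; simp only [mul_assoc]
        _ = u0 ^ n * ((τ' * τ) * ξ * (τ' * τ)⁻¹) := by rw [h1]; simp only [mul_assoc]
        _ = u0 ^ (n + 1) * ξ := by rw [ht1, pow_succ]; simp only [mul_assoc]
  have htξ : t * ξ * t⁻¹ = u0 * ξ := by
    rw [ht, hpow m]
    obtain ⟨k, hk⟩ := hm
    rw [hk, pow_succ, pow_mul, pow_two, hu0sq, one_pow, one_mul]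
  have htE : t ∈ E := by
    refine ⟨pow_mem htR m, ?_⟩
    rw [htξ, mul_inv_cancel_right]
    exact hu0R0
  -- the flag
  obtain ⟨L, hL, hXL, hRL⟩ := hX.r.line
  obtain ⟨T, Q, h'⟩ := h.flag hR hL hRL
  have hT0E : (T : Subgroup G) ⊓ centralizer (R : Set G) ≤ E := by
    intro s hs
    refine ⟨hs.2, ?_⟩
    have h1 := h'.pl.act s hs ξ (hXL hξ)
    exact ⟨h.pt_le_ws hR h1, fun Y hY u hu => (mem_centralizer_iff.1 (h.UU_le_cent_adj hY.symm hu) _ h1).symm⟩
  obtain ⟨e, he, heT⟩ := exists_conj_of_max (T.isPGroup'.to_le inf_le_left) hT0E (fun D hD hDE => by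
    obtain ⟨m, -, hm⟩ := h'.pl.exists_le_conjB (H := normalizer (R : Set G)) h'.pl.SN le_rfl hD
      (fun d hd => centralizer_le_normalizer _ (hDE hd).1) (fun d hd => (hDE hd).1)
    exact (Subgroup.card_le_of_le hm).trans (card_cj m _).le) ht2 htE
  -- `w = [e, ξ]`
  set w := e * ξ * e⁻¹ * ξ⁻¹ with hw
  have hwR0 : w ∈ R0 := he.2
  have h1 := h'.pl.act _ heT ξ (hXL hξ)
  have h2 : e * ((e⁻¹ * t * e) * ξ * (e⁻¹ * t * e)⁻¹ * ξ⁻¹) * e⁻¹ ∈ R := by
    rw [← mem_centralizer_iff.1 he.1 _ h1, mul_inv_cancel_right]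
    exact h1
  have h3 : e * ((e⁻¹ * t * e) * ξ * (e⁻¹ * t * e)⁻¹ * ξ⁻¹) * e⁻¹ = u0 := by
    have h4 : e * ξ * e⁻¹ = w * ξ := by rw [hw]; group
    have h5 : w * u0 = u0 * w := h.ws_comm hR (hR0W hwR0) hu0W
    calc e * ((e⁻¹ * t * e) * ξ * (e⁻¹ * t * e)⁻¹ * ξ⁻¹) * e⁻¹
        = t * (e * ξ * e⁻¹) * t⁻¹ * (e * ξ * e⁻¹)⁻¹ := by group
      _ = t * w * ξ * t⁻¹ * (w * ξ)⁻¹ := by rw [h4]; group
      _ = w * (t * ξ * t⁻¹) * ξ⁻¹ * w⁻¹ := by rw [hcomm w hwR0]; group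
      _ = w * u0 * w⁻¹ := by rw [htξ]; group
      _ = u0 := by rw [h5, mul_inv_cancel_right]
  rwa [h3] at h2

end TF

end Cfsg.Agent.Omega.NO3S.MidB

end

end
end

-- part: Mrg/Omega/NO3S/MidB/Mod
section
-- merged: Cfsg.Agent.Omega.NO3S.MidQ.McL
section

/-!
# Groups generated by transvections, elementwise (McLaughlin's theorem without a field)

`lam i` : points of the module `M`; `Φ i` : a group of endomorphisms `φ` with image in `lam i`, `φ (lam i) = 0`, such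
that `1 + φ` permutes the points; every `φ ∈ Φ i` is 0 or injective on every point.

* `McL.symm` : `JJ lam Φ i j` (`Φ i` moves `lam j`) is symmetric;
* `McL.field` : if some `φ ≠ 0` of `Φ i` kills `lam j` (`JJ i j`), then the set of `ρ` with `ρ Φ i ≤ Φ i` is transitive on
  `lam i - 0`;
* `McL.trans` : then, if `Dist lam Φ`, `JJ` is transitive (on different points);
* `McL.dich` : if `JJ y i`, `JJ y j` : either all values on `lam j` are attained by `φ ∈ Φ y` with `φ (lam i) = 0`, or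
  `lam i ≤ lam j + ker (Φ y)`.
-/

set_option autoImplicit false

namespace Cfsg.Agent.Omega.NO3S.MidQ

/-- see the header -/
structure McL {M ι : Type*} [AddCommGroup M] (lam : ι → AddSubgroup M) (Φ : ι → AddSubgroup (AddMonoid.End M)) :
    Prop where
  fin : Finite M
  two : ∀ m : M, m + m = 0
  val : ∀ i, ∀ φ ∈ Φ i, ∀ m, φ m ∈ lam i
  ker : ∀ i, ∀ φ ∈ Φ i, ∀ a ∈ lam i, φ a = 0
  ti : ∀ i j, ∀ φ ∈ Φ i, ∀ b ∈ lam j, b ≠ 0 → φ b = 0 → ∀ c ∈ lam j, φ c = 0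
  card : ∀ i j, Nat.card (lam i) = Nat.card (lam j)
  surj : ∀ i j, ∀ b ∈ lam j, (∃ φ ∈ Φ i, φ b ≠ 0) → ∀ a ∈ lam i, ∃ φ ∈ Φ i, φ b = a
  cardΦ : ∀ i j, Nat.card (Φ i) = Nat.card (Φ j)
  mv : ∀ i j, ∀ φ ∈ Φ i, ∃ k, (∀ m ∈ lam j, m + φ m ∈ lam k) ∧ ∀ ψ ∈ Φ j, (1 + φ) * ψ * (1 + φ) ∈ Φ k
  lne : ∀ i, ∃ a ∈ lam i, a ≠ 0
  ne : ∀ i, ∃ φ ∈ Φ i, φ ≠ 0
  gen : ∀ φ : AddMonoid.End M, (∀ i, ∀ a ∈ lam i, φ a = 0) → φ = 0
  same : ∀ i j, ∀ a ∈ lam i, a ∈ lam j → a ≠ 0 → lam i = lam j ∧ Φ i = Φ j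

variable {M ι : Type*} [AddCommGroup M] {lam : ι → AddSubgroup M} {Φ : ι → AddSubgroup (AddMonoid.End M)}

/-- `Φ i` moves `lam j` -/
def JJ (lam : ι → AddSubgroup M) (Φ : ι → AddSubgroup (AddMonoid.End M)) (i j : ι) : Prop :=
  ∃ φ ∈ Φ i, ∃ b ∈ lam j, φ b ≠ 0

/-- (DIST) -/
def Dist (lam : ι → AddSubgroup M) (Φ : ι → AddSubgroup (AddMonoid.End M)) : Prop :=
  ∀ i j, ∀ a ∈ lam i, ∀ b ∈ lam j, (∀ k, ∀ φ ∈ Φ k, φ (a + b) = 0) → a + b = 0

/-- `φ` kills `lam j` -/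
def Kl (lam : ι → AddSubgroup M) (φ : AddMonoid.End M) (j : ι) : Prop := ∀ b ∈ lam j, φ b = 0

namespace McL

variable (h : McL lam Φ)
include h

theorem add_eq_zero {a b : M} : a + b = 0 ↔ a = b := by
  constructor
  · intro e
    have h1 := h.two b
    exact add_right_cancel (e.trans h1.symm)
  · rintro rfl
    exact h.two a

theorem two_end (φ : AddMonoid.End M) : φ + φ = 0 := by
  ext m
  exact h.two (φ m)

theorem moves {i j : ι} (hj : JJ lam Φ i j) {b : M} (hb : b ∈ lam j) (hb0 : b ≠ 0) : ∃ φ ∈ Φ i, φ b ≠ 0 := by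
  obtain ⟨φ, hφ, c, hc, hφc⟩ := hj
  exact ⟨φ, hφ, fun e => hφc (h.ti i j φ hφ b hb hb0 e c hc)⟩

theorem ne_zero {i j : ι} {φ : AddMonoid.End M} (hφ : φ ∈ Φ i) (hk : ¬ Kl lam φ j) {b : M} (hb : b ∈ lam j)
    (hb0 : b ≠ 0) : φ b ≠ 0 := fun e => hk (h.ti i j φ hφ b hb hb0 e)

theorem jj {i j : ι} {φ : AddMonoid.End M} (hφ : φ ∈ Φ i) (hk : ¬ Kl lam φ j) : JJ lam Φ i j := by
  unfold Kl at hk
  push Not at hk
  obtain ⟨b, hb, hb'⟩ := hk
  exact ⟨φ, hφ, b, hb, hb'⟩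

theorem kl_of {i j : ι} {φ : AddMonoid.End M} (hφ : φ ∈ Φ i) {b : M} (hb : b ∈ lam j) (hb0 : b ≠ 0)
    (he : φ b = 0) : Kl lam φ j := h.ti i j φ hφ b hb hb0 he

theorem exists_not_kl {i : ι} {φ : AddMonoid.End M} (_hφ : φ ∈ Φ i) (h0 : φ ≠ 0) : ∃ j, ¬ Kl lam φ j := by
  by_contra hcon
  push Not at hcon
  exact h0 (h.gen φ hcon)

/-- bijectivity on the points -/
theorem exists_pre {i j : ι} {φ : AddMonoid.End M} (hφ : φ ∈ Φ i) (hk : ¬ Kl lam φ j) {a : M} (ha : a ∈ lam i) :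
    ∃ b ∈ lam j, φ b = a := by
  have := h.fin
  let f : lam j → lam i := fun b => ⟨φ b, h.val i φ hφ b⟩
  have hinj : Function.Injective f := by
    intro b c hbc
    have h1 : φ b = φ c := congrArg Subtype.val hbc
    by_contra hne
    have h2 : (b : M) - c ≠ 0 := fun e => hne (Subtype.ext (sub_eq_zero.1 e))
    exact h.ne_zero hφ hk (sub_mem b.2 c.2) h2 (by rw [map_sub, h1, sub_self])
  have hsurj : Function.Surjective f := by
    have : Fintype (lam i) := Fintype.ofFinite _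
    have : Fintype (lam j) := Fintype.ofFinite _
    have h1 := h.card j i
    rw [Nat.card_eq_fintype_card, Nat.card_eq_fintype_card] at h1
    exact ((Fintype.bijective_iff_injective_and_card f).2 ⟨hinj, h1⟩).2
  obtain ⟨b, hb⟩ := hsurj ⟨a, ha⟩
  exact ⟨b, b.2, congrArg Subtype.val hb⟩

/-- conjugation by `1 + ψ` if `ψ` kills `lam i` -/
theorem conj_self {i j : ι} {ψ χ : AddMonoid.End M} (hψ : ψ ∈ Φ j) (hk : Kl lam ψ i) (hχ : χ ∈ Φ i) :
    χ * (1 + ψ) ∈ Φ i := by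
  obtain ⟨k, h1, h2⟩ := h.mv j i ψ hψ
  obtain ⟨a, ha, ha0⟩ := h.lne i
  have h3 := h1 a ha
  rw [hk a ha, add_zero] at h3
  have h4 := (h.same i k a ha h3 ha0).2
  have h5 := h2 χ hχ
  rw [← h4] at h5
  have e : (1 + ψ) * χ * (1 + ψ) = χ * (1 + ψ) := by
    have e1 : ψ * χ = 0 := by
      ext m
      exact hk _ (h.val i χ hχ m)
    rw [add_mul, e1, one_mul, add_zero]
  rwa [e] at h5

/-- **(★)** -/
theorem mul_mem {i j : ι} {ψ χ : AddMonoid.End M} (hψ : ψ ∈ Φ j) (hk : Kl lam ψ i) (hχ : χ ∈ Φ i) : χ * ψ ∈ Φ i := by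
  have h1 := h.conj_self hψ hk hχ
  rw [mul_add, mul_one] at h1
  exact ((Φ i).add_mem_cancel_left hχ).1 h1

theorem finΦ (i : ι) : Finite (Φ i) := by
  have := h.fin
  have : Finite (AddMonoid.End M) := DFunLike.finite _
  infer_instance

/-- left multiplication by an element injective on `lam i` is injective on `Φ i` -/
theorem mul_inj {i j : ι} {g φ ψ : AddMonoid.End M} (hg : g ∈ Φ j) (hk : ¬ Kl lam g i) (hφ : φ ∈ Φ i) (hψ : ψ ∈ Φ i)
    (e : g * φ = g * ψ) : φ = ψ := by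
  ext m
  by_contra hne
  have h1 : φ m - ψ m ≠ 0 := fun e => hne (sub_eq_zero.1 e)
  refine h.ne_zero hg hk (sub_mem (h.val i φ hφ m) (h.val i ψ hψ m)) h1 ?_
  rw [map_sub, sub_eq_zero]
  exact DFunLike.congr_fun e m

/-- **`JJ` is symmetric** -/
theorem symm {i j : ι} (hj : JJ lam Φ i j) : JJ lam Φ j i := by
  by_contra hno
  have hkl : ∀ ψ ∈ Φ j, Kl lam ψ i := fun ψ hψ => by
    by_contra hk
    exact hno (h.jj hψ hk)
  obtain ⟨φ, hφ, b, hb, hφb⟩ := hj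
  have hk : ¬ Kl lam φ j := fun e => hφb (e b hb)
  have := h.finΦ i
  have := h.finΦ j
  let f : Φ j → Φ i := fun ψ => ⟨φ * ψ, h.mul_mem ψ.2 (hkl ψ ψ.2) hφ⟩
  have hinj : Function.Injective f := fun ψ ψ' e =>
    Subtype.ext (h.mul_inj hφ hk ψ.2 ψ'.2 (congrArg Subtype.val e))
  have hsurj : Function.Surjective f := by
    have : Fintype (Φ i) := Fintype.ofFinite _
    have : Fintype (Φ j) := Fintype.ofFinite _
    have h1 := h.cardΦ j i
    rw [Nat.card_eq_fintype_card, Nat.card_eq_fintype_card] at h1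
    exact ((Fintype.bijective_iff_injective_and_card f).2 ⟨hinj, h1⟩).2
  obtain ⟨ψ, hψ⟩ := hsurj ⟨φ, hφ⟩
  have h1 : φ * (ψ : AddMonoid.End M) = φ := congrArg Subtype.val hψ
  apply hφb
  rw [← h1]
  show φ ((ψ : AddMonoid.End M) b) = 0
  rw [h.ker j ψ ψ.2 b hb, map_zero]

/-- `Φ_i^j` is mapped into `Φ_j^i` -/
theorem swap {i j : ι} {g φ : AddMonoid.End M} (hg : g ∈ Φ j) (hφ : φ ∈ Φ i) (hk : Kl lam φ j) :
    g * φ ∈ Φ j ∧ Kl lam (g * φ) i := by
  refine ⟨h.mul_mem hφ hk hg, fun a ha => ?_⟩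
  show g (φ a) = 0
  rw [h.ker i φ hφ a ha, map_zero]

/-- every element of `Φ_j^i` is `g φ`, `φ ∈ Φ_i^j`, `g ∈ Φ j` fixed, not killing `lam i` -/
theorem exists_swap {i j : ι} {g θ : AddMonoid.End M} (hg : g ∈ Φ j) (hgk : ¬ Kl lam g i) (hθ : θ ∈ Φ j)
    (hk : Kl lam θ i) : ∃ φ ∈ Φ i, Kl lam φ j ∧ g * φ = θ := by
  obtain ⟨g', hg', b, hb, hg'b⟩ := h.symm (h.jj hg hgk)
  have hgk' : ¬ Kl lam g' j := fun e => hg'b (e b hb)
  have := h.finΦ j
  let A := {φ : Φ j // Kl lam (φ : AddMonoid.End M) i}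
  let f : A → A := fun φ => ⟨⟨g * (g' * φ.1.1), (h.swap hg (h.swap hg' φ.1.2 φ.2).1 (h.swap hg' φ.1.2 φ.2).2).1⟩,
    (h.swap hg (h.swap hg' φ.1.2 φ.2).1 (h.swap hg' φ.1.2 φ.2).2).2⟩
  have hinj : Function.Injective f := by
    intro φ ψ e
    have e1 : g * (g' * φ.1.1) = g * (g' * ψ.1.1) := congrArg (fun t => t.1.1) e
    have e2 := h.mul_inj hg hgk (h.swap hg' φ.1.2 φ.2).1 (h.swap hg' ψ.1.2 ψ.2).1 e1
    exact Subtype.ext (Subtype.ext (h.mul_inj hg' hgk' φ.1.2 ψ.1.2 e2))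
  obtain ⟨φ, hφ⟩ := (Finite.injective_iff_surjective.1 hinj) ⟨⟨θ, hθ⟩, hk⟩
  exact ⟨g' * φ.1.1, (h.swap hg' φ.1.2 φ.2).1, (h.swap hg' φ.1.2 φ.2).2, congrArg (fun t => t.1.1) hφ⟩

/-! ### The field -/

/-- every `Φ i` contains nonzero elements killing a given joined point -/
def Big (lam : ι → AddSubgroup M) (Φ : ι → AddSubgroup (AddMonoid.End M)) : Prop :=
  ∀ i j, JJ lam Φ i j → ∃ φ ∈ Φ i, Kl lam φ j ∧ φ ≠ 0

/-- `θ ∈ Φ_i^j` moving `d` : some `χ ∈ Φ_i^d` moves `j`. -/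
theorem third_of {i j d : ι} (hj : JJ lam Φ i j) {θ : AddMonoid.End M} (hθ : θ ∈ Φ i) (hθj : Kl lam θ j)
    (hd : ¬ Kl lam θ d) : ∃ χ ∈ Φ i, Kl lam χ d ∧ ¬ Kl lam χ j := by
  obtain ⟨g, hg, a, ha, hga⟩ := h.symm hj
  have hgk : ¬ Kl lam g i := fun e => hga (e a ha)
  obtain ⟨χ, hχ, b, hb, hχb⟩ := hj
  obtain ⟨c, hc, hc0⟩ := h.lne d
  have h1 : g (θ c) ∈ lam j := h.val j g hg _
  have h2 : g (θ c) ≠ 0 := h.ne_zero hg hgk (h.val i θ hθ c) (h.ne_zero hθ hd hc hc0)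
  obtain ⟨g', hg', hg'c⟩ := h.surj i j (g (θ c)) h1 (h.moves ⟨χ, hχ, b, hb, hχb⟩ h1 h2) (χ c) (h.val i χ hχ c)
  have h3 := h.swap hg' (h.swap hg hθ hθj).1 (h.swap hg hθ hθj).2
  refine ⟨χ - g' * (g * θ), sub_mem hχ h3.1, h.kl_of (sub_mem hχ h3.1) hc hc0 ?_, fun e => hχb ?_⟩
  · show χ c - g' (g (θ c)) = 0
    rw [hg'c, sub_self]
  · have h4 : χ b - (g' * (g * θ)) b = 0 := e b hb
    rw [h3.2 b hb, sub_zero] at h4
    exact h4

/-- `g θ` moves `d` -/
theorem not_kl_mul {i j d : ι} {g θ : AddMonoid.End M} (hg : g ∈ Φ j) (hgk : ¬ Kl lam g i) (hθ : θ ∈ Φ i)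
    (hd : ¬ Kl lam θ d) : ¬ Kl lam (g * θ) d := by
  intro e
  unfold Kl at hd
  push Not at hd
  obtain ⟨c, hc, hc'⟩ := hd
  exact h.ne_zero hg hgk (h.val i θ hθ c) hc' (e c hc)

/-- a joined point `d` and `k ∈ Φ_j^i` moving `d`, an element of `Φ_i^j` moving `d`, one of `Φ_i^d` moving `j` -/
theorem exists_third (hB : Big lam Φ) {i j : ι} (hj : JJ lam Φ i j) :
    ∃ d, (∃ θ ∈ Φ i, Kl lam θ j ∧ ¬ Kl lam θ d) ∧ (∃ χ ∈ Φ i, Kl lam χ d ∧ ¬ Kl lam χ j) ∧
      ∃ k ∈ Φ j, Kl lam k i ∧ ¬ Kl lam k d := by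
  obtain ⟨θ, hθ, hθj, hθ0⟩ := hB i j hj
  obtain ⟨d, hd⟩ := h.exists_not_kl hθ hθ0
  obtain ⟨g, hg, a, ha, hga⟩ := h.symm hj
  have hgk : ¬ Kl lam g i := fun e => hga (e a ha)
  exact ⟨d, ⟨θ, hθ, hθj, hd⟩, h.third_of hj hθ hθj hd, g * θ, (h.swap hg hθ hθj).1, (h.swap hg hθ hθj).2,
    h.not_kl_mul hg hgk hθ hd⟩

/-- **the field** -/
theorem field (hB : Big lam Φ) {i : ι} {a a' : M} (ha : a ∈ lam i) (ha0 : a ≠ 0) (ha' : a' ∈ lam i) :
    ∃ ρ : AddMonoid.End M, (∀ φ ∈ Φ i, ρ * φ ∈ Φ i) ∧ ρ a = a' := by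
  -- some `j` is joined
  obtain ⟨φ₀, hφ₀, hφ₀0⟩ := h.ne i
  obtain ⟨j, hj⟩ := h.exists_not_kl hφ₀ hφ₀0
  have hij : JJ lam Φ i j := h.jj hφ₀ hj
  obtain ⟨d, ⟨θ, hθ, hθj, hθd⟩, ⟨χ₀, hχ₀, hχ₀d, hχ₀j⟩, k, hk, hki, hkd⟩ := h.exists_third hB hij
  have hid : JJ lam Φ i d := h.jj hθ hθd
  obtain ⟨g, hg, b, hb, hgb⟩ := h.symm hid
  have hgk : ¬ Kl lam g i := fun e => hgb (e b hb)
  obtain ⟨c, hc, hc0⟩ := h.lne d
  -- `ρ = g' g` preserves `Φ i`
  have key : ∀ g' ∈ Φ i, ∀ φ ∈ Φ i, (g' * g) * φ ∈ Φ i := by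
    intro g' hg' φ hφ
    have hmul : ∀ χ ∈ Φ i, Kl lam χ d → (g' * g) * χ ∈ Φ i ∧ Kl lam ((g' * g) * χ) d := by
      intro χ hχ hχd
      rw [mul_assoc]
      exact h.swap hg' (h.swap hg hχ hχd).1 (h.swap hg hχ hχd).2
    have hkk : (1 + k) * (1 + k) = 1 := by
      have e1 : k * k = 0 := by
        ext m
        exact h.ker j k hk _ (h.val j k hk m)
      rw [add_mul, mul_add, mul_add, one_mul, mul_one, one_mul, e1, add_zero, add_assoc, h.two_end, add_zero]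
    -- the conjugate `χ₀ (1 + k)`, its value at `c`
    have h1 := h.conj_self hk hki hχ₀
    have hval : (χ₀ * (1 + k)) c = χ₀ (k c) := by
      show χ₀ (c + k c) = _
      rw [map_add, hχ₀d c hc, zero_add]
    have h2 : (χ₀ * (1 + k)) c ≠ 0 := by
      rw [hval]
      exact h.ne_zero hχ₀ hχ₀j (h.val j k hk c) (h.ne_zero hk hkd hc hc0)
    have h3 : (χ₀ * (1 + k)) c ∈ lam i := h.val i _ h1 c
    have h4 : g ((χ₀ * (1 + k)) c) ≠ 0 := h.ne_zero hg hgk h3 h2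
    have h5 : g ((χ₀ * (1 + k)) c) ∈ lam d := h.val d g hg _
    obtain ⟨g'', hg'', hg''c⟩ := h.surj i d _ h5 (h.moves hid h5 h4) (φ c) (h.val i φ hφ c)
    -- `φ = ρ'' χ₀ (1 + k) + φ₁`, `φ₁ ∈ Φ_i^d`
    have hmul'' : ∀ χ ∈ Φ i, Kl lam χ d → (g'' * g) * χ ∈ Φ i ∧ Kl lam ((g'' * g) * χ) d := by
      intro χ hχ hχd
      rw [mul_assoc]
      exact h.swap hg'' (h.swap hg hχ hχd).1 (h.swap hg hχ hχd).2
    have h6 : (g'' * g) * χ₀ * (1 + k) ∈ Φ i := h.conj_self hk hki (hmul'' χ₀ hχ₀ hχ₀d).1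
    have h7 : φ - (g'' * g) * χ₀ * (1 + k) ∈ Φ i := sub_mem hφ h6
    have h8 : Kl lam (φ - (g'' * g) * χ₀ * (1 + k)) d := by
      refine h.kl_of h7 hc hc0 ?_
      show φ c - g'' (g ((χ₀ * (1 + k)) c)) = 0
      rw [hg''c, sub_self]
    have h9 := (hmul _ h7 h8).1
    have h10 := (hmul'' χ₀ hχ₀ hχ₀d)
    have h11 : (g' * g) * ((g'' * g) * χ₀) * (1 + k) ∈ Φ i := h.conj_self hk hki (hmul _ h10.1 h10.2).1
    have e : (g' * g) * φ = (g' * g) * (φ - (g'' * g) * χ₀ * (1 + k)) + (g' * g) * ((g'' * g) * χ₀) * (1 + k) := by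
      rw [mul_sub, mul_assoc (g' * g) ((g'' * g) * χ₀) (1 + k), sub_add_cancel]
    rw [e]
    exact add_mem h9 h11
  have h1 : g a ≠ 0 := h.ne_zero hg hgk ha ha0
  have h2 : g a ∈ lam d := h.val d g hg a
  obtain ⟨g', hg', hg'a⟩ := h.surj i d _ h2 (h.moves hid h2 h1) a' ha'
  exact ⟨g' * g, key g' hg', hg'a⟩

/-! ### Transitivity -/

theorem sq_end {i : ι} {φ : AddMonoid.End M} (hφ : φ ∈ Φ i) : (1 + φ) * (1 + φ) = 1 := by
  have e1 : φ * φ = 0 := by
    ext m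
    exact h.ker i φ hφ _ (h.val i φ hφ m)
  rw [add_mul, mul_add, mul_add, one_mul, mul_one, one_mul, e1, add_zero, add_assoc, h.two_end, add_zero]

/-- `mv`, both directions -/
theorem mv' (i j : ι) {φ : AddMonoid.End M} (hφ : φ ∈ Φ i) : ∃ k, (∀ m ∈ lam j, m + φ m ∈ lam k) ∧
    (∀ ψ ∈ Φ j, (1 + φ) * ψ * (1 + φ) ∈ Φ k) ∧ ∀ ψ ∈ Φ k, (1 + φ) * ψ * (1 + φ) ∈ Φ j := by
  obtain ⟨k, h1, h2⟩ := h.mv i j φ hφ
  obtain ⟨k', h3, h4⟩ := h.mv i k φ hφ
  obtain ⟨b, hb, hb0⟩ := h.lne j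
  have h5 := h3 _ (h1 b hb)
  have e : b + φ b + φ (b + φ b) = b := by
    rw [map_add, h.ker i φ hφ _ (h.val i φ hφ b), add_zero, add_assoc, h.two, add_zero]
  rw [e] at h5
  rw [(h.same k' j b h5 hb hb0).2] at h4
  exact ⟨k, h1, h2, h4⟩

/-- `φ ∈ Φ b` killing `lam a` kills `lam c` -/
theorem kl_kl {a b c : ι} (hba : JJ lam Φ b a) (hac : ¬ JJ lam Φ a c) {φ : AddMonoid.End M} (hφ : φ ∈ Φ b)
    (hk : Kl lam φ a) : Kl lam φ c := by
  obtain ⟨g, hg, u, hu, hgu⟩ := hba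
  obtain ⟨φ', hφ', -, rfl⟩ := h.exists_swap hg (fun e => hgu (e u hu)) hφ hk
  intro v hv
  have h1 : φ' v = 0 := by
    by_contra h2
    exact hac ⟨φ', hφ', v, hv, h2⟩
  show g (φ' v) = 0
  rw [h1, map_zero]

theorem exists_E (hB : Big lam Φ) {y i j : ι} (hkl : ∀ φ ∈ Φ y, Kl lam φ i → Kl lam φ j) (hj : JJ lam Φ y j) {α : M}
    (hα : α ∈ lam i) : ∃ γ ∈ lam j, ∀ φ ∈ Φ y, φ (α + γ) = 0 := by
  by_cases hα0 : α = 0
  · refine ⟨0, zero_mem _, fun φ _ => ?_⟩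
    rw [hα0, add_zero, map_zero]
  obtain ⟨g, hg, u, hu, hgu⟩ := hj
  have hgj : ¬ Kl lam g j := fun e => hgu (e u hu)
  have hgi : ¬ Kl lam g i := fun e => hgj (hkl g hg e)
  obtain ⟨γ, hγ, hγe⟩ := h.exists_pre hg hgj (h.val y g hg α)
  refine ⟨γ, hγ, fun φ hφ => ?_⟩
  obtain ⟨ρ, hρ, hρe⟩ := h.field hB (h.val y g hg α) (h.ne_zero hg hgi hα hα0) (h.val y φ hφ α)
  have h1 : φ - ρ * g ∈ Φ y := sub_mem hφ (hρ g hg)
  have h2 : Kl lam (φ - ρ * g) i := by
    refine h.kl_of h1 hα hα0 ?_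
    show φ α - ρ (g α) = 0
    rw [hρe, sub_self]
  have h3 : φ γ - ρ (g γ) = 0 := hkl _ h1 h2 γ hγ
  rw [hγe, hρe, sub_eq_zero] at h3
  rw [map_add, h3]
  exact h.two _

/-- **LEMMA C** -/
theorem lemC (hB : Big lam Φ) {a b c x : ι} (hba : JJ lam Φ b a) (hbc : JJ lam Φ b c) (hac : ¬ JJ lam Φ a c)
    {θ : AddMonoid.End M} (hθ : θ ∈ Φ a) (hθb : Kl lam θ b) (hθx : ¬ Kl lam θ x) {α γ : M} (hα : α ∈ lam a)
    (hγ : γ ∈ lam c) (hE : ∀ φ ∈ Φ b, φ (α + γ) = 0) : JJ lam Φ x c ∧ ∀ φ ∈ Φ x, φ (α + γ) = 0 := by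
  have hca : ¬ JJ lam Φ c a := fun e => hac (h.symm e)
  obtain ⟨g, hg, u, hu, hgu⟩ := hba
  have hga : ¬ Kl lam g a := fun e => hgu (e u hu)
  have hba : JJ lam Φ b a := ⟨g, hg, u, hu, hgu⟩
  have hgc : ¬ Kl lam g c := fun e => hga (h.kl_kl hbc hca hg e)
  have hk := h.swap hg hθ hθb
  have hkx : ¬ Kl lam (g * θ) x := h.not_kl_mul hg hga hθ hθx
  have hkc : Kl lam (g * θ) c := h.kl_kl hba hac hk.1 hk.2
  have hxa : JJ lam Φ x a := h.symm (h.jj hθ hθx)
  have hxc : JJ lam Φ x c := by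
    obtain ⟨θ', hθ', -, hθe⟩ := h.exists_swap hg hgc hk.1 hkc
    refine h.symm (h.jj hθ' fun e => hkx fun v hv => ?_)
    rw [← hθe]
    show g (θ' v) = 0
    rw [e v hv, map_zero]
  refine ⟨hxc, ?_⟩
  -- `m ∈ Φ_x^a` moving `b`
  obtain ⟨χ, hχ, hχx, hχb⟩ := h.third_of (h.symm hba) hθ hθb hθx
  obtain ⟨gx, hgx, v, hv, hgxv⟩ := hxa
  have hgxa : ¬ Kl lam gx a := fun e => hgxv (e v hv)
  have hxa : JJ lam Φ x a := ⟨gx, hgx, v, hv, hgxv⟩
  have hm0 := h.swap hgx hχ hχx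
  have hm0b : ¬ Kl lam (gx * χ) b := h.not_kl_mul hgx hgxa hχ hχb
  obtain ⟨δ, hδ, hδ0⟩ := h.lne x
  have hβ : (g * θ) δ ∈ lam b := h.val b _ hk.1 δ
  have hβ0 : (g * θ) δ ≠ 0 := h.ne_zero hk.1 hkx hδ hδ0
  obtain ⟨ρ, hρ, hρe⟩ := h.field hB (h.val x _ hm0.1 _) (h.ne_zero hm0.1 hm0b hβ hβ0) hδ
  set k := g * θ with hkdef
  set m := ρ * (gx * χ) with hmdef
  have hmx : m ∈ Φ x := hρ _ hm0.1
  have hma : Kl lam m a := by
    intro w hw
    show ρ ((gx * χ) w) = 0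
    rw [hm0.2 w hw, map_zero]
  have hmc : Kl lam m c := h.kl_kl hxa hac hmx hma
  have hmβ : m (k δ) = δ := hρe
  obtain ⟨e1, h1, h2, -⟩ := h.mv' b x hk.1
  obtain ⟨e2, h3, -, h5⟩ := h.mv' x b hmx
  have h6 : δ + k δ ∈ lam e1 := h1 δ hδ
  have h7 : δ + k δ ∈ lam e2 := by
    have h8 := h3 _ hβ
    rwa [hmβ, add_comm] at h8
  have h8 : δ + k δ ≠ 0 := by
    intro e
    rw [h.add_eq_zero] at e
    have h9 := (h.same x b δ hδ (e ▸ hβ) hδ0).1
    apply hθx
    intro w hw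
    rw [h9] at hw
    exact hθb w hw
  have h9 := (h.same e1 e2 _ h6 h7 h8).2
  have hinj : ∀ {t : AddMonoid.End M} {i : ι}, t ∈ Φ i → ∀ {w : M}, (1 + t) w = 0 → w = 0 := by
    intro t i ht w hw
    have h10 : ((1 + t) * (1 + t)) w = 0 := by
      show (1 + t) ((1 + t) w) = 0
      rw [hw, map_zero]
    rw [h.sq_end ht] at h10
    exact h10
  have hfix : ∀ {t : AddMonoid.End M}, Kl lam t a → Kl lam t c → (1 + t) (α + γ) = α + γ := by
    intro t h10 h11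
    show (α + γ) + t (α + γ) = α + γ
    rw [map_add, h10 α hα, h11 γ hγ, add_zero, add_zero]
  intro ψ hψ
  have h10 := h2 ψ hψ
  rw [h9] at h10
  have h11 := h5 _ h10
  have h12 : ((1 + m) * ((1 + k) * ψ * (1 + k)) * (1 + m)) (α + γ) = 0 := hE _ h11
  have h13 : (1 + m) ((1 + k) (ψ ((1 + k) ((1 + m) (α + γ))))) = 0 := h12
  rw [hfix hma hmc, hfix hk.2 hkc] at h13
  exact hinj hk.1 (hinj hmx h13)

/-- **LEMMA D** -/
theorem lemD (hB : Big lam Φ) {a b c x : ι} (hba : JJ lam Φ b a) (hbc : JJ lam Φ b c) (hac : ¬ JJ lam Φ a c)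
    {α γ : M} (hα : α ∈ lam a) (hγ : γ ∈ lam c) (hE : ∀ φ ∈ Φ b, φ (α + γ) = 0) (hxa : JJ lam Φ x a) :
    JJ lam Φ x c ∧ ∀ φ ∈ Φ x, φ (α + γ) = 0 := by
  obtain ⟨d, ⟨θ, hθ, hθb, hθd⟩, -, -⟩ := h.exists_third hB (h.symm hba)
  obtain ⟨hdc, hEd⟩ := h.lemC hB hba hbc hac hθ hθb hθd hα hγ hE
  have hda : JJ lam Φ d a := h.symm (h.jj hθ hθd)
  by_cases h1 : ∃ θ ∈ Φ a, Kl lam θ b ∧ ¬ Kl lam θ x
  · obtain ⟨θ', h2, h3, h4⟩ := h1
    exact h.lemC hB hba hbc hac h2 h3 h4 hα hγ hE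
  by_cases h5 : ∃ θ ∈ Φ a, Kl lam θ d ∧ ¬ Kl lam θ x
  · obtain ⟨θ', h2, h3, h4⟩ := h5
    exact h.lemC hB hda hdc hac h2 h3 h4 hα hγ hEd
  exfalso
  push Not at h1 h5
  obtain ⟨ψ, hψ, v, hv, hψv⟩ := h.symm hxa
  obtain ⟨δ, hδ, hδ0⟩ := h.lne d
  obtain ⟨ρ, hρ, hρe⟩ := h.field hB (h.val a θ hθ δ) (h.ne_zero hθ hθd hδ hδ0) (h.val a ψ hψ δ)
  have h2 : Kl lam (ρ * θ) x := by
    refine h1 _ (hρ θ hθ) fun w hw => ?_
    show ρ (θ w) = 0
    rw [hθb w hw, map_zero]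
  have h3 : ψ - ρ * θ ∈ Φ a := sub_mem hψ (hρ θ hθ)
  have h4 : Kl lam (ψ - ρ * θ) x := by
    refine h5 _ h3 (h.kl_of h3 hδ hδ0 ?_)
    show ψ δ - ρ (θ δ) = 0
    rw [hρe, sub_self]
  apply hψv
  have h6 : ψ v - (ρ * θ) v = 0 := h4 v hv
  rw [h2 v hv, sub_zero] at h6
  exact h6

/-- **`JJ` is transitive** on different points -/
theorem trans (hB : Big lam Φ) (hD : Dist lam Φ) {a b c : ι} (hab : JJ lam Φ a b) (hbc : JJ lam Φ b c) (hne : lam a ≠ lam c) :
    JJ lam Φ a c := by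
  by_contra hac
  have hba := h.symm hab
  obtain ⟨α, hα, hα0⟩ := h.lne a
  obtain ⟨γ, hγ, hE⟩ := h.exists_E hB (fun φ hφ hk => h.kl_kl hba hac hφ hk) hbc hα
  have hE' : ∀ φ ∈ Φ b, φ (γ + α) = 0 := fun φ hφ => by rw [add_comm]; exact hE φ hφ
  have key : α + γ = 0 := by
    refine hD a c α hα γ hγ fun x φ hφ => ?_
    by_cases hxa : JJ lam Φ x a
    · exact (h.lemD hB hba hbc hac hα hγ hE hxa).2 φ hφ
    · have hxc : ¬ JJ lam Φ x c := fun e =>
        hxa (h.lemD hB hbc hba (fun e => hac (h.symm e)) hγ hα hE' e).1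
      have h1 : φ α = 0 := by
        by_contra h2
        exact hxa ⟨φ, hφ, α, hα, h2⟩
      have h3 : φ γ = 0 := by
        by_contra h2
        exact hxc ⟨φ, hφ, γ, hγ, h2⟩
      rw [map_add, h1, h3, add_zero]
  rw [h.add_eq_zero] at key
  exact hne (h.same a c α hα (key ▸ hγ) hα0).1

/-- **the dichotomy** for the values of `Φ y` -/
theorem dich (hB : Big lam Φ) {y i j : ι} (hj : JJ lam Φ y j) :
    (∀ φ ∈ Φ y, ∃ φ' ∈ Φ y, (∀ b ∈ lam j, φ' b = φ b) ∧ Kl lam φ' i) ∨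
      ∀ α ∈ lam i, ∃ γ ∈ lam j, ∀ φ ∈ Φ y, φ (α + γ) = 0 := by
  by_cases h1 : ∃ φ ∈ Φ y, Kl lam φ i ∧ ¬ Kl lam φ j
  · left
    obtain ⟨φ₀, hφ₀, h2, h3⟩ := h1
    intro φ hφ
    obtain ⟨β, hβ, hβ0⟩ := h.lne j
    obtain ⟨ρ, hρ, hρe⟩ := h.field hB (h.val y _ hφ₀ β) (h.ne_zero hφ₀ h3 hβ hβ0) (h.val y φ hφ β)
    have h4 : φ - ρ * φ₀ ∈ Φ y := sub_mem hφ (hρ _ hφ₀)
    have h5 : Kl lam (φ - ρ * φ₀) j := by
      refine h.kl_of h4 hβ hβ0 ?_
      show φ β - ρ (φ₀ β) = 0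
      rw [hρe, sub_self]
    refine ⟨ρ * φ₀, hρ _ hφ₀, fun b hb => ?_, fun b hb => ?_⟩
    · have h6 : φ b - (ρ * φ₀) b = 0 := h5 b hb
      exact (sub_eq_zero.1 h6).symm
    · show ρ (φ₀ b) = 0
      rw [h2 b hb, map_zero]
  · right
    push Not at h1
    exact fun α hα => h.exists_E hB h1 hj hα

end McL

end Cfsg.Agent.Omega.NO3S.MidQ

end

-- merged: Cfsg.Agent.Mrg.Omega.NO3S.MidB.Mod
section

section


/-!
# TYPE N, K-free: `W_R / R` is an instance of `McL`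

* `exists_md` : the module `M = W_R / R`;
* `lamR π A = π (A)`, `PhiR V Z R π A` : the endomorphisms `π w ↦ π [g, w]`, `g ∈ U_A`;
* `TF.jval` : (0) **`JVal V Z`**;
* `TF.mcl` : **the instance of `McL`**.
-/

set_option autoImplicit false
set_option linter.unusedSectionVars false

namespace Cfsg.Agent.Omega.NO3S.MidB

open Subgroup Cfsg.Agent.Omega.NO3S.PT Cfsg.Agent.Omega.NoFF.Basic Cfsg.Agent.ZN
open Cfsg.Agent.Omega.NO3S.MidQ (Adj Com Cr UU ws_of kx_of isCj_iff adj_iff com_iff cr_iff UU_of isCj_symm isCj_trans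
  com_cj UU_cj le_UU normalizer_le_UU isPGroup_sSup FlagCan PtCan ff mem_ff ff_cj TypN cw mem_cw cw_le cw_cj Jo jo_cj zu
  McL JJ Kl Dist surj_of_inj comm_inj)
open scoped Pointwise

universe u

variable {G : Type u} [Group G] {V Z X Y R L A A' B B' C : Subgroup G}

/-! ### The module -/

theorem exists_md [Finite G] {S : Sylow 2 G} {P : Subgroup G} (h : Mid S P V Z) (hR : IsCj Z R) :
    ∃ (M : Type u) (_ : AddCommGroup M) (π : G → M), Md V R π := by
  classical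
  let _ : CommGroup (ws V R) :=
    { (inferInstance : Group (ws V R)) with mul_comm := fun a b => Subtype.ext (h.ws_comm hR a.2 b.2) }
  let R' : Subgroup (ws V R) := R.subgroupOf (ws V R)
  let π : G → Additive (ws V R ⧸ R') := fun w => if hw : w ∈ ws V R then
    Additive.ofMul (QuotientGroup.mk ⟨w, hw⟩) else 0
  have hπ : ∀ w (hw : w ∈ ws V R), π w = Additive.ofMul (QuotientGroup.mk ⟨w, hw⟩) := fun w hw => dif_pos hw
  refine ⟨Additive (ws V R ⧸ R'), inferInstance, π, ?_, ?_, ?_, ?_⟩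
  · exact (inferInstance : Finite (ws V R ⧸ R'))
  · intro a ha b hb
    rw [hπ a ha, hπ b hb, hπ _ (mul_mem ha hb)]
    rfl
  · intro a ha
    rw [hπ a ha]
    constructor
    · intro e
      have e1 : (QuotientGroup.mk ⟨a, ha⟩ : ws V R ⧸ R') = 1 := e
      rw [QuotientGroup.eq_one_iff] at e1
      exact mem_subgroupOf.1 e1
    · intro e
      have e1 : (QuotientGroup.mk ⟨a, ha⟩ : ws V R ⧸ R') = 1 := by
        rw [QuotientGroup.eq_one_iff]
        exact mem_subgroupOf.2 e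
      exact e1
  · intro m
    obtain ⟨⟨w, hw⟩, e⟩ := QuotientGroup.mk_surjective (Additive.toMul m)
    exact ⟨w, hw, by rw [hπ w hw, e]; rfl⟩

section

variable {M : Type*} [AddCommGroup M] {π : G → M}

namespace Md

variable (hM : Md V R π)
include hM

theorem map_one : π 1 = 0 := (hM.ker 1 (one_mem _)).2 (one_mem _)

theorem map_inv {a : G} (ha : a ∈ ws V R) : π a⁻¹ = - π a := by
  have h1 := hM.mul a ha a⁻¹ (inv_mem ha)
  rw [mul_inv_cancel, hM.map_one] at h1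
  exact (neg_eq_of_add_eq_zero_right h1.symm).symm

theorem mem_of {a b : G} (ha : a ∈ ws V R) (hb : b ∈ ws V R) (e : π a = π b) : a * b⁻¹ ∈ R := by
  rw [← hM.ker _ (mul_mem ha (inv_mem hb)), hM.mul a ha _ (inv_mem hb), hM.map_inv hb, e, add_neg_cancel]

theorem eq_of {a b : G} (ha : a ∈ ws V R) (hb : b ∈ ws V R) (e : a * b⁻¹ ∈ R) : π a = π b := by
  rw [← hM.ker _ (mul_mem ha (inv_mem hb)), hM.mul a ha _ (inv_mem hb), hM.map_inv hb, add_neg_eq_zero] at e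
  exact e

theorem exists_lift (f : G → G) (hf : ∀ w ∈ ws V R, f w ∈ ws V R)
    (hmul : ∀ a ∈ ws V R, ∀ b ∈ ws V R, f (a * b) = f a * f b) (hfR : ∀ a ∈ ws V R, a ∈ R → f a ∈ R) :
    ∃ φ : AddMonoid.End M, ∀ w ∈ ws V R, φ (π w) = π (f w) := by
  choose s hs hsm using hM.surj
  have key : ∀ w ∈ ws V R, π (f (s (π w))) = π (f w) := by
    intro w hw
    have h1 := hM.mem_of (hs (π w)) hw (hsm (π w))
    have hr : s (π w) * w⁻¹ ∈ ws V R := mul_mem (hs _) (inv_mem hw)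
    have e : s (π w) = s (π w) * w⁻¹ * w := by group
    rw [e, hmul _ hr _ hw, hM.mul _ (hf _ hr) _ (hf _ hw), (hM.ker _ (hf _ hr)).2 (hfR _ hr h1), zero_add]
  refine ⟨{ toFun := fun m => π (f (s m)), map_zero' := ?_, map_add' := ?_ }, fun w hw => key w hw⟩
  · have h1 := key 1 (one_mem _)
    rw [hM.map_one] at h1
    rw [h1, hM.ker _ (hf _ (one_mem _))]
    exact hfR 1 (one_mem _) (one_mem _)
  · intro m n
    have h1 := key (s m * s n) (mul_mem (hs m) (hs n))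
    rw [hM.mul _ (hs m) _ (hs n), hsm, hsm, hmul _ (hs m) _ (hs n), hM.mul _ (hf _ (hs m)) _ (hf _ (hs n))] at h1
    exact h1

theorem end_ext {φ ψ : AddMonoid.End M} (e : ∀ w ∈ ws V R, φ (π w) = ψ (π w)) : φ = ψ := by
  ext m
  obtain ⟨w, hw, rfl⟩ := hM.surj m
  exact e w hw

end Md

/-- `π (A)` -/
def lamR (π : G → M) (A : Subgroup G) : AddSubgroup M := AddSubgroup.closure (π '' (A : Set G))

/-- the endomorphisms induced by `g - 1`, `g ∈ U_A` -/
def PhiR (V Z R : Subgroup G) (π : G → M) (A : Subgroup G) : AddSubgroup (AddMonoid.End M) :=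
  AddSubgroup.closure {φ | ∃ g ∈ UU V Z A, ∀ w ∈ ws V R, φ (π w) = π (g * w * g⁻¹ * w⁻¹)}

theorem mem_lamR (hM : Md V R π) (hA : A ≤ ws V R) {m : M} : m ∈ lamR π A ↔ ∃ a ∈ A, π a = m := by
  constructor
  · intro hm
    let K : AddSubgroup M :=
      { carrier := {m | ∃ a ∈ A, π a = m}
        zero_mem' := ⟨1, one_mem _, hM.map_one⟩
        add_mem' := by
          rintro _ _ ⟨a, ha, rfl⟩ ⟨b, hb, rfl⟩
          exact ⟨a * b, mul_mem ha hb, hM.mul a (hA ha) b (hA hb)⟩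
        neg_mem' := by
          rintro _ ⟨a, ha, rfl⟩
          exact ⟨a⁻¹, inv_mem ha, hM.map_inv (hA ha)⟩ }
    have h1 : lamR π A ≤ K := by
      rw [lamR, AddSubgroup.closure_le]
      rintro _ ⟨a, ha, rfl⟩
      exact ⟨a, ha, rfl⟩
    exact h1 hm
  · rintro ⟨a, ha, rfl⟩
    exact AddSubgroup.subset_closure ⟨a, ha, rfl⟩

end

/-! ### (0) -/

namespace TF

variable [Finite G] {S : Sylow 2 G} {P : Subgroup G} (h : TF S P V Z)
include h

/-- **(0')** `[W_C, β] = A` elementwise, if `C ~ A ~ R`, `β ∈ B ~ R`, and `W_C` moves `B` -/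
theorem exists_val' (hA : Adj V Z A R) (hB : Adj V Z B R) (hC : Adj V Z C A)
    (hmv : ¬ B ≤ centralizer ((ws V C : Subgroup G) : Set G)) {β α : G} (hβ : β ∈ B) (hβ1 : β ≠ 1) (hα : α ∈ A) :
    ∃ g ∈ ws V C, g * β * g⁻¹ * β⁻¹ = α := by
  have hβR : β ∈ ws V R := h.adj_le_ws hB.symm hβ
  -- `β` centralises `C`
  have hβC : ∀ c ∈ C, β * c = c * β := fun c hc =>
    (mem_centralizer_iff.1 (h.ws_le_cent hA.symm hC.symm hβR) c hc).symm
  have hβ2 : TwoEl β := h.twoEl_ws hA.right hβR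
  -- a point `F ~ C` is moved by `β`
  obtain ⟨F, hF, φ₀, hφ₀, hne⟩ : ∃ F, Adj V Z F C ∧ ∃ φ ∈ F, β * φ ≠ φ * β := by
    by_contra hcon
    push Not at hcon
    have h1 : ws V C ≤ centralizer ({β} : Set G) := h.ws_le_of hC.left
      (fun c hc => mem_centralizer_singleton_iff.2 (hβC c hc).symm)
      (fun F hF φ hφ => mem_centralizer_singleton_iff.2 (hcon F hF φ hφ).symm)
    refine hmv fun b hb => mem_centralizer_iff.2 fun w hw => ?_
    refine h.t3 hB.symm (h.twoEl_ws hC.left hw) (fun y hy => ?_) hβ hβ1 (mem_centralizer_singleton_iff.1 (h1 hw)) b hb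
    exact (mem_centralizer_iff.1 (h.ws_le_cent hC hA hw) y hy).symm
  have hFC : F ≤ ws V C := h.adj_le_ws hF.symm
  have hinj : ∀ φ ∈ F, φ * β = β * φ → φ = 1 := by
    intro φ hφ e
    by_contra hφ1
    exact hne (h.t3 hF.symm hβ2 hβC hφ hφ1 e.symm φ₀ hφ₀)
  obtain ⟨g, hg, e⟩ := surj_of_inj (A := F) (B := A) (by rw [h.card_pt hF.left, h.card_pt hA.left])
    (fun φ => φ * β * φ⁻¹ * β⁻¹) (fun φ hφ => h.mid_mem h.comm hC hA (hFC hφ) hβR) (fun φ hφ φ' hφ' e =>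
      inv_mul_eq_one.1 (hinj _ (mul_mem (inv_mem hφ) hφ') (comm_inj e))) α hα
  exact ⟨g, hFC hg, e⟩

/-- some `W_C`, `C ~ A`, moves `B` -/
theorem exists_of_jo (hj : Jo V Z R A B) : ∃ C, Adj V Z C A ∧ ¬ B ≤ centralizer ((ws V C : Subgroup G) : Set G) := by
  by_contra hcon
  push Not at hcon
  refine hj.mv (comm_symm (sSup_le ?_))
  rintro _ ⟨C, hC, rfl⟩
  exact comm_symm (hcon C hC)

/-- **(0)** -/
theorem jval : JVal V Z := by
  intro R A B hj β hβ hβ1 α hα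
  obtain ⟨C, hC, hmv⟩ := h.exists_of_jo hj
  obtain ⟨g, hg, e⟩ := h.exists_val' hj.l hj.r hC hmv hβ hβ1 hα
  exact ⟨g, le_UU hC hg, e⟩

end TF

end Cfsg.Agent.Omega.NO3S.MidB

end

section


/-!
# TYPE N, K-free: the instance of `McL` on `W_R / R`

* `TF.mcl` : **the instance**;
* `TF.jj_iff`, `TF.kl_iff` : translation.
-/

set_option autoImplicit false
set_option linter.unusedSectionVars false

namespace Cfsg.Agent.Omega.NO3S.MidB

open Subgroup Cfsg.Agent.Omega.NO3S.PT Cfsg.Agent.Omega.NoFF.Basic Cfsg.Agent.ZN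
open Cfsg.Agent.Omega.NO3S.MidQ (Adj Com Cr UU ws_of kx_of isCj_iff adj_iff com_iff cr_iff UU_of isCj_symm isCj_trans
  com_cj UU_cj le_UU normalizer_le_UU isPGroup_sSup FlagCan PtCan ff mem_ff ff_cj TypN cw mem_cw cw_le cw_cj Jo jo_cj zu
  McL JJ Kl Dist surj_of_inj comm_inj)
open scoped Pointwise

universe u

variable {G : Type u} [Group G] {V Z X Y R L A A' B B' C : Subgroup G}
variable {M : Type*} [AddCommGroup M] {π : G → M}

namespace TF

variable [Finite G] {S : Sylow 2 G} {P : Subgroup G} (h : TF S P V Z)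
include h

/-! ### `U_A` on `W_R` -/

theorem u_R (hA : Adj V Z A R) {g : G} (hg : g ∈ UU V Z A) {r : G} (hr : r ∈ R) : g * r = r * g :=
  (mem_centralizer_iff.1 (h.UU_le_cent_adj hA.symm hg) r hr).symm

theorem u_A (hA : Adj V Z A R) {g : G} (hg : g ∈ UU V Z A) {a : G} (ha : a ∈ A) : g * a = a * g :=
  (mem_centralizer_iff.1 (h.UU_le_cent_pt hA.left hg) a ha).symm

theorem u_ws (hA : Adj V Z A R) {g : G} (hg : g ∈ UU V Z A) {w : G} (hw : w ∈ ws V R) : g * w * g⁻¹ ∈ ws V R :=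
  (mem_normalizer_iff.1 (h.UU_norm hA.symm hg) w).1 hw

theorem adj_ws (hA : Adj V Z A R) : A ≤ ws V R := h.adj_le_ws hA.symm

theorem c_ws (hA : Adj V Z A R) {g : G} (hg : g ∈ UU V Z A) {w : G} (hw : w ∈ ws V R) :
    g * w * g⁻¹ * w⁻¹ ∈ ws V R := h.adj_ws hA (h.comm_adj hA hg hw)

theorem c_mul (hA : Adj V Z A R) {g : G} (hg : g ∈ UU V Z A) {w w' : G} (hw : w ∈ ws V R) (hw' : w' ∈ ws V R) :
    g * (w * w') * g⁻¹ * (w * w')⁻¹ = g * w * g⁻¹ * w⁻¹ * (g * w' * g⁻¹ * w'⁻¹) := by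
  have h1 := h.ws_comm hA.right hw (h.c_ws hA hg hw')
  calc g * (w * w') * g⁻¹ * (w * w')⁻¹ = g * w * g⁻¹ * w⁻¹ * (w * (g * w' * g⁻¹ * w'⁻¹)) * w⁻¹ := by group
    _ = g * w * g⁻¹ * w⁻¹ * (g * w' * g⁻¹ * w'⁻¹) := by rw [h1]; group

theorem c_mul' (hA : Adj V Z A R) {g g' : G} (hg : g ∈ UU V Z A) (hg' : g' ∈ UU V Z A) {w : G} (hw : w ∈ ws V R) :
    g * g' * w * (g * g')⁻¹ * w⁻¹ = g * w * g⁻¹ * w⁻¹ * (g' * w * g'⁻¹ * w⁻¹) := by
  have h1 := h.u_A hA hg (h.comm_adj hA hg' hw)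
  have h2 := h.ws_comm hA.right (h.c_ws hA hg hw) (h.c_ws hA hg' hw)
  calc g * g' * w * (g * g')⁻¹ * w⁻¹ = g * (g' * w * g'⁻¹ * w⁻¹) * (w * g⁻¹ * w⁻¹) := by group
    _ = g' * w * g'⁻¹ * w⁻¹ * (g * w * g⁻¹ * w⁻¹) := by rw [h1]; group
    _ = _ := h2.symm

theorem c_inv (hA : Adj V Z A R) {g : G} (hg : g ∈ UU V Z A) {w : G} (hw : w ∈ ws V R) :
    g⁻¹ * w * g⁻¹⁻¹ * w⁻¹ = (g * w * g⁻¹ * w⁻¹)⁻¹ := by
  have h1 := h.u_A hA (inv_mem hg) (inv_mem (h.comm_adj hA hg hw))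
  calc g⁻¹ * w * g⁻¹⁻¹ * w⁻¹ = g⁻¹ * (g * w * g⁻¹ * w⁻¹)⁻¹ * g := by group
    _ = _ := by rw [h1]; group

theorem inf_R (hA : Adj V Z A R) {a : G} (ha : a ∈ A) (hR : a ∈ R) : a = 1 := h.pt_inf hA.left hA.right hA.ne ha hR

theorem not_comm_iff (hA : Adj V Z A R) {g w : G} (hg : g ∈ UU V Z A) (hw : w ∈ ws V R) :
    g * w * g⁻¹ * w⁻¹ ∈ R ↔ g * w = w * g := by
  constructor
  · intro e
    exact Mid.comm_eq (h.inf_R hA (h.comm_adj hA hg hw) e)
  · intro e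
    rw [Mid.comm_one e]
    exact one_mem _

/-! ### Translation -/

variable (hM : Md V R π)
include hM

theorem exists_phi (hA : Adj V Z A R) {g : G} (hg : g ∈ UU V Z A) :
    ∃ φ ∈ PhiR V Z R π A, ∀ w ∈ ws V R, φ (π w) = π (g * w * g⁻¹ * w⁻¹) := by
  obtain ⟨φ, hφ⟩ := hM.exists_lift (fun w => g * w * g⁻¹ * w⁻¹) (fun w hw => h.c_ws hA hg hw)
    (fun a ha b hb => h.c_mul hA hg ha hb) (fun r _ hr => by
      show g * r * g⁻¹ * r⁻¹ ∈ R
      rw [h.u_R hA hg hr, mul_inv_cancel_right, mul_inv_cancel]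
      exact one_mem _)
  exact ⟨φ, AddSubgroup.subset_closure ⟨g, hg, hφ⟩, hφ⟩

theorem mem_phi (hA : Adj V Z A R) {φ : AddMonoid.End M} :
    φ ∈ PhiR V Z R π A ↔ ∃ g ∈ UU V Z A, ∀ w ∈ ws V R, φ (π w) = π (g * w * g⁻¹ * w⁻¹) := by
  constructor
  · intro hφ
    let K : AddSubgroup (AddMonoid.End M) :=
      { carrier := {φ | ∃ g ∈ UU V Z A, ∀ w ∈ ws V R, φ (π w) = π (g * w * g⁻¹ * w⁻¹)}
        zero_mem' := ⟨1, one_mem _, fun w _ => by
          have e : (1 : G) * w * 1⁻¹ * w⁻¹ = 1 := by group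
          rw [e, hM.map_one]
          rfl⟩
        add_mem' := by
          rintro φ ψ ⟨g, hg, e⟩ ⟨g', hg', e'⟩
          refine ⟨g * g', mul_mem hg hg', fun w hw => ?_⟩
          rw [h.c_mul' hA hg hg' hw, hM.mul _ (h.c_ws hA hg hw) _ (h.c_ws hA hg' hw), ← e w hw, ← e' w hw]
          rfl
        neg_mem' := by
          rintro φ ⟨g, hg, e⟩
          refine ⟨g⁻¹, inv_mem hg, fun w hw => ?_⟩
          rw [h.c_inv hA hg hw, hM.map_inv (h.c_ws hA hg hw), ← e w hw]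
          rfl }
    have h1 : PhiR V Z R π A ≤ K := by
      rw [PhiR, AddSubgroup.closure_le]
      intro φ hφ
      exact hφ
    exact h1 hφ
  · intro hφ
    exact AddSubgroup.subset_closure hφ

theorem mem_lam (hA : Adj V Z A R) {m : M} : m ∈ lamR π A ↔ ∃ a ∈ A, π a = m := mem_lamR hM (h.adj_ws hA)

theorem pi_mem (hA : Adj V Z A R) {a : G} (ha : a ∈ A) : π a ∈ lamR π A := (h.mem_lam hM hA).2 ⟨a, ha, rfl⟩

theorem pi_ne (hA : Adj V Z A R) {a : G} (ha : a ∈ A) (ha1 : a ≠ 1) : π a ≠ 0 := fun e =>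
  ha1 (h.inf_R hA ha ((hM.ker a (h.adj_ws hA ha)).1 e))

theorem pi_inj (hA : Adj V Z A R) {a a' : G} (ha : a ∈ A) (ha' : a' ∈ A) (e : π a = π a') : a = a' := by
  have h1 := hM.mem_of (h.adj_ws hA ha) (h.adj_ws hA ha') e
  exact mul_inv_eq_one.1 (h.inf_R hA (mul_mem ha (inv_mem ha')) h1)

/-- `φ (π w) = 0` iff `g` commutes with `w` -/
theorem phi_zero_iff (hA : Adj V Z A R) {g : G} (hg : g ∈ UU V Z A) {φ : AddMonoid.End M}
    (hφ : ∀ w ∈ ws V R, φ (π w) = π (g * w * g⁻¹ * w⁻¹)) {w : G} (hw : w ∈ ws V R) :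
    φ (π w) = 0 ↔ g * w = w * g := by
  rw [hφ w hw, hM.ker _ (h.c_ws hA hg hw), h.not_comm_iff hA hg hw]

theorem kl_iff (hA : Adj V Z A R) (hB : Adj V Z B R) {g : G} (hg : g ∈ UU V Z A) {φ : AddMonoid.End M}
    (hφ : ∀ w ∈ ws V R, φ (π w) = π (g * w * g⁻¹ * w⁻¹)) :
    (∀ b ∈ lamR π B, φ b = 0) ↔ ∀ b ∈ B, g * b = b * g := by
  constructor
  · intro e b hb
    exact (h.phi_zero_iff hM hA hg hφ (h.adj_ws hB hb)).1 (e _ (h.pi_mem hM hB hb))
  · intro e m hm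
    obtain ⟨b, hb, rfl⟩ := (h.mem_lam hM hB).1 hm
    exact (h.phi_zero_iff hM hA hg hφ (h.adj_ws hB hb)).2 (e b hb)

theorem card_lam (hA : Adj V Z A R) : Nat.card (lamR π A) = Nat.card Z := by
  rw [← h.card_pt hA.left]
  let f : A → lamR π A := fun a => ⟨π a, h.pi_mem hM hA a.2⟩
  refine (Nat.card_congr (Equiv.ofBijective f ⟨fun a b e => ?_, ?_⟩)).symm
  · exact Subtype.ext (h.pi_inj hM hA a.2 b.2 (congrArg Subtype.val e))
  · rintro ⟨m, hm⟩
    obtain ⟨a, ha, rfl⟩ := (h.mem_lam hM hA).1 hm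
    exact ⟨⟨a, ha⟩, rfl⟩

/-! ### Conjugation -/

theorem card_phi_le (hA : Adj V Z A R) (hB : Adj V Z B R) :
    Nat.card (PhiR V Z R π A) ≤ Nat.card (PhiR V Z R π B) := by
  have hfin := hM.fin
  have : Finite (AddMonoid.End M) := DFunLike.finite _
  obtain ⟨n, hnR, hnA⟩ := h.exists_adj hA hB
  have hnR' : PT.cj n⁻¹ R = R := by
    nth_rewrite 1 [← hnR]
    rw [cj_cj, inv_mul_cancel, cj_one]
  have hW : ∀ n : G, PT.cj n R = R → ∀ w ∈ ws V R, n * w * n⁻¹ ∈ ws V R := by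
    intro n hn w hw
    have h1 : n * w * n⁻¹ ∈ PT.cj n (ws V R) := conj_mem_cj hw
    rwa [← ws_cj, hn] at h1
  have hRR : ∀ n : G, PT.cj n R = R → ∀ w ∈ R, n * w * n⁻¹ ∈ R := by
    intro n hn w hw
    have h1 : n * w * n⁻¹ ∈ PT.cj n R := conj_mem_cj hw
    rwa [hn] at h1
  have hl : ∀ n : G, PT.cj n R = R → ∃ ν : AddMonoid.End M, ∀ w ∈ ws V R, ν (π w) = π (n * w * n⁻¹) := fun n hn =>
    hM.exists_lift (fun w => n * w * n⁻¹) (hW n hn) (fun a _ b _ => by group) (fun a _ ha => hRR n hn a ha)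
  obtain ⟨ν, hν⟩ := hl n hnR
  obtain ⟨ν', hν'⟩ := hl n⁻¹ hnR'
  have e1 : ν' * ν = 1 := by
    refine hM.end_ext fun w hw => ?_
    show ν' (ν (π w)) = π w
    rw [hν w hw, hν' _ (hW n hnR w hw)]
    congr 1
    group
  have key : ∀ φ ∈ PhiR V Z R π A, ν * φ * ν' ∈ PhiR V Z R π B := by
    intro φ hφ
    obtain ⟨g, hg, e⟩ := (h.mem_phi hM hA).1 hφ
    refine (h.mem_phi hM hB).2 ⟨n * g * n⁻¹, ?_, fun w hw => ?_⟩
    · rw [← hnA, UU_cj]
      exact conj_mem_cj hg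
    · show ν (φ (ν' (π w))) = _
      have hw' := hW _ hnR' w hw
      rw [hν' w hw, e _ hw', hν _ (h.c_ws hA hg hw')]
      congr 1
      group
  let f : PhiR V Z R π A → PhiR V Z R π B := fun φ => ⟨ν * φ.1 * ν', key φ.1 φ.2⟩
  have e2 : ν * ν' = 1 := by
    refine hM.end_ext fun w hw => ?_
    show ν (ν' (π w)) = π w
    rw [hν' w hw, hν _ (hW _ hnR' w hw)]
    congr 1
    group
  refine Nat.card_le_card_of_injective f fun φ ψ e => ?_
  have h1 : ν * φ.1 * ν' = ν * ψ.1 * ν' := congrArg Subtype.val e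
  have h2 : ν' * (ν * φ.1 * ν') * ν = ν' * (ν * ψ.1 * ν') * ν := by rw [h1]
  have e3 : ∀ φ : AddMonoid.End M, ν' * (ν * φ * ν') * ν = φ := by
    intro φ
    calc ν' * (ν * φ * ν') * ν = ν' * ν * φ * (ν' * ν) := by simp only [mul_assoc]
      _ = φ := by rw [e1, one_mul, mul_one]
  rw [e3, e3] at h2
  exact Subtype.ext h2

/-- points on one line through `R` -/
theorem same_line (hA : Adj V Z A R) (hB : Adj V Z B R) (hL : IsCj V L) (hRL : R ≤ L) (hAL : A ≤ L) (hBL : B ≤ L) :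
    lamR π A ≤ lamR π B ∧ PhiR V Z R π A ≤ PhiR V Z R π B := by
  obtain ⟨k, hk, rfl⟩ := h.K_trans hA.right hL hRL hA.left hAL hB.left hBL hA.ne hB.ne
  have hkW : ∀ w ∈ ws V R, k * w * k⁻¹ * w⁻¹ ∈ R := (mem_kx.1 hk).2
  have hk' := inv_mem hk
  have hkW' : ∀ w ∈ ws V R, k⁻¹ * w * k⁻¹⁻¹ * w⁻¹ ∈ R := (mem_kx.1 hk').2
  have hRW := h.pt_le_ws hA.right
  have hkw : ∀ w ∈ ws V R, k * w * k⁻¹ ∈ ws V R := fun w hw => by
    have e : k * w * k⁻¹ = k * w * k⁻¹ * w⁻¹ * w := by group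
    rw [e]
    exact mul_mem (hRW (hkW w hw)) hw
  have hkw' : ∀ w ∈ ws V R, k⁻¹ * w * k⁻¹⁻¹ ∈ ws V R := fun w hw => by
    have e : k⁻¹ * w * k⁻¹⁻¹ = k⁻¹ * w * k⁻¹⁻¹ * w⁻¹ * w := by group
    rw [e]
    exact mul_mem (hRW (hkW' w hw)) hw
  constructor
  · intro m hm
    obtain ⟨a, ha, rfl⟩ := (h.mem_lam hM hA).1 hm
    refine (h.mem_lam hM hB).2 ⟨k * a * k⁻¹, conj_mem_cj ha, ?_⟩
    exact hM.eq_of (hkw a (h.adj_ws hA ha)) (h.adj_ws hA ha) (hkW a (h.adj_ws hA ha))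
  · intro φ hφ
    obtain ⟨g, hg, e⟩ := (h.mem_phi hM hA).1 hφ
    refine (h.mem_phi hM hB).2 ⟨k * g * k⁻¹, ?_, fun w hw => ?_⟩
    · rw [UU_cj]
      exact conj_mem_cj hg
    · have h1 := hkw' w hw
      have h2 : π w = π (k⁻¹ * w * k⁻¹⁻¹) := (hM.eq_of h1 hw (hkW' w hw)).symm
      rw [h2, e _ h1]
      have h3 := h.c_ws hA hg h1
      have h4 : k * (g * (k⁻¹ * w * k⁻¹⁻¹) * g⁻¹ * (k⁻¹ * w * k⁻¹⁻¹)⁻¹) * k⁻¹ =
          k * g * k⁻¹ * w * (k * g * k⁻¹)⁻¹ * w⁻¹ := by group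
      rw [← h4]
      exact (hM.eq_of (hkw _ h3) h3 (hkW _ h3)).symm

/-- **the instance of `McL`** -/
theorem mcl (hR : IsCj Z R) : McL (fun i : {A // Adj V Z A R} => lamR π i.1) (fun i => PhiR V Z R π i.1) where
  fin := hM.fin
  two m := by
    obtain ⟨w, hw, rfl⟩ := hM.surj m
    rw [← hM.mul w hw w hw, h.ws_sq hR hw, hM.map_one]
  val i φ hφ m := by
    obtain ⟨g, hg, e⟩ := (h.mem_phi hM i.2).1 hφ
    obtain ⟨w, hw, rfl⟩ := hM.surj m
    rw [e w hw]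
    exact h.pi_mem hM i.2 (h.comm_adj i.2 hg hw)
  ker i φ hφ a ha := by
    obtain ⟨g, hg, e⟩ := (h.mem_phi hM i.2).1 hφ
    exact (h.kl_iff hM i.2 i.2 hg e).2 (fun a ha => h.u_A i.2 hg ha) a ha
  ti i j φ hφ b hb hb0 hφb := by
    obtain ⟨g, hg, e⟩ := (h.mem_phi hM i.2).1 hφ
    refine (h.kl_iff hM i.2 j.2 hg e).2 ?_
    obtain ⟨β, hβ, rfl⟩ := (h.mem_lam hM j.2).1 hb
    have hβ1 : β ≠ 1 := fun e => hb0 (by rw [e, hM.map_one])
    have h1 := (h.phi_zero_iff hM i.2 hg e (h.adj_ws j.2 hβ)).1 hφb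
    exact h.t3 j.2.symm (h.twoEl_UU hg) (fun r hr => h.u_R i.2 hg hr) hβ hβ1 h1
  card i j := by rw [h.card_lam hM i.2, h.card_lam hM j.2]
  surj i j b hb := by
    rintro ⟨φ, hφ, hφb⟩ a ha
    obtain ⟨g, hg, e⟩ := (h.mem_phi hM i.2).1 hφ
    obtain ⟨β, hβ, rfl⟩ := (h.mem_lam hM j.2).1 hb
    obtain ⟨α, hα, rfl⟩ := (h.mem_lam hM i.2).1 ha
    have h1 : g * β ≠ β * g := fun e1 => hφb ((h.phi_zero_iff hM i.2 hg e (h.adj_ws j.2 hβ)).2 e1)
    have hβ1 : β ≠ 1 := fun e1 => h1 (by rw [e1, mul_one, one_mul])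
    have hj : Jo V Z R i.1 j.1 := ⟨i.2, j.2, fun e1 => h1 (mem_centralizer_iff.1 (e1 hβ) g hg)⟩
    obtain ⟨g', hg', e'⟩ := h.jval R i.1 j.1 hj β hβ hβ1 α hα
    obtain ⟨ψ, hψ, e2⟩ := h.exists_phi hM i.2 hg'
    exact ⟨ψ, hψ, by rw [e2 β (h.adj_ws j.2 hβ), e']⟩
  cardΦ i j := le_antisymm (h.card_phi_le hM i.2 j.2) (h.card_phi_le hM j.2 i.2)
  mv i j φ hφ := by
    obtain ⟨g, hg, e⟩ := (h.mem_phi hM i.2).1 hφ
    have hk : Adj V Z (PT.cj g j.1) R := h.adj_cj_UU i.2 j.2 hg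
    have hg' := inv_mem hg
    -- the action of `1 + φ`
    have e1 : ∀ w ∈ ws V R, (1 + φ) (π w) = π (g * w * g⁻¹) := by
      intro w hw
      show π w + φ (π w) = _
      rw [e w hw, ← hM.mul w hw _ (h.c_ws i.2 hg hw), h.ws_comm hR hw (h.c_ws i.2 hg hw)]
      congr 1
      group
    have e2 : ∀ w ∈ ws V R, (1 + φ) (π w) = π (g⁻¹ * w * g) := by
      intro w hw
      show π w + φ (π w) = _
      have h1 := h.c_ws i.2 hg hw
      have h2 : φ (π w) = π (g⁻¹ * w * g⁻¹⁻¹ * w⁻¹) := by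
        rw [h.c_inv i.2 hg hw, e w hw, h.ws_inv hR h1]
      rw [h2, ← hM.mul w hw _ (h.c_ws i.2 hg' hw), h.ws_comm hR hw (h.c_ws i.2 hg' hw)]
      congr 1
      group
    refine ⟨⟨PT.cj g j.1, hk⟩, fun m hm => ?_, fun ψ hψ => ?_⟩
    · obtain ⟨b, hb, rfl⟩ := (h.mem_lam hM j.2).1 hm
      have h1 := e1 b (h.adj_ws j.2 hb)
      have h2 : π b + φ (π b) = π (g * b * g⁻¹) := h1
      rw [h2]
      exact h.pi_mem hM hk (conj_mem_cj hb)
    · obtain ⟨k, hk', e3⟩ := (h.mem_phi hM j.2).1 hψ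
      refine (h.mem_phi hM hk).2 ⟨g * k * g⁻¹, ?_, fun w hw => ?_⟩
      · rw [UU_cj]
        exact conj_mem_cj hk'
      · show (1 + φ) (ψ ((1 + φ) (π w))) = _
        have hw1 : g⁻¹ * w * g ∈ ws V R := by
          have := h.u_ws i.2 hg' hw
          rwa [inv_inv] at this
        rw [e2 w hw, e3 _ hw1, e1 _ (h.c_ws j.2 hk' hw1)]
        congr 1
        group
  lne i := by
    obtain ⟨a, ha, ha1⟩ := h.pt_ne_bot i.2.left
    exact ⟨π a, h.pi_mem hM i.2 ha, h.pi_ne hM i.2 ha ha1⟩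
  ne i := by
    obtain ⟨B, hc⟩ := h.exists_crit i.2.symm
    obtain ⟨g, hg, w, hw, hgw⟩ : ∃ g ∈ ws V B, ∃ w ∈ ws V R, g * w ≠ w * g := by
      by_contra hcon
      push Not at hcon
      exact hc.ne fun w hw => mem_centralizer_iff.2 fun g hg => hcon g hg w hw
    have hgU : g ∈ UU V Z i.1 := le_UU hc.r.symm hg
    obtain ⟨φ, hφ, e⟩ := h.exists_phi hM i.2 hgU
    refine ⟨φ, hφ, fun e1 => hgw ?_⟩
    refine (h.phi_zero_iff hM i.2 hgU e hw).1 ?_
    rw [e1]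
    rfl
  gen φ hφ := by
    refine hM.end_ext fun w hw => ?_
    show φ (π w) = 0
    let K : Subgroup G :=
      { carrier := {w | w ∈ ws V R ∧ φ (π w) = 0}
        one_mem' := ⟨one_mem _, by rw [hM.map_one, map_zero]⟩
        mul_mem' := by
          rintro a b ⟨ha, ha'⟩ ⟨hb, hb'⟩
          exact ⟨mul_mem ha hb, by rw [hM.mul a ha b hb, map_add, ha', hb', add_zero]⟩
        inv_mem' := by
          rintro a ⟨ha, ha'⟩
          exact ⟨inv_mem ha, by rw [hM.map_inv ha, map_neg, ha', neg_zero]⟩ }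
    have hK : ws V R ≤ K := by
      refine h.ws_le_of hR (fun r hr => ⟨h.pt_le_ws hR hr, ?_⟩) (fun B hB b hb => ⟨h.adj_ws hB hb, ?_⟩)
      · rw [(hM.ker r (h.pt_le_ws hR hr)).2 hr, map_zero]
      · exact hφ ⟨B, hB⟩ _ (h.pi_mem hM hB hb)
    exact (hK hw).2
  same i j a ha ha' ha0 := by
    obtain ⟨α, hα, rfl⟩ := (h.mem_lam hM i.2).1 ha
    obtain ⟨β, hβ, e⟩ := (h.mem_lam hM j.2).1 ha'
    have h1 : α * β⁻¹ ∈ R := hM.mem_of (h.adj_ws i.2 hα) (h.adj_ws j.2 hβ) e.symm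
    obtain ⟨L, hL, hjL, hRL⟩ := j.2.line
    have hα1 : α ≠ 1 := fun e => ha0 (by rw [e, hM.map_one])
    have hαL : α ∈ L := by
      have e1 : α = α * β⁻¹ * β := by group
      rw [e1]
      exact mul_mem (hRL h1) (hjL hβ)
    obtain ⟨T, hT, hTL, hαT⟩ := h.exists_point hL hαL hα1
    have hiL : i.1 ≤ L := (h.pts_eq i.2.left hT hα hαT hα1) ▸ hTL
    have h2 := h.same_line hM i.2 j.2 hL hRL hiL hjL
    have h3 := h.same_line hM j.2 i.2 hL hRL hjL hiL
    exact ⟨le_antisymm h2.1 h3.1, le_antisymm h2.2 h3.2⟩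

/-- `JJ` is `Jo` -/
theorem jj_iff (hA : Adj V Z A R) (hB : Adj V Z B R) :
    JJ (fun i : {A // Adj V Z A R} => lamR π i.1) (fun i => PhiR V Z R π i.1) ⟨A, hA⟩ ⟨B, hB⟩ ↔ Jo V Z R A B := by
  constructor
  · rintro ⟨φ, hφ, b, hb, hne⟩
    obtain ⟨g, hg, e⟩ := (h.mem_phi hM hA).1 hφ
    refine ⟨hA, hB, fun e1 => hne ?_⟩
    exact (h.kl_iff hM hA hB hg e).2 (fun b hb => mem_centralizer_iff.1 (e1 hb) g hg) b hb
  · rintro hj
    obtain ⟨g, hg, b, hb, hgb⟩ : ∃ g ∈ UU V Z A, ∃ b ∈ B, g * b ≠ b * g := by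
      by_contra hcon
      push Not at hcon
      exact hj.mv fun b hb => mem_centralizer_iff.2 fun g hg => hcon g hg b hb
    obtain ⟨φ, hφ, e⟩ := h.exists_phi hM hA hg
    exact ⟨φ, hφ, π b, h.pi_mem hM hB hb, fun e1 => hgb ((h.phi_zero_iff hM hA hg e (h.adj_ws hB hb)).1 e1)⟩

end TF

end Cfsg.Agent.Omega.NO3S.MidB

end

section


/-!
# TYPE N, K-free: the consequences of McLaughlin's theorem for `Jo`

* `TF.jsym` : **`JSym V Z`**;
* `TF.sml_or_bg` : **`Sml V Z ∨ Bg V Z`**;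
* `TF.jtrans` : **`Bg V Z → JDist V Z → JTrans V Z`**;
* `TF.jdich` : **`Bg V Z → JDich V Z`**.
-/

set_option autoImplicit false
set_option linter.unusedSectionVars false

namespace Cfsg.Agent.Omega.NO3S.MidQ.McL

variable {M ι : Type*} [AddCommGroup M] {lam : ι → AddSubgroup M} {Φ : ι → AddSubgroup (AddMonoid.End M)}

theorem big_of (h : McL lam Φ) {i j : ι} (hj : JJ lam Φ i j) {φ : AddMonoid.End M} (hφ : φ ∈ Φ i)
    (hk : Kl lam φ j) (h0 : φ ≠ 0) : Big lam Φ := by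
  intro i' j' hj'
  by_contra hcon
  push Not at hcon
  have hfin := h.fin
  have hΦ := h.finΦ i
  have hΦ' := h.finΦ i'
  obtain ⟨β, hβ, hβ0⟩ := h.lne j
  obtain ⟨β', hβ', hβ0'⟩ := h.lne j'
  have h1 : Nat.card (Φ i') ≤ Nat.card (lam i') := by
    let f' : Φ i' → lam i' := fun ψ => ⟨ψ.1 β', h.val i' ψ.1 ψ.2 β'⟩
    refine Nat.card_le_card_of_injective f' fun ψ χ e => ?_
    have h2 : ψ.1 β' = χ.1 β' := congrArg Subtype.val e
    have h3 : (ψ.1 - χ.1) β' = 0 := by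
      show ψ.1 β' - χ.1 β' = 0
      rw [h2, sub_self]
    have h4 : ψ.1 - χ.1 ∈ Φ i' := sub_mem ψ.2 χ.2
    exact Subtype.ext (sub_eq_zero.1 (hcon _ h4 (h.kl_of h4 hβ' hβ0' h3)))
  let f : Φ i → lam i := fun ψ => ⟨ψ.1 β, h.val i ψ.1 ψ.2 β⟩
  have hs : Function.Surjective f := by
    rintro ⟨a, ha⟩
    obtain ⟨ψ, hψ, e⟩ := h.surj i j β hβ (h.moves hj hβ hβ0) a ha
    exact ⟨⟨ψ, hψ⟩, Subtype.ext e⟩
  have hb : Function.Bijective f := hs.bijective_of_nat_card_le (by rw [h.cardΦ i i', h.card i i']; exact h1)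
  have h2 : f ⟨φ, hφ⟩ = f ⟨0, zero_mem _⟩ := Subtype.ext (by
    show φ β = (0 : AddMonoid.End M) β
    rw [hk β hβ]
    rfl)
  exact h0 (congrArg Subtype.val (hb.1 h2))

end Cfsg.Agent.Omega.NO3S.MidQ.McL

namespace Cfsg.Agent.Omega.NO3S.MidB

open Subgroup Cfsg.Agent.Omega.NO3S.PT Cfsg.Agent.Omega.NoFF.Basic Cfsg.Agent.ZN
open Cfsg.Agent.Omega.NO3S.MidQ (Adj Com Cr UU ws_of kx_of isCj_iff adj_iff com_iff cr_iff UU_of isCj_symm isCj_trans
  com_cj UU_cj le_UU normalizer_le_UU isPGroup_sSup FlagCan PtCan ff mem_ff ff_cj TypN cw mem_cw cw_le cw_cj Jo jo_cj zu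
  McL JJ Kl Dist surj_of_inj comm_inj)
open scoped Pointwise

universe u

variable {G : Type u} [Group G] {V Z X Y R L A A' B B' C : Subgroup G}

namespace TF

variable [Finite G] {S : Sylow 2 G} {P : Subgroup G} (h : TF S P V Z)
include h

section

variable {M : Type*} [AddCommGroup M] {π : G → M} (hM : Md V R π)
include hM

theorem line_of (hA : Adj V Z A R) (hC : Adj V Z C R) {m : M} (hm : m ∈ lamR π A) (hm' : m ∈ lamR π C)
    (h0 : m ≠ 0) : ∃ L, IsCj V L ∧ R ≤ L ∧ A ≤ L ∧ C ≤ L := by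
  obtain ⟨α, hα, rfl⟩ := (h.mem_lam hM hA).1 hm
  obtain ⟨β, hβ, e⟩ := (h.mem_lam hM hC).1 hm'
  have h1 : α * β⁻¹ ∈ R := hM.mem_of (h.adj_ws hA hα) (h.adj_ws hC hβ) e.symm
  obtain ⟨L, hL, hjL, hRL⟩ := hC.line
  have hα1 : α ≠ 1 := fun e => h0 (by rw [e, hM.map_one])
  have hαL : α ∈ L := by
    have e1 : α = α * β⁻¹ * β := by group
    rw [e1]
    exact mul_mem (hRL h1) (hjL hβ)
  obtain ⟨T, hT, hTL, hαT⟩ := h.exists_point hL hαL hα1
  exact ⟨L, hL, hRL, (h.pts_eq hA.left hT hα hαT hα1) ▸ hTL, hjL⟩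

theorem big_of_bg (hB : Bg V Z) :
    McL.Big (fun i : {A // Adj V Z A R} => lamR π i.1) (fun i => PhiR V Z R π i.1) := by
  rintro ⟨A, hA⟩ ⟨B, hB'⟩ hj
  obtain ⟨g, hg, hgB, w, hw, hgw⟩ := hB R A B ((h.jj_iff hM hA hB').1 hj)
  obtain ⟨φ, hφ, e⟩ := h.exists_phi hM hA hg
  refine ⟨φ, hφ, (h.kl_iff hM hA hB' hg e).2 hgB, fun e1 => hgw ?_⟩
  refine (h.phi_zero_iff hM hA hg e hw).1 ?_
  rw [e1]
  rfl

theorem dist_of (hd : JDist V Z) : _root_.Cfsg.Agent.Omega.NO3S.MidQ.Dist (fun i : {A // Adj V Z A R} => lamR π i.1) (fun i => PhiR V Z R π i.1) := by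
  rintro ⟨A, hA⟩ ⟨B, hB⟩ a ha b hb hk
  obtain ⟨α, hα, rfl⟩ := (h.mem_lam hM hA).1 ha
  obtain ⟨β, hβ, rfl⟩ := (h.mem_lam hM hB).1 hb
  have h1 := h.adj_ws hA hα
  have h2 := h.adj_ws hB hβ
  rw [← hM.mul _ h1 _ h2, hM.ker _ (mul_mem h1 h2)]
  refine hd R A B hA hB α hα β hβ fun X hX u hu => ?_
  obtain ⟨φ, hφ, e⟩ := h.exists_phi hM hX hu
  have h3 := hk ⟨X, hX⟩ φ hφ
  rw [← hM.mul _ h1 _ h2] at h3
  exact (h.phi_zero_iff hM hX hu e (mul_mem h1 h2)).1 h3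

end

/-- **(1)** -/
theorem jsym : JSym V Z := by
  intro R A B hj
  obtain ⟨M, _, π, hM⟩ := exists_md h.toMid hj.l.right
  exact (h.jj_iff hM hj.r hj.l).1 ((h.mcl hM hj.l.right).symm ((h.jj_iff hM hj.l hj.r).2 hj))

/-- **(3) / (4)** -/
theorem sml_or_bg : Sml V Z ∨ Bg V Z := by
  by_cases hS : Sml V Z
  · exact Or.inl hS
  right
  unfold Sml at hS
  push Not at hS
  obtain ⟨R, A, B, hj, g, hg, hgB, w, hw, hgw⟩ := hS
  obtain ⟨M, _, π, hM⟩ := exists_md h.toMid hj.l.right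
  have hR := hj.l.right
  obtain ⟨φ, hφ, e⟩ := h.exists_phi hM hj.l hg
  have hbig : McL.Big (fun i : {A // Adj V Z A R} => lamR π i.1) (fun i => PhiR V Z R π i.1) := by
    refine (h.mcl hM hR).big_of ((h.jj_iff hM hj.l hj.r).2 hj) hφ ((h.kl_iff hM hj.l hj.r hg e).2 hgB) fun e1 => hgw ?_
    refine (h.phi_zero_iff hM hj.l hg e hw).1 ?_
    rw [e1]
    rfl
  intro R' A' B' hj'
  obtain ⟨x, hx⟩ : ∃ x : G, PT.cj x R' = R := by
    obtain ⟨a, ha⟩ := hR
    obtain ⟨b, hb⟩ := hj'.l.right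
    exact ⟨a * b⁻¹, by rw [ha, hb, cj_cj, inv_mul_cancel_right]⟩
  have hj2 := hj'.cj x
  rw [hx] at hj2
  obtain ⟨ψ, hψ, hk, h0⟩ := hbig ⟨_, hj2.l⟩ ⟨_, hj2.r⟩ ((h.jj_iff hM hj2.l hj2.r).2 hj2)
  obtain ⟨g', hg', e'⟩ := (h.mem_phi hM hj2.l).1 hψ
  have h1 := (h.kl_iff hM hj2.l hj2.r hg' e').1 hk
  obtain ⟨w', hw', hgw'⟩ : ∃ w' ∈ ws V R, g' * w' ≠ w' * g' := by
    by_contra hcon
    push Not at hcon
    exact h0 (hM.end_ext fun w hw => (h.phi_zero_iff hM hj2.l hg' e' hw).2 (hcon w hw))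
  refine ⟨x⁻¹ * g' * x, ?_, fun b hb => ?_, x⁻¹ * w' * x, ?_, fun e2 => hgw' ?_⟩
  · rw [UU_cj, mem_cj] at hg'
    exact hg'
  · have h2 := h1 (x * b * x⁻¹) (conj_mem_cj hb)
    have h3 := congrArg (fun t => x⁻¹ * t * x) h2
    simpa only [mul_assoc, _root_.inv_mul_cancel, _root_.mul_one, _root_.inv_mul_cancel_left] using h3
  · rw [← hx, ws_cj, mem_cj] at hw'
    exact hw'
  · have h3 := congrArg (fun t => x * t * x⁻¹) e2
    simpa only [mul_assoc, _root_.mul_inv_cancel_left, _root_.mul_inv_cancel, _root_.mul_one] using h3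

/-- **(5)** -/
theorem jtrans (hB : Bg V Z) (hd : JDist V Z) : JTrans V Z := by
  intro R A B C hab hbc hne
  obtain ⟨M, _, π, hM⟩ := exists_md h.toMid hab.l.right
  refine (h.jj_iff hM hab.l hbc.r).1 ((h.mcl hM hab.l.right).trans (h.big_of_bg hM hB) (h.dist_of hM hd)
    ((h.jj_iff hM hab.l hab.r).2 hab) ((h.jj_iff hM hab.r hbc.r).2 hbc) fun e => ?_)
  obtain ⟨α, hα, hα1⟩ := h.pt_ne_bot hab.l.left
  have h1 : π α ∈ lamR π C := by
    have h2 := h.pi_mem hM hab.l hα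
    have e' : lamR π A = lamR π C := e
    rwa [e'] at h2
  obtain ⟨L, hL, hRL, hAL, hCL⟩ := h.line_of hM hab.l hbc.r (h.pi_mem hM hab.l hα) h1 (h.pi_ne hM hab.l hα hα1)
  exact hne L hL hRL hAL hCL

/-- **(5')** -/
theorem jdich (hB : Bg V Z) : JDich V Z := by
  intro R Y I J hj hI
  obtain ⟨M, _, π, hM⟩ := exists_md h.toMid hj.l.right
  rcases (h.mcl hM hj.l.right).dich (h.big_of_bg hM hB) (y := ⟨Y, hj.l⟩) (i := ⟨I, hI⟩) (j := ⟨J, hj.r⟩)
    ((h.jj_iff hM hj.l hj.r).2 hj) with h1 | h1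
  · left
    intro g hg
    obtain ⟨φ, hφ, e⟩ := h.exists_phi hM hj.l hg
    obtain ⟨φ', hφ', h2, h3⟩ := h1 φ hφ
    obtain ⟨g', hg', e'⟩ := (h.mem_phi hM hj.l).1 hφ'
    refine ⟨g', hg', fun b hb => ?_, (h.kl_iff hM hj.l hI hg' e').1 h3⟩
    have hbW := h.adj_ws hj.r hb
    have h4 : φ' (π b) = φ (π b) := h2 (π b) (h.pi_mem hM hj.r hb)
    rw [e' b hbW, e b hbW] at h4
    exact mul_right_cancel (h.pi_inj hM hj.l (h.comm_adj hj.l hg' hbW) (h.comm_adj hj.l hg hbW) h4)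
  · right
    intro α hα
    obtain ⟨m, hm, h2⟩ := h1 (π α) (h.pi_mem hM hI hα)
    obtain ⟨γ, hγ, rfl⟩ := (h.mem_lam hM hj.r).1 hm
    refine ⟨γ, hγ, fun g hg => ?_⟩
    obtain ⟨φ, hφ, e⟩ := h.exists_phi hM hj.l hg
    have h3 := h2 φ hφ
    have h4 := h.adj_ws hI hα
    have h5 := h.adj_ws hj.r hγ
    rw [← hM.mul _ h4 _ h5] at h3
    exact (h.phi_zero_iff hM hj.l hg e (mul_mem h4 h5)).1 h3

end TF

end Cfsg.Agent.Omega.NO3S.MidB

end

section


/-!
# NO-3S, the `(R, B)`-frame, `n = 2`: the groups `W_C` which act on `W_R` by transvections with centre `A`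

* `Flat V C A R` : `[W_C, W_R] ≤ A`; `UT V Z R A` : the group generated by the `W_C`, `C ~ A`, `Flat V C A R`;
* `TT S P V Z` : `Mid` and there is a critical triple `(C, A, R)` with `Flat V C A R`;
* `Mid.ut_comm` : `[UT, W_R] ≤ A`;
* `Mid.ut_val` : if `UT V Z R A` moves `β ∈ B ~ R`, then `[UT, β] = A` elementwise;
* `Mid.flat_val` : `w ∈ W_R`, `w ∉ C(W_C)`: `[W_C, w] = A` elementwise;
* `TT.exists_flat` : for `R ~ A` there is a critical `(C, A, R)` with `Flat V C A R`.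
-/

set_option autoImplicit false
set_option linter.unusedSectionVars false

namespace Cfsg.Agent.Omega.NO3S.MidB.No

open Subgroup Cfsg.Agent.Omega.NO3S.PT Cfsg.Agent.Omega.NoFF.Basic Cfsg.Agent.ZN
open Cfsg.Agent.Omega.NO3S.MidQ (Adj Com Cr UU ws_of kx_of isCj_iff adj_iff com_iff cr_iff UU_of isCj_symm isCj_trans
  com_cj UU_cj le_UU normalizer_le_UU isPGroup_sSup surj_of_inj comm_inj)
open scoped Pointwise

variable {G : Type*} [Group G] {V Z X Y R L A B C A' B' C' R' : Subgroup G}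

/-- `[W_C, W_R] ≤ A` -/
def Flat (V C A R : Subgroup G) : Prop := ∀ a ∈ ws V C, ∀ b ∈ ws V R, a * b * a⁻¹ * b⁻¹ ∈ A

/-- generated by the `W_C`, `C ~ A`, with `[W_C, W_R] ≤ A` -/
def UT (V Z R A : Subgroup G) : Subgroup G := sSup {W | ∃ C, Adj V Z C A ∧ Flat V C A R ∧ W = ws V C}

theorem le_UT (hC : Adj V Z C A) (hf : Flat V C A R) : ws V C ≤ UT V Z R A := le_sSup ⟨C, hC, hf, rfl⟩

theorem UT_le_UU : UT V Z R A ≤ UU V Z A := by
  refine sSup_le ?_
  rintro _ ⟨C, hC, -, rfl⟩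
  exact le_UU hC

theorem Flat.cj (hf : Flat V C A R) (g : G) : Flat V (PT.cj g C) (PT.cj g A) (PT.cj g R) := by
  intro a ha b hb
  rw [ws_cj, mem_cj] at ha hb
  have h1 := hf _ ha _ hb
  rw [mem_cj]
  have e : g⁻¹ * (a * b * a⁻¹ * b⁻¹) * g = g⁻¹ * a * g * (g⁻¹ * b * g) * (g⁻¹ * a * g)⁻¹ * (g⁻¹ * b * g)⁻¹ := by group
  rwa [e]

theorem cj_UT_le (V Z R A : Subgroup G) (g : G) : PT.cj g (UT V Z R A) ≤ UT V Z (PT.cj g R) (PT.cj g A) := by
  rw [cj_le_iff]
  refine sSup_le ?_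
  rintro _ ⟨C, hC, hf, rfl⟩
  rw [← cj_le_iff, ← ws_cj]
  exact le_UT (hC.cj g) (hf.cj g)

theorem UT_cj (V Z R A : Subgroup G) (g : G) : UT V Z (PT.cj g R) (PT.cj g A) = PT.cj g (UT V Z R A) := by
  refine le_antisymm ?_ (cj_UT_le V Z R A g)
  have h1 := cj_UT_le V Z (PT.cj g R) (PT.cj g A) g⁻¹
  rwa [cj_cj, cj_cj, inv_mul_cancel, cj_one, cj_one, cj_le_iff, inv_inv] at h1

end Cfsg.Agent.Omega.NO3S.MidB.No

namespace Cfsg.Agent.Omega.NO3S.MidB.Mid

open Subgroup Cfsg.Agent.Omega.NO3S.PT Cfsg.Agent.Omega.NoFF.Basic Cfsg.Agent.ZN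
open Cfsg.Agent.Omega.NO3S.MidB.No
open Cfsg.Agent.Omega.NO3S.MidQ (Adj Com Cr UU ws_of kx_of isCj_iff adj_iff com_iff cr_iff UU_of isCj_symm isCj_trans
  com_cj UU_cj le_UU normalizer_le_UU isPGroup_sSup surj_of_inj comm_inj)
open scoped Pointwise

variable {G : Type*} [Group G] {V Z X Y R L A B C A' B' C' R' : Subgroup G}
variable [Finite G] {S : Sylow 2 G} {P : Subgroup G} (h : Mid S P V Z)
include h

/-- `[UT, W_R] ≤ A` -/
theorem ut_comm (hA : Adj V Z A R) {g w : G} (hg : g ∈ UT V Z R A) (hw : w ∈ ws V R) : g * w * g⁻¹ * w⁻¹ ∈ A := by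
  have hcen : ∀ x ∈ A, ∀ u ∈ UU V Z A, u * x = x * u := fun x hx u hu =>
    (mem_centralizer_iff.1 (h.UU_le_cent_pt hA.left hu) x hx).symm
  let E : Subgroup G :=
    { carrier := {g | g ∈ centralizer (A : Set G) ∧ g * w * g⁻¹ * w⁻¹ ∈ A}
      one_mem' := ⟨one_mem _, by simp⟩
      mul_mem' := by
        rintro a b ⟨ha, ha'⟩ ⟨hb, hb'⟩
        refine ⟨mul_mem ha hb, ?_⟩
        have e : a * b * w * (a * b)⁻¹ * w⁻¹ = a * (b * w * b⁻¹ * w⁻¹) * a⁻¹ * (a * w * a⁻¹ * w⁻¹) := by group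
        rw [e, ← mem_centralizer_iff.1 ha _ hb', mul_inv_cancel_right]
        exact A.mul_mem hb' ha'
      inv_mem' := by
        rintro a ⟨ha, ha'⟩
        refine ⟨inv_mem ha, ?_⟩
        have e : a⁻¹ * w * a⁻¹⁻¹ * w⁻¹ = a⁻¹ * (a * w * a⁻¹ * w⁻¹)⁻¹ * a := by group
        rw [e, mul_assoc, mem_centralizer_iff.1 ha _ (A.inv_mem ha'), inv_mul_cancel_left]
        exact A.inv_mem ha' }
  have hE : UT V Z R A ≤ E := by
    refine sSup_le ?_
    rintro _ ⟨C, hC, hf, rfl⟩ c hc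
    exact ⟨h.UU_le_cent_pt hA.left (le_UU hC hc), hf c hc w hw⟩
  exact (hE hg).2

/-- `w ∈ W_R`, `w ∉ C(W_C)`: `[W_C, w] = A` elementwise -/
theorem flat_val (hA : Adj V Z A R) (hC : Adj V Z C A) (hf : Flat V C A R) {w : G} (hw : w ∈ ws V R)
    (hmv : ∃ c ∈ ws V C, c * w ≠ w * c) {α : G} (hα : α ∈ A) : ∃ g ∈ ws V C, g * w * g⁻¹ * w⁻¹ = α := by
  -- `w` centralises `C`
  have hwC : ∀ c ∈ C, w * c = c * w := fun c hc =>
    (mem_centralizer_iff.1 (h.ws_le_cent hA.symm hC.symm hw) c hc).symm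
  have hw2 : TwoEl w := h.twoEl_ws hA.right hw
  -- a point `F ~ C` is moved by `w`
  obtain ⟨F, hF, φ₀, hφ₀, hne⟩ : ∃ F, Adj V Z F C ∧ ∃ φ ∈ F, w * φ ≠ φ * w := by
    by_contra hcon
    push Not at hcon
    have h1 : ws V C ≤ centralizer ({w} : Set G) := h.ws_le_of hC.left
      (fun c hc => mem_centralizer_singleton_iff.2 (hwC c hc).symm)
      (fun F hF φ hφ => mem_centralizer_singleton_iff.2 (hcon F hF φ hφ).symm)
    obtain ⟨c, hc, hne⟩ := hmv
    exact hne (mem_centralizer_singleton_iff.1 (h1 hc))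
  have hFC : F ≤ ws V C := h.adj_le_ws hF.symm
  have hinj : ∀ φ ∈ F, φ * w = w * φ → φ = 1 := by
    intro φ hφ e
    by_contra hφ1
    exact hne (h.t3 hF.symm hw2 hwC hφ hφ1 e.symm φ₀ hφ₀)
  obtain ⟨g, hg, e⟩ := surj_of_inj (A := F) (B := A) (by rw [h.card_pt hF.left, h.card_pt hA.left])
    (fun φ => φ * w * φ⁻¹ * w⁻¹) (fun φ hφ => hf φ (hFC hφ) w hw) (fun φ hφ φ' hφ' e =>
      inv_mul_eq_one.1 (hinj _ (mul_mem (inv_mem hφ) hφ') (comm_inj e))) α hα
  exact ⟨g, hFC hg, e⟩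

/-- if `UT V Z R A` moves `β ∈ W_R`, then `[UT, β] = A` elementwise -/
theorem ut_val (hA : Adj V Z A R) {β : G} (hβ : β ∈ ws V R) (hmv : ∃ g ∈ UT V Z R A, g * β ≠ β * g) {α : G}
    (hα : α ∈ A) : ∃ g ∈ UT V Z R A, g * β * g⁻¹ * β⁻¹ = α := by
  obtain ⟨C, hC, hf, hne⟩ : ∃ C, Adj V Z C A ∧ Flat V C A R ∧ ∃ c ∈ ws V C, c * β ≠ β * c := by
    by_contra hcon
    push Not at hcon
    obtain ⟨g, hg, hne⟩ := hmv
    have h1 : UT V Z R A ≤ centralizer ({β} : Set G) := by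
      refine sSup_le ?_
      rintro _ ⟨C, hC, hf, rfl⟩ c hc
      exact mem_centralizer_singleton_iff.2 (hcon C hC hf c hc)
    exact hne (mem_centralizer_singleton_iff.1 (h1 hg))
  obtain ⟨g, hg, e⟩ := h.flat_val hA hC hf hβ hne hα
  exact ⟨g, le_UT hC hf hg, e⟩

/-- a 2-element of `C(R)` fixing a line on `R` is trivial on it modulo `R` -/
theorem act_line (hR : IsCj Z R) (hL : IsCj V L) (hRL : R ≤ L) {x : G} (hx : TwoEl x)
    (hxR : x ∈ centralizer (R : Set G)) (hxL : PT.cj x L = L) : ∀ v ∈ L, x * v * x⁻¹ * v⁻¹ ∈ R := by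
  obtain ⟨T, Q, h'⟩ := h.flag hR hL hRL
  obtain ⟨m, hm, hmT⟩ := h'.pl.exists_le_conjB (H := normalizer (R : Set G) ⊓ normalizer (L : Set G))
    (le_inf h'.pl.S_le_N (h'.pl.SP.trans h'.pl.PN)) inf_le_left hx.isPGroup
    (zpowers_le.2 ⟨centralizer_le_normalizer _ hxR, cj_eq_iff.1 hxL⟩) (zpowers_le.2 hxR)
  intro v hv
  have h1 : x ∈ PT.cj m ((T : Subgroup G) ⊓ centralizer (R : Set G)) := hmT (mem_zpowers x)
  rw [mem_cj] at h1
  have h2 : m⁻¹ * v * m ∈ L := by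
    have h3 := (mem_normalizer_iff.1 (inv_mem hm.2) v).1 hv
    rwa [inv_inv] at h3
  have h3 := h'.pl.act _ h1 _ h2
  have h4 := (mem_normalizer_iff.1 hm.1 _).1 h3
  have e : m * (m⁻¹ * x * m * (m⁻¹ * v * m) * (m⁻¹ * x * m)⁻¹ * (m⁻¹ * v * m)⁻¹) * m⁻¹ = x * v * x⁻¹ * v⁻¹ := by
    group
  rwa [e] at h4

end Cfsg.Agent.Omega.NO3S.MidB.Mid

namespace Cfsg.Agent.Omega.NO3S.MidB.No

open Subgroup Cfsg.Agent.Omega.NO3S.PT Cfsg.Agent.Omega.NoFF.Basic Cfsg.Agent.ZN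
open Cfsg.Agent.Omega.NO3S.MidQ (Adj Com Cr UU)

variable {G : Type*} [Group G] {V Z X Y R L A B C A' B' C' R' : Subgroup G} [Finite G] {S : Sylow 2 G}
  {P : Subgroup G}

/-- `Mid` and a flat critical triple -/
structure TT (S : Sylow 2 G) (P V Z : Subgroup G) : Prop extends Mid S P V Z where
  ex : ∃ C A R, Cr V Z C A R ∧ Flat V C A R

namespace TT

variable (h : TT S P V Z)
include h

/-- for `R ~ A` there is a flat critical triple `(C, A, R)` -/
theorem exists_flat (hA : Adj V Z A R) : ∃ C, Cr V Z C A R ∧ Flat V C A R := by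
  obtain ⟨C, A₀, R₀, hc, hf⟩ := h.ex
  obtain ⟨g, hg1, hg2⟩ := h.exists_adj hc.r hA
  refine ⟨PT.cj g C, ?_, ?_⟩
  · have h1 := hc.cj g
    rwa [hg1, hg2] at h1
  · have h1 := hf.cj g
    rwa [hg1, hg2] at h1

end TT

end Cfsg.Agent.Omega.NO3S.MidB.No

end

section


/-!
# NO-3S, the `(R, B)`-frame, `n = 2`: the instance of `McL` on `W_R / R` for the flat groups

`h : TT S P V Z`.  `PhiT V Z R π A` : the endomorphisms of `W_R / R` induced by the elements of `UT V Z R A` (minus 1).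

* `TT.mcl` : **the instance**;
* `TT.big` : `Big`, from `w ∈ W_C`, `m ∈ W_R` commuting, `w ∉ C(W_R)`, `m ∉ C(W_C)`;
* `TT.dist` : `Dist`, from `NF V Z`.
-/

set_option autoImplicit false
set_option linter.unusedSectionVars false

namespace Cfsg.Agent.Omega.NO3S.MidB.No

open Subgroup Cfsg.Agent.Omega.NO3S.PT Cfsg.Agent.Omega.NoFF.Basic Cfsg.Agent.ZN
open Cfsg.Agent.Omega.NO3S.MidQ (Adj Com Cr UU ws_of kx_of isCj_iff adj_iff com_iff cr_iff UU_of isCj_symm isCj_trans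
  com_cj UU_cj le_UU normalizer_le_UU isPGroup_sSup McL JJ Kl Dist surj_of_inj comm_inj)
open scoped Pointwise

universe u

variable {G : Type u} [Group G] {V Z X Y R L A A' B B' C : Subgroup G}
variable {M : Type*} [AddCommGroup M] {π : G → M}

/-- the endomorphisms induced by `g - 1`, `g ∈ UT V Z R A` -/
def PhiT (V Z R : Subgroup G) (π : G → M) (A : Subgroup G) : AddSubgroup (AddMonoid.End M) :=
  AddSubgroup.closure {φ | ∃ g ∈ UT V Z R A, ∀ w ∈ ws V R, φ (π w) = π (g * w * g⁻¹ * w⁻¹)}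

/-- a `C_G(R)`-invariant subgroup of `W_R` over `R` which meets a line on `R` in `R`, is `R` -/
def NF (V Z : Subgroup G) : Prop :=
  ∀ X L N : Subgroup G, IsCj Z X → IsCj V L → X ≤ L → X ≤ N → N ≤ ws V X → centralizer (X : Set G) ≤ normalizer (N : Set G) →
    N ⊓ L = X → N = X

namespace TT

variable [Finite G] {S : Sylow 2 G} {P : Subgroup G} (h : TT S P V Z)
include h

/-! ### `UT` on `W_R` -/

theorem u_R (hA : Adj V Z A R) {g : G} (hg : g ∈ UT V Z R A) {r : G} (hr : r ∈ R) : g * r = r * g :=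
  (mem_centralizer_iff.1 (h.UU_le_cent_adj hA.symm (UT_le_UU hg)) r hr).symm

theorem u_A (hA : Adj V Z A R) {g : G} (hg : g ∈ UT V Z R A) {a : G} (ha : a ∈ A) : g * a = a * g :=
  (mem_centralizer_iff.1 (h.UU_le_cent_pt hA.left (UT_le_UU hg)) a ha).symm

theorem u_ws (hA : Adj V Z A R) {g : G} (hg : g ∈ UT V Z R A) {w : G} (hw : w ∈ ws V R) : g * w * g⁻¹ ∈ ws V R :=
  (mem_normalizer_iff.1 (h.UU_norm hA.symm (UT_le_UU hg)) w).1 hw

theorem adj_ws (hA : Adj V Z A R) : A ≤ ws V R := h.adj_le_ws hA.symm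

theorem c_ws (hA : Adj V Z A R) {g : G} (hg : g ∈ UT V Z R A) {w : G} (hw : w ∈ ws V R) :
    g * w * g⁻¹ * w⁻¹ ∈ ws V R := h.adj_ws hA (h.ut_comm hA hg hw)

theorem c_mul (hA : Adj V Z A R) {g : G} (hg : g ∈ UT V Z R A) {w w' : G} (hw : w ∈ ws V R) (hw' : w' ∈ ws V R) :
    g * (w * w') * g⁻¹ * (w * w')⁻¹ = g * w * g⁻¹ * w⁻¹ * (g * w' * g⁻¹ * w'⁻¹) := by
  have h1 := h.ws_comm hA.right hw (h.c_ws hA hg hw')
  calc g * (w * w') * g⁻¹ * (w * w')⁻¹ = g * w * g⁻¹ * w⁻¹ * (w * (g * w' * g⁻¹ * w'⁻¹)) * w⁻¹ := by group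
    _ = g * w * g⁻¹ * w⁻¹ * (g * w' * g⁻¹ * w'⁻¹) := by rw [h1]; group

theorem c_mul' (hA : Adj V Z A R) {g g' : G} (hg : g ∈ UT V Z R A) (hg' : g' ∈ UT V Z R A) {w : G}
    (hw : w ∈ ws V R) : g * g' * w * (g * g')⁻¹ * w⁻¹ = g * w * g⁻¹ * w⁻¹ * (g' * w * g'⁻¹ * w⁻¹) := by
  have h1 := h.u_A hA hg (h.ut_comm hA hg' hw)
  have h2 := h.ws_comm hA.right (h.c_ws hA hg hw) (h.c_ws hA hg' hw)
  calc g * g' * w * (g * g')⁻¹ * w⁻¹ = g * (g' * w * g'⁻¹ * w⁻¹) * (w * g⁻¹ * w⁻¹) := by group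
    _ = g' * w * g'⁻¹ * w⁻¹ * (g * w * g⁻¹ * w⁻¹) := by rw [h1]; group
    _ = _ := h2.symm

theorem c_inv (hA : Adj V Z A R) {g : G} (hg : g ∈ UT V Z R A) {w : G} (hw : w ∈ ws V R) :
    g⁻¹ * w * g⁻¹⁻¹ * w⁻¹ = (g * w * g⁻¹ * w⁻¹)⁻¹ := by
  have h1 := h.u_A hA (inv_mem hg) (inv_mem (h.ut_comm hA hg hw))
  calc g⁻¹ * w * g⁻¹⁻¹ * w⁻¹ = g⁻¹ * (g * w * g⁻¹ * w⁻¹)⁻¹ * g := by group
    _ = _ := by rw [h1]; group

theorem inf_R (hA : Adj V Z A R) {a : G} (ha : a ∈ A) (hR : a ∈ R) : a = 1 := h.pt_inf hA.left hA.right hA.ne ha hR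

theorem not_comm_iff (hA : Adj V Z A R) {g w : G} (hg : g ∈ UT V Z R A) (hw : w ∈ ws V R) :
    g * w * g⁻¹ * w⁻¹ ∈ R ↔ g * w = w * g := by
  constructor
  · intro e
    exact Mid.comm_eq (h.inf_R hA (h.ut_comm hA hg hw) e)
  · intro e
    rw [Mid.comm_one e]
    exact one_mem _

/-- elements of `UT` fix `R` -/
theorem cj_ut (hA : Adj V Z A R) {g : G} (hg : g ∈ UT V Z R A) : PT.cj g R = R :=
  cj_eq_iff.2 (centralizer_le_normalizer _ (h.UU_le_cent_adj hA.symm (UT_le_UU hg)))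

theorem twoEl_ut {g : G} (hg : g ∈ UT V Z R A) : TwoEl g := h.twoEl_UU (UT_le_UU hg)

/-! ### Translation -/

section

variable (hM : Md V R π)
include hM

theorem exists_phi (hA : Adj V Z A R) {g : G} (hg : g ∈ UT V Z R A) :
    ∃ φ ∈ PhiT V Z R π A, ∀ w ∈ ws V R, φ (π w) = π (g * w * g⁻¹ * w⁻¹) := by
  obtain ⟨φ, hφ⟩ := hM.exists_lift (fun w => g * w * g⁻¹ * w⁻¹) (fun w hw => h.c_ws hA hg hw)
    (fun a ha b hb => h.c_mul hA hg ha hb) (fun r _ hr => by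
      show g * r * g⁻¹ * r⁻¹ ∈ R
      rw [h.u_R hA hg hr, mul_inv_cancel_right, mul_inv_cancel]
      exact one_mem _)
  exact ⟨φ, AddSubgroup.subset_closure ⟨g, hg, hφ⟩, hφ⟩

theorem mem_phi (hA : Adj V Z A R) {φ : AddMonoid.End M} :
    φ ∈ PhiT V Z R π A ↔ ∃ g ∈ UT V Z R A, ∀ w ∈ ws V R, φ (π w) = π (g * w * g⁻¹ * w⁻¹) := by
  constructor
  · intro hφ
    let K : AddSubgroup (AddMonoid.End M) :=
      { carrier := {φ | ∃ g ∈ UT V Z R A, ∀ w ∈ ws V R, φ (π w) = π (g * w * g⁻¹ * w⁻¹)}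
        zero_mem' := ⟨1, one_mem _, fun w _ => by
          have e : (1 : G) * w * 1⁻¹ * w⁻¹ = 1 := by group
          rw [e, hM.map_one]
          rfl⟩
        add_mem' := by
          rintro φ ψ ⟨g, hg, e⟩ ⟨g', hg', e'⟩
          refine ⟨g * g', mul_mem hg hg', fun w hw => ?_⟩
          rw [h.c_mul' hA hg hg' hw, hM.mul _ (h.c_ws hA hg hw) _ (h.c_ws hA hg' hw), ← e w hw, ← e' w hw]
          rfl
        neg_mem' := by
          rintro φ ⟨g, hg, e⟩
          refine ⟨g⁻¹, inv_mem hg, fun w hw => ?_⟩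
          rw [h.c_inv hA hg hw, hM.map_inv (h.c_ws hA hg hw), ← e w hw]
          rfl }
    have h1 : PhiT V Z R π A ≤ K := by
      rw [PhiT, AddSubgroup.closure_le]
      intro φ hφ
      exact hφ
    exact h1 hφ
  · intro hφ
    exact AddSubgroup.subset_closure hφ

theorem mem_lam (hA : Adj V Z A R) {m : M} : m ∈ lamR π A ↔ ∃ a ∈ A, π a = m := mem_lamR hM (h.adj_ws hA)

theorem pi_mem (hA : Adj V Z A R) {a : G} (ha : a ∈ A) : π a ∈ lamR π A := (h.mem_lam hM hA).2 ⟨a, ha, rfl⟩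

theorem pi_ne (hA : Adj V Z A R) {a : G} (ha : a ∈ A) (ha1 : a ≠ 1) : π a ≠ 0 := fun e =>
  ha1 (h.inf_R hA ha ((hM.ker a (h.adj_ws hA ha)).1 e))

theorem pi_inj (hA : Adj V Z A R) {a a' : G} (ha : a ∈ A) (ha' : a' ∈ A) (e : π a = π a') : a = a' := by
  have h1 := hM.mem_of (h.adj_ws hA ha) (h.adj_ws hA ha') e
  exact mul_inv_eq_one.1 (h.inf_R hA (mul_mem ha (inv_mem ha')) h1)

/-- `φ (π w) = 0` iff `g` commutes with `w` -/
theorem phi_zero_iff (hA : Adj V Z A R) {g : G} (hg : g ∈ UT V Z R A) {φ : AddMonoid.End M}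
    (hφ : ∀ w ∈ ws V R, φ (π w) = π (g * w * g⁻¹ * w⁻¹)) {w : G} (hw : w ∈ ws V R) :
    φ (π w) = 0 ↔ g * w = w * g := by
  rw [hφ w hw, hM.ker _ (h.c_ws hA hg hw), h.not_comm_iff hA hg hw]

theorem kl_iff (hA : Adj V Z A R) (hB : Adj V Z B R) {g : G} (hg : g ∈ UT V Z R A) {φ : AddMonoid.End M}
    (hφ : ∀ w ∈ ws V R, φ (π w) = π (g * w * g⁻¹ * w⁻¹)) :
    (∀ b ∈ lamR π B, φ b = 0) ↔ ∀ b ∈ B, g * b = b * g := by
  constructor
  · intro e b hb
    exact (h.phi_zero_iff hM hA hg hφ (h.adj_ws hB hb)).1 (e _ (h.pi_mem hM hB hb))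
  · intro e m hm
    obtain ⟨b, hb, rfl⟩ := (h.mem_lam hM hB).1 hm
    exact (h.phi_zero_iff hM hA hg hφ (h.adj_ws hB hb)).2 (e b hb)

theorem card_lam (hA : Adj V Z A R) : Nat.card (lamR π A) = Nat.card Z := by
  rw [← h.card_pt hA.left]
  let f : A → lamR π A := fun a => ⟨π a, h.pi_mem hM hA a.2⟩
  refine (Nat.card_congr (Equiv.ofBijective f ⟨fun a b e => ?_, ?_⟩)).symm
  · exact Subtype.ext (h.pi_inj hM hA a.2 b.2 (congrArg Subtype.val e))
  · rintro ⟨m, hm⟩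
    obtain ⟨a, ha, rfl⟩ := (h.mem_lam hM hA).1 hm
    exact ⟨⟨a, ha⟩, rfl⟩

/-! ### Conjugation -/

omit h hM in
theorem conj_ws {n : G} (hn : PT.cj n R = R) {w : G} (hw : w ∈ ws V R) : n * w * n⁻¹ ∈ ws V R := by
  have h1 : n * w * n⁻¹ ∈ PT.cj n (ws V R) := conj_mem_cj hw
  rwa [← ws_cj, hn] at h1

omit h hM in
theorem conj_R {n : G} (hn : PT.cj n R = R) {w : G} (hw : w ∈ R) : n * w * n⁻¹ ∈ R := by
  have h1 : n * w * n⁻¹ ∈ PT.cj n R := conj_mem_cj hw
  rwa [hn] at h1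

omit h in
/-- conjugation by `n ∈ N(R)` -/
theorem exists_conj_end {n : G} (hn : PT.cj n R = R) : ∃ ν : AddMonoid.End M, ∀ w ∈ ws V R, ν (π w) = π (n * w * n⁻¹) :=
  hM.exists_lift (fun w => n * w * n⁻¹) (fun _ hw => conj_ws hn hw) (fun a _ b _ => by group)
    (fun _ _ ha => conj_R hn ha)

theorem card_phi_le (hA : Adj V Z A R) (hB : Adj V Z B R) :
    Nat.card (PhiT V Z R π A) ≤ Nat.card (PhiT V Z R π B) := by
  have hfin := hM.fin
  have : Finite (AddMonoid.End M) := DFunLike.finite _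
  obtain ⟨n, hnR, hnA⟩ := h.exists_adj hA hB
  have hnR' : PT.cj n⁻¹ R = R := by
    nth_rewrite 1 [← hnR]
    rw [cj_cj, inv_mul_cancel, cj_one]
  obtain ⟨ν, hν⟩ := exists_conj_end hM hnR
  obtain ⟨ν', hν'⟩ := exists_conj_end hM hnR'
  have e1 : ν' * ν = 1 := by
    refine hM.end_ext fun w hw => ?_
    show ν' (ν (π w)) = π w
    rw [hν w hw, hν' _ (conj_ws hnR hw)]
    congr 1
    group
  have key : ∀ φ ∈ PhiT V Z R π A, ν * φ * ν' ∈ PhiT V Z R π B := by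
    intro φ hφ
    obtain ⟨g, hg, e⟩ := (h.mem_phi hM hA).1 hφ
    refine (h.mem_phi hM hB).2 ⟨n * g * n⁻¹, ?_, fun w hw => ?_⟩
    · have h1 := UT_cj V Z R A n
      rw [hnR, hnA] at h1
      rw [h1]
      exact conj_mem_cj hg
    · show ν (φ (ν' (π w))) = _
      have hw' := conj_ws hnR' hw
      rw [hν' w hw, e _ hw', hν _ (h.c_ws hA hg hw')]
      congr 1
      group
  let f : PhiT V Z R π A → PhiT V Z R π B := fun φ => ⟨ν * φ.1 * ν', key φ.1 φ.2⟩
  have e2 : ν * ν' = 1 := by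
    refine hM.end_ext fun w hw => ?_
    show ν (ν' (π w)) = π w
    rw [hν' w hw, hν _ (conj_ws hnR' hw)]
    congr 1
    group
  refine Nat.card_le_card_of_injective f fun φ ψ e => ?_
  have h1 : ν * φ.1 * ν' = ν * ψ.1 * ν' := congrArg Subtype.val e
  have h2 : ν' * (ν * φ.1 * ν') * ν = ν' * (ν * ψ.1 * ν') * ν := by rw [h1]
  have e3 : ∀ φ : AddMonoid.End M, ν' * (ν * φ * ν') * ν = φ := by
    intro φ
    calc ν' * (ν * φ * ν') * ν = ν' * ν * φ * (ν' * ν) := by simp only [mul_assoc]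
      _ = φ := by rw [e1, one_mul, mul_one]
  rw [e3, e3] at h2
  exact Subtype.ext h2

/-- points on one line through `R` -/
theorem same_line (hA : Adj V Z A R) (hB : Adj V Z B R) (hL : IsCj V L) (hRL : R ≤ L) (hAL : A ≤ L) (hBL : B ≤ L) :
    lamR π A ≤ lamR π B ∧ PhiT V Z R π A ≤ PhiT V Z R π B := by
  obtain ⟨k, hk, rfl⟩ := h.K_trans hA.right hL hRL hA.left hAL hB.left hBL hA.ne hB.ne
  have hkW : ∀ w ∈ ws V R, k * w * k⁻¹ * w⁻¹ ∈ R := (mem_kx.1 hk).2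
  have hk' := inv_mem hk
  have hkW' : ∀ w ∈ ws V R, k⁻¹ * w * k⁻¹⁻¹ * w⁻¹ ∈ R := (mem_kx.1 hk').2
  have hRW := h.pt_le_ws hA.right
  have hkw : ∀ w ∈ ws V R, k * w * k⁻¹ ∈ ws V R := fun w hw => by
    have e : k * w * k⁻¹ = k * w * k⁻¹ * w⁻¹ * w := by group
    rw [e]
    exact mul_mem (hRW (hkW w hw)) hw
  have hkw' : ∀ w ∈ ws V R, k⁻¹ * w * k⁻¹⁻¹ ∈ ws V R := fun w hw => by
    have e : k⁻¹ * w * k⁻¹⁻¹ = k⁻¹ * w * k⁻¹⁻¹ * w⁻¹ * w := by group
    rw [e]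
    exact mul_mem (hRW (hkW' w hw)) hw
  have hkR : PT.cj k R = R := cj_eq_iff.2 (kx_normalizes le_rfl hRW hk)
  constructor
  · intro m hm
    obtain ⟨a, ha, rfl⟩ := (h.mem_lam hM hA).1 hm
    refine (h.mem_lam hM hB).2 ⟨k * a * k⁻¹, conj_mem_cj ha, ?_⟩
    exact hM.eq_of (hkw a (h.adj_ws hA ha)) (h.adj_ws hA ha) (hkW a (h.adj_ws hA ha))
  · intro φ hφ
    obtain ⟨g, hg, e⟩ := (h.mem_phi hM hA).1 hφ
    refine (h.mem_phi hM hB).2 ⟨k * g * k⁻¹, ?_, fun w hw => ?_⟩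
    · have h1 := UT_cj V Z R A k
      rw [hkR] at h1
      rw [h1]
      exact conj_mem_cj hg
    · have h1 := hkw' w hw
      have h2 : π w = π (k⁻¹ * w * k⁻¹⁻¹) := (hM.eq_of h1 hw (hkW' w hw)).symm
      rw [h2, e _ h1]
      have h3 := h.c_ws hA hg h1
      have h4 : k * (g * (k⁻¹ * w * k⁻¹⁻¹) * g⁻¹ * (k⁻¹ * w * k⁻¹⁻¹)⁻¹) * k⁻¹ =
          k * g * k⁻¹ * w * (k * g * k⁻¹)⁻¹ * w⁻¹ := by group
      rw [← h4]
      exact (hM.eq_of (hkw _ h3) h3 (hkW _ h3)).symm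

/-- a common element of the points of `A`, `B`: they are on one line through `R` -/
theorem line_of (hA : Adj V Z A R) (hC : Adj V Z C R) {m : M} (hm : m ∈ lamR π A) (hm' : m ∈ lamR π C)
    (h0 : m ≠ 0) : ∃ L, IsCj V L ∧ R ≤ L ∧ A ≤ L ∧ C ≤ L := by
  obtain ⟨α, hα, rfl⟩ := (h.mem_lam hM hA).1 hm
  obtain ⟨β, hβ, e⟩ := (h.mem_lam hM hC).1 hm'
  have h1 : α * β⁻¹ ∈ R := hM.mem_of (h.adj_ws hA hα) (h.adj_ws hC hβ) e.symm
  obtain ⟨L, hL, hjL, hRL⟩ := hC.line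
  have hα1 : α ≠ 1 := fun e => h0 (by rw [e, hM.map_one])
  have hαL : α ∈ L := by
    have e1 : α = α * β⁻¹ * β := by group
    rw [e1]
    exact mul_mem (hRL h1) (hjL hβ)
  obtain ⟨T, hT, hTL, hαT⟩ := h.exists_point hL hαL hα1
  exact ⟨L, hL, hRL, (h.pts_eq hA.left hT hα hαT hα1) ▸ hTL, hjL⟩

theorem adj_cj_ut (hA : Adj V Z A R) (hB : Adj V Z B R) {g : G} (hg : g ∈ UT V Z R A) : Adj V Z (PT.cj g B) R := by
  have h1 := hB.cj g
  rwa [h.cj_ut hA hg] at h1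

/-- **the instance of `McL`** -/
theorem mcl (hR : IsCj Z R) : McL (fun i : {A // Adj V Z A R} => lamR π i.1) (fun i => PhiT V Z R π i.1) where
  fin := hM.fin
  two m := by
    obtain ⟨w, hw, rfl⟩ := hM.surj m
    rw [← hM.mul w hw w hw, h.ws_sq hR hw, hM.map_one]
  val i φ hφ m := by
    obtain ⟨g, hg, e⟩ := (h.mem_phi hM i.2).1 hφ
    obtain ⟨w, hw, rfl⟩ := hM.surj m
    rw [e w hw]
    exact h.pi_mem hM i.2 (h.ut_comm i.2 hg hw)
  ker i φ hφ a ha := by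
    obtain ⟨g, hg, e⟩ := (h.mem_phi hM i.2).1 hφ
    exact (h.kl_iff hM i.2 i.2 hg e).2 (fun a ha => h.u_A i.2 hg ha) a ha
  ti i j φ hφ b hb hb0 hφb := by
    obtain ⟨g, hg, e⟩ := (h.mem_phi hM i.2).1 hφ
    refine (h.kl_iff hM i.2 j.2 hg e).2 ?_
    obtain ⟨β, hβ, rfl⟩ := (h.mem_lam hM j.2).1 hb
    have hβ1 : β ≠ 1 := fun e => hb0 (by rw [e, hM.map_one])
    have h1 := (h.phi_zero_iff hM i.2 hg e (h.adj_ws j.2 hβ)).1 hφb
    exact h.t3 j.2.symm (h.twoEl_ut hg) (fun r hr => h.u_R i.2 hg hr) hβ hβ1 h1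
  card i j := by rw [h.card_lam hM i.2, h.card_lam hM j.2]
  surj i j b hb := by
    rintro ⟨φ, hφ, hφb⟩ a ha
    obtain ⟨g, hg, e⟩ := (h.mem_phi hM i.2).1 hφ
    obtain ⟨β, hβ, rfl⟩ := (h.mem_lam hM j.2).1 hb
    obtain ⟨α, hα, rfl⟩ := (h.mem_lam hM i.2).1 ha
    have h1 : g * β ≠ β * g := fun e1 => hφb ((h.phi_zero_iff hM i.2 hg e (h.adj_ws j.2 hβ)).2 e1)
    obtain ⟨g', hg', e'⟩ := h.ut_val i.2 (h.adj_ws j.2 hβ) ⟨g, hg, h1⟩ hα
    obtain ⟨ψ, hψ, e2⟩ := h.exists_phi hM i.2 hg'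
    exact ⟨ψ, hψ, by rw [e2 β (h.adj_ws j.2 hβ), e']⟩
  cardΦ i j := le_antisymm (h.card_phi_le hM i.2 j.2) (h.card_phi_le hM j.2 i.2)
  mv i j φ hφ := by
    obtain ⟨g, hg, e⟩ := (h.mem_phi hM i.2).1 hφ
    have hk : Adj V Z (PT.cj g j.1) R := h.adj_cj_ut hM i.2 j.2 hg
    have hg' := inv_mem hg
    -- the action of `1 + φ`
    have e1 : ∀ w ∈ ws V R, (1 + φ) (π w) = π (g * w * g⁻¹) := by
      intro w hw
      show π w + φ (π w) = _
      rw [e w hw, ← hM.mul w hw _ (h.c_ws i.2 hg hw), h.ws_comm hR hw (h.c_ws i.2 hg hw)]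
      congr 1
      group
    have e2 : ∀ w ∈ ws V R, (1 + φ) (π w) = π (g⁻¹ * w * g) := by
      intro w hw
      show π w + φ (π w) = _
      have h1 := h.c_ws i.2 hg hw
      have h2 : φ (π w) = π (g⁻¹ * w * g⁻¹⁻¹ * w⁻¹) := by
        rw [h.c_inv i.2 hg hw, e w hw, h.ws_inv hR h1]
      rw [h2, ← hM.mul w hw _ (h.c_ws i.2 hg' hw), h.ws_comm hR hw (h.c_ws i.2 hg' hw)]
      congr 1
      group
    refine ⟨⟨PT.cj g j.1, hk⟩, fun m hm => ?_, fun ψ hψ => ?_⟩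
    · obtain ⟨b, hb, rfl⟩ := (h.mem_lam hM j.2).1 hm
      have h1 := e1 b (h.adj_ws j.2 hb)
      have h2 : π b + φ (π b) = π (g * b * g⁻¹) := h1
      rw [h2]
      exact h.pi_mem hM hk (conj_mem_cj hb)
    · obtain ⟨k, hk', e3⟩ := (h.mem_phi hM j.2).1 hψ
      refine (h.mem_phi hM hk).2 ⟨g * k * g⁻¹, ?_, fun w hw => ?_⟩
      · have h1 := UT_cj V Z R j.1 g
        rw [h.cj_ut i.2 hg] at h1
        rw [h1]
        exact conj_mem_cj hk'
      · show (1 + φ) (ψ ((1 + φ) (π w))) = _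
        have hw1 : g⁻¹ * w * g ∈ ws V R := by
          have := h.u_ws i.2 hg' hw
          rwa [inv_inv] at this
        rw [e2 w hw, e3 _ hw1, e1 _ (h.c_ws j.2 hk' hw1)]
        congr 1
        group
  lne i := by
    obtain ⟨a, ha, ha1⟩ := h.pt_ne_bot i.2.left
    exact ⟨π a, h.pi_mem hM i.2 ha, h.pi_ne hM i.2 ha ha1⟩
  ne i := by
    obtain ⟨C, hc, hf⟩ := h.exists_flat i.2
    obtain ⟨g, hg, w, hw, hgw⟩ : ∃ g ∈ ws V C, ∃ w ∈ ws V R, g * w ≠ w * g := by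
      by_contra hcon
      push Not at hcon
      exact hc.ne fun g hg => mem_centralizer_iff.2 fun w hw => (hcon g hg w hw).symm
    have hgU : g ∈ UT V Z R i.1 := le_UT hc.l hf hg
    obtain ⟨φ, hφ, e⟩ := h.exists_phi hM i.2 hgU
    refine ⟨φ, hφ, fun e1 => hgw ?_⟩
    refine (h.phi_zero_iff hM i.2 hgU e hw).1 ?_
    rw [e1]
    rfl
  gen φ hφ := by
    refine hM.end_ext fun w hw => ?_
    show φ (π w) = 0
    let K : Subgroup G :=
      { carrier := {w | w ∈ ws V R ∧ φ (π w) = 0}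
        one_mem' := ⟨one_mem _, by rw [hM.map_one, map_zero]⟩
        mul_mem' := by
          rintro a b ⟨ha, ha'⟩ ⟨hb, hb'⟩
          exact ⟨mul_mem ha hb, by rw [hM.mul a ha b hb, map_add, ha', hb', add_zero]⟩
        inv_mem' := by
          rintro a ⟨ha, ha'⟩
          exact ⟨inv_mem ha, by rw [hM.map_inv ha, map_neg, ha', neg_zero]⟩ }
    have hK : ws V R ≤ K := by
      refine h.ws_le_of hR (fun r hr => ⟨h.pt_le_ws hR hr, ?_⟩) (fun B hB b hb => ⟨h.adj_ws hB hb, ?_⟩)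
      · rw [(hM.ker r (h.pt_le_ws hR hr)).2 hr, map_zero]
      · exact hφ ⟨B, hB⟩ _ (h.pi_mem hM hB hb)
    exact (hK hw).2
  same i j a ha ha' ha0 := by
    obtain ⟨L, hL, hRL, hiL, hjL⟩ := h.line_of hM i.2 j.2 ha ha' ha0
    have h2 := h.same_line hM i.2 j.2 hL hRL hiL hjL
    have h3 := h.same_line hM j.2 i.2 hL hRL hjL hiL
    exact ⟨le_antisymm h2.1 h3.1, le_antisymm h2.2 h3.2⟩

/-- **`Big`** -/
theorem big (hc : Cr V Z C A R) (hf : Flat V C A R) {w m : G} (hw : w ∈ ws V C) (hm : m ∈ ws V R) (hwm : w * m = m * w)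
    (hw' : ∃ b ∈ ws V R, w * b ≠ b * w) (hm' : ∃ a ∈ ws V C, a * m ≠ m * a) :
    McL.Big (fun i : {A // Adj V Z A R} => lamR π i.1) (fun i => PhiT V Z R π i.1) := by
  have hA : Adj V Z A R := hc.r
  have hR := hA.right
  have h0 := h.mcl hM hR
  have hfin := hM.fin
  have hfinE : Finite (AddMonoid.End M) := DFunLike.finite _
  -- evaluation at `m` on `Φ_A` : onto, with a kernel
  obtain ⟨φ₀, hφ₀, e₀⟩ := h.exists_phi hM hA (le_UT hc.l hf hw)
  have hφ₀m : φ₀ (π m) = 0 := (h.phi_zero_iff hM hA (le_UT hc.l hf hw) e₀ hm).2 hwm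
  have hφ₀0 : φ₀ ≠ 0 := by
    intro e
    obtain ⟨b, hb, hne⟩ := hw'
    refine hne ((h.phi_zero_iff hM hA (le_UT hc.l hf hw) e₀ hb).1 ?_)
    rw [e]
    rfl
  have hlt : Nat.card (lamR π A) < Nat.card (PhiT V Z R π A) := by
    let f : PhiT V Z R π A → lamR π A := fun φ => ⟨φ.1 (π m), h0.val ⟨A, hA⟩ φ.1 φ.2 (π m)⟩
    have hs : Function.Surjective f := by
      rintro ⟨a, ha⟩
      obtain ⟨α, hα, rfl⟩ := (h.mem_lam hM hA).1 ha
      obtain ⟨g, hg, e⟩ := h.flat_val hA hc.l hf hm hm' hα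
      obtain ⟨φ, hφ, e'⟩ := h.exists_phi hM hA (le_UT hc.l hf hg)
      exact ⟨⟨φ, hφ⟩, Subtype.ext (by show φ (π m) = π α; rw [e' m hm, e])⟩
    by_contra hle
    have hb : Function.Bijective f := hs.bijective_of_nat_card_le (not_lt.1 hle)
    have h2 : f ⟨φ₀, hφ₀⟩ = f ⟨0, zero_mem _⟩ := Subtype.ext (by
      show φ₀ (π m) = (0 : AddMonoid.End M) (π m)
      rw [hφ₀m]
      rfl)
    exact hφ₀0 (congrArg Subtype.val (hb.1 h2))
  -- a joined point
  obtain ⟨j, hj⟩ := h0.exists_not_kl (i := ⟨A, hA⟩) hφ₀ hφ₀0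
  have hJ : JJ (fun i : {A // Adj V Z A R} => lamR π i.1) (fun i => PhiT V Z R π i.1) ⟨A, hA⟩ j := h0.jj hφ₀ hj
  obtain ⟨β, hβ, hβ0⟩ := h0.lne j
  obtain ⟨φ, hφ, hφ0, hφβ⟩ : ∃ φ ∈ PhiT V Z R π A, φ ≠ 0 ∧ φ β = 0 := by
    by_contra hcon
    push Not at hcon
    let f : PhiT V Z R π A → lamR π A := fun φ => ⟨φ.1 β, h0.val ⟨A, hA⟩ φ.1 φ.2 β⟩
    refine absurd (Nat.card_le_card_of_injective f fun φ ψ e => ?_) (not_le.2 hlt)
    have h2 : φ.1 β = ψ.1 β := congrArg Subtype.val e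
    by_contra hne
    refine hcon (φ.1 - ψ.1) (sub_mem φ.2 ψ.2) (fun e => hne (Subtype.ext (sub_eq_zero.1 e))) ?_
    show φ.1 β - ψ.1 β = 0
    rw [h2, sub_self]
  exact h0.big_of hJ hφ (h0.kl_of (i := ⟨A, hA⟩) hφ hβ hβ0 hφβ) hφ0

/-- **`Dist`** -/
theorem dist (hNF : NF V Z) (hR : IsCj Z R) :
    _root_.Cfsg.Agent.Omega.NO3S.MidQ.Dist (fun i : {A // Adj V Z A R} => lamR π i.1) (fun i => PhiT V Z R π i.1) := by
  have h0 := h.mcl hM hR
  -- the common centraliser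
  let N : Subgroup G :=
    { carrier := {w | w ∈ ws V R ∧ ∀ B, Adj V Z B R → ∀ u ∈ UT V Z R B, u * w = w * u}
      one_mem' := ⟨one_mem _, fun _ _ u _ => by rw [mul_one, one_mul]⟩
      mul_mem' := by
        rintro a b ⟨ha, ha'⟩ ⟨hb, hb'⟩
        exact ⟨mul_mem ha hb, fun Y hY u hu => by rw [← mul_assoc, ha' Y hY u hu, mul_assoc, hb' Y hY u hu, mul_assoc]⟩
      inv_mem' := by
        rintro a ⟨ha, ha'⟩
        exact ⟨inv_mem ha, fun Y hY u hu => by
          rw [mul_inv_eq_iff_eq_mul, mul_assoc, ha' Y hY u hu, inv_mul_cancel_left]⟩ }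
  have hRN : R ≤ N := fun r hr => ⟨h.pt_le_ws hR hr, fun B hB u hu => h.u_R hB hu hr⟩
  have hcen : centralizer (R : Set G) ≤ normalizer (N : Set G) := by
    have key : ∀ n ∈ centralizer (R : Set G), ∀ w ∈ N, n * w * n⁻¹ ∈ N := by
      intro n hn w hw
      have hnR : PT.cj n R = R := cj_eq_iff.2 (centralizer_le_normalizer _ hn)
      have hnR' : PT.cj n⁻¹ R = R := cj_eq_iff.2 (centralizer_le_normalizer _ (inv_mem hn))
      refine ⟨conj_ws hnR hw.1, fun B hB u hu => ?_⟩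
      have h1 : Adj V Z (PT.cj n⁻¹ B) R := by
        have h2 := hB.cj n⁻¹
        rwa [hnR'] at h2
      have h3 : n⁻¹ * u * n ∈ UT V Z R (PT.cj n⁻¹ B) := by
        have h4 := UT_cj V Z R B n⁻¹
        rw [hnR'] at h4
        rw [h4]
        have := conj_mem_cj (g := n⁻¹) hu
        rwa [inv_inv] at this
      have h4 := hw.2 _ h1 _ h3
      calc u * (n * w * n⁻¹) = n * ((n⁻¹ * u * n) * w) * n⁻¹ := by group
        _ = n * w * n⁻¹ * u := by rw [h4]; group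
    intro n hn
    rw [mem_normalizer_iff]
    intro w
    refine ⟨key n hn w, fun hw => ?_⟩
    have h1 := key n⁻¹ (inv_mem hn) _ hw
    have e : n⁻¹ * (n * w * n⁻¹) * n⁻¹⁻¹ = w := by group
    rwa [e] at h1
  have hNR : N = R := by
    obtain ⟨L, hL, hRL⟩ := h.exists_line hR
    refine hNF R L N hR hL hRL hRN (fun w hw => hw.1) hcen (le_antisymm ?_ (le_inf hRN hRL))
    rintro v ⟨hv, hvL⟩
    by_contra hvR
    have hv1 : v ≠ 1 := fun e => hvR (e ▸ one_mem _)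
    obtain ⟨B, hB, hBL, hvB⟩ := h.exists_point hL hvL hv1
    have hBR : Adj V Z B R := ⟨hB, hR, fun e => hvR (e ▸ hvB), L, hL, hBL, hRL⟩
    -- `Φ_B` moves something, so something moves `B`
    obtain ⟨φ, hφ, hφ0⟩ := h0.ne ⟨B, hBR⟩
    obtain ⟨j, hj⟩ := h0.exists_not_kl hφ hφ0
    have hJ := h0.symm (h0.jj hφ hj)
    obtain ⟨ψ, hψ, hne⟩ := h0.moves hJ (h.pi_mem hM hBR hvB) (h.pi_ne hM hBR hvB hv1)
    obtain ⟨g, hg, e⟩ := (h.mem_phi hM j.2).1 hψ
    exact hne ((h.phi_zero_iff hM j.2 hg e (h.adj_ws hBR hvB)).2 (hv.2 j.1 j.2 g hg))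
  rintro ⟨A, hA⟩ ⟨B, hB⟩ a ha b hb hk
  obtain ⟨α, hα, rfl⟩ := (h.mem_lam hM hA).1 ha
  obtain ⟨β, hβ, rfl⟩ := (h.mem_lam hM hB).1 hb
  have h1 := h.adj_ws hA hα
  have h2 := h.adj_ws hB hβ
  rw [← hM.mul _ h1 _ h2, hM.ker _ (mul_mem h1 h2), ← hNR]
  refine ⟨mul_mem h1 h2, fun X hX u hu => ?_⟩
  obtain ⟨φ, hφ, e⟩ := h.exists_phi hM hX hu
  have h3 := hk ⟨X, hX⟩ φ hφ
  rw [← hM.mul _ h1 _ h2] at h3
  exact (h.phi_zero_iff hM hX hu e (mul_mem h1 h2)).1 h3

end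

end TT

end Cfsg.Agent.Omega.NO3S.MidB.No

end

end
end

private theorem dce_a020276315f0 : _root_.True := by
  try have : _root_.True := by simp only [_root_.Cfsg.Agent.Omega.NO3S.MidB.No.PhiT.eq_1]
  try have : _root_.True := by simp only [_root_.Cfsg.Agent.Omega.NO3S.MidQ.cc.eq_1]
  try have : _root_.True := by simp only [_root_.Cfsg.Agent.Omega.NO3S.MidQ.bb.eq_1]
  try have : _root_.True := by simp only [_root_.Cfsg.Agent.Omega.NO3S.MidB.PhiR.eq_1]
  try have : _root_.True := by simp only [_root_.Cfsg.Agent.Omega.NO3S.MidQ.zu.eq_1]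
  try have : _root_.True := by simp only [_root_.Cfsg.Agent.Omega.NO3S.MidB.lamR.eq_1]
  try have : _root_.True := by simp only [_root_.Cfsg.Agent.Omega.NO3S.MidQ.TNF.cx.eq_1]
  exact _root_.True.intro
end

-- part: Mrg/Omega/NO3S/MidB/No/DistT
section
prune_inst 0x94300300452212000018050030001c4696000092006f000138000542058edf42a0000f61c4201d1210320a4400340060019800100000000000000000011d01a0802a50003200a104660019803087180c00000000000000000000000000041000000000000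
set_option linter.all false
open scoped Cfsg.Agent.FastGrp

-- merged: Cfsg.Agent.Omega.NO3S.MidB.No.McLAct
section

/-!
# Groups generated by transvections: a 2-group normalised by the stabiliser of a point

`McL lam Φ` with `Big`, `Dist`.  `ActTf lam Φ o f` : `f` is an involution of `M`, fixes the point `lam o` elementwise,
permutes the points and the `Φ j`; for `s = (1 + ψ) (1 + ψ')`, `ψ`, `ψ'` killing `lam o`, `s⁻¹ f s f` is a 2-element;
`(1 + φ) f`, `φ ∈ Φ o`, is trivial on every point which it fixes.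

* `McL.not_two` : `(1 + ψ') (1 + ψ)` is not a 2-element on `lam i + lam j` if `ψ ∈ Φ i` moves `lam j`, `ψ' ∈ Φ j` moves
  `lam i`;
* `McL.disp` : `f b + b ∈ lam o` for every `b ∈ lam j`.
-/

set_option autoImplicit false

namespace Cfsg.Agent.Omega.NO3S.MidQ

variable {M ι : Type*} [AddCommGroup M] {lam : ι → AddSubgroup M} {Φ : ι → AddSubgroup (AddMonoid.End M)}

/-- see the header -/
structure ActTf (lam : ι → AddSubgroup M) (Φ : ι → AddSubgroup (AddMonoid.End M)) (o : ι) (f : AddMonoid.End M) :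
    Prop where
  sq : f * f = 1
  fix : ∀ a ∈ lam o, f a = a
  mv : ∀ j, ∃ k, (∀ m ∈ lam j, f m ∈ lam k) ∧ ∀ ψ ∈ Φ j, f * ψ * f ∈ Φ k
  two : ∀ j, ∀ ψ ∈ Φ j, ∀ j', ∀ ψ' ∈ Φ j', Kl lam ψ o → Kl lam ψ' o →
    ∃ n : ℕ, ((1 + ψ') * (1 + ψ) * f * ((1 + ψ) * (1 + ψ')) * f) ^ (2 ^ n) = 1
  triv : ∀ φ ∈ Φ o, ∀ j, ∀ a ∈ lam j, a ≠ 0 → f a + φ (f a) ∈ lam j → f a + φ (f a) = a

namespace McL

variable (h : McL lam Φ)
include h

theorem phi_eq {i j : ι} (e : lam i = lam j) : Φ i = Φ j := by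
  obtain ⟨a, ha, ha0⟩ := h.lne i
  exact (h.same i j a ha (e ▸ ha) ha0).2

omit h in
theorem jj_right {i j k : ι} (hj : JJ lam Φ i j) (e : lam j = lam k) : JJ lam Φ i k := by
  obtain ⟨φ, hφ, b, hb, hne⟩ := hj
  exact ⟨φ, hφ, b, e ▸ hb, hne⟩

theorem jj_left {i j k : ι} (hj : JJ lam Φ i j) (e : lam i = lam k) : JJ lam Φ k j := by
  obtain ⟨φ, hφ, b, hb, hne⟩ := hj
  exact ⟨φ, h.phi_eq e ▸ hφ, b, hb, hne⟩

theorem one_add_eq_zero {i : ι} {φ : AddMonoid.End M} (hφ : φ ∈ Φ i) {m : M} (e : m + φ m = 0) : m = 0 := by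
  have h10 : ((1 + φ) * (1 + φ)) m = 0 := by
    show (1 + φ) (m + φ m) = 0
    rw [e, map_zero]
  rw [h.sq_end hφ] at h10
  exact h10

/-- the elements of `lam i + lam j` lie in points, if `i`, `j` are joined -/
theorem exists_add {i j : ι} (hj : JJ lam Φ i j) {a b : M} (ha : a ∈ lam i) (hb : b ∈ lam j) :
    ∃ k, a + b ∈ lam k ∧ (lam k = lam i ∨ JJ lam Φ i k) := by
  by_cases hb0 : b = 0
  · exact ⟨i, by rw [hb0, add_zero]; exact ha, Or.inl rfl⟩
  obtain ⟨φ, hφ, e⟩ := h.surj i j b hb (h.moves hj hb hb0) a ha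
  obtain ⟨k, h1, h2⟩ := h.mv i j φ hφ
  refine ⟨k, by have := h1 b hb; rwa [e, add_comm] at this, Or.inr ?_⟩
  obtain ⟨χ, hχ, c, hc, hne⟩ := h.symm hj
  refine h.symm ⟨_, h2 χ hχ, c, hc, fun e1 => hne ?_⟩
  have e2 : χ c + φ (χ c) = 0 := by
    have e3 : (1 + φ) (χ (c + φ c)) = 0 := e1
    rw [h.ker i φ hφ c hc, add_zero] at e3
    exact e3
  exact h.one_add_eq_zero hφ e2

theorem pow_two_pow (N : AddMonoid.End M) (n : ℕ) : (1 + N) ^ (2 ^ n) = 1 + N ^ (2 ^ n) := by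
  induction n with
  | zero => rw [pow_zero, pow_one, pow_one]
  | succ n ih =>
    rw [pow_succ, pow_mul, ih, pow_mul, pow_two, pow_two, add_mul, mul_add, mul_add, one_mul, mul_one, one_mul]
    have h1 := h.two_end (N ^ 2 ^ n)
    calc 1 + N ^ 2 ^ n + (N ^ 2 ^ n + N ^ 2 ^ n * N ^ 2 ^ n)
        = 1 + (N ^ 2 ^ n + N ^ 2 ^ n) + N ^ 2 ^ n * N ^ 2 ^ n := by abel
      _ = _ := by rw [h1, add_zero]

/-- **two transvections moving each other's centres do not generate a 2-group** -/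
theorem not_two {i j : ι} {ψ ψ' : AddMonoid.End M} (hψ : ψ ∈ Φ i) (hψ' : ψ' ∈ Φ j) (h1 : ¬ Kl lam ψ j)
    (h2 : ¬ Kl lam ψ' i) (n : ℕ) : ∃ e ∈ lam i ⊔ lam j, (((1 + ψ') * (1 + ψ)) ^ (2 ^ n) : AddMonoid.End M) e ≠ e := by
  have hne : ∀ c ∈ lam i, c ∈ lam j → c = 0 := by
    intro c hc hc'
    by_contra hc0
    have h3 := (h.same i j c hc hc' hc0).1
    exact h1 fun b hb => h.ker i ψ hψ b (h3 ▸ hb)
  set N : AddMonoid.End M := ψ' + ψ + ψ' * ψ with hN
  have e1 : (1 + ψ') * (1 + ψ) = 1 + N := by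
    rw [hN, add_mul, one_mul, mul_add, mul_one]
    abel
  have hNE : ∀ m, N m ∈ lam i ⊔ lam j := by
    intro m
    show ψ' m + ψ m + ψ' (ψ m) ∈ _
    exact add_mem (add_mem ((le_sup_right : lam j ≤ _) (h.val j ψ' hψ' m)) ((le_sup_left : lam i ≤ _) (h.val i ψ hψ m)))
      ((le_sup_right : lam j ≤ _) (h.val j ψ' hψ' _))
  have hinj : ∀ v ∈ lam i ⊔ lam j, N v = 0 → v = 0 := by
    intro v hv hv0
    obtain ⟨a, ha, b, hb, rfl⟩ := AddSubgroup.mem_sup.1 hv
    have e2 : ψ' (a + b) + ψ (a + b) + ψ' (ψ (a + b)) = 0 := hv0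
    have e3 : ψ (a + b) ∈ lam j := by
      have e4 : ψ (a + b) = -(ψ' (a + b) + ψ' (ψ (a + b))) := by
        rw [eq_neg_iff_add_eq_zero, ← e2]
        abel
      rw [e4]
      exact neg_mem (add_mem (h.val j ψ' hψ' _) (h.val j ψ' hψ' _))
    have e5 := hne _ (h.val i ψ hψ _) e3
    rw [e5, map_zero, add_zero, add_zero] at e2
    rw [map_add, h.ker i ψ hψ a ha, zero_add] at e5
    rw [map_add, h.ker j ψ' hψ' b hb, add_zero] at e2
    have hb0 : b = 0 := by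
      by_contra hb0
      exact h.ne_zero hψ h1 hb hb0 e5
    have ha0 : a = 0 := by
      by_contra ha0
      exact h.ne_zero hψ' h2 ha ha0 e2
    rw [ha0, hb0, add_zero]
  obtain ⟨a, ha, ha0⟩ := h.lne i
  have hpow : ∀ k : ℕ, (N ^ k) a ∈ lam i ⊔ lam j ∧ (N ^ k) a ≠ 0 := by
    intro k
    induction k with
    | zero => exact ⟨by rw [pow_zero]; exact (le_sup_left : lam i ≤ _) ha, by rw [pow_zero]; exact ha0⟩
    | succ k ih =>
      have e2 : (N ^ (k + 1)) a = N ((N ^ k) a) := by rw [pow_succ']; rfl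
      rw [e2]
      exact ⟨hNE _, fun e => ih.2 (hinj _ ih.1 e)⟩
  refine ⟨a, (le_sup_left : lam i ≤ _) ha, fun e => (hpow (2 ^ n)).2 ?_⟩
  rw [e1, h.pow_two_pow] at e
  have e2 : a + (N ^ 2 ^ n) a = a := e
  exact add_eq_left.1 e2

/-- `f b + b ∈ lam o` -/
theorem disp (hB : Big lam Φ) (hD : Dist lam Φ) {o : ι} {f : AddMonoid.End M} (A : ActTf lam Φ o f) (j : ι) {b : M}
    (hb : b ∈ lam j) : f b + b ∈ lam o := by
  have hff : ∀ m, f (f m) = m := fun m => DFunLike.congr_fun A.sq m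
  have hf0 : ∀ {m}, f m = 0 → m = 0 := fun {m} e => by rw [← hff m, e, map_zero]
  -- `ψ` kills `f lam_j`
  have key : ∀ j k : ι, (∀ m ∈ lam j, f m ∈ lam k) → (∀ ψ ∈ Φ j, f * ψ * f ∈ Φ k) → ∀ ψ ∈ Φ j, Kl lam ψ o →
      Kl lam ψ k := by
    intro j k h1 h2 ψ hψ hk
    by_contra hno
    obtain ⟨w, hw, hw0⟩ := h.lne j
    have h3 : ¬ Kl lam (f * ψ * f) j := by
      intro e
      refine h.ne_zero hψ hno (h1 w hw) (fun e => hw0 (hf0 e)) ?_
      have e1 : f (ψ (f w)) = 0 := e w hw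
      exact hf0 e1
    obtain ⟨n, hn⟩ := A.two j ψ hψ j 0 (zero_mem _) hk (fun _ _ => rfl)
    obtain ⟨e, -, he⟩ := h.not_two (h2 ψ hψ) hψ h3 hno n
    apply he
    have e1 : (1 + (0 : AddMonoid.End M)) * (1 + ψ) * f * ((1 + ψ) * (1 + 0)) * f = (1 + ψ) * (1 + f * ψ * f) := by
      rw [add_zero, one_mul, mul_one]
      have e2 : f * (1 + ψ) * f = 1 + f * ψ * f := by rw [mul_add, add_mul, mul_one, A.sq]
      rw [← e2]
      simp only [mul_assoc]
    rw [e1] at hn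
    rw [hn]
    rfl
  -- transport of `JJ`
  have tr : ∀ {j k : ι}, (∀ m ∈ lam j, f m ∈ lam k) → (∀ ψ ∈ Φ j, f * ψ * f ∈ Φ k) → ∀ {j' k' : ι},
      (∀ m ∈ lam j', f m ∈ lam k') → JJ lam Φ j j' → JJ lam Φ k k' := by
    rintro j k h1 h2 j' k' h3 ⟨ψ, hψ, c, hc, hne⟩
    refine ⟨_, h2 ψ hψ, f c, h3 c hc, fun e => hne ?_⟩
    have e1 : f (ψ (f (f c))) = 0 := e
    rw [hff] at e1
    exact hf0 e1
  have hoo : ∀ m ∈ lam o, f m ∈ lam o := fun m hm => by rw [A.fix m hm]; exact hm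
  by_cases hb0 : b = 0
  · rw [hb0, map_zero, add_zero]; exact zero_mem _
  obtain ⟨k, hk1, hk2⟩ := A.mv j
  by_cases hoj : lam o = lam j
  · rw [A.fix b (hoj ▸ hb), h.two]
    exact zero_mem _
  by_cases hJ : JJ lam Φ o j
  · -- the class of `o`
    have hjo := h.symm hJ
    have hko : JJ lam Φ k o := tr hk1 hk2 hoo hjo
    -- `f b = v + α`
    obtain ⟨v, hv, α, hα, hfb⟩ : ∃ v ∈ lam j, ∃ α ∈ lam o, f b = v + α := by
      by_cases hjk : lam j = lam k
      · exact ⟨f b, hjk ▸ hk1 b hb, 0, zero_mem _, by rw [add_zero]⟩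
      have hjk' : JJ lam Φ j k := h.trans hB hD hjo (h.symm hko) hjk
      obtain ⟨φ₀, hφ₀, hφ₀k⟩ : ∃ φ₀ ∈ Φ j, ¬ Kl lam φ₀ k := by
        obtain ⟨φ, hφ, c, hc, hne⟩ := hjk'
        exact ⟨φ, hφ, fun e => hne (e c hc)⟩
      have hφ₀o : ¬ Kl lam φ₀ o := fun e => hφ₀k (key j k hk1 hk2 φ₀ hφ₀ e)
      obtain ⟨α, hα, hαe⟩ := h.exists_pre hφ₀ hφ₀o (h.val j φ₀ hφ₀ (f b))
      obtain ⟨γ, hγ, hγe⟩ := h.exists_E hB (key j k hk1 hk2) hjk' hα
      have hγb : γ = f b := by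
        by_contra hne
        refine h.ne_zero hφ₀ hφ₀k (sub_mem hγ (hk1 b hb)) (sub_ne_zero.2 hne) ?_
        have e1 := hγe φ₀ hφ₀
        rw [map_add, h.add_eq_zero] at e1
        rw [map_sub, ← e1, hαe, sub_self]
      rw [hγb] at hγ hγe
      obtain ⟨e, he, he'⟩ := h.exists_add (h.symm hko) hα hγ
      refine ⟨α + f b, ?_, α, hα, ?_⟩
      · by_cases hv0 : α + f b = 0
        · rw [hv0]; exact zero_mem _
        have hje : ¬ JJ lam Φ j e := by
          intro hJe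
          obtain ⟨φ, hφ, hne⟩ := h.moves hJe he hv0
          exact hne (hγe φ hφ)
        rcases he' with he' | he'
        · exact absurd (McL.jj_right hjo he'.symm) hje
        · by_contra hno
          refine hje (h.trans hB hD hjo he' fun e1 => hno ?_)
          rw [e1]
          exact he
      · rw [add_comm α, add_assoc, h.two, add_zero]
    have hv0 : v ≠ 0 := by
      rintro rfl
      rw [zero_add] at hfb
      have e1 : b = α := by rw [← hff b, hfb, A.fix α hα]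
      rw [← e1] at hα
      exact hoj (h.same o j b hα hb hb0).1
    obtain ⟨φ, hφ, hφe⟩ := h.surj o j v hv (h.moves hJ hv hv0) α hα
    have e1 : f b + φ (f b) = v := by
      rw [hfb, map_add, hφe, h.ker o φ hφ α hα, add_zero, add_assoc, h.two, add_zero]
    have e2 := A.triv φ hφ j b hb hb0 (by rw [e1]; exact hv)
    rw [e1] at e2
    rw [hfb, e2, add_comm b, add_assoc, h.two, add_zero]
    exact hα
  · -- another class
    have hkl : ∀ ψ ∈ Φ j, Kl lam ψ o := by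
      intro ψ hψ
      by_contra hno
      exact hJ (h.symm (h.jj hψ hno))
    have hjk : ¬ JJ lam Φ j k := by
      rintro ⟨ψ, hψ, c, hc, hne⟩
      exact hne (key j k hk1 hk2 ψ hψ (hkl ψ hψ) c hc)
    by_cases hjk' : lam j = lam k
    · have e1 := A.triv 0 (zero_mem _) j b hb hb0 (by
        show f b + 0 ∈ lam j
        rw [add_zero, hjk']
        exact hk1 b hb)
      have e2 : f b + 0 = b := e1
      rw [add_zero] at e2
      rw [e2, h.two]
      exact zero_mem _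
    exfalso
    obtain ⟨φ₀, hφ₀, hφ₀0⟩ := h.ne j
    obtain ⟨ν, hν⟩ := h.exists_not_kl hφ₀ hφ₀0
    have hjν : JJ lam Φ j ν := h.jj hφ₀ hν
    obtain ⟨χ, hχ, c, hc, hχc⟩ := h.symm hjν
    have hχj : ¬ Kl lam χ j := fun e => hχc (e c hc)
    have hνj : JJ lam Φ ν j := ⟨χ, hχ, c, hc, hχc⟩
    obtain ⟨k', hk1', hk2'⟩ := A.mv ν
    have hkk' : JJ lam Φ k k' := tr hk1 hk2 hk1' hjν
    have hklν : ∀ ψ ∈ Φ ν, Kl lam ψ o := by
      intro ψ hψ
      by_contra hno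
      have h1 : JJ lam Φ o ν := h.symm (h.jj hψ hno)
      exact hJ (h.trans hB hD h1 hνj hoj)
    -- nothing of the class of `j` is joined to `k`, `k'`
    have hkj : ¬ JJ lam Φ k j := fun e => hjk (h.symm e)
    have hk'j : ¬ JJ lam Φ k' j := fun e => hkj (h.trans hB hD hkk' e fun e1 => hjk' e1.symm)
    have hkν : ¬ JJ lam Φ k ν := fun e => hkj (h.trans hB hD e hνj fun e1 => hjk' e1.symm)
    have hk'ν : ¬ JJ lam Φ k' ν := fun e => hkν (h.trans hB hD hkk' e fun e1 =>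
      hkj (h.jj_left hνj e1.symm))
    obtain ⟨n, hn⟩ := A.two j φ₀ hφ₀ ν χ hχ (hkl φ₀ hφ₀) (hklν χ hχ)
    obtain ⟨e, he, hee⟩ := h.not_two hφ₀ hχ hν hχj n
    apply hee
    -- `f s f` is trivial on `E`
    have hz : ∀ x ∈ lam j ⊔ lam ν, ∀ φ ∈ Φ k, φ x = 0 := by
      intro x hx φ hφ
      obtain ⟨a, ha, c, hc, rfl⟩ := AddSubgroup.mem_sup.1 hx
      have e1 : φ a = 0 := by
        by_contra hne
        exact hkj ⟨φ, hφ, a, ha, hne⟩
      have e2 : φ c = 0 := by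
        by_contra hne
        exact hkν ⟨φ, hφ, c, hc, hne⟩
      rw [map_add, e1, e2, add_zero]
    have hz' : ∀ x ∈ lam j ⊔ lam ν, ∀ φ ∈ Φ k', φ x = 0 := by
      intro x hx φ hφ
      obtain ⟨a, ha, c, hc, rfl⟩ := AddSubgroup.mem_sup.1 hx
      have e1 : φ a = 0 := by
        by_contra hne
        exact hk'j ⟨φ, hφ, a, ha, hne⟩
      have e2 : φ c = 0 := by
        by_contra hne
        exact hk'ν ⟨φ, hφ, c, hc, hne⟩
      rw [map_add, e1, e2, add_zero]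
    have hE : ∀ x ∈ lam j ⊔ lam ν, ((1 + χ) * (1 + φ₀)) x ∈ lam j ⊔ lam ν := by
      intro x hx
      show (x + φ₀ x) + χ (x + φ₀ x) ∈ _
      exact add_mem (add_mem hx ((le_sup_left : lam j ≤ _) (h.val j φ₀ hφ₀ x)))
        ((le_sup_right : lam ν ≤ _) (h.val ν χ hχ _))
    have hT : ∀ x ∈ lam j ⊔ lam ν,
        ((1 + χ) * (1 + φ₀) * f * ((1 + φ₀) * (1 + χ)) * f) x = ((1 + χ) * (1 + φ₀)) x := by
      intro x hx
      have e1 : (1 + χ) * (1 + φ₀) * f * ((1 + φ₀) * (1 + χ)) * f =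
          (1 + χ) * (1 + φ₀) * ((1 + f * φ₀ * f) * (1 + f * χ * f)) := by
        have e2 : f * (1 + φ₀) * f = 1 + f * φ₀ * f := by rw [mul_add, add_mul, mul_one, A.sq]
        have e3 : f * (1 + χ) * f = 1 + f * χ * f := by rw [mul_add, add_mul, mul_one, A.sq]
        rw [← e2, ← e3]
        calc (1 + χ) * (1 + φ₀) * f * ((1 + φ₀) * (1 + χ)) * f
            = (1 + χ) * (1 + φ₀) * (f * (1 + φ₀)) * (1 * ((1 + χ) * f)) := by
              rw [one_mul]; simp only [mul_assoc]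
          _ = (1 + χ) * (1 + φ₀) * (f * (1 + φ₀) * f * (f * (1 + χ) * f)) := by
              rw [← A.sq]; simp only [mul_assoc]
      rw [e1]
      show ((1 + χ) * (1 + φ₀)) ((x + (f * χ * f) x) + (f * φ₀ * f) (x + (f * χ * f) x)) = _
      rw [hz' x hx _ (hk2' χ hχ), add_zero, hz x hx _ (hk2 φ₀ hφ₀), add_zero]
    have hpow : ∀ m : ℕ, ∀ x ∈ lam j ⊔ lam ν, (((1 + χ) * (1 + φ₀)) ^ m) x ∈ lam j ⊔ lam ν ∧
        (((1 + χ) * (1 + φ₀) * f * ((1 + φ₀) * (1 + χ)) * f) ^ m) x = (((1 + χ) * (1 + φ₀)) ^ m) x := by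
      intro m x hx
      induction m with
      | zero => exact ⟨by rw [pow_zero]; exact hx, by rw [pow_zero, pow_zero]⟩
      | succ m ih =>
        have e1 : (((1 + χ) * (1 + φ₀)) ^ (m + 1)) x = ((1 + χ) * (1 + φ₀)) ((((1 + χ) * (1 + φ₀)) ^ m) x) := by
          rw [pow_succ']; rfl
        refine ⟨by rw [e1]; exact hE _ ih.1, ?_⟩
        rw [e1, ← hT _ ih.1, ← ih.2, pow_succ']
        rfl
    rw [← (hpow (2 ^ n) e he).2, hn]
    rfl

end McL

end Cfsg.Agent.Omega.NO3S.MidQ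

end

-- merged: Cfsg.Agent.Mrg.Omega.NO3S.MidB.No.McLT
section

/-!
# NO-3S, the `(R, B)`-frame, `n = 2`: TYPE N from one flat critical triple (bb OMEGA #19438 step 9, #19900 (3.2), (3.3))

* `TT.act` : an element of `W_C`, `C ~ A ~ R`, is an `ActTf` of `W_R / R`;
* `TT.disp_line` : `[W_C, W_R] ≤ L`, `L` the line on `A`, `R`;
* **`Mid.typN_of_flat`** : a critical triple `(C, A, R)` with `[W_C, W_R] ≤ A` and commuting `w ∈ W_C`, `m ∈ W_R`,
  `w ∉ C(W_R)`, `m ∉ C(W_C)`, gives `TypN V Z`, if `NF V Z`.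
-/

set_option autoImplicit false
set_option linter.unusedSectionVars false

namespace Cfsg.Agent.Omega.NO3S.MidB.No

open Subgroup Cfsg.Agent.Omega.NO3S.PT Cfsg.Agent.Omega.NoFF.Basic Cfsg.Agent.ZN
open Cfsg.Agent.Omega.NO3S.MidQ (Adj Com Cr UU ws_of kx_of isCj_iff adj_iff com_iff cr_iff UU_of isCj_symm isCj_trans
  com_cj UU_cj le_UU normalizer_le_UU isPGroup_sSup TypN McL JJ Kl Dist surj_of_inj comm_inj ActTf)
open scoped Pointwise

universe u

variable {G : Type u} [Group G] {V Z X Y R L A A' B B' C : Subgroup G}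
variable {M : Type*} [AddCommGroup M] {π : G → M}

namespace TT

variable [Finite G] {S : Sylow 2 G} {P : Subgroup G} (h : TT S P V Z)
include h

section

variable (hM : Md V R π)
include hM

/-- `1 + φ` is conjugation by `g` -/
theorem one_add (hA : Adj V Z A R) {g : G} (hg : g ∈ UT V Z R A) {φ : AddMonoid.End M}
    (e : ∀ w ∈ ws V R, φ (π w) = π (g * w * g⁻¹ * w⁻¹)) : ∀ w ∈ ws V R, (1 + φ) (π w) = π (g * w * g⁻¹) := by
  intro w hw
  show π w + φ (π w) = _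
  rw [e w hw, ← hM.mul w hw _ (h.c_ws hA hg hw), h.ws_comm hA.right hw (h.c_ws hA hg hw)]
  congr 1
  group

/-- `1 + φ` is conjugation by `g⁻¹` -/
theorem one_add' (hA : Adj V Z A R) {g : G} (hg : g ∈ UT V Z R A) {φ : AddMonoid.End M}
    (e : ∀ w ∈ ws V R, φ (π w) = π (g * w * g⁻¹ * w⁻¹)) : ∀ w ∈ ws V R, (1 + φ) (π w) = π (g⁻¹ * w * g⁻¹⁻¹) := by
  refine h.one_add hM hA (inv_mem hg) fun w hw => ?_
  rw [h.c_inv hA hg hw, e w hw, h.ws_inv hA.right (h.c_ws hA hg hw)]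

/-- an element of `W_C`, `C ~ A ~ R`, on `W_R / R` -/
theorem act (hA : Adj V Z A R) (hC : Adj V Z C A) {f : G} (hf : f ∈ ws V C) {ν : AddMonoid.End M}
    (hν : ∀ w ∈ ws V R, ν (π w) = π (f * w * f⁻¹)) :
    ActTf (fun i : {A // Adj V Z A R} => lamR π i.1) (fun i => PhiT V Z R π i.1) ⟨A, hA⟩ ν := by
  have hR := hA.right
  have hfU : f ∈ UU V Z A := le_UU hC hf
  have hfR : f ∈ centralizer (R : Set G) := h.UU_le_cent_adj hA.symm hfU
  have hcR : PT.cj f R = R := h.cj_UU_adj hfU hA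
  have hff : f * f = 1 := h.ws_sq hC.left hf
  have hfi : f⁻¹ = f := inv_eq_of_mul_eq_one_left hff
  have hW : ∀ {w : G}, w ∈ ws V R → f * w * f⁻¹ ∈ ws V R := fun hw => conj_ws hcR hw
  have hνν : ∀ w ∈ ws V R, ν (ν (π w)) = π w := by
    intro w hw
    rw [hν w hw, hν _ (hW hw)]
    congr 1
    calc f * (f * w * f⁻¹) * f⁻¹ = (f * f) * w * (f * f)⁻¹ := by group
      _ = w := by rw [hff]; group
  refine ⟨hM.end_ext hνν, fun a ha => ?_, fun j => ?_, fun j ψ hψ j' ψ' hψ' hk hk' => ?_, fun φ hφ j a ha ha0 hin => ?_⟩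
  · obtain ⟨α, hα, rfl⟩ := (h.mem_lam hM hA).1 ha
    rw [hν α (h.adj_ws hA hα)]
    congr 1
    rw [← mem_centralizer_iff.1 (h.UU_le_cent_pt hA.left hfU) α hα, mul_inv_cancel_right]
  · have hk : Adj V Z (PT.cj f j.1) R := by
      have h1 := j.2.cj f
      rwa [hcR] at h1
    refine ⟨⟨PT.cj f j.1, hk⟩, fun m hm => ?_, fun ψ hψ => ?_⟩
    · obtain ⟨b, hb, rfl⟩ := (h.mem_lam hM j.2).1 hm
      rw [hν b (h.adj_ws j.2 hb)]
      exact h.pi_mem hM hk (conj_mem_cj hb)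
    · obtain ⟨g, hg, e⟩ := (h.mem_phi hM j.2).1 hψ
      refine (h.mem_phi hM hk).2 ⟨f * g * f⁻¹, ?_, fun w hw => ?_⟩
      · have h1 := UT_cj V Z R j.1 f
        rw [hcR] at h1
        rw [h1]
        exact conj_mem_cj hg
      · show ν (ψ (ν (π w))) = _
        rw [hν w hw, e _ (hW hw), hν _ (h.c_ws j.2 hg (hW hw))]
        congr 1
        have e1 : f * (f * w * f⁻¹) * f⁻¹ = w := by
          calc f * (f * w * f⁻¹) * f⁻¹ = (f * f) * w * (f * f)⁻¹ := by group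
            _ = w := by rw [hff]; group
        calc f * (g * (f * w * f⁻¹) * g⁻¹ * (f * w * f⁻¹)⁻¹) * f⁻¹
            = f * g * f⁻¹ * (f * (f * w * f⁻¹) * f⁻¹) * (f * g * f⁻¹)⁻¹ * (f * (f * w * f⁻¹) * f⁻¹)⁻¹ := by group
          _ = _ := by rw [e1]
  · obtain ⟨g, hg, e⟩ := (h.mem_phi hM j.2).1 hψ
    obtain ⟨g', hg', e'⟩ := (h.mem_phi hM j'.2).1 hψ'
    have hgA := (h.kl_iff hM j.2 hA hg e).1 hk
    have hgA' := (h.kl_iff hM j'.2 hA hg' e').1 hk'
    have hyA : g * g' ∈ centralizer (A : Set G) := by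
      rw [mem_centralizer_iff]
      intro a ha
      rw [← mul_assoc, ← hgA a ha, mul_assoc, ← hgA' a ha, mul_assoc]
    have hyU : g * g' ∈ normalizer ((UU V Z A : Subgroup G) : Set G) :=
      normalizer_le_UU V Z A (centralizer_le_normalizer _ hyA)
    set t := (g * g')⁻¹ * f * (g * g') * f⁻¹ with ht
    have htU : t ∈ UU V Z A := by
      have h1 := (mem_normalizer_iff.1 (inv_mem hyU) f).1 hfU
      rw [inv_inv] at h1
      exact mul_mem h1 (inv_mem hfU)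
    obtain ⟨n, hn⟩ := h.twoEl_UU htU
    have htR : PT.cj t R = R := h.cj_UU_adj htU hA
    refine ⟨n, ?_⟩
    set T := (1 + ψ') * (1 + ψ) * ν * ((1 + ψ) * (1 + ψ')) * ν with hT
    have hact : ∀ w ∈ ws V R, T (π w) = π (t * w * t⁻¹) := by
      intro w hw
      show (1 + ψ') ((1 + ψ) (ν ((1 + ψ) ((1 + ψ') (ν (π w)))))) = _
      have h1 := hW hw
      have h2 := h.u_ws j'.2 hg' h1
      have h3 := h.u_ws j.2 hg h2
      have h4 := hW h3
      have h5 := h.u_ws j.2 (inv_mem hg) h4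
      rw [hν w hw, h.one_add hM j'.2 hg' e' _ h1, h.one_add hM j.2 hg e _ h2, hν _ h3, h.one_add' hM j.2 hg e _ h4,
        h.one_add' hM j'.2 hg' e' _ h5]
      congr 1
      have e1 : t = (g * g')⁻¹ * f * (g * g') * f := by rw [ht, hfi]
      rw [e1]
      group
    have hpow : ∀ k : ℕ, ∀ w ∈ ws V R, (T ^ k) (π w) = π (t ^ k * w * (t ^ k)⁻¹) := by
      intro k
      induction k with
      | zero => intro w hw; simp
      | succ k ih =>
        intro w hw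
        have e1 : (T ^ (k + 1)) (π w) = (T ^ k) (T (π w)) := by rw [pow_succ]; rfl
        rw [e1, hact w hw, ih _ (conj_ws htR hw)]
        congr 1
        rw [pow_succ]
        group
    refine hM.end_ext fun w hw => ?_
    rw [hpow _ w hw, hn]
    simp
  · obtain ⟨u, hu, e⟩ := (h.mem_phi hM hA).1 hφ
    obtain ⟨β, hβ, rfl⟩ := (h.mem_lam hM j.2).1 ha
    have hβW := h.adj_ws j.2 hβ
    have hβ1 : β ≠ 1 := fun e => ha0 (by rw [e, hM.map_one])
    have e1 : ν (π β) + φ (ν (π β)) = π (u * f * β * (u * f)⁻¹) := by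
      have h1 := h.one_add hM hA hu e _ (hW hβW)
      have h2 : ν (π β) + φ (ν (π β)) = π (u * (f * β * f⁻¹) * u⁻¹) := by
        rw [hν β hβW]
        exact h1
      rw [h2]
      congr 1
      group
    have hxU : u * f ∈ UU V Z A := mul_mem (UT_le_UU hu) hfU
    have hxR : u * f ∈ centralizer (R : Set G) := h.UU_le_cent_adj hA.symm hxU
    have hxW : u * f * β * (u * f)⁻¹ ∈ ws V R := conj_ws (h.cj_UU_adj hxU hA) hβW
    rw [e1] at hin ⊢
    obtain ⟨β', hβ', e2⟩ := (h.mem_lam hM j.2).1 hin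
    obtain ⟨L, hL, hjL, hRL⟩ := j.2.line
    have h1 : u * f * β * (u * f)⁻¹ * β'⁻¹ ∈ R := hM.mem_of hxW (h.adj_ws j.2 hβ') e2.symm
    have h2 : u * f * β * (u * f)⁻¹ ∈ L := by
      have e3 : u * f * β * (u * f)⁻¹ = u * f * β * (u * f)⁻¹ * β'⁻¹ * β' := by group
      rw [e3]
      exact mul_mem (hRL h1) (hjL hβ')
    have hβR : β ∉ R := fun e => hβ1 (h.inf_R j.2 hβ e)
    have h3 := h.stab hR hL hRL (centralizer_le_normalizer _ hxR) (hjL hβ) hβR h2
    have h4 := h.act_line hR hL hRL (h.twoEl_UU hxU) hxR h3 β (hjL hβ)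
    exact hM.eq_of hxW hβW h4

end

/-- two different lines on `R` meet in `R` -/
theorem inf_lines (hR : IsCj Z R) {L' : Subgroup G} (hL : IsCj V L) (hL' : IsCj V L') (hRL : R ≤ L) (hRL' : R ≤ L')
    (hne : L ≠ L') {v : G} (hv : v ∈ L) (hv' : v ∈ L') : v ∈ R := by
  by_cases hv1 : v = 1
  · rw [hv1]; exact one_mem _
  obtain ⟨D, hD, hDL, hvD⟩ := h.exists_point hL hv hv1
  obtain ⟨D', hD', hDL', hvD'⟩ := h.exists_point hL' hv' hv1
  have h1 : D = D' := h.pts_eq hD hD' hvD hvD' hv1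
  by_cases h2 : D = R
  · rw [← h2]; exact hvD
  · exact absurd (h.line_unique hR hD (Ne.symm h2) hL hL' hRL hDL hRL' (h1 ▸ hDL')) hne

end TT

end Cfsg.Agent.Omega.NO3S.MidB.No

namespace Cfsg.Agent.Omega.NO3S.MidB

open Subgroup Cfsg.Agent.Omega.NO3S.PT Cfsg.Agent.Omega.NoFF.Basic Cfsg.Agent.ZN Cfsg.Agent.Omega.NO3S.MidB.No
open Cfsg.Agent.Omega.NO3S.MidQ (Adj Com Cr UU TypN)

variable {G : Type*} [Group G] [Finite G] {S : Sylow 2 G} {P V Z C A R : Subgroup G}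

end Cfsg.Agent.Omega.NO3S.MidB

end

-- merged: Cfsg.Agent.Mrg.Omega.NO3S.MidB.No.DistT
section

section


/-!
# NO-3S, the `(R, B)`-frame, `n = 2`: (DIST) for the flat groups; TYPE N without any hypothesis on `W_R / R`

`MidB/Dist.lean` with `UT V Z R X` in place of `U_X`.

* `TT.distT` : `Dist`;
* **`Mid.typN_of_flat'`**.
-/

set_option autoImplicit false
set_option linter.unusedSectionVars false

namespace Cfsg.Agent.Omega.NO3S.MidB.No

open Subgroup Cfsg.Agent.Omega.NO3S.PT Cfsg.Agent.Omega.NoFF.Basic Cfsg.Agent.ZN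
open Cfsg.Agent.Omega.NO3S.MidQ (Adj Com Cr UU ws_of kx_of isCj_iff adj_iff com_iff cr_iff UU_of isCj_symm isCj_trans
  com_cj UU_cj le_UU normalizer_le_UU isPGroup_sSup TypN McL JJ Kl Dist surj_of_inj comm_inj ActTf)
open scoped Pointwise

universe u

variable {G : Type u} [Group G] {V Z X Y R L A A' B B' C : Subgroup G}
variable {M : Type*} [AddCommGroup M] {π : G → M}

namespace TT

variable [Finite G] {S : Sylow 2 G} {P : Subgroup G} (h : TT S P V Z)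
include h

/-- `UT V Z R A` moves `B` -/
theorem jj_iff (hM : Md V R π) (hA : Adj V Z A R) (hB : Adj V Z B R) :
    JJ (fun i : {A // Adj V Z A R} => lamR π i.1) (fun i => PhiT V Z R π i.1) ⟨A, hA⟩ ⟨B, hB⟩ ↔
      ∃ g ∈ UT V Z R A, ∃ b ∈ B, g * b ≠ b * g := by
  constructor
  · rintro ⟨φ, hφ, b, hb, hne⟩
    obtain ⟨g, hg, e⟩ := (h.mem_phi hM hA).1 hφ
    by_contra hcon
    push Not at hcon
    exact hne ((h.kl_iff hM hA hB hg e).2 (fun b hb => hcon g hg b hb) b hb)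
  · rintro ⟨g, hg, b, hb, hgb⟩
    obtain ⟨φ, hφ, e⟩ := h.exists_phi hM hA hg
    exact ⟨φ, hφ, π b, h.pi_mem hM hB hb, fun e1 => hgb ((h.phi_zero_iff hM hA hg e (h.adj_ws hB hb)).1 e1)⟩

/-- if `g ∈ UT` moves an element of `B`, it moves all elements `≠ 1` -/
theorem mv_all (hA : Adj V Z A R) (hB : Adj V Z B R) {g : G} (hg : g ∈ UT V Z R A) (hmv : ∃ b ∈ B, g * b ≠ b * g) {b : G}
    (hb : b ∈ B) (hb1 : b ≠ 1) : g * b ≠ b * g := by
  intro e
  obtain ⟨c, hc, hne⟩ := hmv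
  exact hne (h.t3 hB.symm (h.twoEl_ut hg) (fun r hr => h.u_R hA hg hr) hb hb1 e c hc)

/-- **(DIST)**, group level -/
theorem dist_grp (hA : Adj V Z A R) (hC : Adj V Z C R) {α γ : G} (hα : α ∈ A) (hγ : γ ∈ C)
    (hu : ∀ X, Adj V Z X R → ∀ u ∈ UT V Z R X, u * (α * γ) = α * γ * u) : α * γ ∈ R := by
  have hR := hA.right
  obtain ⟨M, _, π, hM⟩ := exists_md h.toMid hR
  have h0 := h.mcl hM hR
  have hαW : α ∈ ws V R := h.adj_le_ws hA.symm hα
  have hγW : γ ∈ ws V R := h.adj_le_ws hC.symm hγ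
  -- something moves `B ~ R`
  have hjoin : ∀ B, Adj V Z B R → ∃ X, Adj V Z X R ∧ (∃ g ∈ UT V Z R X, ∃ b ∈ B, g * b ≠ b * g) ∧
      ∃ g ∈ UT V Z R B, ∃ x ∈ X, g * x ≠ x * g := by
    intro B hB
    obtain ⟨φ, hφ, hφ0⟩ := h0.ne ⟨B, hB⟩
    obtain ⟨j, hj⟩ := h0.exists_not_kl hφ hφ0
    have hJ : JJ (fun i : {A // Adj V Z A R} => lamR π i.1) (fun i => PhiT V Z R π i.1) ⟨B, hB⟩ j := h0.jj hφ hj
    exact ⟨j.1, j.2, (h.jj_iff hM j.2 hB).1 (h0.symm hJ), (h.jj_iff hM hB j.2).1 hJ⟩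
  have hmoved : ∀ B, Adj V Z B R → ∀ b ∈ B, b ≠ 1 → ∃ X, Adj V Z X R ∧ ∃ u ∈ UT V Z R X, u * b ≠ b * u := by
    intro B hB b hb hb1
    obtain ⟨X, hX, ⟨g, hg, hmv⟩, -⟩ := hjoin B hB
    exact ⟨X, hX, g, hg, h.mv_all hX hB hg hmv hb hb1⟩
  by_cases hα1 : α = 1
  · subst hα1
    by_cases hγ1 : γ = 1
    · rw [hγ1, one_mul]; exact one_mem _
    · exfalso
      obtain ⟨X, hX, u, huX, hne⟩ := hmoved C hC γ hγ hγ1
      have := hu X hX u huX
      rw [one_mul] at this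
      exact hne this
  by_cases hγ1 : γ = 1
  · subst hγ1
    exfalso
    obtain ⟨X, hX, u, huX, hne⟩ := hmoved A hA α hα hα1
    have := hu X hX u huX
    rw [mul_one] at this
    exact hne this
  -- (i)
  have hi : ∀ X, Adj V Z X R → ∀ g ∈ UT V Z R X, g * γ = γ * g → g * α = α * g := by
    intro X hX g hg h1
    have h2 := hu X hX g hg
    have h3 : g * α * γ = α * g * γ := by
      rw [mul_assoc, h2, mul_assoc, mul_assoc, ← h1]
    exact mul_right_cancel h3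
  -- (ii)
  obtain ⟨X, hX, ⟨g₀, hg₀, hg₀A⟩, ⟨g₁, hg₁, hg₁X⟩⟩ := hjoin A hA
  have hg₀C : ∃ c ∈ C, g₀ * c ≠ c * g₀ := by
    refine ⟨γ, hγ, fun e => ?_⟩
    exact h.mv_all hX hA hg₀ hg₀A hα hα1 (hi X hX g₀ hg₀ e)
  obtain ⟨g₂, hg₂, hg₂X⟩ := (h.jj_iff hM hC hX).1 (h0.symm ((h.jj_iff hM hX hC).2 ⟨g₀, hg₀, hg₀C⟩))
  obtain ⟨ξ, hξ, hξ1⟩ := h.pt_ne_bot hX.left
  have hξW : ξ ∈ ws V R := h.adj_le_ws hX.symm hξ
  obtain ⟨τ, hτ, hτξ⟩ := h.ut_val hA hξW ⟨g₁, hg₁, h.mv_all hA hX hg₁ hg₁X hξ hξ1⟩ hα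
  obtain ⟨τ', hτ', hτξ'⟩ := h.ut_val hC hξW ⟨g₂, hg₂, h.mv_all hC hX hg₂ hg₂X hξ hξ1⟩ hγ
  have hτ'γ : τ' * γ = γ * τ' := h.u_A hC hτ' hγ
  have hτ'α := hi C hC τ' hτ' hτ'γ
  -- `t = τ' τ`
  set u0 := α * γ with hu0
  have hαγ : α * γ = γ * α := h.ws_comm hR hαW hγW
  have hu0W : u0 ∈ ws V R := mul_mem hαW hγW
  have hu0sq : u0 * u0 = 1 := h.ws_sq hR hu0W
  have ht1 : (τ' * τ) * ξ * (τ' * τ)⁻¹ = u0 * ξ := by
    have h1 : τ * ξ * τ⁻¹ = α * ξ := by rw [← hτξ]; group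
    have h2 : τ' * ξ * τ'⁻¹ = γ * ξ := by rw [← hτξ']; group
    calc (τ' * τ) * ξ * (τ' * τ)⁻¹ = τ' * (τ * ξ * τ⁻¹) * τ'⁻¹ := by group
      _ = τ' * α * τ'⁻¹ * (τ' * ξ * τ'⁻¹) := by rw [h1]; group
      _ = α * (γ * ξ) := by rw [hτ'α, mul_inv_cancel_right, h2]
      _ = u0 * ξ := by rw [hu0, mul_assoc]
  have hUR : ∀ {Y u}, Adj V Z Y R → u ∈ UT V Z R Y → u ∈ centralizer (R : Set G) := fun hY hu =>
    h.UU_le_cent_adj hY.symm (UT_le_UU hu)
  have htR : τ' * τ ∈ centralizer (R : Set G) := mul_mem (hUR hC hτ') (hUR hA hτ)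
  -- `R0`
  let R0 : Subgroup G :=
    { carrier := {w | w ∈ ws V R ∧ ∀ Y, Adj V Z Y R → ∀ u ∈ UT V Z R Y, u * w = w * u}
      one_mem' := ⟨one_mem _, fun _ _ u _ => by rw [mul_one, one_mul]⟩
      mul_mem' := by
        rintro a b ⟨ha, ha'⟩ ⟨hb, hb'⟩
        exact ⟨mul_mem ha hb, fun Y hY u hu => by rw [← mul_assoc, ha' Y hY u hu, mul_assoc, hb' Y hY u hu, mul_assoc]⟩
      inv_mem' := by
        rintro a ⟨ha, ha'⟩
        exact ⟨inv_mem ha, fun Y hY u hu => by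
          rw [mul_inv_eq_iff_eq_mul, mul_assoc, ha' Y hY u hu, inv_mul_cancel_left]⟩ }
  have hR0W : R0 ≤ ws V R := fun w hw => hw.1
  have hR0N : ∀ g ∈ centralizer (R : Set G), ∀ w ∈ R0, g * w * g⁻¹ ∈ R0 := by
    intro g hg w hw
    have hgR' : PT.cj g⁻¹ R = R := cj_eq_iff.2 (centralizer_le_normalizer _ (inv_mem hg))
    refine ⟨(mem_normalizer_iff.1 (normalizer_le_ws V R (centralizer_le_normalizer _ hg)) w).1 hw.1,
      fun Y hY u hu => ?_⟩
    have h1 : Adj V Z (PT.cj g⁻¹ Y) R := by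
      have h2 := hY.cj g⁻¹
      rwa [hgR'] at h2
    have h3 : g⁻¹ * u * g ∈ UT V Z R (PT.cj g⁻¹ Y) := by
      have h4 := UT_cj V Z R Y g⁻¹
      rw [hgR'] at h4
      rw [h4]
      have := conj_mem_cj (g := g⁻¹) hu
      rwa [inv_inv] at this
    have h4 := hw.2 _ h1 _ h3
    calc u * (g * w * g⁻¹) = g * ((g⁻¹ * u * g) * w) * g⁻¹ := by group
      _ = g * w * g⁻¹ * u := by rw [h4]; group
  have hu0R0 : u0 ∈ R0 := ⟨hu0W, hu⟩
  -- `E`
  let E : Subgroup G :=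
    { carrier := {g | g ∈ centralizer (R : Set G) ∧ g * ξ * g⁻¹ * ξ⁻¹ ∈ R0}
      one_mem' := ⟨one_mem _, by simp only [one_mul, inv_one, mul_one, mul_inv_cancel]; exact one_mem _⟩
      mul_mem' := by
        rintro a b ⟨ha, ha'⟩ ⟨hb, hb'⟩
        refine ⟨mul_mem ha hb, ?_⟩
        have e : a * b * ξ * (a * b)⁻¹ * ξ⁻¹ = a * (b * ξ * b⁻¹ * ξ⁻¹) * a⁻¹ * (a * ξ * a⁻¹ * ξ⁻¹) := by group
        rw [e]
        exact mul_mem (hR0N a ha _ hb') ha'
      inv_mem' := by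
        rintro a ⟨ha, ha'⟩
        refine ⟨inv_mem ha, ?_⟩
        have e : a⁻¹ * ξ * a⁻¹⁻¹ * ξ⁻¹ = a⁻¹ * (a * ξ * a⁻¹ * ξ⁻¹)⁻¹ * a⁻¹⁻¹ := by group
        rw [e]
        exact hR0N a⁻¹ (inv_mem ha) _ (inv_mem ha') }
  -- an odd power
  obtain ⟨m, hm, ht2⟩ := exists_odd_pow (τ' * τ)
  set t := (τ' * τ) ^ m with ht
  have hcomm0 : ∀ w ∈ R0, (τ' * τ) * w = w * (τ' * τ) := fun w hw => by
    rw [mul_assoc, hw.2 A hA τ hτ, ← mul_assoc, hw.2 C hC τ' hτ', mul_assoc]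
  have hcomm : ∀ w ∈ R0, t * w = w * t := fun w hw =>
    (Commute.pow_left (hcomm0 w hw : Commute (τ' * τ) w) m).eq
  have hpow : ∀ n : ℕ, (τ' * τ) ^ n * ξ * ((τ' * τ) ^ n)⁻¹ = u0 ^ n * ξ := by
    intro n
    induction n with
    | zero => simp
    | succ n ih =>
      have h1 : (τ' * τ) * u0 ^ n = u0 ^ n * (τ' * τ) :=
        (Commute.pow_right (hcomm0 u0 hu0R0 : Commute (τ' * τ) u0) n).eq
      calc (τ' * τ) ^ (n + 1) * ξ * ((τ' * τ) ^ (n + 1))⁻¹
          = (τ' * τ) * ((τ' * τ) ^ n * ξ * ((τ' * τ) ^ n)⁻¹) * (τ' * τ)⁻¹ := by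
            rw [pow_succ' (τ' * τ) n, mul_inv_rev]
            simp only [mul_assoc]
        _ = (τ' * τ) * u0 ^ n * ξ * (τ' * τ)⁻¹ := by rw [ih]; simp only [mul_assoc]
        _ = u0 ^ n * ((τ' * τ) * ξ * (τ' * τ)⁻¹) := by rw [h1]; simp only [mul_assoc]
        _ = u0 ^ (n + 1) * ξ := by rw [ht1, pow_succ]; simp only [mul_assoc]
  have htξ : t * ξ * t⁻¹ = u0 * ξ := by
    rw [ht, hpow m]
    obtain ⟨k, hk⟩ := hm
    rw [hk, pow_succ, pow_mul, pow_two, hu0sq, one_pow, one_mul]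
  have htE : t ∈ E := by
    refine ⟨pow_mem htR m, ?_⟩
    rw [htξ, mul_inv_cancel_right]
    exact hu0R0
  -- the flag
  obtain ⟨L, hL, hXL, hRL⟩ := hX.line
  obtain ⟨T, Q, h'⟩ := h.flag hR hL hRL
  have hT0E : (T : Subgroup G) ⊓ centralizer (R : Set G) ≤ E := by
    intro s hs
    refine ⟨hs.2, ?_⟩
    have h1 := h'.pl.act s hs ξ (hXL hξ)
    exact ⟨h.pt_le_ws hR h1, fun Y hY u hu => h.u_R hY hu h1⟩
  obtain ⟨e, he, heT⟩ := exists_conj_of_max (T.isPGroup'.to_le inf_le_left) hT0E (fun D hD hDE => by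
    obtain ⟨m, -, hm⟩ := h'.pl.exists_le_conjB (H := normalizer (R : Set G)) h'.pl.SN le_rfl hD
      (fun d hd => centralizer_le_normalizer _ (hDE hd).1) (fun d hd => (hDE hd).1)
    exact (Subgroup.card_le_of_le hm).trans (card_cj m _).le) ht2 htE
  -- `w = [e, ξ]`
  set w := e * ξ * e⁻¹ * ξ⁻¹ with hw
  have hwR0 : w ∈ R0 := he.2
  have h1 := h'.pl.act _ heT ξ (hXL hξ)
  have h2 : e * ((e⁻¹ * t * e) * ξ * (e⁻¹ * t * e)⁻¹ * ξ⁻¹) * e⁻¹ ∈ R := by
    rw [← mem_centralizer_iff.1 he.1 _ h1, mul_inv_cancel_right]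
    exact h1
  have h3 : e * ((e⁻¹ * t * e) * ξ * (e⁻¹ * t * e)⁻¹ * ξ⁻¹) * e⁻¹ = u0 := by
    have h4 : e * ξ * e⁻¹ = w * ξ := by rw [hw]; group
    have h5 : w * u0 = u0 * w := h.ws_comm hR (hR0W hwR0) hu0W
    calc e * ((e⁻¹ * t * e) * ξ * (e⁻¹ * t * e)⁻¹ * ξ⁻¹) * e⁻¹
        = t * (e * ξ * e⁻¹) * t⁻¹ * (e * ξ * e⁻¹)⁻¹ := by group
      _ = t * w * ξ * t⁻¹ * (w * ξ)⁻¹ := by rw [h4]; group
      _ = w * (t * ξ * t⁻¹) * ξ⁻¹ * w⁻¹ := by rw [hcomm w hwR0]; group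
      _ = w * u0 * w⁻¹ := by rw [htξ]; group
      _ = u0 := by rw [h5, mul_inv_cancel_right]
  rwa [h3] at h2

/-- **`Dist`** -/
theorem distT (hM : Md V R π) : _root_.Cfsg.Agent.Omega.NO3S.MidQ.Dist (fun i : {A // Adj V Z A R} => lamR π i.1) (fun i => PhiT V Z R π i.1) := by
  rintro ⟨A, hA⟩ ⟨B, hB⟩ a ha b hb hk
  obtain ⟨α, hα, rfl⟩ := (h.mem_lam hM hA).1 ha
  obtain ⟨β, hβ, rfl⟩ := (h.mem_lam hM hB).1 hb
  have h1 := h.adj_ws hA hα
  have h2 := h.adj_ws hB hβ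
  rw [← hM.mul _ h1 _ h2, hM.ker _ (mul_mem h1 h2)]
  refine h.dist_grp hA hB hα hβ fun X hX u hu => ?_
  obtain ⟨φ, hφ, e⟩ := h.exists_phi hM hX hu
  have h3 := hk ⟨X, hX⟩ φ hφ
  rw [← hM.mul _ h1 _ h2] at h3
  exact (h.phi_zero_iff hM hX hu e (mul_mem h1 h2)).1 h3

/-- `[W_C, W_R] ≤ L`, `L` the line on `A`, `R`, `C ~ A` -/
theorem disp_line' (hM : Md V R π) (hB : McL.Big (fun i : {A // Adj V Z A R} => lamR π i.1) (fun i => PhiT V Z R π i.1))
    (hA : Adj V Z A R) (hC : Adj V Z C A) (hL : IsCj V L) (hAL : A ≤ L) (hRL : R ≤ L) {f w : G}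
    (hf : f ∈ ws V C) (hw : w ∈ ws V R) : f * w * f⁻¹ * w⁻¹ ∈ L := by
  have hR := hA.right
  have hfU : f ∈ UU V Z A := le_UU hC hf
  have hfR : f ∈ centralizer (R : Set G) := h.UU_le_cent_adj hA.symm hfU
  have hcR : PT.cj f R = R := h.cj_UU_adj hfU hA
  obtain ⟨ν, hν⟩ := exists_conj_end hM hcR
  have hact := h.act hM hA hC hf hν
  have hLW : L ≤ ws V R := h.line_le hL hRL
  have hcW : ∀ {w : G}, w ∈ ws V R → f * w * f⁻¹ * w⁻¹ ∈ ws V R := fun hw => mul_mem (conj_ws hcR hw) (inv_mem hw)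
  let K : Subgroup G :=
    { carrier := {w | w ∈ ws V R ∧ f * w * f⁻¹ * w⁻¹ ∈ L}
      one_mem' := ⟨one_mem _, by simp⟩
      mul_mem' := by
        rintro a b ⟨ha, ha'⟩ ⟨hb, hb'⟩
        refine ⟨mul_mem ha hb, ?_⟩
        have h1 := h.ws_comm hR ha (hcW hb)
        have e : f * (a * b) * f⁻¹ * (a * b)⁻¹ = f * a * f⁻¹ * a⁻¹ * (f * b * f⁻¹ * b⁻¹) := by
          calc f * (a * b) * f⁻¹ * (a * b)⁻¹ = f * a * f⁻¹ * a⁻¹ * (a * (f * b * f⁻¹ * b⁻¹)) * a⁻¹ := by group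
            _ = _ := by rw [h1]; group
        rw [e]
        exact mul_mem ha' hb'
      inv_mem' := by
        rintro a ⟨ha, ha'⟩
        refine ⟨inv_mem ha, ?_⟩
        have h1 := h.ws_comm hR (inv_mem ha) (inv_mem (hcW ha))
        have e : f * a⁻¹ * f⁻¹ * a⁻¹⁻¹ = (f * a * f⁻¹ * a⁻¹)⁻¹ := by
          calc f * a⁻¹ * f⁻¹ * a⁻¹⁻¹ = a⁻¹ * (f * a * f⁻¹ * a⁻¹)⁻¹ * a := by group
            _ = _ := by rw [h1]; group
        rw [e]
        exact inv_mem ha' }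
  have hK : ws V R ≤ K := by
    refine h.ws_le_of hR (fun r hr => ⟨h.pt_le_ws hR hr, ?_⟩) (fun B hB' b hb => ⟨h.adj_ws hB' hb, ?_⟩)
    · rw [← mem_centralizer_iff.1 hfR r hr]
      simp
    · have hbW := h.adj_ws hB' hb
      have h1 := (h.mcl hM hR).disp hB (h.distT hM) hact ⟨B, hB'⟩ (h.pi_mem hM hB' hb)
      have h2 : ν (π b) + π b = π (f * b * f⁻¹ * b⁻¹) := by
        rw [hν b hbW, hM.mul _ (conj_ws hcR hbW) _ (inv_mem hbW), h.ws_inv hR hbW]
      rw [h2] at h1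
      obtain ⟨a, ha, e⟩ := (h.mem_lam hM hA).1 h1
      have h3 : f * b * f⁻¹ * b⁻¹ * a⁻¹ ∈ R := hM.mem_of (hcW hbW) (h.adj_ws hA ha) e.symm
      have e3 : f * b * f⁻¹ * b⁻¹ = f * b * f⁻¹ * b⁻¹ * a⁻¹ * a := by group
      rw [e3]
      exact mul_mem (hRL h3) (hAL ha)
  exact (hK hw).2

end TT

end Cfsg.Agent.Omega.NO3S.MidB.No

namespace Cfsg.Agent.Omega.NO3S.MidB

open Subgroup Cfsg.Agent.Omega.NO3S.PT Cfsg.Agent.Omega.NoFF.Basic Cfsg.Agent.ZN Cfsg.Agent.Omega.NO3S.MidB.No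
open Cfsg.Agent.Omega.NO3S.MidQ (Adj Com Cr UU TypN)

variable {G : Type*} [Group G] [Finite G] {S : Sylow 2 G} {P V Z C A R : Subgroup G}

/-- **TYPE N from one flat critical triple** (no hypothesis on `W_R / R`) -/
theorem Mid.typN_of_flat' (h : Mid S P V Z) (hc : Cr V Z C A R)
    (hi : ∀ a ∈ ws V C, ∀ b ∈ ws V R, a * b * a⁻¹ * b⁻¹ ∈ A) {w m : G} (hw : w ∈ ws V C) (hm : m ∈ ws V R)
    (hwm : w * m = m * w) (hw' : ∃ b ∈ ws V R, w * b ≠ b * w) (hm' : ∃ a ∈ ws V C, a * m ≠ m * a) : TypN V Z := by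
  have hT : TT S P V Z := ⟨h, C, A, R, hc, hi⟩
  -- `[W_D, W_X] ≤ L` for every `D ~ Y ~ X`, `L` the line on `Y`, `X`
  have key : ∀ X Y D L : Subgroup G, Adj V Z Y X → Adj V Z D Y → IsCj V L → Y ≤ L → X ≤ L → ∀ f ∈ ws V D,
      ∀ x ∈ ws V X, f * x * f⁻¹ * x⁻¹ ∈ L := by
    intro X Y D L hYX hDY hL hYL hXL f hf x hx
    obtain ⟨g, hg⟩ : ∃ g : G, PT.cj g R = X := by
      obtain ⟨a, ha⟩ := hc.r.right
      obtain ⟨b, hb⟩ := hYX.right
      exact ⟨b * a⁻¹, by rw [ha, hb, cj_cj, inv_mul_cancel_right]⟩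
    obtain ⟨M, _, π, hM⟩ := exists_md h hYX.right
    have hc' := hc.cj g
    have hi' : Flat V (PT.cj g C) (PT.cj g A) (PT.cj g R) := Flat.cj hi g
    rw [hg] at hc' hi'
    have hcw : ∀ {K : Subgroup G} {y : G}, y ∈ ws V K → g * y * g⁻¹ ∈ ws V (PT.cj g K) := fun hy => by
      rw [ws_cj]
      exact conj_mem_cj hy
    have hmX : g * m * g⁻¹ ∈ ws V X := by
      have := hcw hm
      rwa [hg] at this
    refine hT.disp_line' hM (hT.big hM hc' hi' (hcw hw) hmX ?_ ?_ ?_) hYX hDY hL hYL hXL hf hx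
    · calc g * w * g⁻¹ * (g * m * g⁻¹) = g * (w * m) * g⁻¹ := by group
        _ = g * m * g⁻¹ * (g * w * g⁻¹) := by rw [hwm]; group
    · obtain ⟨b, hb, hne⟩ := hw'
      refine ⟨g * b * g⁻¹, ?_, fun e => hne ?_⟩
      · have := hcw hb
        rwa [hg] at this
      · have h3 := congrArg (fun t => g⁻¹ * t * g) e
        simpa only [mul_assoc, _root_.inv_mul_cancel_left, _root_.inv_mul_cancel, _root_.mul_one] using h3
    · obtain ⟨a, ha, hne⟩ := hm'
      refine ⟨g * a * g⁻¹, hcw ha, fun e => hne ?_⟩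
      have h3 := congrArg (fun t => g⁻¹ * t * g) e
      simpa only [mul_assoc, _root_.inv_mul_cancel_left, _root_.inv_mul_cancel, _root_.mul_one] using h3
  intro X R' Y hcr a ha b hb
  obtain ⟨L, hL, hXL, hRL⟩ := hcr.l.line
  obtain ⟨L', hL', hRL', hYL'⟩ := hcr.r.line
  have hne : L ≠ L' := by
    rintro rfl
    exact h.cr_not_le hcr hL hYL' hXL
  -- centre `Y`: `[W_X, W_Y] ≤ L'`
  have h1 := key Y R' X L' hcr.r hcr.l hL' hRL' hYL' a ha b hb
  -- centre `X`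
  have h2 := key X R' Y L hcr.l.symm hcr.r.symm hL hRL hXL b hb a ha
  have h3 : a * b * a⁻¹ * b⁻¹ ∈ L := by
    have e : a * b * a⁻¹ * b⁻¹ = (b * a * b⁻¹ * a⁻¹)⁻¹ := by group
    rw [e]
    exact inv_mem h2
  exact hT.inf_lines hcr.l.right hL hL' hRL hRL' hne h3 h1

end Cfsg.Agent.Omega.NO3S.MidB

end

section


/-!
# NO-3S, natural lines, critical distance 2: movers (bb OMEGA #20170 (D))

* `o2_le_kx` : a normal 2-subgroup of `C_G(X)` lies in `K_X` (`O₂(C_G(X)/K_X) = 1`);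
* `UU_le_o2_line` : `U_R ≤ O₂(C_G(L))` for the lines `L` on `R`;
* `not_line` : an odd element `k ≠ 1` inverted by `f ∈ O₂(C_G(L))` moves `L`;
* `exists_mv` : `f ∈ W_B - C(W_A)` has a mover `k`: `Mv V Z A R B f k`;
* `Mv.pow`, `Mv.swap`, `Mv.inv'`, `Mv.pow_ne_one`, `Mv.mv_iff`.
-/

set_option autoImplicit false
set_option linter.unusedSectionVars false

namespace Cfsg.Agent.Omega.NO3S.MidB.No

open Subgroup Cfsg.Agent.Omega.NO3S.PT Cfsg.Agent.Omega.NoFF.Basic Cfsg.Agent.ZN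
open Cfsg.Agent.Omega.NO3S.MidQ (Adj Com Cr UU isCj_iff le_UU normalizer_le_UU)
open Cfsg.Agent.MinSimple.VModule (le_o2 o2_isPGroup)
open scoped Pointwise

variable {G : Type*} [Group G]

/-! ### Elements of odd order inverted by `f` -/

/-- an element of odd order is a power of its square -/
theorem mov_sq {h : G} (ho : Odd (orderOf h)) : ∃ k : ℕ, (h * h) ^ k = h := by
  obtain ⟨k, hk⟩ := ho
  refine ⟨k + 1, ?_⟩
  rw [← pow_two, ← pow_mul, show 2 * (k + 1) = orderOf h + 1 by omega, pow_succ, pow_orderOf_eq_one, one_mul]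

theorem mov_mem {h : G} (ho : Odd (orderOf h)) {N : Subgroup G} (h2 : h * h ∈ N) : h ∈ N := by
  obtain ⟨k, hk⟩ := mov_sq ho
  rw [← hk]
  exact pow_mem h2 k

theorem mov_inv {f h : G} (hi : f * h * f⁻¹ = h⁻¹) : f * h⁻¹ * f⁻¹ = h := by
  have := congrArg (fun x => x⁻¹) hi
  simpa only [mul_assoc, _root_.mul_inv_rev, _root_.inv_inv] using this

/-- `h f h⁻¹ f⁻¹ = h²` if `f` inverts `h` -/
theorem mov_conj {f h : G} (hi : f * h * f⁻¹ = h⁻¹) : h * f * h⁻¹ * f⁻¹ = h * h := by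
  calc h * f * h⁻¹ * f⁻¹ = h * (f * h⁻¹ * f⁻¹) := by group
    _ = h * h := by rw [mov_inv hi]

theorem mov_pow {f h : G} (hi : f * h * f⁻¹ = h⁻¹) (i : ℕ) : f * h ^ i * f⁻¹ = (h ^ i)⁻¹ := by
  rw [← conj_pow, hi, inv_pow]

theorem mov_odd {h : G} (ho : Odd (orderOf h)) (i : ℕ) : Odd (orderOf (h ^ i)) :=
  Odd.of_dvd_nat ho (orderOf_pow_dvd i)

/-- a 2-element of odd order is trivial -/
theorem mov_one {h : G} (ho : Odd (orderOf h)) {N : Subgroup G} (hN : IsPGroup 2 N) (h1 : h ∈ N) : h = 1 := by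
  obtain ⟨k, hk⟩ := hN ⟨h, h1⟩
  have hk' : h ^ 2 ^ k = 1 := congrArg Subtype.val hk
  have h4 : orderOf h ∣ 2 ^ k := orderOf_dvd_of_pow_eq_one hk'
  have h5 : Nat.Coprime (orderOf h) (2 ^ k) := Nat.Coprime.pow_right _ (Nat.coprime_two_right.2 ho)
  exact orderOf_eq_one_iff.1 (Nat.eq_one_of_dvd_coprimes h5 dvd_rfl h4)

theorem mov_norm_cent {A : Subgroup G} :
    normalizer (A : Set G) ≤ normalizer ((centralizer (A : Set G) : Subgroup G) : Set G) := by
  intro g hg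
  rw [mem_normalizer_iff]
  have key : ∀ g ∈ normalizer (A : Set G), ∀ a ∈ centralizer (A : Set G), g * a * g⁻¹ ∈ centralizer (A : Set G) := by
    intro g hg a ha
    rw [mem_centralizer_iff] at ha ⊢
    intro w hw
    have hw' : g⁻¹ * w * g ∈ A := by
      have := (mem_normalizer_iff.1 (inv_mem hg) w).1 hw
      rwa [inv_inv] at this
    have h3 := ha _ hw'
    calc w * (g * a * g⁻¹) = g * (g⁻¹ * w * g * a) * g⁻¹ := by group
      _ = g * (a * (g⁻¹ * w * g)) * g⁻¹ := by rw [h3]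
      _ = g * a * g⁻¹ * w := by group
  intro x
  refine ⟨key g hg x, fun hx => ?_⟩
  have := key g⁻¹ (inv_mem hg) _ hx
  have e : g⁻¹ * (g * x * g⁻¹) * g⁻¹⁻¹ = x := by group
  rwa [e] at this

/-- an odd element `k ≠ 1` inverted by `f ∈ O₂(C_G(L))` does not normalise `L` -/
theorem not_line [Finite G] {L : Subgroup G} {f k : G} (hf : f ∈ o2 (centralizer (L : Set G)))
    (ho : Odd (orderOf k)) (hi : f * k * f⁻¹ = k⁻¹) (h1 : k ≠ 1) : cj k L ≠ L := by
  intro hL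
  have : Fact (Nat.Prime 2) := ⟨Nat.prime_two⟩
  have hn : k ∈ normalizer (L : Set G) := cj_eq_iff.1 hL
  have hN : normalizer (L : Set G) ≤ normalizer ((o2 (centralizer (L : Set G)) : Subgroup G) : Set G) :=
    mov_norm_cent.trans (Omega.normalizer_le_normalizer_o2' _)
  have h2 : k * f * k⁻¹ * f⁻¹ ∈ o2 (centralizer (L : Set G)) :=
    mul_mem ((mem_normalizer_iff.1 (hN hn) f).1 hf) (inv_mem hf)
  rw [mov_conj hi] at h2
  exact h1 (mov_one ho (o2_isPGroup _) (mov_mem ho h2))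

variable [Finite G] {S : Sylow 2 G} {P V Z X Y R A B L : Subgroup G}

/-- **`O₂(C_G(X)/K_X) = 1`** : a normal 2-subgroup of `C_G(X)` lies in `K_X` -/
theorem o2_le_kx (h : Mid S P V Z) (hX : IsCj Z X) {N : Subgroup G} (hN : IsPGroup 2 N)
    (hNX : N ≤ centralizer (X : Set G)) (hn : centralizer (X : Set G) ≤ normalizer (N : Set G)) : N ≤ kx V X := by
  intro q hq
  refine mem_kx.2 ⟨fun x hx => (mem_centralizer_iff.1 (hNX hq) x hx).symm, ?_⟩
  -- `{w ∈ C_G(X) | [q, w] ∈ X}`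
  let D : Subgroup G :=
    { carrier := {w | w ∈ centralizer (X : Set G) ∧ q * w * q⁻¹ * w⁻¹ ∈ X}
      one_mem' := ⟨one_mem _, by
        have : q * 1 * q⁻¹ * 1⁻¹ = 1 := by group
        rw [this]; exact one_mem _⟩
      mul_mem' := by
        rintro a b ⟨ha, ha1⟩ ⟨hb, hb1⟩
        refine ⟨mul_mem ha hb, ?_⟩
        have h1 := mem_centralizer_iff.1 ha _ hb1
        have e : q * (a * b) * q⁻¹ * (a * b)⁻¹ = (q * a * q⁻¹ * a⁻¹) * (a * (q * b * q⁻¹ * b⁻¹) * a⁻¹) := by group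
        rw [e, ← h1, mul_inv_cancel_right]
        exact mul_mem ha1 hb1
      inv_mem' := by
        rintro a ⟨ha, ha1⟩
        refine ⟨inv_mem ha, ?_⟩
        have h1 := mem_centralizer_iff.1 (inv_mem ha) _ (inv_mem ha1)
        have e : q * a⁻¹ * q⁻¹ * a⁻¹⁻¹ = a⁻¹ * (q * a * q⁻¹ * a⁻¹)⁻¹ * a⁻¹⁻¹ := by group
        rw [e, ← h1, mul_inv_cancel_right]
        exact inv_mem ha1 }
  have hD : ws V X ≤ D := by
    refine ws_le fun L hL hXL => ?_
    obtain ⟨T, Q, h'⟩ := h.flag hX hL hXL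
    have hB := h'.pl.B_le
    obtain ⟨m, hm, hle⟩ := h'.pl.exists_le_conj (H := centralizer (X : Set G)) hB le_rfl hN hNX
    have hNB : N ≤ (T : Subgroup G) ⊓ centralizer (X : Set G) := by
      have h1 := cj_eq_iff.2 (hn hm)
      rw [← h1] at hle
      exact cj_le_cj.1 hle
    intro v hv
    refine ⟨mem_centralizer_iff.2 fun x hx => h'.pl.Vcomm (hXL hx) hv, ?_⟩
    exact h'.pl.act q (hNB hq) v hv
  exact fun w hw => (hD hw).2

/-- `U_R ≤ O₂(C_G(L))` for the lines `L` on `R` -/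
theorem UU_le_o2_line (h : Mid S P V Z) (hL : IsCj V L) (hRL : R ≤ L) :
    UU V Z R ≤ o2 (centralizer (L : Set G)) := by
  have h1 : UU V Z R ≤ centralizer (L : Set G) :=
    (h.UU_le_centralizer R).trans (centralizer_le (le_ws hL hRL))
  refine le_o2 h1 (h.isPGroup_UU R) ?_
  exact (centralizer_le hRL).trans ((centralizer_le_normalizer _).trans (normalizer_le_UU V Z R))

/-- **existence of movers** -/
theorem exists_mv (h : Mid S P V Z) (hc : Cr V Z A R B) {f : G} (hf : f ∈ ws V B)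
    (hn : ¬ ∀ x ∈ ws V A, f * x = x * f) : ∃ k, Mv V Z A R B f k := by
  have : Fact (Nat.Prime 2) := ⟨Nat.prime_two⟩
  have hA := hc.l.left
  have hff : f * f = 1 := h.ws_sq hc.r.right hf
  have hfA : f ∈ centralizer (A : Set G) := h.ws_le_cent hc.r.symm hc.l.symm hf
  -- `f` is in no normal 2-subgroup of `C_G(A)`
  let C : Subgroup G := centralizer (A : Set G)
  obtain ⟨k, hk1, hko, hki⟩ := Cfsg.Agent.Involutions.BaerSuzuki.exists_odd_inverted (G := C) ⟨f, hfA⟩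
    (Subtype.ext hff) (by
      intro hP
      have hmap : IsPGroup 2 ((normalClosure {(⟨f, hfA⟩ : C)} : Subgroup C).map C.subtype) := hP.map _
      have hle : (normalClosure {(⟨f, hfA⟩ : C)} : Subgroup C).map C.subtype ≤ kx V A := by
        refine o2_le_kx h hA hmap (by
          rintro _ ⟨x, -, rfl⟩
          exact x.2) ?_
        intro c hc'
        have key : ∀ c ∈ C, ∀ x ∈ (normalClosure {(⟨f, hfA⟩ : C)} : Subgroup C).map C.subtype,
            c * x * c⁻¹ ∈ (normalClosure {(⟨f, hfA⟩ : C)} : Subgroup C).map C.subtype := by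
          rintro c hc' _ ⟨x, hx, rfl⟩
          refine ⟨⟨c, hc'⟩ * x * ⟨c, hc'⟩⁻¹, ?_, rfl⟩
          exact (inferInstance : (normalClosure {(⟨f, hfA⟩ : C)} : Subgroup C).Normal).conj_mem x hx _
        rw [mem_normalizer_iff]
        refine fun x => ⟨key c hc' x, fun hx => ?_⟩
        have := key c⁻¹ (inv_mem hc') _ hx
        have e : c⁻¹ * (c * x * c⁻¹) * c⁻¹⁻¹ = x := by group
        rwa [e] at this
      have hfk : f ∈ kx V A := hle ⟨⟨f, hfA⟩, subset_normalClosure rfl, rfl⟩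
      exact hn (h.cent_of_mod hc hf (mem_kx.1 hfk).2))
  have hki' : f * (k : G) * f⁻¹ = (k : G)⁻¹ := congrArg Subtype.val hki
  have hko' : Odd (orderOf (k : G)) := by rwa [Subgroup.orderOf_coe]
  refine ⟨k, hc, hf, hn, fun x hx => (mem_centralizer_iff.1 k.2 x hx).symm, hko', fun e => hk1 (Subtype.ext e), hki', ?_⟩
  intro i hi L hL _ hRL
  exact not_line (UU_le_o2_line h hL hRL (le_UU hc.r.symm hf)) (mov_odd hko' i) (mov_pow hki' i) hi

/-! ### API for `Mv` -/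

namespace Mv

variable {f k : G}

omit [Finite G] in
/-- the powers of a mover -/
theorem pow (m : Mv V Z A R B f k) {i : ℕ} (hi : k ^ i ≠ 1) : Mv V Z A R B f (k ^ i) where
  cr := m.cr
  mem := m.mem
  ncent := m.ncent
  cent x hx := by
    have h1 : Commute k x := m.cent x hx
    exact (h1.pow_left i).eq
  odd := mov_odd m.odd i
  ne := hi
  inv := mov_pow m.inv i
  mv j hj L hL hA hR := by
    rw [← pow_mul] at hj ⊢
    exact m.mv _ hj L hL hA hR

omit [Finite G] in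
/-- the square of a mover is a mover -/
theorem sq_ne (m : Mv V Z A R B f k) : k * k ≠ 1 := by
  intro h1
  obtain ⟨j, hj⟩ := mov_sq m.odd
  rw [h1, one_pow] at hj
  exact m.ne hj.symm

omit [Finite G] in
theorem sq (m : Mv V Z A R B f k) : Mv V Z A R B f (k * k) := by
  have h1 := m.pow (i := 2) (by rw [pow_two]; exact m.sq_ne)
  rwa [pow_two] at h1

omit [Finite G] in
/-- the inverse of a mover -/
theorem symm (m : Mv V Z A R B f k) : Mv V Z A R B f k⁻¹ where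
  cr := m.cr
  mem := m.mem
  ncent := m.ncent
  cent x hx := by
    have h1 : Commute k x := m.cent x hx
    exact h1.inv_left.eq
  odd := by rw [orderOf_inv]; exact m.odd
  ne := inv_ne_one.2 m.ne
  inv := by rw [mov_inv m.inv, inv_inv]
  mv i hi L hL hA hR := by
    intro e
    rw [inv_pow] at hi e
    refine m.mv i (fun e' => hi (by rw [e', inv_one])) L hL hA hR ?_
    rw [cj_eq_iff] at e ⊢
    have := inv_mem e
    rwa [inv_inv] at this

omit [Finite G] in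
/-- every mover has a square root among its powers -/
theorem exists_sqrt (m : Mv V Z A R B f k) : ∃ i, Mv V Z A R B f (k ^ i) ∧ k ^ i * k ^ i = k := by
  obtain ⟨j, hj⟩ := mov_sq m.odd
  refine ⟨j, m.pow (fun e => ?_), ?_⟩
  · apply m.ne
    rw [← hj, ← pow_two, ← pow_mul, mul_comm, pow_mul, e, one_pow]
  · rw [← pow_add, ← two_mul, pow_mul, pow_two, hj]

omit [Finite G] in
/-- `k` fixes `A` -/
theorem cj_A (m : Mv V Z A R B f k) : cj k A = A :=
  cj_eq_iff.2 (centralizer_le_normalizer _ (mem_centralizer_iff.2 fun x hx => (m.cent x hx).symm))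

omit [Finite G] in
/-- `A ~ R^k` -/
theorem adj (m : Mv V Z A R B f k) : Adj V Z A (cj k R) := by
  obtain ⟨h1, h2, h3, L, h4, h5, h6⟩ := m.cr.l
  refine ⟨h1, h2.cj k, fun e => h3 ?_, cj k L, h4.cj k, ?_, cj_le_cj.2 h6⟩
  · rw [← m.cj_A] at e
    exact cj_inj.1 e
  · rw [← m.cj_A]; exact cj_le_cj.2 h5

omit [Finite G] in
/-- `R^k ≠ R` -/
theorem cj_ne (m : Mv V Z A R B f k) (hu : ∀ L M, IsCj V L → IsCj V M → A ≤ L → R ≤ L → A ≤ M → R ≤ M → L = M) :
    cj k R ≠ R := by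
  intro e
  obtain ⟨L, h4, h5, h6⟩ := m.cr.l.line
  refine m.mv 1 (by rw [pow_one]; exact m.ne) L h4 h5 h6 ?_
  rw [pow_one]
  refine hu _ _ (h4.cj k) h4 ?_ ?_ h5 h6
  · rw [← m.cj_A]; exact cj_le_cj.2 h5
  · rw [← e]; exact cj_le_cj.2 h6

/-- `f` centralises `W_R` -/
theorem f_cent (h : Mid S P V Z) (m : Mv V Z A R B f k) : f ∈ centralizer ((ws V R : Subgroup G) : Set G) :=
  h.com B R m.cr.r.symm m.mem

/-- `f` fixes `R` -/
theorem f_R (h : Mid S P V Z) (m : Mv V Z A R B f k) : cj f R = R :=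
  cj_eq_iff.2 (centralizer_le_normalizer _ (centralizer_le (h.pt_le_ws m.cr.l.right) (m.f_cent h)))

/-- `(R^k)^f = R^(k⁻¹)` -/
theorem f_cj (h : Mid S P V Z) (m : Mv V Z A R B f k) : cj f (cj k R) = cj k⁻¹ R := by
  have e : f * k = k⁻¹ * f := by rw [← m.inv]; group
  rw [cj_cj, e, ← cj_cj, m.f_R h]

/-- the line on `A`, `R^k` is not the line on `A`, `R` -/
theorem line_ne (m : Mv V Z A R B f k) {L : Subgroup G} (hL : IsCj V L) (hA : A ≤ L) (hR : R ≤ L) :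
    cj k L ≠ L := by
  have h1 := m.mv 1 (by rw [pow_one]; exact m.ne) L hL hA hR
  rwa [pow_one] at h1

/-- `R^k` is not on the line `AR` -/
theorem not_le (h : Mid S P V Z) (m : Mv V Z A R B f k) {L : Subgroup G} (hL : IsCj V L) (hA : A ≤ L) (hR : R ≤ L) :
    ¬ cj k R ≤ L := by
  intro e
  refine m.line_ne hL hA hR ?_
  have h1 := m.adj
  refine h.line_unique m.cr.l.left h1.right h1.ne (hL.cj k) hL ?_ (cj_le_cj.2 hR) hA e
  rw [← m.cj_A]; exact cj_le_cj.2 hA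

/-- `R^(k⁻¹)` is not on the line `A R^k` -/
theorem not_le' (h : Mid S P V Z) (m : Mv V Z A R B f k) {L : Subgroup G} (hL : IsCj V L) (hA : A ≤ L)
    (hR : cj k R ≤ L) : ¬ cj k⁻¹ R ≤ L := by
  intro e
  have hA' : A ≤ cj k⁻¹ L := by
    rw [← m.symm.cj_A]; exact cj_le_cj.2 hA
  have h1 : R ≤ cj k⁻¹ L := by
    have := (cj_le_cj (g := k⁻¹)).2 hR
    rwa [cj_cj, inv_mul_cancel, cj_one] at this
  refine (m.sq.symm).not_le h (hL.cj k⁻¹) hA' h1 ?_
  have := (cj_le_cj (g := k⁻¹)).2 e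
  rwa [cj_cj, ← mul_inv_rev] at this

end Mv


end Cfsg.Agent.Omega.NO3S.MidB.No

end

end
end

-- part: Mrg/Omega/NO3S/MidB/Main
section
prune_inst 0x84300200510012000018050010003c4686000092006f0001f9000742078edf4380010f61f4201f121122aa64003c0060031000590010000020000200411901a0802a72823240a10466001980b887180c00000000000000000000000000041000000000000
set_option linter.all false
open scoped Cfsg.Agent.FastGrp

-- merged: Cfsg.Agent.Mrg.Omega.NO3S.MidB.TGOne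
section

/-!
# NO-3S, the `(R, B)`-frame, TYPE N, case (A1): (H2) (bb OMEGA #18317, TCARD 5, C1)

Let `h : TF S P V Z`.

* `TF.exists_comm'` : `Cr R A C`, `β ∈ W_R` moved by `W_C`: every `α ∈ A` is `[g, β]`, `g ∈ W_C`;
* `TF.exists_of_cr'` : (under `Sml`) `U_A = W_C C_{U_A}(W_R)`;
* **`TF.h2`** : `Sml V Z → H2 V Z`;
* `TF.false_of_sml`.
-/

set_option autoImplicit false
set_option linter.unusedSectionVars false

namespace Cfsg.Agent.Omega.NO3S.MidB

open Subgroup Cfsg.Agent.Omega.NO3S.PT Cfsg.Agent.Omega.NoFF.Basic Cfsg.Agent.ZN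
open Cfsg.Agent.Omega.NO3S.MidQ (Adj Com Cr UU ws_of kx_of isCj_iff adj_iff com_iff cr_iff UU_of isCj_symm isCj_trans
  com_cj UU_cj le_UU normalizer_le_UU isPGroup_sSup FlagCan PtCan ff mem_ff ff_cj TypN cw mem_cw cw_le cw_cj Jo jo_cj zu
  H2)
open scoped Pointwise

variable {G : Type*} [Group G] {V Z X Y R L A A' B B' C : Subgroup G}

namespace TF

variable [Finite G] {S : Sylow 2 G} {P : Subgroup G} (h : TF S P V Z)
include h

/-- `w ↦ [w, β] ∈ A` for `w ∈ U_A`, `β ∈ W_R`, `A ~ R` -/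
theorem comm_mul (hA : Adj V Z A R) {w w' β : G} (hw : w ∈ UU V Z A) (hw' : w' ∈ UU V Z A) (hβ : β ∈ ws V R) :
    w * w' * β * (w * w')⁻¹ * β⁻¹ = (w * β * w⁻¹ * β⁻¹) * (w' * β * w'⁻¹ * β⁻¹) := by
  have hcen : ∀ w ∈ UU V Z A, ∀ a ∈ A, w * a = a * w := fun w hw a ha =>
    (mem_centralizer_iff.1 (h.UU_le_cent_pt hA.left hw) a ha).symm
  have hval : ∀ w ∈ UU V Z A, w * β * w⁻¹ * β⁻¹ ∈ A := fun w hw => h.comm_adj hA hw hβ
  have e1 : w * w' * β * (w * w')⁻¹ * β⁻¹ = w * (w' * β * w'⁻¹ * β⁻¹) * (β * w⁻¹ * β⁻¹) := by group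
  rw [e1, hcen _ hw _ (hval _ hw'), mul_assoc]
  have e2 : w * (β * w⁻¹ * β⁻¹) = w * β * w⁻¹ * β⁻¹ := by group
  rw [e2]
  exact h.ws_comm hA.left (h.pt_le_ws hA.left (hval _ hw')) (h.pt_le_ws hA.left (hval _ hw))

/-- **(0')** `(R, C)` critical with middle `A`, `β ∈ W_R` not centralised by `W_C`: `[W_C, β] = A` elementwise -/
theorem exists_comm' (hc : Cr V Z R A C) {β α : G} (hβ : β ∈ ws V R) (hmv : ¬ ∀ w ∈ ws V C, w * β = β * w)
    (hα : α ∈ A) : ∃ g ∈ ws V C, g * β * g⁻¹ * β⁻¹ = α := by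
  have hβC : ∀ c ∈ C, β * c = c * β := fun c hcC =>
    (mem_centralizer_iff.1 (h.ws_le_cent hc.l hc.r hβ) c hcC).symm
  obtain ⟨F, hF, hFβ⟩ : ∃ F, Adj V Z F C ∧ ¬ F ≤ centralizer ({β} : Set G) := by
    by_contra hno
    push Not at hno
    refine hmv fun w hw => ?_
    have h1 := h.ws_le_of (U := centralizer ({β} : Set G)) hc.r.right
      (fun c hcC => mem_centralizer_singleton_iff.2 (hβC c hcC).symm) hno hw
    exact mem_centralizer_singleton_iff.1 h1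
  have hFW : F ≤ ws V C := h.adj_le_ws hF.symm
  have hval : ∀ w ∈ F, w * β * w⁻¹ * β⁻¹ ∈ A := fun w hw =>
    h.comm_adj hc.l.symm (le_UU hc.r.symm (hFW hw)) hβ
  let f : F → A := fun w => ⟨w.1 * β * w.1⁻¹ * β⁻¹, hval w.1 w.2⟩
  have hf : Function.Injective f := by
    intro x y hxy
    have h1 : x.1 * β * x.1⁻¹ * β⁻¹ = y.1 * β * y.1⁻¹ * β⁻¹ := congrArg Subtype.val hxy
    have h2 : x.1 * β * x.1⁻¹ = y.1 * β * y.1⁻¹ := mul_right_cancel h1
    have h3 : β * (y.1⁻¹ * x.1) = y.1⁻¹ * x.1 * β := by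
      calc β * (y.1⁻¹ * x.1) = y.1⁻¹ * (y.1 * β * y.1⁻¹) * x.1 := by group
        _ = y.1⁻¹ * (x.1 * β * x.1⁻¹) * x.1 := by rw [h2]
        _ = y.1⁻¹ * x.1 * β := by group
    by_contra hne
    have h4 : y.1⁻¹ * x.1 ≠ 1 := fun e => hne (Subtype.ext (inv_mul_eq_one.1 e).symm)
    refine hFβ fun w hw => mem_centralizer_singleton_iff.2 ?_
    exact (h.t3 hF.symm (h.twoEl_ws hc.l.left hβ) hβC (mul_mem (inv_mem y.2) x.2) h4 h3 w hw).symm
  have hcard : Nat.card A ≤ Nat.card F := by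
    rw [h.card_pt hF.left, h.card_pt hc.l.right]
  obtain ⟨x, hx⟩ := (hf.bijective_of_nat_card_le hcard).2 ⟨α, hα⟩
  exact ⟨x.1, hFW x.2, congrArg Subtype.val hx⟩

/-- (A1): an element of `U_A` commuting with an element of `B#`, `A → B` at `R`, centralises `W_R` -/
theorem cent_of_sml (hS : Sml V Z) (hj : Jo V Z R A B) {x β : G} (hx : x ∈ UU V Z A) (hβ : β ∈ B) (hβ1 : β ≠ 1)
    (hxβ : x * β = β * x) : ∀ w ∈ ws V R, x * w = w * x := by
  refine hS R A B hj x hx ?_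
  exact h.t3 hj.r.symm (h.twoEl_UU hx)
    (fun y hy => (mem_centralizer_iff.1 (h.UU_le_cent_adj hj.l.symm hx) y hy).symm) hβ hβ1 hxβ

/-- `(R, C)` critical with middle `A`: some `B ~ R` is moved by `W_C` -/
theorem exists_mv (hc : Cr V Z R A C) : ∃ B β, Jo V Z R A B ∧ β ∈ B ∧ β ≠ 1 ∧ ¬ ∀ w ∈ ws V C, w * β = β * w := by
  obtain ⟨B, hB, hBC⟩ : ∃ B, Adj V Z B R ∧ ¬ B ≤ centralizer ((ws V C : Subgroup G) : Set G) := by
    by_contra hno
    push Not at hno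
    refine hc.ne (h.ws_le_of hc.l.left ?_ hno)
    exact le_centralizer_iff.1 (h.ws_le_cent hc.symm.l hc.symm.r)
  obtain ⟨β, hβ, hβC⟩ := SetLike.not_le_iff_exists.1 hBC
  have h1 : ¬ ∀ w ∈ ws V C, w * β = β * w := fun e => hβC (mem_centralizer_iff.2 e)
  refine ⟨B, β, ⟨hc.l.symm, hB, fun e => hBC (e.trans (centralizer_le (le_UU hc.r.symm)))⟩, hβ, ?_, h1⟩
  rintro rfl
  exact h1 fun w _ => by rw [mul_one, one_mul]

/-- `U_A = W_C C_{U_A}(W_R)` -/
theorem exists_of_cr' (hS : Sml V Z) (hc : Cr V Z R A C) {u : G} (hu : u ∈ UU V Z A) :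
    ∃ w ∈ ws V C, ∀ x ∈ ws V R, w⁻¹ * u * x = x * (w⁻¹ * u) := by
  obtain ⟨B, β, hj, hβ, hβ1, hmv⟩ := h.exists_mv hc
  have hβW := h.adj_le_ws hj.r.symm hβ
  obtain ⟨w, hw, hwβ⟩ := h.exists_comm' hc hβW hmv (h.comm_adj hj.l hu hβW)
  refine ⟨w, hw, h.cent_of_sml hS hj (mul_mem (inv_mem (le_UU hc.r.symm hw)) hu) hβ hβ1 ?_⟩
  have h4 : w * β * w⁻¹ = u * β * u⁻¹ := mul_right_cancel hwβ
  calc w⁻¹ * u * β = w⁻¹ * (u * β * u⁻¹) * u := by group
    _ = w⁻¹ * (w * β * w⁻¹) * u := by rw [h4]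
    _ = β * (w⁻¹ * u) := by group

/-- **(H2)** in case (A1) -/
theorem h2 (_hs : JSym V Z) (hS : Sml V Z) : H2 V Z := by
  intro C A hA
  obtain ⟨R, hc'⟩ := h.exists_crit hA.symm
  have hc : Cr V Z R A C := hc'.symm
  obtain ⟨B, β, hj, hβ, hβ1, hmv⟩ := h.exists_mv hc
  have hβW := h.adj_le_ws hj.r.symm hβ
  have hWU : ws V C ≤ UU V Z A := le_UU hc.r.symm
  let f : ws V C →* A :=
    { toFun := fun w => ⟨w.1 * β * w.1⁻¹ * β⁻¹, h.comm_adj hj.l (hWU w.2) hβW⟩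
      map_one' := Subtype.ext (by simp)
      map_mul' := fun w w' => Subtype.ext (h.comm_mul hj.l (hWU w.2) (hWU w'.2) hβW) }
  have hker : f.ker = (centralizer ((UU V Z A : Subgroup G) : Set G)).subgroupOf (ws V C) := by
    ext w
    rw [MonoidHom.mem_ker, mem_subgroupOf]
    constructor
    · intro h3
      have h4 : w.1 * β * w.1⁻¹ * β⁻¹ = 1 := congrArg Subtype.val h3
      rw [mul_inv_eq_one, mul_inv_eq_iff_eq_mul] at h4
      have h5 := h.cent_of_sml hS hj (hWU w.2) hβ hβ1 h4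
      refine mem_centralizer_iff.2 fun u hu => ?_
      obtain ⟨v, hv, hvu⟩ := h.exists_of_cr' hS hc.symm hu
      have h6 := hvu w.1 w.2
      have h7 := h5 v hv
      calc u * w.1 = v * (v⁻¹ * u * w.1) := by group
        _ = v * (w.1 * (v⁻¹ * u)) := by rw [h6]
        _ = v * w.1 * (v⁻¹ * u) := by group
        _ = w.1 * v * (v⁻¹ * u) := by rw [h7]
        _ = w.1 * u := by group
    · intro h3
      apply Subtype.ext
      show w.1 * β * w.1⁻¹ * β⁻¹ = 1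
      rw [mul_inv_eq_one, mul_inv_eq_iff_eq_mul]
      exact (mem_centralizer_iff.1 h3 β (le_UU hc.l hβW)).symm
  have hrange : f.range = ⊤ := by
    rw [eq_top_iff]
    rintro ⟨α, hα⟩ -
    obtain ⟨g, hg, hgα⟩ := h.exists_comm' hc hβW hmv hα
    exact ⟨⟨g, hg⟩, Subtype.ext hgα⟩
  have h6 := index_ker f
  rw [hker, hrange] at h6
  rw [relIndex, h6, card_top, h.card_pt hA.left]

/-- case (A1) is impossible -/
theorem false_of_sml (hs : JSym V Z) (hd : JDist V Z) (hS : Sml V Z) : False := h.false_of_h2 (h.h2 hs hS) hd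

end TF

end Cfsg.Agent.Omega.NO3S.MidB

end

-- merged: Cfsg.Agent.Mrg.Omega.NO3S.MidB.ToSLB
section

/-!
# TYPE N, case (A2): the blocks satisfy `SLB` (bb OMEGA #18317, TCARD 5 D)

* `TF.two_x`, `TF.two` : the stabiliser of `R` is transitive on the pairs of joined points;
* `TF.slb` : `SLB V Z Blk m` from `JSym`, `JVal`, `JTrans`, `JDich`, `Bg`.
-/

set_option autoImplicit false
set_option linter.unusedSectionVars false

namespace Cfsg.Agent.Omega.NO3S.MidB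

open Subgroup Cfsg.Agent.Omega.NO3S.PT Cfsg.Agent.Omega.NoFF.Basic Cfsg.Agent.ZN
open Cfsg.Agent.Omega.NO3S.MidQ (Adj Com Cr UU ws_of kx_of isCj_iff adj_iff com_iff cr_iff UU_of isCj_symm isCj_trans
  com_cj UU_cj le_UU normalizer_le_UU isPGroup_sSup FlagCan PtCan ff mem_ff ff_cj TypN cw mem_cw cw_le cw_cj Jo jo_cj zu
  Sb SLB)
open scoped Pointwise

variable {G : Type*} [Group G] {V Z X Y R L A A' B B' C E F H : Subgroup G}

/-- the elements of the product of two commuting subgroups -/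
theorem exists_mul_of_sup {H E : Subgroup G} (hc : ∀ a ∈ H, ∀ b ∈ E, a * b = b * a) {x : G} (hx : x ∈ H ⊔ E) :
    ∃ a ∈ H, ∃ b ∈ E, x = a * b := by
  let K : Subgroup G :=
    { carrier := {x | ∃ a ∈ H, ∃ b ∈ E, x = a * b}
      one_mem' := ⟨1, one_mem _, 1, one_mem _, (mul_one 1).symm⟩
      inv_mem' := by
        rintro _ ⟨a, ha, b, hb, rfl⟩
        refine ⟨a⁻¹, inv_mem ha, b⁻¹, inv_mem hb, ?_⟩
        rw [mul_inv_rev, hc _ (inv_mem ha) _ (inv_mem hb)]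
      mul_mem' := by
        rintro _ _ ⟨a, ha, b, hb, rfl⟩ ⟨c, hc', d, hd, rfl⟩
        refine ⟨a * c, mul_mem ha hc', b * d, mul_mem hb hd, ?_⟩
        rw [mul_assoc, ← mul_assoc b c d, ← hc _ hc' _ hb]
        simp only [mul_assoc] }
  have hK : H ⊔ E ≤ K := sup_le (fun x hx => ⟨x, hx, 1, one_mem _, (mul_one x).symm⟩)
    (fun x hx => ⟨1, one_mem _, x, hx, (one_mul x).symm⟩)
  exact hK hx

namespace TF

variable [Finite G] {S : Sylow 2 G} {P : Subgroup G} (h : TF S P V Z)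
include h

theorem jo_of_sb (hs : JSym V Z) (hv : JVal V Z) (ht : JTrans V Z) (h1 : Sb V Z (Bk V Z) R A B) : Jo V Z R A B := by
  obtain ⟨hA, hB, ⟨_, ⟨C, hC, rfl⟩, hAD, hBD⟩, hne⟩ := h1
  obtain ⟨a, ha, ha1⟩ := h.pt_ne_bot hA.left
  obtain ⟨b, hb, hb1⟩ := h.pt_ne_bot hB.left
  have h1 := h.eqv_of_le hs hv ht hC hA ha ha1 (hAD ha)
  have h2 := h.eqv_of_le hs hv ht hC hB hb hb1 (hBD hb)
  rcases (h.eqv_trans ht (h.eqv_symm hs h1) h2).2.2 with ⟨L, hL, hRL, hAL, hBL⟩ | hj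
  · exact absurd hBL (hne L hL hRL hAL)
  · exact hj

/-- joined points are not on a line with `R` -/
theorem jo_ne_line (hj : Jo V Z R A B) (hL : IsCj V L) (hRL : R ≤ L) (hAL : A ≤ L) : ¬ B ≤ L := fun e =>
  (h.jo_iff hj.l hj.r).1 hj (e.trans (h.line_le_cw hL hRL hAL))

theorem jo_of_eqv (he : Eqv V Z R A B) (hne : ∀ L, IsCj V L → R ≤ L → A ≤ L → ¬ B ≤ L) : Jo V Z R A B := by
  rcases he.2.2 with ⟨L, hL, hRL, hAL, hBL⟩ | hj
  · exact absurd hBL (hne L hL hRL hAL)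
  · exact hj

/-- a good subgroup containing a nontrivial element of a point contains the point -/
theorem good_le (hH : Good V Z R H) (hE : Adj V Z E R) {x : G} (hx : x ∈ E) (hx1 : x ≠ 1) (hxH : x ∈ H) : E ≤ H := by
  obtain ⟨F, hF, hFH, hxF⟩ := hH.2 x hxH (h.not_mem_R hE hx hx1)
  rwa [h.pts_eq hE.left hF.left hx hxF hx1]

/-- **(x)** -/
theorem two_x (hs : JSym V Z) (hv : JVal V Z) (ht : JTrans V Z) (hd : JDich V Z) (hj : Jo V Z R A B)
    (hj' : Jo V Z R A B') (hne : ∀ L, IsCj V L → R ≤ L → B ≤ L → ¬ B' ≤ L) (hH : Good V Z R (R ⊔ B ⊔ B'))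
    (hA : ¬ A ≤ R ⊔ B ⊔ B') : ∃ g : G, cj g R = R ∧ cj g A = A ∧ cj g B = B' := by
  have hR := hj.l.right
  obtain ⟨β, hβ, hβ1⟩ := h.pt_ne_bot hj.r.left
  obtain ⟨β', hβ', hβ1'⟩ := h.pt_ne_bot hj'.r.left
  have hAB : Eqv V Z R A B := ⟨hj.l, hj.r, Or.inr hj⟩
  have hAB' : Eqv V Z R A B' := ⟨hj.l, hj'.r, Or.inr hj'⟩
  have hBB : Jo V Z R B B' := h.jo_of_eqv (h.eqv_trans ht (h.eqv_symm hs hAB) hAB') hne
  -- the third point `Y`
  obtain ⟨k, hk, hy, hYle, hY, hjBY⟩ := h.jo_mul hv hBB hβ hβ' hβ1'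
  set Y := PT.cj k B' with hYdef
  have hRH : R ≤ R ⊔ B ⊔ B' := le_sup_of_le_left le_sup_left
  have hBH : B ≤ R ⊔ B ⊔ B' := le_sup_of_le_left le_sup_right
  have hBH' : B' ≤ R ⊔ B ⊔ B' := le_sup_right
  have hYH : Y ≤ R ⊔ B ⊔ B' := hYle.trans (sup_le hBH hBH')
  have hjYB : Jo V Z R Y B := hs _ _ _ hjBY
  have hAY : Eqv V Z R A Y := h.eqv_trans ht hAB ⟨hj.r, hY, Or.inr hjBY⟩
  have hyc : β * β' = β' * β := h.ws_comm hR (h.adj_le_ws hj.r.symm hβ) (h.adj_le_ws hj'.r.symm hβ')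
  have hβ2 : β * β = 1 := h.ws_sq hR (h.adj_le_ws hj.r.symm hβ)
  rcases hd R Y A B hjYB hj.l with h1 | h2
  · obtain ⟨g, hg, hgb⟩ := hv R Y B hjYB β hβ hβ1 (β * β') hy
    obtain ⟨g', hg', h3, h4⟩ := h1 g hg
    refine ⟨g', h.cj_UU_adj hg' hY, ?_, ?_⟩
    · refine cj_eq_iff.2 (centralizer_le_normalizer _ ?_)
      exact mem_centralizer_iff.2 fun i hi => (h4 i hi).symm
    · have h5 : g' * β * g'⁻¹ = β' := by
        rw [h3 β hβ]
        have e : g * β * g⁻¹ = g * β * g⁻¹ * β⁻¹ * β := by group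
        rw [e, hgb, hyc, mul_assoc, hβ2, mul_one]
      have h6 := conj_mem_cj (g := g') hβ
      rw [h5] at h6
      exact h.pts_eq (hj.r.left.cj g') hj'.r.left h6 hβ' hβ1'
  · exfalso
    obtain ⟨α, hα, hα1⟩ := h.pt_ne_bot hj.l.left
    obtain ⟨γ, hγ, hc⟩ := h2 α hα
    obtain ⟨L, hL, hYL, hRL⟩ := hY.line
    -- `α γ` is on the line `R Y`
    have hb : α * γ ∈ blk V Z R A := mul_mem (eqv_le_blk (h.eqv_refl hj.l) hα) (eqv_le_blk hAB hγ)
    have hL2 : α * γ ∈ R ⊔ B ⊔ B' := by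
      rcases (h.mem_blk hs hv ht hj.l).1 hb with h3 | ⟨E, hE, hbE⟩
      · exact hRH h3
      rcases (h.eqv_trans ht (h.eqv_symm hs hAY) hE).2.2 with ⟨M, hM, hRM, hYM, hEM⟩ | hjE
      · exact (h.line_le' hR hY.left hY.ne hM hRM hYM hRH hYH) (hEM hbE)
      · have h3 := h.inf_cw hjE hbE (mem_cw.2 ⟨h.adj_le_ws hE.2.1.symm hbE, fun u hu => hc u hu⟩)
        rw [h3]
        exact one_mem _
    have h3 : α ∈ R ⊔ B ⊔ B' := by
      have e : α = α * γ * γ⁻¹ := by group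
      rw [e]
      exact mul_mem hL2 (inv_mem (hBH hγ))
    exact hA (h.good_le hH hj.l hα hα1 h3)

/-- **two** -/
theorem two (hs : JSym V Z) (hv : JVal V Z) (ht : JTrans V Z) (hd : JDich V Z) (hB : Bg V Z) (hj : Jo V Z R A B)
    (hj' : Jo V Z R A' B') : ∃ g : G, cj g R = R ∧ cj g A = A' ∧ cj g B = B' := by
  -- wlog `A = A'`
  obtain ⟨g₀, h1, h2⟩ := h.exists_adj hj.l hj'.l
  have hj2 : Jo V Z R A' (PT.cj g₀ B) := by
    have := jo_cj (g := g₀).2 hj
    rwa [h1, h2] at this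
  suffices hgen : ∀ B B' : Subgroup G, Jo V Z R A' B → Jo V Z R A' B' →
      ∃ g : G, cj g R = R ∧ cj g A' = A' ∧ cj g B = B' by
    obtain ⟨g, h3, h4, h5⟩ := hgen _ _ hj2 hj'
    exact ⟨g * g₀, by rw [← cj_cj, h1, h3], by rw [← cj_cj, h2, h4], by rw [← cj_cj, h5]⟩
  clear hj2 h1 h2 g₀ hj hj'
  intro B B' hj hj'
  have hR := hj.l.right
  have hA := hj.l
  obtain ⟨k, hk, hk2⟩ := h.card_blk_jo hs hv ht hB hj
  have hZ := h.one_lt_card_pt
  -- the good subgroups `R A B`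
  have hg : ∀ B, Jo V Z R A' B → Good V Z R (R ⊔ A' ⊔ B) ∧ Nat.card ↥(R ⊔ A' ⊔ B) = Nat.card Z ^ 3 ∧
      R ⊔ A' ⊔ B ≤ blk V Z R A' := by
    intro B hj
    obtain ⟨L, hL, hAL, hRL⟩ := hA.line
    have h0 : R ≤ blk V Z R A' := R_le_blk
    obtain ⟨g1, -, c1⟩ := h.good_sup hs hv ht h.good_R h0 hA (h.eqv_refl hA) (fun e => by
      obtain ⟨a, ha, ha1⟩ := h.pt_ne_bot hA.left
      exact h.not_mem_R hA ha ha1 (e ha))
    have h1 : R ⊔ A' ≤ blk V Z R A' := sup_le h0 (eqv_le_blk (h.eqv_refl hA))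
    obtain ⟨g2, -, c2⟩ := h.good_sup hs hv ht g1 h1 hA ⟨hA, hj.r, Or.inr hj⟩ (fun e =>
      h.jo_ne_line hj hL hRL hAL (e.trans (sup_le hRL hAL)))
    refine ⟨g2, ?_, sup_le h1 (eqv_le_blk ⟨hA, hj.r, Or.inr hj⟩)⟩
    rw [c2, c1, h.card_pt hR]
    ring
  obtain ⟨hg1, hc1, hl1⟩ := hg B hj
  obtain ⟨hg2, hc2, hl2⟩ := hg B' hj'
  -- the point `E`
  obtain ⟨E, hE, hE1, hE2⟩ : ∃ E, Eqv V Z R A' E ∧ ¬ E ≤ R ⊔ A' ⊔ B ∧ ¬ E ≤ R ⊔ A' ⊔ B' := by
    by_contra hcon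
    have h3 : ∀ x ∈ blk V Z R A', x ∈ R ⊔ A' ⊔ B ∨ x ∈ R ⊔ A' ⊔ B' := by
      intro x hx
      rcases (h.mem_blk hs hv ht hA).1 hx with h4 | ⟨E, hE, hxE⟩
      · exact Or.inl (hg1.1 h4)
      · by_cases h5 : E ≤ R ⊔ A' ⊔ B
        · exact Or.inl (h5 hxE)
        · by_cases h6 : E ≤ R ⊔ A' ⊔ B'
          · exact Or.inr (h6 hxE)
          · exact absurd ⟨E, hE, h5, h6⟩ hcon
    -- a group is not the union of two proper subgroups
    have h6 : ∀ K : Subgroup G, Nat.card K = Nat.card Z ^ 3 → ¬ blk V Z R A' ≤ K := by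
      intro K hK hle
      have h7 := Subgroup.card_le_of_le hle
      rw [hk2, hK] at h7
      have h8 := (Nat.pow_le_pow_iff_right hZ).1 h7
      omega
    obtain ⟨x, hx, hx1⟩ := Set.not_subset.1 (h6 _ hc1)
    obtain ⟨y, hy, hy1⟩ := Set.not_subset.1 (h6 _ hc2)
    have hx2 := (h3 x hx).resolve_left hx1
    have hy2 := (h3 y hy).resolve_right hy1
    rcases h3 (x * y) (mul_mem hx hy) with h7 | h7
    · exact hx1 ((Subgroup.mul_mem_cancel_right _ hy2).1 h7)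
    · exact hy1 ((Subgroup.mul_mem_cancel_left _ hx2).1 h7)
  -- `E` is joined to `A`, `B`, `B'`
  obtain ⟨L, hL, hAL, hRL⟩ := hA.line
  have hLle : ∀ B, L ≤ R ⊔ A' ⊔ B := fun B =>
    (h.line_le' hR hA.left hA.ne hL hRL hAL le_sup_left le_sup_right).trans le_sup_left
  have hjE : Jo V Z R A' E := h.jo_of_eqv hE fun M hM hRM hAM hEM => by
    have e := h.line_unique hA.left hA.right hA.ne hM hL hAM hRM hAL hRL
    exact hE1 ((e ▸ hEM : E ≤ L).trans (hLle B))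
  -- the exchange
  have hex : ∀ B, Jo V Z R A' B → Good V Z R (R ⊔ A' ⊔ B) → ¬ E ≤ R ⊔ A' ⊔ B →
      (∀ M, IsCj V M → R ≤ M → B ≤ M → ¬ E ≤ M) ∧ Good V Z R (R ⊔ B ⊔ E) ∧ ¬ A' ≤ R ⊔ B ⊔ E := by
    intro B hj hgd hn
    have hBA : Eqv V Z R A' B := ⟨hA, hj.r, Or.inr hj⟩
    have hne : ∀ M, IsCj V M → R ≤ M → B ≤ M → ¬ E ≤ M := by
      intro M hM hRM hBM hEM
      exact hn (hEM.trans (h.line_le' hR hj.r.left hj.r.ne hM hRM hBM hgd.1 le_sup_right))
    have h0 : R ≤ blk V Z R A' := R_le_blk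
    obtain ⟨g1, -, c1⟩ := h.good_sup hs hv ht h.good_R h0 hA hBA (fun e => by
      obtain ⟨a, ha, ha1⟩ := h.pt_ne_bot hj.r.left
      exact h.not_mem_R hj.r ha ha1 (e ha))
    have h1 : R ⊔ B ≤ blk V Z R A' := sup_le h0 (eqv_le_blk hBA)
    obtain ⟨M, hM, hBM, hRM⟩ := hj.r.line
    obtain ⟨g2, -, c2⟩ := h.good_sup hs hv ht g1 h1 hA hE (fun e => hne M hM hRM hBM (e.trans (sup_le hRM hBM)))
    refine ⟨hne, g2, fun hAle => ?_⟩
    obtain ⟨α, hα, hα1⟩ := h.pt_ne_bot hA.left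
    -- `α = w e`
    have h3 : α ∈ R ⊔ B ⊔ E := hAle hα
    have hcomm : ∀ x ∈ R ⊔ B, ∀ y ∈ E, x * y = y * x := fun x hx y hy =>
      h.ws_comm hR (h.blk_le_ws hA (h1 hx)) (h.adj_le_ws hE.2.1.symm hy)
    obtain ⟨w, hw, e, he, rfl⟩ := exists_mul_of_sup hcomm h3
    by_cases he1 : e = 1
    · rw [he1, mul_one] at hα hα1
      have h4 := h.good_le g1 hA hα hα1 hw
      exact h.jo_ne_line (hs _ _ _ hj) hM hRM hBM (h4.trans (sup_le hRM hBM))
    · have h5 : e ∈ R ⊔ A' ⊔ B := by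
        have e1 : e = w⁻¹ * (w * e) := by group
        rw [e1]
        have h6 : A' ≤ R ⊔ A' ⊔ B := le_sup_of_le_left le_sup_right
        have h7 : R ⊔ B ≤ R ⊔ A' ⊔ B := sup_le (le_sup_of_le_left le_sup_left) le_sup_right
        exact mul_mem (inv_mem (h7 hw)) (h6 hα)
      exact hn (h.good_le hgd hE.2.1 he he1 h5)
  obtain ⟨n1, q1, a1⟩ := hex B hj hg1 hE1
  obtain ⟨n2, q2, a2⟩ := hex B' hj' hg2 hE2
  have hsw : R ⊔ B' ⊔ E = R ⊔ E ⊔ B' := by rw [sup_assoc, sup_comm B' E, ← sup_assoc]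
  obtain ⟨g, h1, h2, h3⟩ := h.two_x hs hv ht hd hj hjE n1 q1 a1
  obtain ⟨g', h4, h5, h6⟩ := h.two_x hs hv ht hd hjE hj' (fun M hM hRM hEM hBM => n2 M hM hRM hBM hEM)
    (hsw ▸ q2) (hsw ▸ a2)
  exact ⟨g' * g, by rw [← cj_cj, h1, h4], by rw [← cj_cj, h2, h5], by rw [← cj_cj, h3, h6]⟩

/-- **D of TCARD 5** -/
theorem slb (hs : JSym V Z) (hv : JVal V Z) (ht : JTrans V Z) (hd : JDich V Z) (hB : Bg V Z) :
    ∃ Blk m, SLB V Z Blk m :=
  h.slb_of hs hv ht hB fun _ _ _ _ _ h1 h2 =>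
    h.two hs hv ht hd hB (h.jo_of_sb hs hv ht h1) (h.jo_of_sb hs hv ht h2)

end TF

end Cfsg.Agent.Omega.NO3S.MidB

end

-- merged: Cfsg.Agent.Mrg.Omega.NO3S.MidQ.NTwoBig
section

/-!
# NO-3S, natural lines, TYPE N, blocks `SL_m`, `m ≥ 3`: section (A1), (5.2)–(6.2) (TEXT 426-2, THEOREM N2)

* `NT.m_le` : (5.2) `m = 3`;  `NT.big` : (5.3);  `NT.cent_ln` : `C_{B_a(r)}(W_b)` is the line `ar`;
* `NT.exists_w0` : (6.1);  `NT.w0_line` : (6.2).
-/

set_option autoImplicit false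
set_option linter.unusedSectionVars false

namespace Cfsg.Agent.Omega.NO3S.MidQ

open Subgroup Cfsg.Agent.Omega.NO3S.PT Cfsg.Agent.Omega.NoFF.Basic Cfsg.Agent.ZN
open scoped Pointwise

variable {G : Type*} [Group G] {V Z X Y L : Subgroup G} {Blk : Subgroup G → Set (Subgroup G)} {m : ℕ}

/-- `C_A(B)` -/
def cnz (A B : Subgroup G) : Subgroup G := A ⊓ centralizer (B : Set G)

theorem mem_cnz {A B : Subgroup G} {x : G} : x ∈ cnz A B ↔ x ∈ A ∧ ∀ y ∈ B, x * y = y * x := by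
  rw [cnz, mem_inf, mem_centralizer_iff]
  exact ⟨fun e => ⟨e.1, fun y hy => (e.2 y hy).symm⟩, fun e => ⟨e.1, fun y hy => (e.2 y hy).symm⟩⟩

theorem cnz_cj (A B : Subgroup G) (g : G) : cnz (cj g A) (cj g B) = cj g (cnz A B) := by
  rw [cnz, cnz, cj_inf, cj_centralizer]

theorem mem_cs {x y : G} : x ∈ centralizer ({y} : Set G) ↔ x * y = y * x := by
  rw [mem_centralizer_iff]
  constructor
  · intro e
    exact (e y rfl).symm
  · rintro e _ rfl
    exact e.symm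

namespace NT

variable [Finite G] {S : Sylow 2 G} {P : Subgroup G} (h : NT S P V Z Blk m) (h1 : AOne V Z Blk)
include h h1

/-- `a`, `a^w` are in one block at `r` on different lines -/
theorem path_sb {c p r a : Subgroup G} {w : G} (hp : Path V Z Blk c p r a w) : Sb V Z Blk r a (cj w a) := by
  have hcp := hp.cr.l
  have hpr := hp.cr.r.symm
  have har := hp.pa.r
  have hwc := h.bk_le hcp.symm hp.hw
  have hwr : ∀ x ∈ r, w * x = x * w := fun x hx =>
    (mem_centralizer_iff.1 (h.ws_le_cent hcp hpr hwc) x hx).symm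
  have hwp : ∀ x ∈ p, w * x = x * w := fun x hx => (mem_centralizer_iff.1 (h.ws_le_cent' hcp hwc) x hx).symm
  obtain ⟨L, hL, haL, hrL⟩ := har.line
  have hadj : Adj V Z (cj w a) r := by
    have := har.cj w
    rwa [cj_of_cent hwr] at this
  have hblk : cj w (bk Blk r a) = bk Blk r a := by
    rw [hp.pa.bk_eq h, ← h.bk_cj hpr, cj_of_cent hwp, cj_of_cent hwr]
  refine h.sb_mk' har hadj ?_ hL hrL haL fun e => ?_
  · rw [← hblk]
    exact cj_le_cj.2 (h.le_bk har)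
  · obtain ⟨α, hα, hα1⟩ := h.pt_ne_bot har.left
    have h2 : w * α * w⁻¹ * α⁻¹ ∈ p := h.UU_ws h.typ hpr (le_UU hcp hwc) (h.adj_le_ws' har hα)
    have h3 : w * α * w⁻¹ * α⁻¹ ∈ L := mul_mem (e (conj_mem_cj hα)) (inv_mem (haL hα))
    have h4 := h.line_inf hpr.left hL (fun e' => (hp.pa.symm h).ne L hL hrL haL e') h2 h3
    exact hα1 (hp.mv α hα (Mid.comm_eq h4))

theorem pow_le_of_path {c p r a : Subgroup G} {w : G} (hp : Path V Z Blk c p r a w) :
    Nat.card Z ^ (m + 1) ≤ Nat.card Z ^ 4 := by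
  have hcp := hp.cr.l
  have hpr := hp.cr.r.symm
  have har := hp.pa.r
  have hs := h.path_sb h1 hp
  have hwc := h.bk_le hcp.symm hp.hw
  obtain ⟨M, hM, hcM, hpM⟩ := hcp.line
  obtain ⟨γ, hγ, hγ1⟩ := h.pt_ne_bot hcp.left
  have hγp := h.adj_le_ws' hcp hγ
  have hwr : ∀ x ∈ r, w * x = x * w := fun x hx =>
    (mem_centralizer_iff.1 (h.ws_le_cent hcp hpr hwc) x hx).symm
  -- first
  have h2 : Nat.card (bk Blk a r) ≤ Nat.card r * Nat.card (bk Blk a r ⊓ centralizer ({γ} : Set G) : Subgroup G) := by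
    refine card_le_mul (fun y => y * γ * y⁻¹ * γ⁻¹) (fun y hy => ?_) fun y hy y' hy' e => ?_
    · exact h.mid_mem h.typ har hpr.symm (h.bk_le har.symm hy) hγp
    · exact mem_cs.2 (comm_inj e)
  -- second
  set Y := bk Blk a r ⊓ centralizer ({γ} : Set G) with hY
  have h3 : Nat.card Y ≤ Nat.card M * Nat.card (Y ⊓ centralizer ({w} : Set G) : Subgroup G) := by
    refine card_le_mul (fun y => y * w * y⁻¹ * w⁻¹) (fun y hy => ?_) fun y hy y' hy' e => ?_
    · have hya := h.bk_le har.symm hy.1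
      have hyc : cj y c = c := cj_of_cent (h.comm_pt hcp.left (h.two_ws har.left hya) hγ hγ1 (mem_cs.1 hy.2))
      have hyp : cj y p = p := cj_of_cent fun x hx =>
        (mem_centralizer_iff.1 (h.ws_le_cent har hpr.symm hya) x hx).symm
      have hblk : cj y (bk Blk c p) = bk Blk c p := by
        rw [← h.bk_cj hcp.symm, hyc, hyp]
      refine h.bk_UU h1 hp.cr hM hcM hpM ?_ ?_
      · refine mul_mem ?_ (inv_mem hp.hw)
        rw [← hblk]
        exact conj_mem_cj hp.hw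
      · have h4 := (mem_normalizer_iff.1 (h.ws_norm_UU hcp hpr hwc) y⁻¹).1 (inv_mem (le_UU har hya))
        have e : y * w * y⁻¹ * w⁻¹ = y * (w * y⁻¹ * w⁻¹) := by group
        rw [e]
        exact mul_mem (le_UU har hya) h4
    · exact mem_cs.2 (comm_inj e)
  have h4 : Nat.card (Y ⊓ centralizer ({w} : Set G) : Subgroup G) ≤ Nat.card r := by
    refine Subgroup.card_le_of_le ?_
    rintro y ⟨⟨hy, -⟩, hyw⟩
    refine h.inf_bk (h.cr_of_sb h1 hs) hy ?_
    have e : bk Blk (cj w a) r = cj w (bk Blk a r) := by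
      rw [← h.bk_cj har.symm, cj_of_cent hwr]
    rw [e, mem_cj, mul_assoc, mem_cs.1 hyw, inv_mul_cancel_left]
    exact hy
  rw [h.card_pt hpr.right] at h2 h4
  rw [h.card_ln hM] at h3
  rw [← h.card_bk har.symm]
  calc Nat.card (bk Blk a r) ≤ Nat.card Z * Nat.card Y := h2
    _ ≤ Nat.card Z * (Nat.card Z * Nat.card Z * Nat.card Z) :=
      Nat.mul_le_mul_left _ (h3.trans (Nat.mul_le_mul_left _ h4))
    _ = Nat.card Z ^ 4 := by ring

/-- there are pairs in one block on different lines -/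
theorem exists_sb0 : ∃ R A B, Sb V Z Blk R A B := by
  obtain ⟨L, hL, hZL⟩ := h.exists_line h.pl.isCj_self
  obtain ⟨Y, hY, hYL, hYZ⟩ := h.exists_second h.pl.isCj_self hL hZL
  have hA : Adj V Z Y Z := ⟨hY, h.pl.isCj_self, hYZ, L, hL, hYL, hZL⟩
  obtain ⟨B, hB⟩ := h.exists_sb hA
  exact ⟨_, _, _, hB⟩

/-- **(5.2)** -/
theorem m_eq : m = 3 := by
  obtain ⟨r, p, a, hs⟩ := h.exists_sb0 h1
  obtain ⟨c, w, hp⟩ := h.exists_path h1 hs
  have h2 := (Nat.pow_le_pow_iff_right (h.two_le)).1 (h.pow_le_of_path h1 hp)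
  have h3 := h.slb.three
  omega

/-- (5.3) on a path -/
theorem big' {c p r a : Subgroup G} {w : G} (hp : Path V Z Blk c p r a w) :
    ¬ Nat.card (ws V a) ≤ Nat.card Z * Nat.card (cnz (ws V a) (ws V (cj w a))) := by
  intro hle
  have hcp := hp.cr.l
  have hpr := hp.cr.r.symm
  have har := hp.pa.r
  have hs := h.path_sb h1 hp
  have hcr := h.cr_of_sb h1 hs
  have hwc := h.bk_le hcp.symm hp.hw
  have hwU := le_UU hcp hwc
  have hw2 : w⁻¹ = w := h.ws_inv hcp.left hwc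
  have hws : ws V (cj w a) = cj w (ws V a) := ws_cj V a w
  -- dihedral
  have key : ∀ y ∈ ws V a, y * (w * y * w⁻¹) = w * y * w⁻¹ * y := by
    intro y hy
    have hy2 : y⁻¹ = y := h.ws_inv har.left hy
    have hy' : w * y * w⁻¹ ∈ ws V (cj w a) := by rw [hws]; exact conj_mem_cj hy
    have hy3 : (w * y * w⁻¹)⁻¹ = w * y * w⁻¹ := h.ws_inv hs.r.left hy'
    have h2 : y * (w * y * w⁻¹) ∈ UU V Z p := by
      have h3 := (mem_normalizer_iff.1 (h.ws_norm_UU har hpr.symm hy) w).1 hwU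
      have e : y * (w * y * w⁻¹) = y * w * y⁻¹ * w⁻¹ := by rw [hy2]; group
      rw [e]
      exact mul_mem h3 (inv_mem hwU)
    have h3 := h.UU_sq h.typ hpr.left h2
    have h4 := h.mid_mem h.typ har hs.r.symm hy hy'
    have e : y * (w * y * w⁻¹) * y⁻¹ * (w * y * w⁻¹)⁻¹ = y * (w * y * w⁻¹) * (y * (w * y * w⁻¹)) := by
      rw [hy3, hy2]; group
    have h5 := h.pt_inf hpr.left hpr.right hpr.ne h3 (e ▸ h4)
    rw [← e] at h5
    exact Mid.comm_eq h5
  -- a point `E ~ a` not centralised by `W_b`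
  obtain ⟨β, hβ, v, hv, hβv⟩ := h.exists_bk hcr
  have hvb := h.bk_le hs.r.symm hv
  have hβa : β ∉ a := by
    intro e
    exact hβv (mem_centralizer_iff.1 (h.ws_le_cent hs.r har.symm hvb) β e)
  obtain ⟨E, hE, hEa, hβE⟩ := h.exists_pt har.symm hβ hβa
  have hE1 : ∀ x ∈ E, (∀ y ∈ ws V (cj w a), x * y = y * x) → x = 1 := by
    intro x hx hxW
    by_contra hx1
    exact hβv (h.comm_pt hE.left (h.two_ws hs.r.left hvb) hx hx1 (hxW v hvb).symm β hβE).symm
  have hsplit := mul_of_card (A := E) (B := cnz (ws V a) (ws V (cj w a))) (K := ws V a)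
    (h.adj_le_ws' hE) inf_le_left (fun x hx hx' => hE1 x hx (mem_cnz.1 hx').2) (by rwa [h.card_pt hE.left])
  -- the contradiction
  have hβa' : β ∈ ws V a := h.bk_le har.symm hβ
  set v' := w * β * w⁻¹ with hv'
  have hv'b : v' ∈ ws V (cj w a) := by rw [hws]; exact conj_mem_cj hβa'
  have hcomm := key β hβa'
  have h2 : ∀ y ∈ ws V a, v' * y = y * v' := by
    obtain ⟨ε, hε, d, hd, e⟩ := hsplit β hβa'
    have hdv := (mem_cnz.1 hd).2 v' hv'b
    have hε1 : ε ≠ 1 := by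
      rintro rfl
      rw [one_mul] at e
      exact hβv (by rw [e]; exact (mem_cnz.1 hd).2 v hvb)
    have h3 : v' * ε = ε * v' := by
      have h4 : ε * d * v' = v' * (ε * d) := by rw [← e]; exact hcomm
      have h5 : ε * v' * d = v' * ε * d := by
        calc ε * v' * d = ε * (v' * d) := by group
          _ = ε * d * v' := by rw [← hdv]; group
          _ = v' * (ε * d) := h4
          _ = v' * ε * d := by group
      exact (mul_right_cancel h5).symm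
    have h4 := h.comm_pt hE.left (h.two_ws hs.r.left hv'b) hε hε1 h3
    intro y hy
    obtain ⟨x, hx, d', hd', rfl⟩ := hsplit y hy
    calc v' * (x * d') = (v' * x) * d' := by group
      _ = x * (v' * d') := by rw [h4 x hx]; group
      _ = x * d' * v' := by rw [← (mem_cnz.1 hd').2 v' hv'b]; group
  apply hβv
  have h3 : w⁻¹ * v * w ∈ ws V a := by rwa [hws, mem_cj] at hvb
  have h4 := h2 _ (by
    have : w⁻¹ * v * w = w⁻¹ * v * w := rfl
    exact h3)
  -- `v' = w β w⁻¹`, `w⁻¹ = w`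
  have h5 : cj w (ws V (cj w a)) = ws V a := by
    rw [hws, cj_cj]
    have : w * w = 1 := by rw [← hw2, hw2]; exact h.ws_sq hcp.left hwc
    rw [this, cj_one]
  have h6 : w * v * w⁻¹ ∈ ws V a := by rw [← h5]; exact conj_mem_cj hvb
  have h7 := h2 _ h6
  have h8 : w⁻¹ * (v' * (w * v * w⁻¹)) * w = w⁻¹ * (w * v * w⁻¹ * v') * w := by rw [h7]
  have e1 : w⁻¹ * (v' * (w * v * w⁻¹)) * w = β * v := by rw [hv']; group
  have e2 : w⁻¹ * (w * v * w⁻¹ * v') * w = v * β := by rw [hv']; group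
  rw [← e1, ← e2, h8]

/-- **(5.3)** -/
theorem big {r a b : Subgroup G} (hs : Sb V Z Blk r a b) :
    ¬ Nat.card (ws V a) ≤ Nat.card Z * Nat.card (cnz (ws V a) (ws V b)) := by
  obtain ⟨c, w, hp⟩ := h.exists_path h1 (hs.symm h)
  obtain ⟨g, -, hg1, hg2⟩ := h.sb_move (h.path_sb h1 hp) hs
  have h2 := h.big' h1 hp
  rwa [← card_cj g (cnz _ _), ← cnz_cj, ← ws_cj, ← ws_cj, hg1, hg2, ← card_cj g (ws V a), ← ws_cj, hg1] at h2

/-- **(5.3)**: `C_{B_a(r)}(W_b)` is the line `ar` -/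
theorem cent_ln {r a b : Subgroup G} (hs : Sb V Z Blk r a b) (hL : IsCj V L) (hrL : r ≤ L) (haL : a ≤ L) {x : G}
    (hx : x ∈ bk Blk a r) (hxb : ∀ y ∈ ws V b, x * y = y * x) : x ∈ L := by
  by_contra hxL
  have har := hs.l
  obtain ⟨E, hE, hEa, hxE⟩ := h.exists_pt har.symm hx (fun e => hxL (haL e))
  have hx1 : x ≠ 1 := fun e => hxL (e ▸ one_mem _)
  have hEC : ∀ y ∈ E, y ∈ cnz (ws V a) (ws V b) := by
    intro y hy
    refine mem_cnz.2 ⟨h.adj_le_ws' hE hy, fun v hv => ?_⟩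
    exact (h.comm_pt hE.left (h.two_ws hs.r.left hv) hxE hx1 (hxb v hv).symm y hy).symm
  have hLC : ∀ y ∈ L, y ∈ cnz (ws V a) (ws V b) := by
    intro y hy
    obtain ⟨u, hu, v, hv, rfl⟩ := h.line_eq har.right har.left har.ne.symm hL hrL haL hy
    refine mul_mem (mem_cnz.2 ⟨h.adj_le_ws har hu, fun z hz => ?_⟩) (mem_cnz.2 ⟨h.pt_le_ws har.left hv, fun z hz => ?_⟩)
    · exact mem_centralizer_iff.1 (h.ws_le_cent' hs.r hz) u hu
    · exact mem_centralizer_iff.1 (h.ws_le_cent hs.r har.symm hz) v hv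
  have h2 : Nat.card E * Nat.card L ≤ Nat.card (bk Blk a r ⊓ cnz (ws V a) (ws V b) : Subgroup G) := by
    refine card_mul_le (fun y hy => ⟨hEa hy, hEC y hy⟩)
      (fun y hy => ⟨h.line_le_bk har.symm hL haL hrL hy, hLC y hy⟩) fun y hy hyL => ?_
    exact h.line_inf hE.left hL (fun e => hxL (e hxE)) hy hyL
  have h3 := card_dec (H := ws V a) (B := bk Blk a r) (C := cnz (ws V a) (ws V b)) fun y hy => by
    obtain ⟨β, hβ, d, hd, rfl, h4⟩ := h.dec har.symm hy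
    exact ⟨β, hβ, d, mem_cnz.2 ⟨hd, fun z hz => (h4 r har.symm (h.le_bk har.symm) z (le_UU hs.r hz)).symm⟩, rfl⟩
  apply h.big h1 hs
  rw [h.card_bk har.symm, h.m_eq h1] at h3
  rw [h.card_pt hE.left, h.card_ln hL] at h2
  set s := Nat.card Z with hs'
  set k := Nat.card (bk Blk a r ⊓ cnz (ws V a) (ws V b) : Subgroup G) with hk
  have hs0 : 0 < s := Nat.card_pos
  have hk0 : 0 < k := Nat.card_pos
  have h4 : s ^ (3 + 1) ≤ s * k := by
    calc s ^ (3 + 1) = s * (s * (s * s)) := by ring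
      _ ≤ s * k := Nat.mul_le_mul_left _ h2
  refine Nat.le_of_mul_le_mul_right (c := k) ?_ hk0
  calc Nat.card (ws V a) * k ≤ s ^ (3 + 1) * Nat.card (cnz (ws V a) (ws V b)) := h3
    _ ≤ s * k * Nat.card (cnz (ws V a) (ws V b)) := Nat.mul_le_mul_right _ h4
    _ = s * Nat.card (cnz (ws V a) (ws V b)) * k := by ring

/-- **(6.1)** -/
theorem exists_w0 {c p r a : Subgroup G} {w : G} (hp : Path V Z Blk c p r a w) :
    ∃ g ∈ UU V Z p, (∀ x ∈ a, g * x = x * g) ∧ ∃ v ∈ ws V r, g * v ≠ v * g := by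
  by_contra hcon
  push Not at hcon
  have hcp := hp.cr.l
  have hpr := hp.cr.r.symm
  have har := hp.pa.r
  obtain ⟨α, hα, hα1⟩ := h.pt_ne_bot har.left
  have h2 : Nat.card (ws V c) ≤ Nat.card p * Nat.card (ws V c ⊓ centralizer ({α} : Set G) : Subgroup G) := by
    refine card_le_mul (fun y => y * α * y⁻¹ * α⁻¹) (fun y hy => ?_) fun y hy y' hy' e => ?_
    · exact h.mid_mem h.typ hcp hpr hy (h.adj_le_ws' har hα)
    · exact mem_cs.2 (comm_inj e)
  apply h.big h1 hp.cr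
  refine h2.trans ?_
  rw [h.card_pt hpr.left]
  refine Nat.mul_le_mul_left _ (Subgroup.card_le_of_le ?_)
  rintro y ⟨hy, hyα⟩
  refine mem_cnz.2 ⟨hy, hcon y (le_UU hcp hy) (h.comm_pt har.left (h.two_ws hcp.left hy) hα hα1 (mem_cs.1 hyα))⟩

/-- **(6.2)** -/
theorem w0_line {r p a : Subgroup G} (hs : Sb V Z Blk r p a) (hL : IsCj V L) (hrL : r ≤ L) (haL : a ≤ L) {g : G}
    (hg : g ∈ UU V Z p) (hga : ∀ x ∈ a, g * x = x * g) {y : G} (hy : y ∈ bk Blk a r) :
    y * g * y⁻¹ * g⁻¹ ∈ L := by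
  obtain ⟨c, w, hp⟩ := h.exists_path h1 hs
  have hcp := hp.cr.l
  have hpr := hp.cr.r.symm
  have har := hp.pa.r
  have hwU := le_UU hcp (h.bk_le hcp.symm hp.hw)
  have hgr : ∀ x ∈ r, g * x = x * g := fun x hx =>
    (mem_centralizer_iff.1 (h.UU_le_cent_adj hpr.symm hg) x hx).symm
  have hblk : cj g (bk Blk a r) = bk Blk a r := by
    rw [← h.bk_cj har.symm, cj_of_cent hga, cj_of_cent hgr]
  have hya := h.bk_le har.symm hy
  set f := y * g * y⁻¹ * g⁻¹ with hf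
  have hf1 : f ∈ bk Blk a r := by
    have e : f = y * (g * y⁻¹ * g⁻¹) := by rw [hf]; group
    rw [e]
    refine mul_mem hy ?_
    rw [← hblk]
    exact conj_mem_cj (inv_mem hy)
  have hf2 : f ∈ UU V Z p :=
    mul_mem ((mem_normalizer_iff.1 (h.ws_norm_UU har hpr.symm hya) g).1 hg) (inv_mem hg)
  have hf3 := h.UU_comm h.typ hpr.left hf2 hwU
  have hs2 := h.path_sb h1 hp
  refine h.cent_ln h1 hs2 hL hrL haL hf1 fun v hv => ?_
  have e : f = f * w * f⁻¹ * w⁻¹ * (w * f * w⁻¹) := by group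
  have h3 : f * w * f⁻¹ * w⁻¹ * v = v * (f * w * f⁻¹ * w⁻¹) :=
    mem_centralizer_iff.1 (h.ws_le_cent hs2.r hpr.symm hv) _ hf3
  have h4 : w * f * w⁻¹ * v = v * (w * f * w⁻¹) := by
    refine h.ws_comm hs2.r.left ?_ hv
    rw [ws_cj]
    exact conj_mem_cj (h.bk_le har.symm hf1)
  rw [e]
  calc f * w * f⁻¹ * w⁻¹ * (w * f * w⁻¹) * v = f * w * f⁻¹ * w⁻¹ * (w * f * w⁻¹ * v) := by group
    _ = f * w * f⁻¹ * w⁻¹ * v * (w * f * w⁻¹) := by rw [h4]; group
    _ = v * (f * w * f⁻¹ * w⁻¹ * (w * f * w⁻¹)) := by rw [h3]; group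

end NT

end Cfsg.Agent.Omega.NO3S.MidQ

end

-- merged: Cfsg.Agent.Mrg.Omega.NO3S.MidQ.NTwoA1
section

section


/-!
# NO-3S, natural lines, TYPE N, blocks `SL_m`, `m ≥ 3`: section (A1), end (TEXT 426-2, THEOREM N2, (6.3), (6.4))

* `NT.card_cg` : `|C_{B_z(a)}(g)| = s³` for `g ∈ U_p ∩ C(a) - C(W_z)`;
* `NT.exists_del` : (6.3) for a flag `(z, L)` an element `δ` which centralises `L` and the blocks `B_x(L)`, `x ≠ z` on
  `L`, and acts nontrivially on `B_z(L) / L`;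
* `NT.not_AOne` : (6.4).
-/

set_option autoImplicit false
set_option linter.unusedSectionVars false

namespace Cfsg.Agent.Omega.NO3S.MidQ

open Subgroup Cfsg.Agent.Omega.NO3S.PT Cfsg.Agent.Omega.NoFF.Basic Cfsg.Agent.ZN
open scoped Pointwise

variable {G : Type*} [Group G] {V Z X Y L : Subgroup G} {Blk : Subgroup G → Set (Subgroup G)} {m : ℕ}

/-- `C_A(g)` -/
def cg (A : Subgroup G) (g : G) : Subgroup G := A ⊓ centralizer ({g} : Set G)

theorem mem_cg {A : Subgroup G} {g x : G} : x ∈ cg A g ↔ x ∈ A ∧ x * g = g * x := by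
  rw [cg, mem_inf, mem_cs]

/-- `g y = l y g`, `l` commutes with `g'`, etc. -/
theorem comm_act {g g' y k k' : G} (h1 : g * y * g⁻¹ = k * y) (h2 : g' * y * g'⁻¹ = k' * y) (h3 : g * k' = k' * g)
    (h4 : g' * k = k * g') (h5 : k * k' = k' * k) :
    g * g' * y * (g * g')⁻¹ = g' * g * y * (g' * g)⁻¹ := by
  have e1 : g * g' * y * (g * g')⁻¹ = g * (g' * y * g'⁻¹) * g⁻¹ := by group
  have e2 : g' * g * y * (g' * g)⁻¹ = g' * (g * y * g⁻¹) * g'⁻¹ := by group
  rw [e1, e2, h1, h2]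
  calc g * (k' * y) * g⁻¹ = (g * k') * y * g⁻¹ := by group
    _ = k' * (g * y * g⁻¹) := by rw [h3]; group
    _ = (k' * k) * y := by rw [h1]; group
    _ = k * (g' * y * g'⁻¹) := by rw [← h5, h2]; group
    _ = (k * g') * y * g'⁻¹ := by group
    _ = g' * (k * y) * g'⁻¹ := by rw [← h4]; group

namespace NT

variable [Finite G] {S : Sylow 2 G} {P : Subgroup G} (h : NT S P V Z Blk m) (h1 : AOne V Z Blk)
include h h1

theorem pt_dich {p z : Subgroup G} (hpz : Adj V Z p z) {g : G} (hg : TwoEl g) {x : G} (hx : x ∈ p)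
    (hxg : x * g ≠ g * x) : ∀ y ∈ p, y * g = g * y → y = 1 := by
  intro y hy e
  by_contra hy1
  exact hxg (h.comm_pt hpz.left hg hy hy1 e.symm x hx).symm

/-- `|C_{B_z(a)}(g)| = s³` -/
theorem card_cg {z p a : Subgroup G} (hs : Sb V Z Blk z p a) (hL : IsCj V L) (hzL : z ≤ L) (haL : a ≤ L) {g : G}
    (hg : g ∈ UU V Z p) (hga : ∀ x ∈ a, g * x = x * g) (hgW : ∃ v ∈ ws V z, g * v ≠ v * g) :
    Nat.card (cg (bk Blk z a) g) = Nat.card Z ^ 3 ∧ L ≤ cg (bk Blk z a) g ∧ p ≤ cg (bk Blk z a) g := by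
  have hpz := hs.l
  have haz := hs.r
  have hgz : ∀ x ∈ z, g * x = x * g := fun x hx =>
    (mem_centralizer_iff.1 (h.UU_le_cent_adj hpz.symm hg) x hx).symm
  have hgp : ∀ x ∈ p, g * x = x * g := fun x hx =>
    (mem_centralizer_iff.1 (h.UU_le_cent_pt hpz.left hg) x hx).symm
  have hLC : L ≤ cg (bk Blk z a) g := by
    intro y hy
    refine mem_cg.2 ⟨h.line_le_bk haz hL hzL haL hy, ?_⟩
    obtain ⟨u, hu, v, hv, rfl⟩ := h.line_eq haz.right haz.left haz.ne.symm hL hzL haL hy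
    calc u * v * g = u * (g * v) := by rw [hga v hv]; group
      _ = g * (u * v) := by rw [← mul_assoc, ← hgz u hu]; group
  have hpC : p ≤ cg (bk Blk z a) g := fun y hy => mem_cg.2 ⟨(hs.symm h).le_bk h hy, (hgp y hy).symm⟩
  refine ⟨?_, hLC, hpC⟩
  -- lower bound
  have h2 : Nat.card p * Nat.card L ≤ Nat.card (cg (bk Blk z a) g) :=
    card_mul_le hpC hLC fun y hy hyL =>
      h.line_inf hpz.left hL ((hs.symm h).ne L hL hzL haL) hy hyL
  -- a point meeting `C` trivially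
  obtain ⟨v, hv, hgv⟩ := hgW
  obtain ⟨β, hβ, d, hd, rfl, hd'⟩ := h.dec haz hv
  have hgd := hd' p hpz ((hs.symm h).le_bk h) g hg
  have hgβ : β * g ≠ g * β := by
    intro e
    apply hgv
    calc g * (β * d) = (g * β) * d := by group
      _ = β * (g * d) := by rw [← e]; group
      _ = β * d * g := by rw [hgd]; group
  obtain ⟨E, hE, hEz, hβE⟩ := h.exists_pt haz hβ (fun e => hgβ (hgz β e).symm)
  have h3 : Nat.card E * Nat.card (cg (bk Blk z a) g) ≤ Nat.card (bk Blk z a) :=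
    card_mul_le hEz inf_le_left fun y hy hyC => h.pt_dich h1 hE (h.two_UU hg) hβE hgβ y hy (mem_cg.1 hyC).2
  rw [h.card_bk haz, h.m_eq h1, h.card_pt hE.left] at h3
  rw [h.card_pt hpz.left, h.card_ln hL] at h2
  have hs0 : 0 < Nat.card Z := Nat.card_pos
  refine le_antisymm (Nat.le_of_mul_le_mul_left (c := Nat.card Z) ?_ hs0) ?_
  · calc _ ≤ Nat.card Z ^ (3 + 1) := h3
      _ = Nat.card Z * Nat.card Z ^ 3 := by ring
  · calc Nat.card Z ^ 3 = Nat.card Z * (Nat.card Z * Nat.card Z) := by ring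
      _ ≤ _ := h2

/-- **(6.3)** -/
theorem exists_del {z a : Subgroup G} (haz : Adj V Z a z) (hL : IsCj V L) (hzL : z ≤ L) (haL : a ≤ L) :
    ∃ δ : G, (∀ y ∈ L, δ * y = y * δ) ∧ (∀ x, IsCj Z x → x ≤ L → x ≠ z → ∀ y ∈ bk Blk x z, δ * y = y * δ) ∧
      ∃ y ∈ bk Blk z a, δ * y * δ⁻¹ * y⁻¹ ∉ L := by
  -- the first element
  obtain ⟨p1, hp1⟩ := h.exists_sb haz
  have hs1 := hp1.symm h
  obtain ⟨c1, w1, hq1⟩ := h.exists_path h1 hs1
  obtain ⟨g1, hg1, hg1a, hg1W⟩ := h.exists_w0 h1 hq1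
  obtain ⟨hC1, hC1L, hC1p⟩ := h.card_cg h1 hs1 hL hzL haL hg1 hg1a hg1W
  -- the second
  have h2 : ∃ x ∈ bk Blk z a, x ∉ cg (bk Blk z a) g1 := by
    by_contra hcon
    push Not at hcon
    have h3 : Nat.card (bk Blk z a) ≤ Nat.card (cg (bk Blk z a) g1) := Subgroup.card_le_of_le hcon
    rw [hC1, h.card_bk haz, h.m_eq h1] at h3
    have h4 := (Nat.pow_le_pow_iff_right (h.two_le)).1 h3
    omega
  obtain ⟨x, hx, hxC⟩ := h2
  obtain ⟨p2, hp2z, hp2, hxp⟩ := h.exists_pt haz hx (fun e => hxC (hC1L (hzL e)))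
  have hs2 : Sb V Z Blk z p2 a :=
    (h.sb_mk' haz hp2z hp2 hL hzL haL fun e => hxC (hC1L (e hxp))).symm h
  obtain ⟨c2, w2, hq2⟩ := h.exists_path h1 hs2
  obtain ⟨g2, hg2, hg2a, hg2W⟩ := h.exists_w0 h1 hq2
  obtain ⟨hC2, hC2L, hC2p⟩ := h.card_cg h1 hs2 hL hzL haL hg2 hg2a hg2W
  have hd2 : ∀ y ∈ p2, y * g1 = g1 * y → y = 1 :=
    h.pt_dich h1 hp2z (h.two_UU hg1) hxp fun e => hxC (mem_cg.2 ⟨hx, e⟩)
  have hp1L : ¬ p1 ≤ L := fun e => hp1.ne L hL hzL haL e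
  have hp1C : ¬ p1 ≤ cg (bk Blk z a) g2 := by
    intro e
    have h3 := mul_of_card (A := L) (B := p1) (K := cg (bk Blk z a) g2) hC2L e
      (fun y hy hy' => h.line_inf hs1.l.left hL hp1L hy' hy)
      (by rw [hC2, h.card_ln hL, h.card_pt hs1.l.left]; exact le_of_eq (by ring))
    obtain ⟨l, hl, q, hq, e'⟩ := h3 x (hC2p hxp)
    apply hxC
    rw [e']
    exact mul_mem (hC1L hl) (hC1p hq)
  obtain ⟨π, hπ, hπC⟩ := SetLike.not_le_iff_exists.1 hp1C
  have hπz : π ∈ ws V z := h.adj_le_ws' hs1.l hπ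
  have hπg2 : π * g2 ≠ g2 * π := fun e => hπC (mem_cg.2 ⟨hp1.le_bk h hπ, e⟩)
  -- the centralisers
  have hLg1 : ∀ y ∈ L, g1 * y = y * g1 := fun y hy => (mem_cg.1 (hC1L hy)).2.symm
  have hLg2 : ∀ y ∈ L, g2 * y = y * g2 := fun y hy => (mem_cg.1 (hC2L hy)).2.symm
  have hact : ∀ {p : Subgroup G} {g : G}, Sb V Z Blk z p a → g ∈ UU V Z p → (∀ y ∈ L, g * y = y * g) →
      ∀ x, IsCj Z x → x ≤ L → x ≠ z → ∀ y ∈ bk Blk x z, ∃ k ∈ L, g * y * g⁻¹ = k * y := by
    intro p g hs hg hgL x hxZ hxL hxz y hy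
    have hxz' : Adj V Z x z := ⟨hxZ, haz.right, hxz, L, hL, hxL, hzL⟩
    have hs' : Sb V Z Blk z p x := by
      refine ((h.sb_mk' hxz' hs.l ?_ hL hzL hxL ((hs.symm h).ne L hL hzL haL)).symm h)
      rw [h.bk_line haz hxz' hL hzL haL hxL]
      exact (hs.symm h).le_bk h
    have h3 := h.w0_line h1 hs' hL hzL hxL hg (fun y hy => hgL y (hxL hy)) hy
    refine ⟨(y * g * y⁻¹ * g⁻¹)⁻¹, inv_mem h3, ?_⟩
    group
  have hδ1 : ∀ y ∈ L, g1 * g2 * g1⁻¹ * g2⁻¹ * y = y * (g1 * g2 * g1⁻¹ * g2⁻¹) := by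
    intro y hy
    have c1 : Commute y g1 := (hLg1 y hy).symm
    have c2 : Commute y g2 := (hLg2 y hy).symm
    exact (((c1.mul_right c2).mul_right c1.inv_right).mul_right c2.inv_right).symm
  refine ⟨g1 * g2 * g1⁻¹ * g2⁻¹, hδ1, fun x hxZ hxL hxz y hy => ?_, ?_⟩
  · have hxz' : Adj V Z x z := ⟨hxZ, haz.right, hxz, L, hL, hxL, hzL⟩
    have hblk : ∀ {g : G}, (∀ y ∈ L, g * y = y * g) → cj g⁻¹ (bk Blk x z) = bk Blk x z := by
      intro g hgL
      have h3 : ∀ y ∈ L, g⁻¹ * y = y * g⁻¹ := fun y hy => (Commute.inv_left (hgL y hy : Commute g y) : _)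
      rw [← h.bk_cj hxz'.symm, cj_of_cent fun y hy => h3 y (hxL hy), cj_of_cent fun y hy => h3 y (hzL hy)]
    -- `y0 = (g2 g1)⁻¹ y (g2 g1)`
    have hy1 : g2⁻¹ * y * g2⁻¹⁻¹ ∈ bk Blk x z := by
      rw [← hblk hLg2]; exact conj_mem_cj hy
    have hy0 : g1⁻¹ * (g2⁻¹ * y * g2⁻¹⁻¹) * g1⁻¹⁻¹ ∈ bk Blk x z := by
      rw [← hblk hLg1]; exact conj_mem_cj hy1
    obtain ⟨k, hk, ek⟩ := hact hs1 hg1 hLg1 x hxZ hxL hxz _ hy0
    obtain ⟨k', hk', ek'⟩ := hact hs2 hg2 hLg2 x hxZ hxL hxz _ hy0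
    have h3 := comm_act ek ek' (hLg1 k' hk') (hLg2 k hk)
      (h.ws_comm haz.right (le_ws hL hzL hk) (le_ws hL hzL hk'))
    have e1 : g2 * g1 * (g1⁻¹ * (g2⁻¹ * y * g2⁻¹⁻¹) * g1⁻¹⁻¹) * (g2 * g1)⁻¹ = y := by group
    have e2 : g1 * g2 * (g1⁻¹ * (g2⁻¹ * y * g2⁻¹⁻¹) * g1⁻¹⁻¹) * (g1 * g2)⁻¹ =
      g1 * g2 * g1⁻¹ * g2⁻¹ * y * (g1 * g2 * g1⁻¹ * g2⁻¹)⁻¹ := by group
    rw [e1, e2] at h3
    rwa [mul_inv_eq_iff_eq_mul] at h3
  · -- nontrivial
    have hκ : g2 * π * g2⁻¹ * π⁻¹ ∈ p2 := h.UU_ws h.typ hs2.l hg2 hπz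
    have hκ1 : g2 * π * g2⁻¹ * π⁻¹ ≠ 1 := fun e => hπg2 (Mid.comm_eq e).symm
    set κ := g2 * π * g2⁻¹ * π⁻¹ with hκ'
    have hlam : g1 * κ * g1⁻¹ * κ⁻¹ ∈ p1 := h.UU_ws h.typ hs1.l hg1 (h.adj_le_ws' hs2.l hκ)
    have hlam1 : g1 * κ * g1⁻¹ * κ⁻¹ ≠ 1 := fun e => hκ1 (hd2 κ hκ (Mid.comm_eq e).symm)
    have hg1π : g1 * π * g1⁻¹ = π := by
      have h3 : g1 * π = π * g1 := (mem_centralizer_iff.1 (h.UU_le_cent_pt hs1.l.left hg1) π hπ).symm
      rw [h3, mul_inv_cancel_right]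
    have hy : g2 * π * g2⁻¹ ∈ bk Blk z a := by
      have e : g2 * π * g2⁻¹ = κ * π := by rw [hκ']; group
      rw [e]
      exact mul_mem (hp2 hκ) (hp1.le_bk h hπ)
    refine ⟨g2 * π * g2⁻¹, hy, fun e => ?_⟩
    have e1 : g1 * g2 * g1⁻¹ * g2⁻¹ * (g2 * π * g2⁻¹) * (g1 * g2 * g1⁻¹ * g2⁻¹)⁻¹ * (g2 * π * g2⁻¹)⁻¹ =
      g1 * κ * g1⁻¹ * κ⁻¹ := by
      have e2 : g1 * g2 * g1⁻¹ * g2⁻¹ * (g2 * π * g2⁻¹) * (g1 * g2 * g1⁻¹ * g2⁻¹)⁻¹ =
        g1 * (g2 * (g1⁻¹ * π * g1) * g2⁻¹) * g1⁻¹ := by group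
      have e3 : g1⁻¹ * π * g1 = π := by
        nth_rewrite 1 [← hg1π]
        group
      rw [e2, e3]
      have e4 : g2 * π * g2⁻¹ = κ * π := by rw [hκ']; group
      rw [e4]
      calc g1 * (κ * π) * g1⁻¹ * (κ * π)⁻¹ = g1 * κ * g1⁻¹ * (g1 * π * g1⁻¹) * π⁻¹ * κ⁻¹ := by group
        _ = g1 * κ * g1⁻¹ * κ⁻¹ := by rw [hg1π]; group
    rw [e1] at e
    exact hlam1 (h.line_inf hs1.l.left hL hp1L hlam e)

/-- **(6.4)** -/
theorem not_AOne : False := by
  obtain ⟨L, hL, hZL⟩ := h.exists_line h.pl.isCj_self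
  have hz := h.pl.isCj_self
  obtain ⟨y, hy, hyL, hyz⟩ := h.exists_second hz hL hZL
  obtain ⟨x, hx, hxL, hxz, hxy⟩ := h.exists_third hz hy hL hZL hyL hyz.symm
  have hyz' : Adj V Z y Z := ⟨hy, hz, hyz, L, hL, hyL, hZL⟩
  have hxy' : Adj V Z x y := ⟨hx, hy, hxy, L, hL, hxL, hyL⟩
  obtain ⟨δ, hδL, hδ, v0, hv0, hv0L⟩ := h.exists_del h1 hyz' hL hZL hyL
  obtain ⟨b, hb⟩ := h.exists_sb hyz'.symm
  have hbL : ¬ b ≤ L := hb.ne L hL hyL hZL
  have hxz' : Adj V Z x Z := ⟨hx, hz, hxz, L, hL, hxL, hZL⟩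
  -- `b`, `x` at `y`
  have hbx : Sb V Z Blk y b x := by
    refine (h.sb_mk' hxy' hb.r ?_ hL hyL hxL hbL).symm h
    rw [h.bk_line hyz'.symm hxy' hL hyL hZL hxL]
    exact hb.le_bk h
  have hby := hb.r
  obtain ⟨M, hM, hbM, hyM⟩ := hby.line
  have hδby : ∀ u ∈ bk Blk y Z, δ * u = u * δ := hδ y hy hyL hyz
  have hδb : ∀ u ∈ b, δ * u = u * δ := fun u hu => hδby u (hb.le_bk h hu)
  have hδy : ∀ u ∈ y, δ * u = u * δ := fun u hu => hδL u (hyL hu)
  have hδx : ∀ u ∈ bk Blk x y, δ * u = u * δ := by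
    intro u hu
    refine hδ x hx hxL hxz u ?_
    rwa [h.bk_line hxy'.symm hxz'.symm hL hxL hyL hZL]
  have hblkb : cj δ (bk Blk b y) = bk Blk b y := by
    rw [← h.bk_cj hby.symm, cj_of_cent hδb, cj_of_cent hδy]
  -- step 1
  have step1 : ∀ u ∈ bk Blk b y, u⁻¹ * (δ * u * δ⁻¹) ∈ M := by
    intro u hu
    have hu' : δ * u * δ⁻¹ ∈ bk Blk b y := by
      rw [← hblkb]; exact conj_mem_cj hu
    have huu := mul_mem (inv_mem hu) hu'
    refine h.cent_ln h1 hbx hM hyM hbM huu fun w hw => ?_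
    obtain ⟨β, hβ, d, hd, rfl, hd'⟩ := h.dec hxy'.symm hw
    have e1 : u⁻¹ * (δ * u * δ⁻¹) * d = d * (u⁻¹ * (δ * u * δ⁻¹)) :=
      hd' y hxy'.symm (h.le_bk hxy'.symm) _ (le_UU hby (h.bk_le hby.symm huu))
    have e2 : u⁻¹ * (δ * u * δ⁻¹) * β = β * (u⁻¹ * (δ * u * δ⁻¹)) := by
      -- `[β, δuδ⁻¹] = [β, u]`
      have h2 : β * u * β⁻¹ * u⁻¹ ∈ y := h.mid_mem h.typ hxy' hby.symm (h.bk_le hxy'.symm hβ) (h.bk_le hby.symm hu)
      have hδβ : δ * β * δ⁻¹ = β := by rw [hδx β hβ, mul_inv_cancel_right]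
      have h3 : β * (δ * u * δ⁻¹) * β⁻¹ * (δ * u * δ⁻¹)⁻¹ = β * u * β⁻¹ * u⁻¹ := by
        have e3 : δ * (β * u * β⁻¹ * u⁻¹) * δ⁻¹ = β * u * β⁻¹ * u⁻¹ := by
          rw [hδy _ h2, mul_inv_cancel_right]
        calc β * (δ * u * δ⁻¹) * β⁻¹ * (δ * u * δ⁻¹)⁻¹
            = (δ * β * δ⁻¹) * (δ * u * δ⁻¹) * (δ * β * δ⁻¹)⁻¹ * (δ * u * δ⁻¹)⁻¹ := by rw [hδβ]
          _ = δ * (β * u * β⁻¹ * u⁻¹) * δ⁻¹ := by group
          _ = β * u * β⁻¹ * u⁻¹ := e3
      have h4 : (β * u * β⁻¹ * u⁻¹)⁻¹ = (β * (δ * u * δ⁻¹) * β⁻¹ * (δ * u * δ⁻¹)⁻¹)⁻¹ := by rw [h3]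
      have e5 : (β * u * β⁻¹ * u⁻¹)⁻¹ = u * β * u⁻¹ * β⁻¹ := by group
      have e6 : (β * (δ * u * δ⁻¹) * β⁻¹ * (δ * u * δ⁻¹)⁻¹)⁻¹ =
        δ * u * δ⁻¹ * β * (δ * u * δ⁻¹)⁻¹ * β⁻¹ := by group
      rw [e5, e6] at h4
      exact comm_inj h4
    calc u⁻¹ * (δ * u * δ⁻¹) * (β * d) = (u⁻¹ * (δ * u * δ⁻¹) * β) * d := by group
      _ = β * (u⁻¹ * (δ * u * δ⁻¹) * d) := by rw [e2]; group
      _ = β * d * (u⁻¹ * (δ * u * δ⁻¹)) := by rw [e1]; group
  -- step 2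
  have hzy := hyz'.symm
  have hδz : ∀ u ∈ Z, δ * u = u * δ := fun u hu => hδL u (hZL hu)
  have hblkz : cj δ (bk Blk Z y) = bk Blk Z y := by
    rw [← h.bk_cj hyz', cj_of_cent hδz, cj_of_cent hδy]
  have hv' : δ * v0 * δ⁻¹ ∈ bk Blk Z y := by
    rw [← hblkz]; exact conj_mem_cj hv0
  have hvz := h.bk_le hyz' hv0
  have hvz' := h.bk_le hyz' hv'
  have hvv := mul_mem (inv_mem hv0) hv'
  have h2 : v0⁻¹ * (δ * v0 * δ⁻¹) ∈ L := by
    refine h.cent_ln h1 hb hL hyL hZL hvv fun w hw => ?_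
    obtain ⟨u, hu, d, hd, rfl, hd'⟩ := h.dec hby.symm hw
    have e1 : v0⁻¹ * (δ * v0 * δ⁻¹) * d = d * (v0⁻¹ * (δ * v0 * δ⁻¹)) :=
      hd' y hby.symm (h.le_bk hby.symm) _ (le_UU hzy (h.bk_le hyz' hvv))
    have e2 : v0⁻¹ * (δ * v0 * δ⁻¹) * u = u * (v0⁻¹ * (δ * v0 * δ⁻¹)) := by
      apply comm_inj
      have hk := step1 u hu
      -- `v'` commutes with `k = u⁻¹ δ u δ⁻¹`
      have hk2 : δ * v0 * δ⁻¹ * (u⁻¹ * (δ * u * δ⁻¹)) = u⁻¹ * (δ * u * δ⁻¹) * (δ * v0 * δ⁻¹) := by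
        obtain ⟨s, hs, t, ht, e⟩ := h.line_eq hby.left hby.right hby.ne hM hbM hyM hk
        have h3 := mem_centralizer_iff.1 (h.ws_le_cent hzy hby.symm hvz') s hs
        have h4 := mem_centralizer_iff.1 (h.ws_le_cent' hzy hvz') t ht
        rw [e]
        calc δ * v0 * δ⁻¹ * (s * t) = (δ * v0 * δ⁻¹ * s) * t := by group
          _ = s * (δ * v0 * δ⁻¹ * t) := by rw [← h3]; group
          _ = s * t * (δ * v0 * δ⁻¹) := by rw [← h4]; group
      have h5 : v0 * u * v0⁻¹ * u⁻¹ ∈ y := h.mid_mem h.typ hzy hby.symm hvz (h.bk_le hby.symm hu)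
      have h6 : δ * v0 * δ⁻¹ * (δ * u * δ⁻¹) * (δ * v0 * δ⁻¹)⁻¹ * (δ * u * δ⁻¹)⁻¹ = v0 * u * v0⁻¹ * u⁻¹ := by
        calc _ = δ * (v0 * u * v0⁻¹ * u⁻¹) * δ⁻¹ := by group
          _ = _ := by rw [hδy _ h5, mul_inv_cancel_right]
      rw [← h6]
      -- `[v', u k] = [v', u]`
      set v' := δ * v0 * δ⁻¹ with hv''
      set u' := δ * u * δ⁻¹ with hu''
      have h7 : v' * (u⁻¹ * u') * v'⁻¹ = u⁻¹ * u' := by rw [hk2, mul_inv_cancel_right]
      calc v' * u' * v'⁻¹ * u'⁻¹ = v' * u * v'⁻¹ * (v' * (u⁻¹ * u') * v'⁻¹) * u'⁻¹ := by group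
        _ = v' * u * v'⁻¹ * u⁻¹ := by rw [h7]; group
    calc v0⁻¹ * (δ * v0 * δ⁻¹) * (u * d) = (v0⁻¹ * (δ * v0 * δ⁻¹) * u) * d := by group
      _ = u * (v0⁻¹ * (δ * v0 * δ⁻¹) * d) := by rw [e2]; group
      _ = u * d * (v0⁻¹ * (δ * v0 * δ⁻¹)) := by rw [e1]; group
  apply hv0L
  rwa [h.ws_comm hz hvz' (inv_mem hvz)]

end NT

end Cfsg.Agent.Omega.NO3S.MidQ

end

section


/-!
# NO-3S, natural lines, TYPE N, blocks `SL_m`, `m ≥ 3`: section (A2) (TEXT 426-2, THEOREM N2)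

* `NT.mover`, `NT.full` : `[U_a, β] = a` for `β ∈ b#`, `Sb r a b`;
* `NT.jj` : (j') `|H| ≤ s^m |H ∩ W_b|` for `H ≤ W_a`;
* `NT.inf_line` : `W_a ∩ I_m = r`;  `NT.card_ws_le` : (k') `|W_a| ≤ s^(2m+1)`.
-/

set_option autoImplicit false
set_option linter.unusedSectionVars false

namespace Cfsg.Agent.Omega.NO3S.MidQ

open Subgroup Cfsg.Agent.Omega.NO3S.PT Cfsg.Agent.Omega.NoFF.Basic Cfsg.Agent.ZN
open scoped Pointwise

variable {G : Type*} [Group G] {V Z X Y L : Subgroup G} {Blk : Subgroup G → Set (Subgroup G)} {m : ℕ}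

/-- (A2) -/
def ATwo (V Z : Subgroup G) (Blk : Subgroup G → Set (Subgroup G)) : Prop :=
  ∀ R A B, Sb V Z Blk R A B → Com V A B

/-- the group generated by the `U_C`, `C` in the block of the line `L` at `X` -/
def NN (V Z : Subgroup G) (Blk : Subgroup G → Set (Subgroup G)) (X L : Subgroup G) : Subgroup G :=
  sSup {U | ∃ C, Adj V Z C X ∧ (∃ D ∈ Blk X, L ≤ D ∧ C ≤ D) ∧ U = UU V Z C}

namespace NT

variable [Finite G] {S : Sylow 2 G} {P : Subgroup G} (h : NT S P V Z Blk m)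
include h

/-- a point `e ~ c ~ a` moving `b` -/
theorem mover {r a b : Subgroup G} (hs : Sb V Z Blk r a b) {β : G} (hβ : β ∈ b) (hβ1 : β ≠ 1) :
    ∃ c e, Adj V Z c a ∧ Adj V Z e c ∧ e ≤ bk Blk c a ∧ ∀ x ∈ e, x * β = β * x → x = 1 := by
  have h2 : ∃ c, Adj V Z c a ∧ ∃ w ∈ ws V c, w * β ≠ β * w := by
    by_contra hcon
    push Not at hcon
    have h3 : UU V Z a ≤ centralizer ({β} : Set G) := by
      refine sSup_le ?_
      rintro _ ⟨c, hc, rfl⟩ w hw
      exact mem_cs.2 (hcon c hc w hw)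
    exact hβ1 (h.sb_mv hs hβ fun u hu => mem_cs.1 (h3 hu))
  obtain ⟨c, hca, w, hw, hwβ⟩ := h2
  have hβU : β ∈ UU V Z a := le_UU hs.l.symm (h.adj_le_ws' hs.r hβ)
  obtain ⟨ε, hε, d, hd, rfl, hd'⟩ := h.dec hca.symm hw
  have hdβ := hd' a hca.symm (h.le_bk hca.symm) β hβU
  have hεβ : ε * β ≠ β * ε := by
    intro e
    apply hwβ
    calc ε * d * β = ε * (d * β) := by group
      _ = (ε * β) * d := by rw [← hdβ]; group
      _ = β * (ε * d) := by rw [e]; group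
  obtain ⟨E, hE, hEc, hεE⟩ := h.exists_pt hca.symm hε (fun e => by
    -- `W_r` centralises `c`
    have h3 := mem_centralizer_iff.1 (h.ws_le_cent hs.l.symm hca.symm (h.adj_le_ws' hs.r hβ)) ε e
    exact hεβ h3)
  refine ⟨c, E, hca, hE, hEc, fun x hx e => ?_⟩
  by_contra hx1
  exact hεβ (h.comm_pt hE.left (h.two_ws hs.r.left (h.pt_le_ws hs.r.left hβ)) hx hx1 e.symm ε hεE).symm

/-- `[U_a, β] = a` -/
theorem full {r a b : Subgroup G} (hs : Sb V Z Blk r a b) {β : G} (hβ : β ∈ b) (hβ1 : β ≠ 1) :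
    ∀ α ∈ a, ∃ g ∈ UU V Z a, g * β * g⁻¹ * β⁻¹ = α := by
  obtain ⟨c, e, hca, hec, hle, hmv⟩ := h.mover hs hβ hβ1
  have h2 := surj_of_inj (A := e) (B := a) (by rw [h.card_pt hec.left, h.card_pt hs.l.left])
    (fun y => y * β * y⁻¹ * β⁻¹)
    (fun y hy => h.mid_mem h.typ hca hs.l (h.adj_le_ws' hec hy) (h.adj_le_ws' hs.r hβ))
    (fun y hy y' hy' e' => inv_mul_eq_one.1 (hmv _ (mul_mem (inv_mem hy) hy') (comm_inj e')))
  intro α hα
  obtain ⟨g, hg, e'⟩ := h2 α hα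
  exact ⟨g, le_UU hca (h.adj_le_ws' hec hg), e'⟩

/-- `W_a ∩ W_{a^ε} ≤ W_b` if `[ε, α] ∈ b` -/
theorem inf_ws_cj {r a b : Subgroup G} (hs : Sb V Z Blk r a b) {ε α : G} (hα : α ∈ a)
    (hε : ε * α * ε⁻¹ * α⁻¹ ∈ b) (hε1 : ε * α * ε⁻¹ * α⁻¹ ≠ 1) {y : G} (hy : y ∈ ws V a)
    (hy' : y ∈ ws V (cj ε a)) : y ∈ ws V b := by
  obtain ⟨g, hg, e⟩ := h.full hs hε hε1 α hα
  have hcomm : α * (ε * α * ε⁻¹ * α⁻¹) = ε * α * ε⁻¹ * α⁻¹ * α :=
    h.ws_comm hs.l.right (h.adj_le_ws' hs.l hα) (h.adj_le_ws' hs.r hε)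
  have h2 : g * (ε * α * ε⁻¹ * α⁻¹) * g⁻¹ = ε * α * ε⁻¹ := by
    have e2 : g * (ε * α * ε⁻¹ * α⁻¹) * g⁻¹ = α * (ε * α * ε⁻¹ * α⁻¹) := by
      have e3 : g * (ε * α * ε⁻¹ * α⁻¹) * g⁻¹ =
        g * (ε * α * ε⁻¹ * α⁻¹) * g⁻¹ * (ε * α * ε⁻¹ * α⁻¹)⁻¹ * (ε * α * ε⁻¹ * α⁻¹) := by group
      rw [e3, e]
    rw [e2, hcomm]; group
  have h3 : cj g b = cj ε a := by
    refine h.pts_eq (hs.r.left.cj g) (hs.l.left.cj ε) (z := ε * α * ε⁻¹) ?_ (conj_mem_cj hα) ?_
    · rw [← h2]; exact conj_mem_cj hε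
    · intro e2
      apply hε1
      have h4 : α = 1 := conj_eq_one_iff.1 e2
      rw [h4]; group
  rw [← h3, ws_cj, mem_cj] at hy'
  have h4 : g * y = y * g := (mem_centralizer_iff.1 (h.UU_le_centralizer a hg) y hy).symm
  rwa [mul_assoc, ← h4, inv_mul_cancel_left] at hy'

variable (h2 : ATwo V Z Blk)
include h2

/-- **(j')** -/
theorem jj {r a b : Subgroup G} (hs : Sb V Z Blk r a b) {H : Subgroup G} (hH : H ≤ ws V a) :
    Nat.card H ≤ Nat.card Z ^ m * Nat.card (H ⊓ ws V b : Subgroup G) := by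
  obtain ⟨α, hα, hα1⟩ := h.pt_ne_bot hs.l.left
  obtain ⟨c, e, hcb, hec, hle, hmv⟩ := h.mover (hs.symm h) hα hα1
  obtain ⟨ε, hε, hε1⟩ := h.pt_ne_bot hec.left
  have hαr := h.adj_le_ws' hs.l hα
  have hεc := h.adj_le_ws' hec hε
  set T := bk Blk c b ⊓ centralizer ({α} : Set G) with hT
  have hTc : Nat.card T ≤ Nat.card Z ^ m := by
    have h3 : Nat.card e * Nat.card T ≤ Nat.card (bk Blk c b) :=
      card_mul_le hle inf_le_left fun x hx hx' => hmv x hx (mem_cs.1 hx'.2)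
    rw [h.card_pt hec.left, h.card_bk hcb.symm, pow_succ, mul_comm (Nat.card Z ^ m)] at h3
    exact Nat.le_of_mul_le_mul_left h3 Nat.card_pos
  have hcom := h2 r a b hs
  have h3 : Nat.card H ≤ Nat.card T * Nat.card (H ⊓ centralizer ({ε} : Set G) : Subgroup G) := by
    refine card_le_mul (fun y => ε⁻¹ * (y * ε * y⁻¹)) (fun y hy => ?_) fun y hy y' hy' e' => ?_
    · have hya := hH hy
      have hyb : ∀ x ∈ b, y * x = x * y := fun x hx =>
        (mem_centralizer_iff.1 (hcom hya) x (h.pt_le_ws hs.r.left hx)).symm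
      have hyc : ∀ x ∈ c, y * x = x * y := fun x hx =>
        (mem_centralizer_iff.1 (hcom hya) x (h.adj_le_ws' hcb hx)).symm
      have hblk : cj y (bk Blk c b) = bk Blk c b := by
        rw [← h.bk_cj hcb.symm, cj_of_cent hyb, cj_of_cent hyc]
      have h4 : y * ε * y⁻¹ ∈ bk Blk c b := by
        rw [← hblk]; exact conj_mem_cj (hle hε)
      refine ⟨(bk Blk c b).mul_mem ((bk Blk c b).inv_mem (hle hε)) h4, mem_cs.2 (comm_inj ?_)⟩
      -- `[ε^y, α] = [ε, α]`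
      have h5 : ε * α * ε⁻¹ * α⁻¹ ∈ b := h.mid_mem h.typ hcb hs.r hεc hαr
      have hyα : y * α = α * y := h.ws_comm hs.l.left hya (h.pt_le_ws hs.l.left hα)
      have hyα' : y * α * y⁻¹ = α := by rw [hyα, mul_inv_cancel_right]
      symm
      calc y * ε * y⁻¹ * α * (y * ε * y⁻¹)⁻¹ * α⁻¹
          = y * ε * y⁻¹ * (y * α * y⁻¹) * (y * ε * y⁻¹)⁻¹ * (y * α * y⁻¹)⁻¹ := by rw [hyα']
        _ = y * (ε * α * ε⁻¹ * α⁻¹) * y⁻¹ := by group
        _ = ε * α * ε⁻¹ * α⁻¹ := by rw [hyb _ h5, mul_inv_cancel_right]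
    · refine mem_cs.2 ?_
      have h4 : y * ε * y⁻¹ = y' * ε * y'⁻¹ := mul_left_cancel e'
      exact comm_inj (by rw [h4])
  refine h3.trans (Nat.mul_le_mul hTc (Subgroup.card_le_of_le ?_))
  rintro y ⟨hy, hyε⟩
  refine ⟨hy, h.inf_ws_cj hs hα (h.mid_mem h.typ hcb hs.r hεc hαr) (fun e' => hε1 (hmv ε hε (Mid.comm_eq e')))
    (hH hy) ?_⟩
  rw [ws_cj, mem_cj, mul_assoc, mem_cs.1 hyε, inv_mul_cancel_left]
  exact hH hy

omit h2 in
theorem nn_cj (g : G) (X L : Subgroup G) (hX : IsCj Z X) : NN V Z Blk (cj g X) (cj g L) = cj g (NN V Z Blk X L) := by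
  have key : ∀ (g : G) (X L : Subgroup G), IsCj Z X → cj g (NN V Z Blk X L) ≤ NN V Z Blk (cj g X) (cj g L) := by
    intro g X L hX
    rw [cj_le_iff]
    refine sSup_le ?_
    rintro _ ⟨C, hC, ⟨D, hD, hLD, hCD⟩, rfl⟩
    rw [le_cj_iff, inv_inv, ← UU_cj]
    exact le_sSup ⟨cj g C, hC.cj g, ⟨cj g D, h.slb.can g X hX D hD, cj_le_cj.2 hLD, cj_le_cj.2 hCD⟩, rfl⟩
  refine le_antisymm ?_ (key g X L hX)
  have h3 := key g⁻¹ (cj g X) (cj g L) (hX.cj g)
  rw [cj_cj, cj_cj, inv_mul_cancel, cj_one, cj_one, cj_le_iff, inv_inv] at h3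
  exact h3

omit h2 in
/-- `I_m ∩ W_a = r`, `m` a line on `r` joined to `a` -/
theorem inf_line {r a b b' : Subgroup G} (hs : Sb V Z Blk r a b) (hL : IsCj V L) (hrL : r ≤ L) (hbL : b ≤ L)
    (hb' : Adj V Z b' r) (hbL' : b' ≤ L) (hne : b ≠ b') {u : G} (hu : u ∈ ws V a) (hub : u ∈ ws V b)
    (hub' : u ∈ ws V b') : u ∈ r := by
  have hr := hs.l.right
  have hbr := hs.r
  have hur : u ∈ ws V r := h.inf_le hL hbr.left hb'.left hr hbL hbL' hrL hne ⟨hub, hub'⟩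
  obtain ⟨β, hβ, d, hd, e, hd'⟩ := h.dec hbr hur
  have hbb := h.le_bk (Blk := Blk) hbr
  -- `β ∈ L`
  have hβL : β ∈ L := by
    refine h.cent hbr hL hrL hbL hβ fun v hv => ?_
    have h3 : v * u = u * v := (mem_centralizer_iff.1 (h.UU_le_centralizer b hv) u hub).symm
    have h4 := hd' b hbr hbb v hv
    have h5 : v * β * d = β * v * d := by
      calc v * β * d = v * (β * d) := by group
        _ = β * d * v := by rw [← e, h3]
        _ = β * (v * d) := by rw [h4]; group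
        _ = β * v * d := by group
    exact mul_right_cancel h5
  have hdL : d ∈ ws V r ⊓ ws V b := by
    have e2 : d = β⁻¹ * u := by rw [e]; group
    rw [e2]
    exact ⟨(ws V r).mul_mem ((ws V r).inv_mem (le_ws hL hrL hβL)) hur,
      (ws V b).mul_mem ((ws V b).inv_mem (le_ws hL hbL hβL)) hub⟩
  -- `d ∈ r`
  have hdr : d ∈ r := by
    refine h.lemF_flag (N := NN V Z Blk) (fun g X L hX _ _ => h.nn_cj g X L hX) (fun X L hX hL hXL => ?_)
      (fun X L hX hL hXL => ?_) hr hL hrL hbr.left hbL hbr.ne hdL.1 hdL.2 fun n hn => ?_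
    · refine sSup_le ?_
      rintro _ ⟨C, hC, -, rfl⟩
      exact h.UU_le_cent_adj hC.symm
    · obtain ⟨A, hA, hAL, hAX⟩ := h.exists_second hX hL hXL
      have hAX' : Adj V Z A X := ⟨hA, hX, hAX, L, hL, hAL, hXL⟩
      obtain ⟨C, hC⟩ := h.exists_sb hAX'
      obtain ⟨α, hα, hα1⟩ := h.pt_ne_bot hA
      have h3 : ∃ n ∈ UU V Z C, n * α ≠ α * n := by
        by_contra hcon
        push Not at hcon
        exact hα1 (h.sb_mv (hC.symm h) hα hcon)
      obtain ⟨n, hn, hnα⟩ := h3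
      have h4 : UU V Z C ≤ NN V Z Blk X L :=
        le_sSup ⟨C, hC.r, ⟨bk Blk X A, h.bk_mem hAX', h.line_le_bk hAX' hL hXL hAL, hC.le_bk h⟩, rfl⟩
      refine ⟨n, h4 hn, α, hAL hα, fun e2 => hnα (Mid.comm_eq ?_)⟩
      exact h.pt_inf hC.r.left hX hC.r.ne (h.UU_ws h.typ hC.r hn (h.adj_le_ws' hAX' hα)) e2
    · have h3 : n * d = d * n := by
        have h4 : NN V Z Blk r L ≤ centralizer ({d} : Set G) := by
          refine sSup_le ?_
          rintro _ ⟨C, hC, ⟨D, hD, hLD, hCD⟩, rfl⟩ v hv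
          refine mem_cs.2 (hd' C hC ?_ v hv)
          rwa [h.bk_unique hbr hD (hbL.trans hLD)]
        exact mem_cs.1 (h4 hn)
      rw [Mid.comm_one h3]
      exact one_mem _
  have huL : u ∈ L := by rw [e]; exact mul_mem hβL (hrL hdr)
  obtain ⟨ρ, hρ, β', hβ', e3⟩ := h.line_eq hr hbr.left hbr.ne.symm hL hrL hbL huL
  have h3 : β' ∈ ws V a := by
    have e4 : β' = ρ⁻¹ * u := by rw [e3]; group
    rw [e4]
    exact mul_mem (inv_mem (h.adj_le_ws hs.l hρ)) hu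
  have h4 : β' = 1 := h.sb_mv hs hβ' fun v hv =>
    (mem_centralizer_iff.1 (h.UU_le_centralizer a hv) β' h3).symm
  rw [e3, h4, mul_one]
  exact hρ

/-- **(k')** -/
theorem card_ws_le {a : Subgroup G} (ha : IsCj Z a) : Nat.card (ws V a) ≤ Nat.card Z ^ (2 * m + 1) := by
  obtain ⟨L, hL, haL⟩ := h.exists_line ha
  obtain ⟨r, hr, hrL, hra⟩ := h.exists_second ha hL haL
  have har : Adj V Z a r := ⟨ha, hr, hra.symm, L, hL, haL, hrL⟩
  obtain ⟨b, hs⟩ := h.exists_sb har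
  obtain ⟨M, hM, hbM, hrM⟩ := hs.r.line
  obtain ⟨b', hb', hbM', hbr', hbb'⟩ := h.exists_third hr hs.r.left hM hrM hbM hs.r.ne.symm
  have hbr2 : Adj V Z b' r := ⟨hb', hr, hbr', M, hM, hbM', hrM⟩
  have hs' : Sb V Z Blk r a b' := by
    refine (h.sb_mk' hbr2 har ?_ hM hrM hbM' ((hs.symm h).ne M hM hrM hbM)).symm h
    rw [h.bk_line hs.r hbr2 hM hrM hbM hbM']
    exact (hs.symm h).le_bk h
  have h3 := h.jj h2 hs (H := ws V a) le_rfl
  have h4 := h.jj h2 hs' (H := ws V a ⊓ ws V b) inf_le_left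
  have h5 : Nat.card (ws V a ⊓ ws V b ⊓ ws V b' : Subgroup G) ≤ Nat.card Z := by
    rw [← h.card_pt hr]
    refine Subgroup.card_le_of_le ?_
    rintro u ⟨⟨hu, hub⟩, hub'⟩
    exact h.inf_line hs hM hrM hbM hbr2 hbM' hbb'.symm hu hub hub'
  calc Nat.card (ws V a) ≤ Nat.card Z ^ m * Nat.card (ws V a ⊓ ws V b : Subgroup G) := h3
    _ ≤ Nat.card Z ^ m * (Nat.card Z ^ m * Nat.card Z) :=
      Nat.mul_le_mul_left _ (h4.trans (Nat.mul_le_mul_left _ h5))
    _ = Nat.card Z ^ (2 * m + 1) := by ring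

end NT

end Cfsg.Agent.Omega.NO3S.MidQ

end

section


/-!
# NO-3S, natural lines, critical distance 2, TYPE N, blocks `SL_m`, `m ≥ 3`: THEOREM N2 (TEXT 426-2, bb OMEGA #16785)

* `NT.not_two_blocks` : the number of blocks is not 2 (it is odd);
* `Mid.no_SLB`, `TN.no_SLB` : **THEOREM N2**.
-/

set_option autoImplicit false
set_option linter.unusedSectionVars false

namespace Cfsg.Agent.Omega.NO3S.MidQ

open Subgroup Cfsg.Agent.Omega.NO3S.PT Cfsg.Agent.Omega.NoFF.Basic Cfsg.Agent.ZN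
open scoped Pointwise

variable {G : Type*} [Group G] {V Z X Y L : Subgroup G} {Blk : Subgroup G → Set (Subgroup G)} {m : ℕ}

/-- `|A| |B| ≤ |K| |A ∩ B|` -/
theorem card_mul_le' [Finite G] {A B K : Subgroup G} (hA : A ≤ K) (hB : B ≤ K) :
    Nat.card A * Nat.card B ≤ Nat.card K * Nat.card (A ⊓ B : Subgroup G) := by
  classical
  have hr : ∀ k : K, ∃ a : A, (∃ x : A, (x : G)⁻¹ * k ∈ B) → (a : G)⁻¹ * k ∈ B := by
    intro k
    by_cases hk : ∃ x : A, (x : G)⁻¹ * k ∈ B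
    · obtain ⟨x, hx⟩ := hk
      exact ⟨x, fun _ => hx⟩
    · exact ⟨1, fun h => absurd h hk⟩
  choose r hr using hr
  have hr' : ∀ x : A × B, ((r ⟨x.1 * x.2, K.mul_mem (hA x.1.2) (hB x.2.2)⟩ : A) : G)⁻¹ * (x.1 * x.2) ∈ B := fun x =>
    hr ⟨x.1 * x.2, K.mul_mem (hA x.1.2) (hB x.2.2)⟩ ⟨x.1, by
      show (x.1 : G)⁻¹ * (x.1 * x.2) ∈ B
      rw [inv_mul_cancel_left]; exact x.2.2⟩
  let F : A × B → K × (A ⊓ B : Subgroup G) := fun x =>
    (⟨x.1 * x.2, K.mul_mem (hA x.1.2) (hB x.2.2)⟩,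
      ⟨((r ⟨x.1 * x.2, K.mul_mem (hA x.1.2) (hB x.2.2)⟩ : A) : G)⁻¹ * x.1,
        A.mul_mem (A.inv_mem (r _).2) x.1.2, by
          have h1 := B.mul_mem (hr' x) (B.inv_mem x.2.2)
          have e : ((r ⟨x.1 * x.2, K.mul_mem (hA x.1.2) (hB x.2.2)⟩ : A) : G)⁻¹ * (x.1 * x.2) * (x.2 : G)⁻¹ =
            ((r ⟨x.1 * x.2, K.mul_mem (hA x.1.2) (hB x.2.2)⟩ : A) : G)⁻¹ * x.1 := by group
          rwa [e] at h1⟩)
  have hF : Function.Injective F := by
    rintro x y hxy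
    have h1 : (⟨x.1 * x.2, K.mul_mem (hA x.1.2) (hB x.2.2)⟩ : K) = ⟨y.1 * y.2, K.mul_mem (hA y.1.2) (hB y.2.2)⟩ :=
      congrArg Prod.fst hxy
    have h2 : ((r ⟨x.1 * x.2, K.mul_mem (hA x.1.2) (hB x.2.2)⟩ : A) : G)⁻¹ * x.1 =
        ((r ⟨y.1 * y.2, K.mul_mem (hA y.1.2) (hB y.2.2)⟩ : A) : G)⁻¹ * y.1 :=
      congrArg Subtype.val (congrArg Prod.snd hxy)
    rw [h1] at h2
    have h3 : (x.1 : G) = y.1 := mul_left_cancel h2
    have h4 : (x.1 : G) * x.2 = y.1 * y.2 := congrArg Subtype.val h1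
    rw [h3] at h4
    exact Prod.ext (Subtype.ext h3) (Subtype.ext (mul_left_cancel h4))
  have h3 := Nat.card_le_card_of_injective F hF
  rwa [Nat.card_prod, Nat.card_prod] at h3

namespace NT

variable [Finite G] {S : Sylow 2 G} {P : Subgroup G} (h : NT S P V Z Blk m)
include h

theorem exists_adj_blk (hX : IsCj Z X) {D : Subgroup G} (hD : D ∈ Blk X) : ∃ A, Adj V Z A X ∧ bk Blk X A = D := by
  have h1 : ∃ y ∈ D, y ∉ X := by
    by_contra hcon
    push Not at hcon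
    have h2 : Nat.card D ≤ Nat.card X := Subgroup.card_le_of_le hcon
    rw [h.slb.card X hX D hD, h.card_pt hX] at h2
    nth_rewrite 2 [← pow_one (Nat.card Z)] at h2
    have h3 := (Nat.pow_le_pow_iff_right (h.two_le)).1 h2
    have h4 := h.slb.three
    omega
  obtain ⟨y, hy, hyX⟩ := h1
  obtain ⟨M, hM, hXM, hyM⟩ := h.slb.all X hX D hD y hy hyX
  obtain ⟨A, hA, hAM, hyA⟩ := h.exists_point hM hyM (fun e => hyX (e ▸ one_mem _))
  have hAX : Adj V Z A X := ⟨hA, hX, fun e => hyX (e ▸ hyA), M, hM, hAM, hXM⟩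
  refine ⟨A, hAX, ?_⟩
  by_contra hne
  exact hyX (h.slb.inf X hX D hD _ (h.bk_mem hAX) hne y hy (h.le_bk hAX hyA))

/-- an element of a block centralised by all `U_C`, `C` in the block, is in `X` -/
theorem blk_cent (hX : IsCj Z X) {D : Subgroup G} (hD : D ∈ Blk X) {x : G} (hx : x ∈ D)
    (hc : ∀ C, Adj V Z C X → C ≤ D → ∀ u ∈ UU V Z C, u * x = x * u) : x ∈ X := by
  obtain ⟨A, hA, rfl⟩ := h.exists_adj_blk hX hD
  obtain ⟨B, hs⟩ := h.exists_sb hA
  obtain ⟨L, hL, hAL, hXL⟩ := hA.line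
  obtain ⟨M, hM, hBM, hXM⟩ := hs.r.line
  have h1 := h.cent hA hL hXL hAL hx (hc A hA (h.le_bk hA))
  have h2 := h.cent hs.r hM hXM hBM (by rw [hs.bk_eq h]; exact hx) (hc B hs.r (hs.le_bk h))
  by_contra hxX
  have hx1 : x ≠ 1 := fun e => hxX (e ▸ one_mem _)
  obtain ⟨T, hT, hTL, hxT⟩ := h.exists_point hL h1 hx1
  obtain ⟨T', hT', hTM, hxT'⟩ := h.exists_point hM h2 hx1
  have e := h.pts_eq hT hT' hxT hxT' hx1
  have hTX : X ≠ T := fun e => hxX (e ▸ hxT)
  have e2 := h.line_unique hX hT hTX hL hM hXL hTL hXM (e ▸ hTM)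
  exact hs.ne L hL hXL hAL (e2 ▸ hBM)

/-- the number of blocks is not 2 -/
theorem not_two_blocks {D0 D1 : Subgroup G} (h0 : D0 ∈ Blk Z) (h1 : D1 ∈ Blk Z) (hV : V ≤ D0) (hne : D1 ≠ D0)
    (hall : ∀ D ∈ Blk Z, D = D0 ∨ D = D1) : False := by
  have hZ := h.pl.isCj_self
  have hVV : IsCj V V := ⟨1, (cj_one V).symm⟩
  have hZV := h.pl.ZV
  obtain ⟨A0, hA0, hA0V, hA0Z⟩ := h.exists_second hZ hVV hZV
  have hA : Adj V Z A0 Z := ⟨hA0, hZ, hA0Z, V, hVV, hA0V, hZV⟩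
  obtain ⟨A1, hA1, hA1D⟩ := h.exists_adj_blk hZ h1
  obtain ⟨M, hM, hA1M, hZM⟩ := hA1.line
  obtain ⟨a, ha1, ha2⟩ := h.exists_conj₂ hZ hVV hZV hZ hM hZM
  have hMD : M ≤ D1 := by rw [← hA1D]; exact h.line_le_bk hA1 hM hZM hA1M
  -- blocks are permuted
  have hperm : ∀ g, cj g Z = Z → ∀ D ∈ Blk Z, cj g D ∈ Blk Z := by
    intro g hg D hD
    have := h.slb.can g Z hZ D hD
    rwa [hg] at this
  have haD : cj a D0 = D1 := by
    have h2 := hperm a ha1.symm D0 h0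
    have h3 : A1 ≤ cj a D0 := by
      refine hA1M.trans ?_
      rw [ha2]
      exact cj_le_cj.2 hV
    rw [← h.bk_unique hA1 h2 h3, hA1D]
  set H := normalizer (Z : Set G) with hH
  set K := H ⊓ normalizer (D0 : Set G) with hK
  have hmem : ∀ b ∈ H, b ∈ K ↔ cj b D0 = D0 := fun b hb => by
    rw [hK, mem_inf, cj_eq_iff]
    exact ⟨fun e => e.2, fun e => ⟨hb, e⟩⟩
  have haH : a ∈ H := cj_eq_iff.1 ha1.symm
  have hSK : (S : Subgroup G) ≤ K := by
    intro s hs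
    have hsZ := h.pl.S_le_N hs
    rw [hmem s hsZ]
    have h2 := hperm s (cj_eq_iff.2 hsZ) D0 h0
    have h3 : A0 ≤ cj s D0 := by
      have e : cj s V = V := cj_eq_iff.2 (h.pl.PN (h.pl.SP hs))
      calc A0 ≤ V := hA0V
        _ = cj s V := e.symm
        _ ≤ cj s D0 := cj_le_cj.2 hV
    rw [← h.bk_unique hA h2 h3, h.bk_unique hA h0 (hA0V.trans hV)]
  have hidx : (K.subgroupOf H).index = 2 := by
    rw [Subgroup.index_eq_two_iff]
    refine ⟨⟨a, haH⟩, fun b => ?_⟩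
    have hb := b.2
    have hbZ := cj_eq_iff.2 hb
    rw [mem_subgroupOf, mem_subgroupOf]
    have e1 : ((b * ⟨a, haH⟩ : H) : G) = (b : G) * a := rfl
    rw [e1, hmem _ (mul_mem hb haH), hmem _ hb, ← cj_cj, haD]
    rcases hall _ (hperm b hbZ D0 h0) with e | e
    · refine Or.inr ⟨e, fun e2 => hne ?_⟩
      rw [← e] at e2
      rw [e] at e2
      have h3 : cj (b : G) D1 = cj (b : G) D0 := by rw [e2, e]
      exact cj_inj.1 h3
    · refine Or.inl ⟨?_, fun e2 => hne (e.symm.trans e2)⟩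
      rcases hall _ (hperm b hbZ D1 h1) with e2 | e2
      · exact e2
      · exact absurd (cj_inj.1 (e2.trans e.symm)) hne
  have h2 : K.relIndex H * H.index = K.index := relIndex_mul_index inf_le_left
  have h3 : K.relIndex H = 2 := hidx
  have h4 : 2 ∣ K.index := ⟨H.index, by rw [← h2, h3]⟩
  exact S.not_dvd_index (h4.trans (index_dvd_of_le hSK))

variable (h2 : ATwo V Z Blk)
include h2

/-- **(A2) is impossible** -/
theorem not_ATwo (hex : ∃ A R B, Cr V Z A R B) : False := by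
  obtain ⟨A, R, B, hc⟩ := hex
  -- at least two blocks at `Z`
  have hZ := h.pl.isCj_self
  have hVV : IsCj V V := ⟨1, (cj_one V).symm⟩
  have hne : bk Blk R A ≠ bk Blk R B := by
    intro e
    by_cases hl : ∃ L, IsCj V L ∧ R ≤ L ∧ A ≤ L ∧ B ≤ L
    · obtain ⟨L, hL, hRL, hAL, hBL⟩ := hl
      exact h.cr_not_adj hc ⟨hc.l.left, hc.r.right, h.cr_ne hc, L, hL, hAL, hBL⟩
    · push Not at hl
      refine hc.ne (h2 R A B (h.sb_mk hc.l hc.r.symm ?_ fun L hL hRL hAL => hl L hL hRL hAL))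
      rw [e]
      exact h.le_bk hc.r.symm
  obtain ⟨g, hg⟩ := hc.l.right
  have hgR : cj g⁻¹ R = Z := by rw [hg, cj_cj, inv_mul_cancel, cj_one]
  obtain ⟨A0, hA0, hA0V, hA0Z⟩ := h.exists_second hZ hVV h.pl.ZV
  have hA : Adj V Z A0 Z := ⟨hA0, hZ, hA0Z, V, hVV, hA0V, h.pl.ZV⟩
  set D0 := bk Blk Z A0 with hD0
  have h0 : D0 ∈ Blk Z := h.bk_mem hA
  have hV0 : V ≤ D0 := h.line_le_bk hA hVV h.pl.ZV hA0V
  have hDA : cj g⁻¹ (bk Blk R A) ∈ Blk Z := by
    have := h.slb.can g⁻¹ R hc.l.right _ (h.bk_mem hc.l)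
    rwa [hgR] at this
  have hDB : cj g⁻¹ (bk Blk R B) ∈ Blk Z := by
    have := h.slb.can g⁻¹ R hc.l.right _ (h.bk_mem hc.r.symm)
    rwa [hgR] at this
  have hD1 : ∃ D1 ∈ Blk Z, D1 ≠ D0 := by
    by_cases e : cj g⁻¹ (bk Blk R A) = D0
    · exact ⟨_, hDB, fun e2 => hne (cj_inj.1 (e.trans e2.symm))⟩
    · exact ⟨_, hDA, e⟩
  obtain ⟨D1, h1, h10⟩ := hD1
  obtain ⟨D2, hD2, h20, h21⟩ : ∃ D ∈ Blk Z, D ≠ D0 ∧ D ≠ D1 := by
    by_contra hcon
    push Not at hcon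
    refine h.not_two_blocks h0 h1 hV0 h10 fun D hD => ?_
    by_cases e : D = D0
    · exact Or.inl e
    · exact Or.inr (hcon D hD e)
  -- counting
  have hW0 := (h.slb.le Z hZ D0 h0).2
  have hW1 := (h.slb.le Z hZ D1 h1).2
  have hW2 := (h.slb.le Z hZ D2 hD2).2
  have c1 := card_mul_le' (A := D0) (B := D1) (K := D0 ⊔ D1) le_sup_left le_sup_right
  have c2 : Nat.card (D0 ⊓ D1 : Subgroup G) ≤ Nat.card Z := Subgroup.card_le_of_le fun x hx =>
    h.slb.inf Z hZ D0 h0 D1 h1 h10 x hx.1 hx.2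
  have c3 := card_mul_le' (A := D0 ⊔ D1) (B := D2) (K := ws V Z) (sup_le hW0 hW1) hW2
  have c4 : Nat.card ((D0 ⊔ D1) ⊓ D2 : Subgroup G) ≤ Nat.card Z := by
    refine Subgroup.card_le_of_le ?_
    rintro x ⟨hx, hx2⟩
    refine h.blk_cent hZ hD2 hx2 fun C hC hCD u hu => ?_
    have h5 : D0 ⊔ D1 ≤ centralizer ({u} : Set G) := by
      have hno : ∀ D ∈ Blk Z, D2 ≠ D → ¬ C ≤ D := by
        intro D hD hne2 hCD'
        exact hne2 ((h.bk_unique hC hD2 hCD).symm.trans (h.bk_unique hC hD hCD'))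
      refine sup_le (fun b hb => mem_cs.2 ?_) (fun b hb => mem_cs.2 ?_)
      · exact (h.slb.other Z C hC D0 h0 (hno D0 h0 h20) b hb u hu).symm
      · exact (h.slb.other Z C hC D1 h1 (hno D1 h1 h21) b hb u hu).symm
    exact (mem_cs.1 (h5 hx)).symm
  have c5 := h.card_ws_le h2 hZ
  rw [h.slb.card Z hZ D0 h0, h.slb.card Z hZ D1 h1] at c1
  rw [h.slb.card Z hZ D2 hD2] at c3
  set s := Nat.card Z with hs
  have c6 : s ^ (m + 1) * s ^ (m + 1) * s ^ (m + 1) ≤ s ^ (2 * m + 3) := by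
    calc s ^ (m + 1) * s ^ (m + 1) * s ^ (m + 1)
        ≤ Nat.card (D0 ⊔ D1 : Subgroup G) * s * s ^ (m + 1) :=
          Nat.mul_le_mul_right _ (c1.trans (Nat.mul_le_mul_left _ c2))
      _ = s * (Nat.card (D0 ⊔ D1 : Subgroup G) * s ^ (m + 1)) := by ring
      _ ≤ s * (s ^ (2 * m + 1) * s) :=
          Nat.mul_le_mul_left _ (c3.trans (Nat.mul_le_mul c5 c4))
      _ = s ^ (2 * m + 3) := by ring
  have c7 : s ^ (3 * m + 3) ≤ s ^ (2 * m + 3) := by
    calc s ^ (3 * m + 3) = s ^ (m + 1) * s ^ (m + 1) * s ^ (m + 1) := by ring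
      _ ≤ _ := c6
  have c8 := (Nat.pow_le_pow_iff_right (h.two_le)).1 c7
  have c9 := h.slb.three
  omega

end NT

/-- **THEOREM N2** -/
theorem Mid.no_SLB [Finite G] {S : Sylow 2 G} {P : Subgroup G} (h : Mid S P V Z) (hN : TypN V Z)
    (hex : ∃ A R B, Cr V Z A R B) (hB : SLB V Z Blk m) : False := by
  have hn : NT S P V Z Blk m := ⟨h, hN, hB⟩
  by_cases h2 : ATwo V Z Blk
  · exact hn.not_ATwo h2 hex
  · have h3 : ∃ R A B, Sb V Z Blk R A B ∧ ¬ Com V A B := by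
      by_contra hcon
      push Not at hcon
      exact h2 hcon
    obtain ⟨R, A, B, hs, hc⟩ := h3
    refine hn.not_AOne fun R' A' B' hs' hc' => hc ?_
    obtain ⟨g, hg0, hg1, hg2⟩ := hn.sb_move hs' hs
    have h4 := hc'.cj g
    rwa [hg1, hg2] at h4

/-- **THEOREM N2** -/
theorem TN.no_SLB [Finite G] {S : Sylow 2 G} {P : Subgroup G} (h : TN S P V Z) (hB : SLB V Z Blk m) : False :=
  h.toMid.no_SLB h.comm h.ex hB

end Cfsg.Agent.Omega.NO3S.MidQ

end

end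

-- merged: Cfsg.Agent.Mrg.Omega.NO3S.MidB.NTwoBase
section

section


/-!
# NO-3S, natural lines, the `(R, B)`-frame, TYPE N, blocks `SL_m`, `m ≥ 3`: basic facts (TEXT 426-2, THEOREM N2)

Copy of `MidQ/NTwoBase.lean` over `MidB.Mid`; the definitions `Sb`, `SLB`, `bk`, `AOne`, `ATwo`, `Path`, `NN` and the
counting lemmas are those of `MidQ`.

* `NT S P V Z Blk m` : `Mid`, (N) and (SL);
* `NT.bk_mem`, `NT.bk_unique`, `NT.bk_cj`, `NT.exists_pt`, `NT.dec` : blocks;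
* `NT.sb_sy`, `NT.sb_cj`, `NT.sb_mv`, `NT.sb_move`.
-/

set_option autoImplicit false
set_option linter.unusedSectionVars false

namespace Cfsg.Agent.Omega.NO3S.MidB

open Subgroup Cfsg.Agent.Omega.NO3S.PT Cfsg.Agent.Omega.NoFF.Basic Cfsg.Agent.ZN
open Cfsg.Agent.Omega.NO3S.MidQ (Adj Com Cr UU ws_of kx_of isCj_iff adj_iff com_iff cr_iff UU_of isCj_symm isCj_trans
  com_cj UU_cj le_UU normalizer_le_UU isPGroup_sSup FlagCan PtCan ff mem_ff ff_cj TypN Sb SLB bk AOne ATwo Path NN cnz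
  mem_cnz cnz_cj mem_cs cg mem_cg comm_act card_le_mul surj_of_inj card_mul_le mul_of_card card_dec comm_inj cj_of_cent
  card_mul_le')
open scoped Pointwise

variable {G : Type*} [Group G]

/-! ### Pairs in a block -/

variable {V Z X Y R A B A' B' L : Subgroup G} {Blk : Subgroup G → Set (Subgroup G)} {m : ℕ}

/-- `Mid`, (N) and (SL) -/
structure NT [Finite G] (S : Sylow 2 G) (P V Z : Subgroup G) (Blk : Subgroup G → Set (Subgroup G)) (m : ℕ) : Prop
    extends Mid S P V Z where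
  typ : TypN V Z
  slb : SLB V Z Blk m

namespace NT

variable [Finite G] {S : Sylow 2 G} {P : Subgroup G} (h : NT S P V Z Blk m)
include h

theorem card_pt (hX : IsCj Z X) : Nat.card X = Nat.card Z := h.pl.card_pt hX

theorem card_ln (hL : IsCj V L) : Nat.card L = Nat.card Z * Nat.card Z := by
  rw [h.card_line hL, h.pl.card]

theorem two_le : 2 ≤ Nat.card Z := h.pl.one_lt_card

/-- a point which is contained in a line and in a point -/
theorem not_le_of_ne (hX : IsCj Z X) (hY : IsCj Z Y) (hne : X ≠ Y) : ¬ X ≤ Y := by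
  intro e
  obtain ⟨x, hx, hx1⟩ := h.pt_ne_bot hX
  exact hne (h.pts_eq hX hY hx (e hx) hx1)

/-- a point meets a line which does not contain it trivially -/
theorem line_inf (hX : IsCj Z X) (hL : IsCj V L) (hXL : ¬ X ≤ L) {x : G} (hx : x ∈ X) (hx' : x ∈ L) : x = 1 := by
  by_contra hx1
  obtain ⟨T, hT, hTL, hxT⟩ := h.exists_point hL hx' hx1
  exact hXL ((h.pts_eq hX hT hx hxT hx1).symm ▸ hTL)

theorem bk_unique (hA : Adj V Z A R) {D : Subgroup G} (hD : D ∈ Blk R) (hAD : A ≤ D) : bk Blk R A = D := by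
  refine le_antisymm (sSup_le ?_) (le_sSup ⟨hD, hAD⟩)
  rintro D' ⟨hD', hAD'⟩
  by_cases e : D' = D
  · rw [e]
  · exact absurd (fun x hx => h.slb.inf R hA.right D hD D' hD' e x (hAD hx) (hAD' hx))
      (h.not_le_of_ne hA.left hA.right hA.ne)

theorem bk_mem' (hA : Adj V Z A R) : ∃ D ∈ Blk R, A ≤ D ∧ bk Blk R A = D := by
  obtain ⟨L, hL, hAL, hRL⟩ := hA.line
  obtain ⟨D, hD, hLD⟩ := h.slb.line R hA.right L hL hRL
  exact ⟨D, hD, hAL.trans hLD, h.bk_unique hA hD (hAL.trans hLD)⟩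

theorem bk_mem (hA : Adj V Z A R) : bk Blk R A ∈ Blk R := by
  obtain ⟨D, hD, -, h1⟩ := h.bk_mem' hA
  rwa [h1]

theorem le_bk (hA : Adj V Z A R) : A ≤ bk Blk R A := by
  obtain ⟨D, hD, h1, h2⟩ := h.bk_mem' hA
  rwa [h2]

theorem mid_le_bk (hA : Adj V Z A R) : R ≤ bk Blk R A := (h.slb.le R hA.right _ (h.bk_mem hA)).1

theorem bk_le (hA : Adj V Z A R) : bk Blk R A ≤ ws V R := (h.slb.le R hA.right _ (h.bk_mem hA)).2

theorem card_bk (hA : Adj V Z A R) : Nat.card (bk Blk R A) = Nat.card Z ^ (m + 1) :=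
  h.slb.card R hA.right _ (h.bk_mem hA)

theorem bk_cj (hA : Adj V Z A R) (g : G) : bk Blk (cj g R) (cj g A) = cj g (bk Blk R A) :=
  h.bk_unique (hA.cj g) (h.slb.can g R hA.right _ (h.bk_mem hA)) (cj_le_cj.2 (h.le_bk hA))

theorem bk_eq (hA : Adj V Z A R) (hB : Adj V Z B R) (hAB : B ≤ bk Blk R A) : bk Blk R B = bk Blk R A :=
  h.bk_unique hB (h.bk_mem hA) hAB

theorem line_le_bk (hA : Adj V Z A R) (hL : IsCj V L) (hRL : R ≤ L) (hAL : A ≤ L) : L ≤ bk Blk R A := by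
  obtain ⟨D, hD, hLD⟩ := h.slb.line R hA.right L hL hRL
  rwa [h.bk_unique hA hD (hAL.trans hLD)]

/-- the block at `R` depends only on the line -/
theorem bk_line (hA : Adj V Z A R) (hB : Adj V Z B R) (hL : IsCj V L) (hRL : R ≤ L) (hAL : A ≤ L) (hBL : B ≤ L) :
    bk Blk R B = bk Blk R A := h.bk_eq hA hB (hBL.trans (h.line_le_bk hA hL hRL hAL))

/-- **(S3)** -/
theorem exists_pt (hA : Adj V Z A R) {x : G} (hx : x ∈ bk Blk R A) (hxR : x ∉ R) :
    ∃ B, Adj V Z B R ∧ B ≤ bk Blk R A ∧ x ∈ B := by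
  obtain ⟨L, hL, hRL, hxL⟩ := h.slb.all R hA.right _ (h.bk_mem hA) x hx hxR
  obtain ⟨B, hB, hBL, hxB⟩ := h.exists_point hL hxL (fun e => hxR (e ▸ one_mem _))
  have hBR : Adj V Z B R := ⟨hB, hA.right, fun e => hxR (e ▸ hxB), L, hL, hBL, hRL⟩
  refine ⟨B, hBR, ?_, hxB⟩
  by_cases e : bk Blk R A = bk Blk R B
  · rw [e]; exact h.le_bk hBR
  · exact absurd (h.slb.inf R hA.right _ (h.bk_mem hBR) _ (h.bk_mem hA) e x (h.le_bk hBR hxB) hx) hxR

/-- `C_B(U_A)` is the line `RA` -/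
theorem cent (hA : Adj V Z A R) (hL : IsCj V L) (hRL : R ≤ L) (hAL : A ≤ L) {b : G} (hb : b ∈ bk Blk R A)
    (hu : ∀ u ∈ UU V Z A, u * b = b * u) : b ∈ L :=
  h.slb.cent R A hA _ (h.bk_mem hA) (h.le_bk hA) L hL hRL hAL b hb hu

/-- **the decomposition** `W_R = B D`, `D` centralised by all `U_C`, `C ≤ B` -/
theorem dec (hA : Adj V Z A R) {w : G} (hw : w ∈ ws V R) : ∃ b ∈ bk Blk R A, ∃ d ∈ ws V R, w = b * d ∧
    ∀ C, Adj V Z C R → C ≤ bk Blk R A → ∀ u ∈ UU V Z C, u * d = d * u := by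
  have hR := hA.right
  let E : Subgroup G :=
    { carrier := {w | ∃ b ∈ bk Blk R A, ∃ d ∈ ws V R, w = b * d ∧
        ∀ C, Adj V Z C R → C ≤ bk Blk R A → ∀ u ∈ UU V Z C, u * d = d * u}
      one_mem' := ⟨1, one_mem _, 1, one_mem _, (mul_one 1).symm, fun C _ _ u _ => by simp⟩
      mul_mem' := by
        rintro _ _ ⟨b, hb, d, hd, rfl, h1⟩ ⟨b', hb', d', hd', rfl, h2⟩
        refine ⟨b * b', mul_mem hb hb', d * d', mul_mem hd hd', ?_, fun C hC hCB u hu => ?_⟩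
        · have e := h.ws_comm hR hd (h.bk_le hA hb')
          calc b * d * (b' * d') = b * (d * b') * d' := by group
            _ = b * (b' * d) * d' := by rw [e]
            _ = b * b' * (d * d') := by group
        · calc u * (d * d') = (u * d) * d' := by group
            _ = d * (u * d') := by rw [h1 C hC hCB u hu]; group
            _ = d * d' * u := by rw [h2 C hC hCB u hu]; group
      inv_mem' := by
        rintro _ ⟨b, hb, d, hd, rfl, h1⟩
        refine ⟨b⁻¹, inv_mem hb, d⁻¹, inv_mem hd, ?_, fun C hC hCB u hu => ?_⟩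
        · rw [h.ws_comm hR (h.bk_le hA hb) hd, mul_inv_rev]
        · exact (Commute.inv_right (h1 C hC hCB u hu : Commute u d)) }
  have hE : ws V R ≤ E := by
    refine ws_le fun L hL hRL x hx => ?_
    obtain ⟨D, hD, hLD⟩ := h.slb.line R hR L hL hRL
    by_cases e : D = bk Blk R A
    · exact ⟨x, e ▸ hLD hx, 1, one_mem _, (mul_one x).symm, fun C _ _ u _ => by simp⟩
    · refine ⟨1, one_mem _, x, le_ws hL hRL hx, (one_mul x).symm, fun C hC hCB u hu => ?_⟩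
      refine h.slb.other R C hC D hD (fun hCD => ?_) x (hLD hx) u hu
      exact e ((h.bk_unique hC hD hCD).symm.trans (h.bk_eq hA hC hCB))
  exact hE hw

end NT

namespace NT

variable [Finite G] {S : Sylow 2 G} {P : Subgroup G} (h : NT S P V Z Blk m)

theorem sb_sy (hs : Sb V Z Blk R A B) : Sb V Z Blk R B A where
  l := hs.r
  r := hs.l
  blk := by
    obtain ⟨D, hD, h1, h2⟩ := hs.blk
    exact ⟨D, hD, h2, h1⟩
  ne := fun L hL hRL hBL hAL => hs.ne L hL hRL hAL hBL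

include h

theorem sb_bk (hs : Sb V Z Blk R A B) : bk Blk R B = bk Blk R A := by
  obtain ⟨D, hD, h1, h2⟩ := hs.blk
  rw [h.bk_unique hs.l hD h1, h.bk_unique hs.r hD h2]

theorem sb_le (hs : Sb V Z Blk R A B) : B ≤ bk Blk R A := by
  rw [← h.sb_bk hs]
  exact h.le_bk hs.r

theorem sb_cj (hs : Sb V Z Blk R A B) (g : G) : Sb V Z Blk (PT.cj g R) (PT.cj g A) (PT.cj g B) where
  l := hs.l.cj g
  r := hs.r.cj g
  blk := ⟨PT.cj g (bk Blk R A), h.slb.can g R hs.l.right _ (h.bk_mem hs.l), cj_le_cj.2 (h.le_bk hs.l),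
    cj_le_cj.2 (h.sb_le hs)⟩
  ne := fun L hL hRL hAL hBL => hs.ne (PT.cj g⁻¹ L) (hL.cj g⁻¹) (by rwa [le_cj_iff, inv_inv])
    (by rwa [le_cj_iff, inv_inv]) (by rwa [le_cj_iff, inv_inv])

end NT

namespace NT

variable [Finite G] {S : Sylow 2 G} {P : Subgroup G} (h : NT S P V Z Blk m)
include h

theorem sb_mk (hA : Adj V Z A R) (hB : Adj V Z B R) (hAB : B ≤ bk Blk R A)
    (hne : ∀ L, IsCj V L → R ≤ L → A ≤ L → ¬ B ≤ L) : Sb V Z Blk R A B :=
  ⟨hA, hB, ⟨bk Blk R A, h.bk_mem hA, h.le_bk hA, hAB⟩, hne⟩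

/-- the same with a given line -/
theorem sb_mk' (hA : Adj V Z A R) (hB : Adj V Z B R) (hAB : B ≤ bk Blk R A) (hL : IsCj V L) (hRL : R ≤ L)
    (hAL : A ≤ L) (hne : ¬ B ≤ L) : Sb V Z Blk R A B :=
  h.sb_mk hA hB hAB fun M hM hRM hAM => by
    rwa [h.line_unique hA.right hA.left hA.ne.symm hM hL hRM hAM hRL hAL]

/-- `B ∩ C(U_A) = 1` -/
theorem sb_mv (hs : Sb V Z Blk R A B) {b : G} (hb : b ∈ B) (hu : ∀ u ∈ UU V Z A, u * b = b * u) : b = 1 := by
  obtain ⟨L, hL, hAL, hRL⟩ := hs.l.line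
  exact h.line_inf hs.r.left hL (hs.ne L hL hRL hAL) hb (h.cent hs.l hL hRL hAL (h.sb_le hs hb) hu)

/-- the points of `R`, `A`, `B`, in one block on different lines, can be moved -/
theorem sb_move {R' : Subgroup G} (hs : Sb V Z Blk R A B) (hs' : Sb V Z Blk R' A' B') :
    ∃ g : G, cj g R = R' ∧ cj g A = A' ∧ cj g B = B' := by
  obtain ⟨x, hx⟩ := hs.l.right
  obtain ⟨y, hy⟩ := hs'.l.right
  have h1 : cj (y * x⁻¹) R = R' := by rw [hx, hy, cj_cj, inv_mul_cancel_right]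
  have h2 := h.sb_cj hs (y * x⁻¹)
  rw [h1] at h2
  obtain ⟨g, hg1, hg2, hg3⟩ := h.slb.two R' _ _ _ _ h2 hs'
  exact ⟨g * (y * x⁻¹), by rw [← cj_cj, h1, hg1], by rw [← cj_cj, hg2], by rw [← cj_cj, hg3]⟩

end NT

end Cfsg.Agent.Omega.NO3S.MidB

end

section


/-!
# NO-3S, natural lines, the `(R, B)`-frame, TYPE N, blocks `SL_m`, `m ≥ 3`: section (A1), first part (TEXT 426-2, THEOREM N2)

* `NT.inf_bk` : (5.0);
* `NT.exists_sb`, `NT.exists_path` : paths;
* `NT.bk_UU` : (5.1);  `NT.m_le` : (5.2) `m ≤ 3`;  `NT.big` : (5.3);  `NT.cent_ln` : `C_{B_a(r)}(W_b)` is the line `ar`.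
-/

set_option autoImplicit false
set_option linter.unusedSectionVars false

namespace Cfsg.Agent.Omega.NO3S.MidB

open Subgroup Cfsg.Agent.Omega.NO3S.PT Cfsg.Agent.Omega.NoFF.Basic Cfsg.Agent.ZN
open Cfsg.Agent.Omega.NO3S.MidQ (Adj Com Cr UU ws_of kx_of isCj_iff adj_iff com_iff cr_iff UU_of isCj_symm isCj_trans
  com_cj UU_cj le_UU normalizer_le_UU isPGroup_sSup FlagCan PtCan ff mem_ff ff_cj TypN Sb SLB bk AOne ATwo Path NN cnz
  mem_cnz cnz_cj mem_cs cg mem_cg comm_act card_le_mul surj_of_inj card_mul_le mul_of_card card_dec comm_inj cj_of_cent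
  card_mul_le')
open scoped Pointwise

variable {G : Type*} [Group G] {V Z X Y L : Subgroup G} {Blk : Subgroup G → Set (Subgroup G)} {m : ℕ}

namespace NT

variable [Finite G] {S : Sylow 2 G} {P : Subgroup G} (h : NT S P V Z Blk m)
include h

/-- **(5.0)** -/
theorem inf_bk {A R B : Subgroup G} (hc : Cr V Z A R B) {x : G} (hx : x ∈ bk Blk A R) (hx' : x ∈ bk Blk B R) :
    x ∈ R := by
  by_cases hx1 : x = 1
  · rw [hx1]; exact one_mem _
  have hA : Adj V Z R A := hc.l.symm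
  have hB : Adj V Z R B := hc.r
  obtain ⟨E, hE, -, hxE⟩ := h.exists_pt hA hx fun e => hx1 (h.star hc e (h.bk_le hB hx'))
  obtain ⟨E', hE', -, hxE'⟩ := h.exists_pt hB hx' fun e => hx1 (h.star' hc e (h.bk_le hA hx))
  have e1 := h.pts_eq hE.left hE'.left hxE hxE' hx1
  have e2 := h.mid_unique h.typ hc hE.symm (e1 ▸ hE')
  rwa [← e2]

/-- a point in the block on a different line -/
theorem exists_sb {A R : Subgroup G} (hA : Adj V Z A R) : ∃ B, Sb V Z Blk R A B := by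
  obtain ⟨L, hL, hAL, hRL⟩ := hA.line
  have h1 : ∃ x ∈ bk Blk R A, x ∉ L := by
    by_contra hcon
    push Not at hcon
    have h2 : Nat.card (bk Blk R A) ≤ Nat.card L := Subgroup.card_le_of_le hcon
    rw [h.card_bk hA, h.card_ln hL, ← pow_two] at h2
    have h3 := (Nat.pow_le_pow_iff_right (h.two_le)).1 h2
    have h4 := h.slb.three
    omega
  obtain ⟨x, hx, hxL⟩ := h1
  obtain ⟨B, hB, hBA, hxB⟩ := h.exists_pt hA hx (fun e => hxL (hRL e))
  exact ⟨B, h.sb_mk' hA hB hBA hL hRL hAL fun e => hxL (e hxB)⟩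

/-- an element not centralising a point, as an element of a block -/
theorem exists_bk {A B R : Subgroup G} (hc : Cr V Z A R B) :
    ∃ x ∈ bk Blk A R, ∃ y ∈ bk Blk B R, x * y ≠ y * x := by
  have h1 : ∃ w ∈ ws V A, ∃ v ∈ ws V B, w * v ≠ v * w := by
    by_contra hcon
    push Not at hcon
    exact hc.ne fun w hw => mem_centralizer_iff.2 fun v hv => (hcon w hw v hv).symm
  obtain ⟨w, hw, v, hv, hwv⟩ := h1
  obtain ⟨x, hx, d, hd, rfl, hd'⟩ := h.dec hc.l.symm hw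
  have h2 := hd' R hc.l.symm (h.le_bk hc.l.symm) v (le_UU hc.r.symm hv)
  have hxv : x * v ≠ v * x := by
    intro e
    apply hwv
    calc x * d * v = x * (d * v) := by group
      _ = (x * v) * d := by rw [← h2]; group
      _ = v * (x * d) := by rw [e]; group
  obtain ⟨y, hy, d2, hd2, rfl, hd2'⟩ := h.dec hc.r hv
  have h3 := hd2' R hc.r (h.le_bk hc.r) x (le_UU hc.l (h.bk_le hc.l.symm hx))
  refine ⟨x, hx, y, hy, fun e => hxv ?_⟩
  calc x * (y * d2) = (x * y) * d2 := by group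
    _ = y * (x * d2) := by rw [e]; group
    _ = y * d2 * x := by rw [h3]; group

variable (h1 : AOne V Z Blk)
include h1

theorem cr_of_sb {R A B : Subgroup G} (hs : Sb V Z Blk R A B) : Cr V Z A R B := ⟨hs.l, hs.r.symm, h1 R A B hs⟩

/-- **a path** from `Sb p c r` -/
theorem exists_path' {c p r : Subgroup G} (hs : Sb V Z Blk p c r) : ∃ a w, Path V Z Blk c p r a w := by
  have hc := h.cr_of_sb h1 hs
  obtain ⟨w, hw, y, hy, hwy⟩ := h.exists_bk hc
  have hwc := h.bk_le hs.l.symm hw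
  have hwr : ∀ x ∈ r, w * x = x * w := fun x hx =>
    (mem_centralizer_iff.1 (h.ws_le_cent hs.l hs.r.symm hwc) x hx).symm
  have hwp : ∀ x ∈ p, w * x = x * w := fun x hx => (mem_centralizer_iff.1 (h.ws_le_cent' hs.l hwc) x hx).symm
  have hy' : y ∈ bk Blk r p := hy
  obtain ⟨a, ha, hap, hya⟩ := h.exists_pt hs.r.symm hy' (fun e => hwy (hwr y e))
  refine ⟨a, w, hs, h.sb_mk hs.r.symm ha hap (fun L hL hrL hpL haL => ?_), hw, fun x hx e => ?_⟩
  · obtain ⟨u, hu, v, hv, e⟩ := h.line_eq hs.r.left hs.l.right hs.r.ne hL hrL hpL (haL hya)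
    apply hwy
    rw [e]
    calc w * (u * v) = (w * u) * v := by group
      _ = u * (w * v) := by rw [hwr u hu]; group
      _ = u * v * w := by rw [hwp v hv]; group
  · by_contra hx1
    exact hwy (h.t3 ha.symm (h.two_ws hs.l.left hwc) hwr hx hx1 e y hya)

theorem path_cj {c p r a : Subgroup G} {w : G} (hp : Path V Z Blk c p r a w) (g : G) :
    Path V Z Blk (cj g c) (cj g p) (cj g r) (cj g a) (g * w * g⁻¹) where
  cr := h.sb_cj hp.cr g
  pa := h.sb_cj hp.pa g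
  hw := by
    rw [h.bk_cj hp.cr.l.symm]
    exact conj_mem_cj hp.hw
  mv := by
    intro x hx e
    have h2 := hp.mv _ (mem_cj.1 hx) (by
      have := congrArg (fun t => g⁻¹ * t * g) e
      simpa [mul_assoc] using this)
    have h3 : x = g * (g⁻¹ * x * g) * g⁻¹ := by group
    rw [h3, h2]; group

/-- **a path** to `Sb r p a` -/
theorem exists_path {p r a : Subgroup G} (hs : Sb V Z Blk r p a) : ∃ c w, Path V Z Blk c p r a w := by
  obtain ⟨c, hc⟩ := h.exists_sb hs.l.symm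
  obtain ⟨a', w, hp⟩ := h.exists_path' h1 (NT.sb_sy hc)
  obtain ⟨g, hg1, hg2, hg3⟩ := h.sb_move hp.pa hs
  have h2 := h.path_cj h1 hp g
  rw [hg1, hg2, hg3] at h2
  exact ⟨_, _, h2⟩

/-- **(5.1)** -/
theorem bk_UU {c p r : Subgroup G} (hs : Sb V Z Blk p c r) (hL : IsCj V L) (hcL : c ≤ L) (hpL : p ≤ L) {x : G}
    (hx : x ∈ bk Blk c p) (hxU : x ∈ UU V Z r) : x ∈ L := by
  have hcp := hs.l
  have hrp := hs.r
  obtain ⟨γ, hγ, hγ1⟩ := h.pt_ne_bot hcp.left
  obtain ⟨t, ht, htγ⟩ : ∃ t ∈ UU V Z r, t * γ ≠ γ * t := by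
    by_contra hcon
    push Not at hcon
    exact hγ1 (h.sb_mv (NT.sb_sy hs) hγ hcon)
  have htp : ∀ y ∈ p, t * y = y * t := fun y hy =>
    (mem_centralizer_iff.1 (h.UU_le_cent_adj hrp.symm ht) y hy).symm
  have htc : ∀ y ∈ c, t * y = y * t → y = 1 := by
    intro y hy e
    by_contra hy1
    exact htγ (h.t3 hcp.symm (h.two_UU ht) htp hy hy1 e γ hγ)
  have htr : ∀ y ∈ r, t * y = y * t := fun y hy => (mem_centralizer_iff.1 (h.UU_le_cent_pt hrp.left ht) y hy).symm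
  have hcU : ∀ y ∈ c, y ∈ UU V Z r := fun y hy => le_UU hrp.symm (h.adj_le_ws' hcp hy)
  obtain ⟨y, hy, hyx⟩ := surj_of_inj (A := c) (B := r) (by rw [h.card_pt hcp.left, h.card_pt hrp.left])
    (fun y => y * t * y⁻¹ * t⁻¹) (fun y hy => h.UU_comm h.typ hrp.left (hcU y hy) ht) (fun y hy y' hy' e => by
      have h2 := comm_inj e
      have h3 := htc (y⁻¹ * y') (mul_mem (inv_mem hy) hy') h2.symm
      exact inv_mul_eq_one.1 h3) _ (r.inv_mem (h.UU_comm h.typ hrp.left hxU ht))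
  -- `x y` commutes with `t`
  have hxr : x * (y * t * y⁻¹ * t⁻¹) = y * t * y⁻¹ * t⁻¹ * x :=
    (mem_centralizer_iff.1 (h.UU_le_cent_pt hrp.left hxU) _ (h.UU_comm h.typ hrp.left (hcU y hy) ht)).symm
  have hxy : x * y * t = t * (x * y) := by
    apply Mid.comm_eq
    have e : x * y * t * (x * y)⁻¹ * t⁻¹ = x * (y * t * y⁻¹ * t⁻¹) * x⁻¹ * (x * t * x⁻¹ * t⁻¹) := by group
    rw [e, hxr, mul_inv_cancel_right, hyx, inv_mul_cancel]
  have hpc : cj t p = p := cj_of_cent htp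
  have hadj : Adj V Z (cj t c) p := by
    have := hcp.cj t
    rwa [hpc] at this
  have hblk : cj t (bk Blk p c) = bk Blk p c := by
    rw [← h.sb_bk hs, ← h.bk_cj hrp, hpc, cj_of_cent htr]
  have hle : cj t c ≤ bk Blk p c := by
    rw [← hblk]
    exact cj_le_cj.2 (h.le_bk hcp)
  have hnot : ¬ cj t c ≤ L := by
    intro e
    have h2 : γ * t * γ⁻¹ * t⁻¹ ∈ r := h.UU_comm h.typ hrp.left (hcU γ hγ) ht
    have h3 : γ * t * γ⁻¹ * t⁻¹ ∈ L := by
      have e2 : γ * t * γ⁻¹ * t⁻¹ = γ * (t * γ * t⁻¹)⁻¹ := by group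
      rw [e2]
      exact mul_mem (hcL hγ) (inv_mem (e (conj_mem_cj hγ)))
    have h4 := h.line_inf hrp.left hL (fun e' => hs.ne L hL hpL hcL e') h2 h3
    exact htγ (Mid.comm_eq h4).symm
  have hs2 : Sb V Z Blk p c (cj t c) := h.sb_mk' hcp hadj hle hL hpL hcL hnot
  have hxy2 : x * y ∈ bk Blk c p := mul_mem hx (h.mid_le_bk hcp.symm hy)
  have hxy3 : x * y ∈ bk Blk (cj t c) p := by
    have h2 : bk Blk (cj t c) p = cj t (bk Blk c p) := by
      rw [← h.bk_cj hcp.symm, hpc]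
    rw [h2, mem_cj, mul_assoc, hxy, inv_mul_cancel_left]
    exact hxy2
  have h5 := h.inf_bk (h.cr_of_sb h1 hs2) hxy2 hxy3
  have e : x = x * y * y⁻¹ := by group
  rw [e]
  exact mul_mem (hpL h5) (inv_mem (hcL hy))

end NT

end Cfsg.Agent.Omega.NO3S.MidB

end

section


/-!
# NO-3S, natural lines, the `(R, B)`-frame, TYPE N, blocks `SL_m`, `m ≥ 3`: section (A1), (5.2)–(6.2) (TEXT 426-2, THEOREM N2)

* `NT.m_le` : (5.2) `m = 3`;  `NT.big` : (5.3);  `NT.cent_ln` : `C_{B_a(r)}(W_b)` is the line `ar`;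
* `NT.exists_w0` : (6.1);  `NT.w0_line` : (6.2).
-/

set_option autoImplicit false
set_option linter.unusedSectionVars false

namespace Cfsg.Agent.Omega.NO3S.MidB

open Subgroup Cfsg.Agent.Omega.NO3S.PT Cfsg.Agent.Omega.NoFF.Basic Cfsg.Agent.ZN
open Cfsg.Agent.Omega.NO3S.MidQ (Adj Com Cr UU ws_of kx_of isCj_iff adj_iff com_iff cr_iff UU_of isCj_symm isCj_trans
  com_cj UU_cj le_UU normalizer_le_UU isPGroup_sSup FlagCan PtCan ff mem_ff ff_cj TypN Sb SLB bk AOne ATwo Path NN cnz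
  mem_cnz cnz_cj mem_cs cg mem_cg comm_act card_le_mul surj_of_inj card_mul_le mul_of_card card_dec comm_inj cj_of_cent
  card_mul_le')
open scoped Pointwise

variable {G : Type*} [Group G] {V Z X Y L : Subgroup G} {Blk : Subgroup G → Set (Subgroup G)} {m : ℕ}

namespace NT

variable [Finite G] {S : Sylow 2 G} {P : Subgroup G} (h : NT S P V Z Blk m) (h1 : AOne V Z Blk)
include h h1

/-- `a`, `a^w` are in one block at `r` on different lines -/
theorem path_sb {c p r a : Subgroup G} {w : G} (hp : Path V Z Blk c p r a w) : Sb V Z Blk r a (cj w a) := by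
  have hcp := hp.cr.l
  have hpr := hp.cr.r.symm
  have har := hp.pa.r
  have hwc := h.bk_le hcp.symm hp.hw
  have hwr : ∀ x ∈ r, w * x = x * w := fun x hx =>
    (mem_centralizer_iff.1 (h.ws_le_cent hcp hpr hwc) x hx).symm
  have hwp : ∀ x ∈ p, w * x = x * w := fun x hx => (mem_centralizer_iff.1 (h.ws_le_cent' hcp hwc) x hx).symm
  obtain ⟨L, hL, haL, hrL⟩ := har.line
  have hadj : Adj V Z (cj w a) r := by
    have := har.cj w
    rwa [cj_of_cent hwr] at this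
  have hblk : cj w (bk Blk r a) = bk Blk r a := by
    rw [h.sb_bk hp.pa, ← h.bk_cj hpr, cj_of_cent hwp, cj_of_cent hwr]
  refine h.sb_mk' har hadj ?_ hL hrL haL fun e => ?_
  · rw [← hblk]
    exact cj_le_cj.2 (h.le_bk har)
  · obtain ⟨α, hα, hα1⟩ := h.pt_ne_bot har.left
    have h2 : w * α * w⁻¹ * α⁻¹ ∈ p := h.UU_ws h.typ hpr (le_UU hcp hwc) (h.adj_le_ws' har hα)
    have h3 : w * α * w⁻¹ * α⁻¹ ∈ L := mul_mem (e (conj_mem_cj hα)) (inv_mem (haL hα))
    have h4 := h.line_inf hpr.left hL (fun e' => (NT.sb_sy hp.pa).ne L hL hrL haL e') h2 h3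
    exact hα1 (hp.mv α hα (Mid.comm_eq h4))

theorem pow_le_of_path {c p r a : Subgroup G} {w : G} (hp : Path V Z Blk c p r a w) :
    Nat.card Z ^ (m + 1) ≤ Nat.card Z ^ 4 := by
  have hcp := hp.cr.l
  have hpr := hp.cr.r.symm
  have har := hp.pa.r
  have hs := h.path_sb h1 hp
  have hwc := h.bk_le hcp.symm hp.hw
  obtain ⟨M, hM, hcM, hpM⟩ := hcp.line
  obtain ⟨γ, hγ, hγ1⟩ := h.pt_ne_bot hcp.left
  have hγp := h.adj_le_ws' hcp hγ
  have hwr : ∀ x ∈ r, w * x = x * w := fun x hx =>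
    (mem_centralizer_iff.1 (h.ws_le_cent hcp hpr hwc) x hx).symm
  -- first
  have h2 : Nat.card (bk Blk a r) ≤ Nat.card r * Nat.card (bk Blk a r ⊓ centralizer ({γ} : Set G) : Subgroup G) := by
    refine card_le_mul (fun y => y * γ * y⁻¹ * γ⁻¹) (fun y hy => ?_) fun y hy y' hy' e => ?_
    · exact h.mid_mem h.typ har hpr.symm (h.bk_le har.symm hy) hγp
    · exact mem_cs.2 (comm_inj e)
  -- second
  set Y := bk Blk a r ⊓ centralizer ({γ} : Set G) with hY
  have h3 : Nat.card Y ≤ Nat.card M * Nat.card (Y ⊓ centralizer ({w} : Set G) : Subgroup G) := by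
    refine card_le_mul (fun y => y * w * y⁻¹ * w⁻¹) (fun y hy => ?_) fun y hy y' hy' e => ?_
    · have hya := h.bk_le har.symm hy.1
      have hyp' : ∀ x ∈ p, y * x = x * y := fun x hx =>
        (mem_centralizer_iff.1 (h.ws_le_cent har hpr.symm hya) x hx).symm
      have hyp : cj y p = p := cj_of_cent hyp'
      have hyc : cj y c = c := cj_of_cent (h.t3 hcp.symm (h.two_ws har.left hya) hyp' hγ hγ1 (mem_cs.1 hy.2))
      have hblk : cj y (bk Blk c p) = bk Blk c p := by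
        rw [← h.bk_cj hcp.symm, hyc, hyp]
      refine h.bk_UU h1 hp.cr hM hcM hpM ?_ ?_
      · refine mul_mem ?_ (inv_mem hp.hw)
        rw [← hblk]
        exact conj_mem_cj hp.hw
      · have h4 := (mem_normalizer_iff.1 (h.ws_norm_UU hcp hpr hwc) y⁻¹).1 (inv_mem (le_UU har hya))
        have e : y * w * y⁻¹ * w⁻¹ = y * (w * y⁻¹ * w⁻¹) := by group
        rw [e]
        exact mul_mem (le_UU har hya) h4
    · exact mem_cs.2 (comm_inj e)
  have h4 : Nat.card (Y ⊓ centralizer ({w} : Set G) : Subgroup G) ≤ Nat.card r := by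
    refine Subgroup.card_le_of_le ?_
    rintro y ⟨⟨hy, -⟩, hyw⟩
    refine h.inf_bk (h.cr_of_sb h1 hs) hy ?_
    have e : bk Blk (cj w a) r = cj w (bk Blk a r) := by
      rw [← h.bk_cj har.symm, cj_of_cent hwr]
    rw [e, mem_cj, mul_assoc, mem_cs.1 hyw, inv_mul_cancel_left]
    exact hy
  rw [h.card_pt hpr.right] at h2 h4
  rw [h.card_ln hM] at h3
  rw [← h.card_bk har.symm]
  calc Nat.card (bk Blk a r) ≤ Nat.card Z * Nat.card Y := h2
    _ ≤ Nat.card Z * (Nat.card Z * Nat.card Z * Nat.card Z) :=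
      Nat.mul_le_mul_left _ (h3.trans (Nat.mul_le_mul_left _ h4))
    _ = Nat.card Z ^ 4 := by ring

/-- there are pairs in one block on different lines -/
theorem exists_sb0 : ∃ R A B, Sb V Z Blk R A B := by
  obtain ⟨L, hL, hZL⟩ := h.exists_line h.pl.isCj_self
  obtain ⟨Y, hY, hYL, hYZ⟩ := h.exists_second h.pl.isCj_self hL hZL
  have hA : Adj V Z Y Z := ⟨hY, h.pl.isCj_self, hYZ, L, hL, hYL, hZL⟩
  obtain ⟨B, hB⟩ := h.exists_sb hA
  exact ⟨_, _, _, hB⟩

/-- **(5.2)** -/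
theorem m_eq : m = 3 := by
  obtain ⟨r, p, a, hs⟩ := h.exists_sb0 h1
  obtain ⟨c, w, hp⟩ := h.exists_path h1 hs
  have h2 := (Nat.pow_le_pow_iff_right (h.two_le)).1 (h.pow_le_of_path h1 hp)
  have h3 := h.slb.three
  omega

/-- (5.3) on a path -/
theorem big' {c p r a : Subgroup G} {w : G} (hp : Path V Z Blk c p r a w) :
    ¬ Nat.card (ws V a) ≤ Nat.card Z * Nat.card (cnz (ws V a) (ws V (cj w a))) := by
  intro hle
  have hcp := hp.cr.l
  have hpr := hp.cr.r.symm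
  have har := hp.pa.r
  have hs := h.path_sb h1 hp
  have hcr := h.cr_of_sb h1 hs
  have hwc := h.bk_le hcp.symm hp.hw
  have hwU := le_UU hcp hwc
  have hw2 : w⁻¹ = w := h.ws_inv hcp.left hwc
  have hws : ws V (cj w a) = cj w (ws V a) := ws_cj V a w
  -- dihedral
  have key : ∀ y ∈ ws V a, y * (w * y * w⁻¹) = w * y * w⁻¹ * y := by
    intro y hy
    have hy2 : y⁻¹ = y := h.ws_inv har.left hy
    have hy' : w * y * w⁻¹ ∈ ws V (cj w a) := by rw [hws]; exact conj_mem_cj hy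
    have hy3 : (w * y * w⁻¹)⁻¹ = w * y * w⁻¹ := h.ws_inv hs.r.left hy'
    have h2 : y * (w * y * w⁻¹) ∈ UU V Z p := by
      have h3 := (mem_normalizer_iff.1 (h.ws_norm_UU har hpr.symm hy) w).1 hwU
      have e : y * (w * y * w⁻¹) = y * w * y⁻¹ * w⁻¹ := by rw [hy2]; group
      rw [e]
      exact mul_mem h3 (inv_mem hwU)
    have h3 := h.UU_sq h.typ hpr.left h2
    have h4 := h.mid_mem h.typ har hs.r.symm hy hy'
    have e : y * (w * y * w⁻¹) * y⁻¹ * (w * y * w⁻¹)⁻¹ = y * (w * y * w⁻¹) * (y * (w * y * w⁻¹)) := by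
      rw [hy3, hy2]; group
    have h5 := h.pt_inf hpr.left hpr.right hpr.ne h3 (e ▸ h4)
    rw [← e] at h5
    exact Mid.comm_eq h5
  -- a point `E ~ a` not centralised by `W_b`
  obtain ⟨β, hβ, v, hv, hβv⟩ := h.exists_bk hcr
  have hvb := h.bk_le hs.r.symm hv
  have hβa : β ∉ a := by
    intro e
    exact hβv (mem_centralizer_iff.1 (h.ws_le_cent hs.r har.symm hvb) β e)
  obtain ⟨E, hE, hEa, hβE⟩ := h.exists_pt har.symm hβ hβa
  have hE1 : ∀ x ∈ E, (∀ y ∈ ws V (cj w a), x * y = y * x) → x = 1 := by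
    intro x hx hxW
    by_contra hx1
    exact hβv (h.t3 hE.symm (h.two_ws hs.r.left hvb)
      (fun y hy => (mem_centralizer_iff.1 (h.ws_le_cent hs.r har.symm hvb) y hy).symm) hx hx1 (hxW v hvb).symm β
      hβE).symm
  have hsplit := mul_of_card (A := E) (B := cnz (ws V a) (ws V (cj w a))) (K := ws V a)
    (h.adj_le_ws' hE) inf_le_left (fun x hx hx' => hE1 x hx (mem_cnz.1 hx').2) (by rwa [h.card_pt hE.left])
  -- the contradiction
  have hβa' : β ∈ ws V a := h.bk_le har.symm hβ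
  set v' := w * β * w⁻¹ with hv'
  have hv'b : v' ∈ ws V (cj w a) := by rw [hws]; exact conj_mem_cj hβa'
  have hcomm := key β hβa'
  have h2 : ∀ y ∈ ws V a, v' * y = y * v' := by
    obtain ⟨ε, hε, d, hd, e⟩ := hsplit β hβa'
    have hdv := (mem_cnz.1 hd).2 v' hv'b
    have hε1 : ε ≠ 1 := by
      rintro rfl
      rw [one_mul] at e
      exact hβv (by rw [e]; exact (mem_cnz.1 hd).2 v hvb)
    have h3 : v' * ε = ε * v' := by
      have h4 : ε * d * v' = v' * (ε * d) := by rw [← e]; exact hcomm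
      have h5 : ε * v' * d = v' * ε * d := by
        calc ε * v' * d = ε * (v' * d) := by group
          _ = ε * d * v' := by rw [← hdv]; group
          _ = v' * (ε * d) := h4
          _ = v' * ε * d := by group
      exact (mul_right_cancel h5).symm
    have h4 := h.t3 hE.symm (h.two_ws hs.r.left hv'b)
      (fun y hy => (mem_centralizer_iff.1 (h.ws_le_cent hs.r har.symm hv'b) y hy).symm) hε hε1 h3
    intro y hy
    obtain ⟨x, hx, d', hd', rfl⟩ := hsplit y hy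
    calc v' * (x * d') = (v' * x) * d' := by group
      _ = x * (v' * d') := by rw [h4 x hx]; group
      _ = x * d' * v' := by rw [← (mem_cnz.1 hd').2 v' hv'b]; group
  apply hβv
  have h3 : w⁻¹ * v * w ∈ ws V a := by rwa [hws, mem_cj] at hvb
  have h4 := h2 _ (by
    have : w⁻¹ * v * w = w⁻¹ * v * w := rfl
    exact h3)
  -- `v' = w β w⁻¹`, `w⁻¹ = w`
  have h5 : cj w (ws V (cj w a)) = ws V a := by
    rw [hws, cj_cj]
    have : w * w = 1 := by rw [← hw2, hw2]; exact h.ws_sq hcp.left hwc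
    rw [this, cj_one]
  have h6 : w * v * w⁻¹ ∈ ws V a := by rw [← h5]; exact conj_mem_cj hvb
  have h7 := h2 _ h6
  have h8 : w⁻¹ * (v' * (w * v * w⁻¹)) * w = w⁻¹ * (w * v * w⁻¹ * v') * w := by rw [h7]
  have e1 : w⁻¹ * (v' * (w * v * w⁻¹)) * w = β * v := by rw [hv']; group
  have e2 : w⁻¹ * (w * v * w⁻¹ * v') * w = v * β := by rw [hv']; group
  rw [← e1, ← e2, h8]

/-- **(5.3)** -/
theorem big {r a b : Subgroup G} (hs : Sb V Z Blk r a b) :
    ¬ Nat.card (ws V a) ≤ Nat.card Z * Nat.card (cnz (ws V a) (ws V b)) := by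
  obtain ⟨c, w, hp⟩ := h.exists_path h1 (NT.sb_sy hs)
  obtain ⟨g, -, hg1, hg2⟩ := h.sb_move (h.path_sb h1 hp) hs
  have h2 := h.big' h1 hp
  rwa [← card_cj g (cnz _ _), ← cnz_cj, ← ws_cj, ← ws_cj, hg1, hg2, ← card_cj g (ws V a), ← ws_cj, hg1] at h2

/-- **(5.3)**: `C_{B_a(r)}(W_b)` is the line `ar` -/
theorem cent_ln {r a b : Subgroup G} (hs : Sb V Z Blk r a b) (hL : IsCj V L) (hrL : r ≤ L) (haL : a ≤ L) {x : G}
    (hx : x ∈ bk Blk a r) (hxb : ∀ y ∈ ws V b, x * y = y * x) : x ∈ L := by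
  by_contra hxL
  have har := hs.l
  obtain ⟨E, hE, hEa, hxE⟩ := h.exists_pt har.symm hx (fun e => hxL (haL e))
  have hx1 : x ≠ 1 := fun e => hxL (e ▸ one_mem _)
  have hEC : ∀ y ∈ E, y ∈ cnz (ws V a) (ws V b) := by
    intro y hy
    refine mem_cnz.2 ⟨h.adj_le_ws' hE hy, fun v hv => ?_⟩
    exact (h.t3 hE.symm (h.two_ws hs.r.left hv)
      (fun y hy => (mem_centralizer_iff.1 (h.ws_le_cent hs.r har.symm hv) y hy).symm) hxE hx1 (hxb v hv).symm y hy).symm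
  have hLC : ∀ y ∈ L, y ∈ cnz (ws V a) (ws V b) := by
    intro y hy
    obtain ⟨u, hu, v, hv, rfl⟩ := h.line_eq har.right har.left har.ne.symm hL hrL haL hy
    refine mul_mem (mem_cnz.2 ⟨h.adj_le_ws har hu, fun z hz => ?_⟩) (mem_cnz.2 ⟨h.pt_le_ws har.left hv, fun z hz => ?_⟩)
    · exact mem_centralizer_iff.1 (h.ws_le_cent' hs.r hz) u hu
    · exact mem_centralizer_iff.1 (h.ws_le_cent hs.r har.symm hz) v hv
  have h2 : Nat.card E * Nat.card L ≤ Nat.card (bk Blk a r ⊓ cnz (ws V a) (ws V b) : Subgroup G) := by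
    refine card_mul_le (fun y hy => ⟨hEa hy, hEC y hy⟩)
      (fun y hy => ⟨h.line_le_bk har.symm hL haL hrL hy, hLC y hy⟩) fun y hy hyL => ?_
    exact h.line_inf hE.left hL (fun e => hxL (e hxE)) hy hyL
  have h3 := card_dec (H := ws V a) (B := bk Blk a r) (C := cnz (ws V a) (ws V b)) fun y hy => by
    obtain ⟨β, hβ, d, hd, rfl, h4⟩ := h.dec har.symm hy
    exact ⟨β, hβ, d, mem_cnz.2 ⟨hd, fun z hz => (h4 r har.symm (h.le_bk har.symm) z (le_UU hs.r hz)).symm⟩, rfl⟩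
  apply h.big h1 hs
  rw [h.card_bk har.symm, h.m_eq h1] at h3
  rw [h.card_pt hE.left, h.card_ln hL] at h2
  set s := Nat.card Z with hs'
  set k := Nat.card (bk Blk a r ⊓ cnz (ws V a) (ws V b) : Subgroup G) with hk
  have hs0 : 0 < s := Nat.card_pos
  have hk0 : 0 < k := Nat.card_pos
  have h4 : s ^ (3 + 1) ≤ s * k := by
    calc s ^ (3 + 1) = s * (s * (s * s)) := by ring
      _ ≤ s * k := Nat.mul_le_mul_left _ h2
  refine Nat.le_of_mul_le_mul_right (c := k) ?_ hk0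
  calc Nat.card (ws V a) * k ≤ s ^ (3 + 1) * Nat.card (cnz (ws V a) (ws V b)) := h3
    _ ≤ s * k * Nat.card (cnz (ws V a) (ws V b)) := Nat.mul_le_mul_right _ h4
    _ = s * Nat.card (cnz (ws V a) (ws V b)) * k := by ring

/-- **(6.1)** -/
theorem exists_w0 {c p r a : Subgroup G} {w : G} (hp : Path V Z Blk c p r a w) :
    ∃ g ∈ UU V Z p, (∀ x ∈ a, g * x = x * g) ∧ ∃ v ∈ ws V r, g * v ≠ v * g := by
  by_contra hcon
  push Not at hcon
  have hcp := hp.cr.l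
  have hpr := hp.cr.r.symm
  have har := hp.pa.r
  obtain ⟨α, hα, hα1⟩ := h.pt_ne_bot har.left
  have h2 : Nat.card (ws V c) ≤ Nat.card p * Nat.card (ws V c ⊓ centralizer ({α} : Set G) : Subgroup G) := by
    refine card_le_mul (fun y => y * α * y⁻¹ * α⁻¹) (fun y hy => ?_) fun y hy y' hy' e => ?_
    · exact h.mid_mem h.typ hcp hpr hy (h.adj_le_ws' har hα)
    · exact mem_cs.2 (comm_inj e)
  apply h.big h1 hp.cr
  refine h2.trans ?_
  rw [h.card_pt hpr.left]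
  refine Nat.mul_le_mul_left _ (Subgroup.card_le_of_le ?_)
  rintro y ⟨hy, hyα⟩
  refine mem_cnz.2 ⟨hy, hcon y (le_UU hcp hy) (h.t3 har.symm (h.two_ws hcp.left hy)
    (fun x hx => (mem_centralizer_iff.1 (h.ws_le_cent hcp hpr hy) x hx).symm) hα hα1 (mem_cs.1 hyα))⟩

/-- **(6.2)** -/
theorem w0_line {r p a : Subgroup G} (hs : Sb V Z Blk r p a) (hL : IsCj V L) (hrL : r ≤ L) (haL : a ≤ L) {g : G}
    (hg : g ∈ UU V Z p) (hga : ∀ x ∈ a, g * x = x * g) {y : G} (hy : y ∈ bk Blk a r) :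
    y * g * y⁻¹ * g⁻¹ ∈ L := by
  obtain ⟨c, w, hp⟩ := h.exists_path h1 hs
  have hcp := hp.cr.l
  have hpr := hp.cr.r.symm
  have har := hp.pa.r
  have hwU := le_UU hcp (h.bk_le hcp.symm hp.hw)
  have hgr : ∀ x ∈ r, g * x = x * g := fun x hx =>
    (mem_centralizer_iff.1 (h.UU_le_cent_adj hpr.symm hg) x hx).symm
  have hblk : cj g (bk Blk a r) = bk Blk a r := by
    rw [← h.bk_cj har.symm, cj_of_cent hga, cj_of_cent hgr]
  have hya := h.bk_le har.symm hy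
  set f := y * g * y⁻¹ * g⁻¹ with hf
  have hf1 : f ∈ bk Blk a r := by
    have e : f = y * (g * y⁻¹ * g⁻¹) := by rw [hf]; group
    rw [e]
    refine mul_mem hy ?_
    rw [← hblk]
    exact conj_mem_cj (inv_mem hy)
  have hf2 : f ∈ UU V Z p :=
    mul_mem ((mem_normalizer_iff.1 (h.ws_norm_UU har hpr.symm hya) g).1 hg) (inv_mem hg)
  have hf3 := h.UU_comm h.typ hpr.left hf2 hwU
  have hs2 := h.path_sb h1 hp
  refine h.cent_ln h1 hs2 hL hrL haL hf1 fun v hv => ?_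
  have e : f = f * w * f⁻¹ * w⁻¹ * (w * f * w⁻¹) := by group
  have h3 : f * w * f⁻¹ * w⁻¹ * v = v * (f * w * f⁻¹ * w⁻¹) :=
    mem_centralizer_iff.1 (h.ws_le_cent hs2.r hpr.symm hv) _ hf3
  have h4 : w * f * w⁻¹ * v = v * (w * f * w⁻¹) := by
    refine h.ws_comm hs2.r.left ?_ hv
    rw [ws_cj]
    exact conj_mem_cj (h.bk_le har.symm hf1)
  rw [e]
  calc f * w * f⁻¹ * w⁻¹ * (w * f * w⁻¹) * v = f * w * f⁻¹ * w⁻¹ * (w * f * w⁻¹ * v) := by group
    _ = f * w * f⁻¹ * w⁻¹ * v * (w * f * w⁻¹) := by rw [h4]; group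
    _ = v * (f * w * f⁻¹ * w⁻¹ * (w * f * w⁻¹)) := by rw [h3]; group

end NT

end Cfsg.Agent.Omega.NO3S.MidB

end

section


/-!
# NO-3S, natural lines, the `(R, B)`-frame, TYPE N, blocks `SL_m`, `m ≥ 3`: section (A1), end (TEXT 426-2, THEOREM N2, (6.3), (6.4))

* `NT.card_cg` : `|C_{B_z(a)}(g)| = s³` for `g ∈ U_p ∩ C(a) - C(W_z)`;
* `NT.exists_del` : (6.3) for a flag `(z, L)` an element `δ` which centralises `L` and the blocks `B_x(L)`, `x ≠ z` on
  `L`, and acts nontrivially on `B_z(L) / L`;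
* `NT.not_AOne` : (6.4).
-/

set_option autoImplicit false
set_option linter.unusedSectionVars false

namespace Cfsg.Agent.Omega.NO3S.MidB

open Subgroup Cfsg.Agent.Omega.NO3S.PT Cfsg.Agent.Omega.NoFF.Basic Cfsg.Agent.ZN
open Cfsg.Agent.Omega.NO3S.MidQ (Adj Com Cr UU ws_of kx_of isCj_iff adj_iff com_iff cr_iff UU_of isCj_symm isCj_trans
  com_cj UU_cj le_UU normalizer_le_UU isPGroup_sSup FlagCan PtCan ff mem_ff ff_cj TypN Sb SLB bk AOne ATwo Path NN cnz
  mem_cnz cnz_cj mem_cs cg mem_cg comm_act card_le_mul surj_of_inj card_mul_le mul_of_card card_dec comm_inj cj_of_cent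
  card_mul_le')
open scoped Pointwise

variable {G : Type*} [Group G] {V Z X Y L : Subgroup G} {Blk : Subgroup G → Set (Subgroup G)} {m : ℕ}

namespace NT

variable [Finite G] {S : Sylow 2 G} {P : Subgroup G} (h : NT S P V Z Blk m) (h1 : AOne V Z Blk)
include h h1

theorem pt_dich {p z : Subgroup G} (hpz : Adj V Z p z) {g : G} (hg : TwoEl g) (hgz : ∀ y ∈ z, g * y = y * g) {x : G}
    (hx : x ∈ p) (hxg : x * g ≠ g * x) : ∀ y ∈ p, y * g = g * y → y = 1 := by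
  intro y hy e
  by_contra hy1
  exact hxg (h.t3 hpz.symm hg hgz hy hy1 e.symm x hx).symm

/-- `|C_{B_z(a)}(g)| = s³` -/
theorem card_cg {z p a : Subgroup G} (hs : Sb V Z Blk z p a) (hL : IsCj V L) (hzL : z ≤ L) (haL : a ≤ L) {g : G}
    (hg : g ∈ UU V Z p) (hga : ∀ x ∈ a, g * x = x * g) (hgW : ∃ v ∈ ws V z, g * v ≠ v * g) :
    Nat.card (cg (bk Blk z a) g) = Nat.card Z ^ 3 ∧ L ≤ cg (bk Blk z a) g ∧ p ≤ cg (bk Blk z a) g := by
  have hpz := hs.l
  have haz := hs.r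
  have hgz : ∀ x ∈ z, g * x = x * g := fun x hx =>
    (mem_centralizer_iff.1 (h.UU_le_cent_adj hpz.symm hg) x hx).symm
  have hgp : ∀ x ∈ p, g * x = x * g := fun x hx =>
    (mem_centralizer_iff.1 (h.UU_le_cent_pt hpz.left hg) x hx).symm
  have hLC : L ≤ cg (bk Blk z a) g := by
    intro y hy
    refine mem_cg.2 ⟨h.line_le_bk haz hL hzL haL hy, ?_⟩
    obtain ⟨u, hu, v, hv, rfl⟩ := h.line_eq haz.right haz.left haz.ne.symm hL hzL haL hy
    calc u * v * g = u * (g * v) := by rw [hga v hv]; group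
      _ = g * (u * v) := by rw [← mul_assoc, ← hgz u hu]; group
  have hpC : p ≤ cg (bk Blk z a) g := fun y hy => mem_cg.2 ⟨h.sb_le (NT.sb_sy hs) hy, (hgp y hy).symm⟩
  refine ⟨?_, hLC, hpC⟩
  -- lower bound
  have h2 : Nat.card p * Nat.card L ≤ Nat.card (cg (bk Blk z a) g) :=
    card_mul_le hpC hLC fun y hy hyL =>
      h.line_inf hpz.left hL ((NT.sb_sy hs).ne L hL hzL haL) hy hyL
  -- a point meeting `C` trivially
  obtain ⟨v, hv, hgv⟩ := hgW
  obtain ⟨β, hβ, d, hd, rfl, hd'⟩ := h.dec haz hv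
  have hgd := hd' p hpz (h.sb_le (NT.sb_sy hs)) g hg
  have hgβ : β * g ≠ g * β := by
    intro e
    apply hgv
    calc g * (β * d) = (g * β) * d := by group
      _ = β * (g * d) := by rw [← e]; group
      _ = β * d * g := by rw [hgd]; group
  obtain ⟨E, hE, hEz, hβE⟩ := h.exists_pt haz hβ (fun e => hgβ (hgz β e).symm)
  have h3 : Nat.card E * Nat.card (cg (bk Blk z a) g) ≤ Nat.card (bk Blk z a) :=
    card_mul_le hEz inf_le_left fun y hy hyC => h.pt_dich h1 hE (h.two_UU hg) hgz hβE hgβ y hy (mem_cg.1 hyC).2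
  rw [h.card_bk haz, h.m_eq h1, h.card_pt hE.left] at h3
  rw [h.card_pt hpz.left, h.card_ln hL] at h2
  have hs0 : 0 < Nat.card Z := Nat.card_pos
  refine le_antisymm (Nat.le_of_mul_le_mul_left (c := Nat.card Z) ?_ hs0) ?_
  · calc _ ≤ Nat.card Z ^ (3 + 1) := h3
      _ = Nat.card Z * Nat.card Z ^ 3 := by ring
  · calc Nat.card Z ^ 3 = Nat.card Z * (Nat.card Z * Nat.card Z) := by ring
      _ ≤ _ := h2

/-- **(6.3)** -/
theorem exists_del {z a : Subgroup G} (haz : Adj V Z a z) (hL : IsCj V L) (hzL : z ≤ L) (haL : a ≤ L) :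
    ∃ δ : G, (∀ y ∈ L, δ * y = y * δ) ∧ (∀ x, IsCj Z x → x ≤ L → x ≠ z → ∀ y ∈ bk Blk x z, δ * y = y * δ) ∧
      ∃ y ∈ bk Blk z a, δ * y * δ⁻¹ * y⁻¹ ∉ L := by
  -- the first element
  obtain ⟨p1, hp1⟩ := h.exists_sb haz
  have hs1 := NT.sb_sy hp1
  obtain ⟨c1, w1, hq1⟩ := h.exists_path h1 hs1
  obtain ⟨g1, hg1, hg1a, hg1W⟩ := h.exists_w0 h1 hq1
  obtain ⟨hC1, hC1L, hC1p⟩ := h.card_cg h1 hs1 hL hzL haL hg1 hg1a hg1W
  -- the second
  have h2 : ∃ x ∈ bk Blk z a, x ∉ cg (bk Blk z a) g1 := by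
    by_contra hcon
    push Not at hcon
    have h3 : Nat.card (bk Blk z a) ≤ Nat.card (cg (bk Blk z a) g1) := Subgroup.card_le_of_le hcon
    rw [hC1, h.card_bk haz, h.m_eq h1] at h3
    have h4 := (Nat.pow_le_pow_iff_right (h.two_le)).1 h3
    omega
  obtain ⟨x, hx, hxC⟩ := h2
  obtain ⟨p2, hp2z, hp2, hxp⟩ := h.exists_pt haz hx (fun e => hxC (hC1L (hzL e)))
  have hs2 : Sb V Z Blk z p2 a :=
    NT.sb_sy (h.sb_mk' haz hp2z hp2 hL hzL haL fun e => hxC (hC1L (e hxp)))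
  obtain ⟨c2, w2, hq2⟩ := h.exists_path h1 hs2
  obtain ⟨g2, hg2, hg2a, hg2W⟩ := h.exists_w0 h1 hq2
  obtain ⟨hC2, hC2L, hC2p⟩ := h.card_cg h1 hs2 hL hzL haL hg2 hg2a hg2W
  have hd2 : ∀ y ∈ p2, y * g1 = g1 * y → y = 1 :=
    h.pt_dich h1 hp2z (h.two_UU hg1) (fun y hy => (mem_centralizer_iff.1 (h.UU_le_cent_adj hs1.l.symm hg1) y hy).symm) hxp
      fun e => hxC (mem_cg.2 ⟨hx, e⟩)
  have hp1L : ¬ p1 ≤ L := fun e => hp1.ne L hL hzL haL e
  have hp1C : ¬ p1 ≤ cg (bk Blk z a) g2 := by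
    intro e
    have h3 := mul_of_card (A := L) (B := p1) (K := cg (bk Blk z a) g2) hC2L e
      (fun y hy hy' => h.line_inf hs1.l.left hL hp1L hy' hy)
      (by rw [hC2, h.card_ln hL, h.card_pt hs1.l.left]; exact le_of_eq (by ring))
    obtain ⟨l, hl, q, hq, e'⟩ := h3 x (hC2p hxp)
    apply hxC
    rw [e']
    exact mul_mem (hC1L hl) (hC1p hq)
  obtain ⟨π, hπ, hπC⟩ := SetLike.not_le_iff_exists.1 hp1C
  have hπz : π ∈ ws V z := h.adj_le_ws' hs1.l hπ
  have hπg2 : π * g2 ≠ g2 * π := fun e => hπC (mem_cg.2 ⟨h.sb_le hp1 hπ, e⟩)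
  -- the centralisers
  have hLg1 : ∀ y ∈ L, g1 * y = y * g1 := fun y hy => (mem_cg.1 (hC1L hy)).2.symm
  have hLg2 : ∀ y ∈ L, g2 * y = y * g2 := fun y hy => (mem_cg.1 (hC2L hy)).2.symm
  have hact : ∀ {p : Subgroup G} {g : G}, Sb V Z Blk z p a → g ∈ UU V Z p → (∀ y ∈ L, g * y = y * g) →
      ∀ x, IsCj Z x → x ≤ L → x ≠ z → ∀ y ∈ bk Blk x z, ∃ k ∈ L, g * y * g⁻¹ = k * y := by
    intro p g hs hg hgL x hxZ hxL hxz y hy
    have hxz' : Adj V Z x z := ⟨hxZ, haz.right, hxz, L, hL, hxL, hzL⟩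
    have hs' : Sb V Z Blk z p x := by
      refine NT.sb_sy (h.sb_mk' hxz' hs.l ?_ hL hzL hxL ((NT.sb_sy hs).ne L hL hzL haL))
      rw [h.bk_line haz hxz' hL hzL haL hxL]
      exact h.sb_le (NT.sb_sy hs)
    have h3 := h.w0_line h1 hs' hL hzL hxL hg (fun y hy => hgL y (hxL hy)) hy
    refine ⟨(y * g * y⁻¹ * g⁻¹)⁻¹, inv_mem h3, ?_⟩
    group
  have hδ1 : ∀ y ∈ L, g1 * g2 * g1⁻¹ * g2⁻¹ * y = y * (g1 * g2 * g1⁻¹ * g2⁻¹) := by
    intro y hy
    have c1 : Commute y g1 := (hLg1 y hy).symm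
    have c2 : Commute y g2 := (hLg2 y hy).symm
    exact (((c1.mul_right c2).mul_right c1.inv_right).mul_right c2.inv_right).symm
  refine ⟨g1 * g2 * g1⁻¹ * g2⁻¹, hδ1, fun x hxZ hxL hxz y hy => ?_, ?_⟩
  · have hxz' : Adj V Z x z := ⟨hxZ, haz.right, hxz, L, hL, hxL, hzL⟩
    have hblk : ∀ {g : G}, (∀ y ∈ L, g * y = y * g) → cj g⁻¹ (bk Blk x z) = bk Blk x z := by
      intro g hgL
      have h3 : ∀ y ∈ L, g⁻¹ * y = y * g⁻¹ := fun y hy => (Commute.inv_left (hgL y hy : Commute g y) : _)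
      rw [← h.bk_cj hxz'.symm, cj_of_cent fun y hy => h3 y (hxL hy), cj_of_cent fun y hy => h3 y (hzL hy)]
    -- `y0 = (g2 g1)⁻¹ y (g2 g1)`
    have hy1 : g2⁻¹ * y * g2⁻¹⁻¹ ∈ bk Blk x z := by
      rw [← hblk hLg2]; exact conj_mem_cj hy
    have hy0 : g1⁻¹ * (g2⁻¹ * y * g2⁻¹⁻¹) * g1⁻¹⁻¹ ∈ bk Blk x z := by
      rw [← hblk hLg1]; exact conj_mem_cj hy1
    obtain ⟨k, hk, ek⟩ := hact hs1 hg1 hLg1 x hxZ hxL hxz _ hy0
    obtain ⟨k', hk', ek'⟩ := hact hs2 hg2 hLg2 x hxZ hxL hxz _ hy0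
    have h3 := comm_act ek ek' (hLg1 k' hk') (hLg2 k hk)
      (h.ws_comm haz.right (le_ws hL hzL hk) (le_ws hL hzL hk'))
    have e1 : g2 * g1 * (g1⁻¹ * (g2⁻¹ * y * g2⁻¹⁻¹) * g1⁻¹⁻¹) * (g2 * g1)⁻¹ = y := by group
    have e2 : g1 * g2 * (g1⁻¹ * (g2⁻¹ * y * g2⁻¹⁻¹) * g1⁻¹⁻¹) * (g1 * g2)⁻¹ =
      g1 * g2 * g1⁻¹ * g2⁻¹ * y * (g1 * g2 * g1⁻¹ * g2⁻¹)⁻¹ := by group
    rw [e1, e2] at h3
    rwa [mul_inv_eq_iff_eq_mul] at h3
  · -- nontrivial
    have hκ : g2 * π * g2⁻¹ * π⁻¹ ∈ p2 := h.UU_ws h.typ hs2.l hg2 hπz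
    have hκ1 : g2 * π * g2⁻¹ * π⁻¹ ≠ 1 := fun e => hπg2 (Mid.comm_eq e).symm
    set κ := g2 * π * g2⁻¹ * π⁻¹ with hκ'
    have hlam : g1 * κ * g1⁻¹ * κ⁻¹ ∈ p1 := h.UU_ws h.typ hs1.l hg1 (h.adj_le_ws' hs2.l hκ)
    have hlam1 : g1 * κ * g1⁻¹ * κ⁻¹ ≠ 1 := fun e => hκ1 (hd2 κ hκ (Mid.comm_eq e).symm)
    have hg1π : g1 * π * g1⁻¹ = π := by
      have h3 : g1 * π = π * g1 := (mem_centralizer_iff.1 (h.UU_le_cent_pt hs1.l.left hg1) π hπ).symm
      rw [h3, mul_inv_cancel_right]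
    have hy : g2 * π * g2⁻¹ ∈ bk Blk z a := by
      have e : g2 * π * g2⁻¹ = κ * π := by rw [hκ']; group
      rw [e]
      exact mul_mem (hp2 hκ) (h.sb_le hp1 hπ)
    refine ⟨g2 * π * g2⁻¹, hy, fun e => ?_⟩
    have e1 : g1 * g2 * g1⁻¹ * g2⁻¹ * (g2 * π * g2⁻¹) * (g1 * g2 * g1⁻¹ * g2⁻¹)⁻¹ * (g2 * π * g2⁻¹)⁻¹ =
      g1 * κ * g1⁻¹ * κ⁻¹ := by
      have e2 : g1 * g2 * g1⁻¹ * g2⁻¹ * (g2 * π * g2⁻¹) * (g1 * g2 * g1⁻¹ * g2⁻¹)⁻¹ =
        g1 * (g2 * (g1⁻¹ * π * g1) * g2⁻¹) * g1⁻¹ := by group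
      have e3 : g1⁻¹ * π * g1 = π := by
        nth_rewrite 1 [← hg1π]
        group
      rw [e2, e3]
      have e4 : g2 * π * g2⁻¹ = κ * π := by rw [hκ']; group
      rw [e4]
      calc g1 * (κ * π) * g1⁻¹ * (κ * π)⁻¹ = g1 * κ * g1⁻¹ * (g1 * π * g1⁻¹) * π⁻¹ * κ⁻¹ := by group
        _ = g1 * κ * g1⁻¹ * κ⁻¹ := by rw [hg1π]; group
    rw [e1] at e
    exact hlam1 (h.line_inf hs1.l.left hL hp1L hlam e)

/-- **(6.4)** -/
theorem not_AOne : False := by
  obtain ⟨L, hL, hZL⟩ := h.exists_line h.pl.isCj_self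
  have hz := h.pl.isCj_self
  obtain ⟨y, hy, hyL, hyz⟩ := h.exists_second hz hL hZL
  obtain ⟨x, hx, hxL, hxz, hxy⟩ := h.exists_third hz hy hL hZL hyL hyz.symm
  have hyz' : Adj V Z y Z := ⟨hy, hz, hyz, L, hL, hyL, hZL⟩
  have hxy' : Adj V Z x y := ⟨hx, hy, hxy, L, hL, hxL, hyL⟩
  obtain ⟨δ, hδL, hδ, v0, hv0, hv0L⟩ := h.exists_del h1 hyz' hL hZL hyL
  obtain ⟨b, hb⟩ := h.exists_sb hyz'.symm
  have hbL : ¬ b ≤ L := hb.ne L hL hyL hZL
  have hxz' : Adj V Z x Z := ⟨hx, hz, hxz, L, hL, hxL, hZL⟩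
  -- `b`, `x` at `y`
  have hbx : Sb V Z Blk y b x := by
    refine NT.sb_sy (h.sb_mk' hxy' hb.r ?_ hL hyL hxL hbL)
    rw [h.bk_line hyz'.symm hxy' hL hyL hZL hxL]
    exact h.sb_le hb
  have hby := hb.r
  obtain ⟨M, hM, hbM, hyM⟩ := hby.line
  have hδby : ∀ u ∈ bk Blk y Z, δ * u = u * δ := hδ y hy hyL hyz
  have hδb : ∀ u ∈ b, δ * u = u * δ := fun u hu => hδby u (h.sb_le hb hu)
  have hδy : ∀ u ∈ y, δ * u = u * δ := fun u hu => hδL u (hyL hu)
  have hδx : ∀ u ∈ bk Blk x y, δ * u = u * δ := by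
    intro u hu
    refine hδ x hx hxL hxz u ?_
    rwa [h.bk_line hxy'.symm hxz'.symm hL hxL hyL hZL]
  have hblkb : cj δ (bk Blk b y) = bk Blk b y := by
    rw [← h.bk_cj hby.symm, cj_of_cent hδb, cj_of_cent hδy]
  -- step 1
  have step1 : ∀ u ∈ bk Blk b y, u⁻¹ * (δ * u * δ⁻¹) ∈ M := by
    intro u hu
    have hu' : δ * u * δ⁻¹ ∈ bk Blk b y := by
      rw [← hblkb]; exact conj_mem_cj hu
    have huu := mul_mem (inv_mem hu) hu'
    refine h.cent_ln h1 hbx hM hyM hbM huu fun w hw => ?_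
    obtain ⟨β, hβ, d, hd, rfl, hd'⟩ := h.dec hxy'.symm hw
    have e1 : u⁻¹ * (δ * u * δ⁻¹) * d = d * (u⁻¹ * (δ * u * δ⁻¹)) :=
      hd' y hxy'.symm (h.le_bk hxy'.symm) _ (le_UU hby (h.bk_le hby.symm huu))
    have e2 : u⁻¹ * (δ * u * δ⁻¹) * β = β * (u⁻¹ * (δ * u * δ⁻¹)) := by
      -- `[β, δuδ⁻¹] = [β, u]`
      have h2 : β * u * β⁻¹ * u⁻¹ ∈ y := h.mid_mem h.typ hxy' hby.symm (h.bk_le hxy'.symm hβ) (h.bk_le hby.symm hu)
      have hδβ : δ * β * δ⁻¹ = β := by rw [hδx β hβ, mul_inv_cancel_right]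
      have h3 : β * (δ * u * δ⁻¹) * β⁻¹ * (δ * u * δ⁻¹)⁻¹ = β * u * β⁻¹ * u⁻¹ := by
        have e3 : δ * (β * u * β⁻¹ * u⁻¹) * δ⁻¹ = β * u * β⁻¹ * u⁻¹ := by
          rw [hδy _ h2, mul_inv_cancel_right]
        calc β * (δ * u * δ⁻¹) * β⁻¹ * (δ * u * δ⁻¹)⁻¹
            = (δ * β * δ⁻¹) * (δ * u * δ⁻¹) * (δ * β * δ⁻¹)⁻¹ * (δ * u * δ⁻¹)⁻¹ := by rw [hδβ]
          _ = δ * (β * u * β⁻¹ * u⁻¹) * δ⁻¹ := by group
          _ = β * u * β⁻¹ * u⁻¹ := e3
      have h4 : (β * u * β⁻¹ * u⁻¹)⁻¹ = (β * (δ * u * δ⁻¹) * β⁻¹ * (δ * u * δ⁻¹)⁻¹)⁻¹ := by rw [h3]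
      have e5 : (β * u * β⁻¹ * u⁻¹)⁻¹ = u * β * u⁻¹ * β⁻¹ := by group
      have e6 : (β * (δ * u * δ⁻¹) * β⁻¹ * (δ * u * δ⁻¹)⁻¹)⁻¹ =
        δ * u * δ⁻¹ * β * (δ * u * δ⁻¹)⁻¹ * β⁻¹ := by group
      rw [e5, e6] at h4
      exact comm_inj h4
    calc u⁻¹ * (δ * u * δ⁻¹) * (β * d) = (u⁻¹ * (δ * u * δ⁻¹) * β) * d := by group
      _ = β * (u⁻¹ * (δ * u * δ⁻¹) * d) := by rw [e2]; group
      _ = β * d * (u⁻¹ * (δ * u * δ⁻¹)) := by rw [e1]; group
  -- step 2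
  have hzy := hyz'.symm
  have hδz : ∀ u ∈ Z, δ * u = u * δ := fun u hu => hδL u (hZL hu)
  have hblkz : cj δ (bk Blk Z y) = bk Blk Z y := by
    rw [← h.bk_cj hyz', cj_of_cent hδz, cj_of_cent hδy]
  have hv' : δ * v0 * δ⁻¹ ∈ bk Blk Z y := by
    rw [← hblkz]; exact conj_mem_cj hv0
  have hvz := h.bk_le hyz' hv0
  have hvz' := h.bk_le hyz' hv'
  have hvv := mul_mem (inv_mem hv0) hv'
  have h2 : v0⁻¹ * (δ * v0 * δ⁻¹) ∈ L := by
    refine h.cent_ln h1 hb hL hyL hZL hvv fun w hw => ?_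
    obtain ⟨u, hu, d, hd, rfl, hd'⟩ := h.dec hby.symm hw
    have e1 : v0⁻¹ * (δ * v0 * δ⁻¹) * d = d * (v0⁻¹ * (δ * v0 * δ⁻¹)) :=
      hd' y hby.symm (h.le_bk hby.symm) _ (le_UU hzy (h.bk_le hyz' hvv))
    have e2 : v0⁻¹ * (δ * v0 * δ⁻¹) * u = u * (v0⁻¹ * (δ * v0 * δ⁻¹)) := by
      apply comm_inj
      have hk := step1 u hu
      -- `v'` commutes with `k = u⁻¹ δ u δ⁻¹`
      have hk2 : δ * v0 * δ⁻¹ * (u⁻¹ * (δ * u * δ⁻¹)) = u⁻¹ * (δ * u * δ⁻¹) * (δ * v0 * δ⁻¹) := by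
        obtain ⟨s, hs, t, ht, e⟩ := h.line_eq hby.left hby.right hby.ne hM hbM hyM hk
        have h3 := mem_centralizer_iff.1 (h.ws_le_cent hzy hby.symm hvz') s hs
        have h4 := mem_centralizer_iff.1 (h.ws_le_cent' hzy hvz') t ht
        rw [e]
        calc δ * v0 * δ⁻¹ * (s * t) = (δ * v0 * δ⁻¹ * s) * t := by group
          _ = s * (δ * v0 * δ⁻¹ * t) := by rw [← h3]; group
          _ = s * t * (δ * v0 * δ⁻¹) := by rw [← h4]; group
      have h5 : v0 * u * v0⁻¹ * u⁻¹ ∈ y := h.mid_mem h.typ hzy hby.symm hvz (h.bk_le hby.symm hu)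
      have h6 : δ * v0 * δ⁻¹ * (δ * u * δ⁻¹) * (δ * v0 * δ⁻¹)⁻¹ * (δ * u * δ⁻¹)⁻¹ = v0 * u * v0⁻¹ * u⁻¹ := by
        calc _ = δ * (v0 * u * v0⁻¹ * u⁻¹) * δ⁻¹ := by group
          _ = _ := by rw [hδy _ h5, mul_inv_cancel_right]
      rw [← h6]
      -- `[v', u k] = [v', u]`
      set v' := δ * v0 * δ⁻¹ with hv''
      set u' := δ * u * δ⁻¹ with hu''
      have h7 : v' * (u⁻¹ * u') * v'⁻¹ = u⁻¹ * u' := by rw [hk2, mul_inv_cancel_right]
      calc v' * u' * v'⁻¹ * u'⁻¹ = v' * u * v'⁻¹ * (v' * (u⁻¹ * u') * v'⁻¹) * u'⁻¹ := by group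
        _ = v' * u * v'⁻¹ * u⁻¹ := by rw [h7]; group
    calc v0⁻¹ * (δ * v0 * δ⁻¹) * (u * d) = (v0⁻¹ * (δ * v0 * δ⁻¹) * u) * d := by group
      _ = u * (v0⁻¹ * (δ * v0 * δ⁻¹) * d) := by rw [e2]; group
      _ = u * d * (v0⁻¹ * (δ * v0 * δ⁻¹)) := by rw [e1]; group
  apply hv0L
  rwa [h.ws_comm hz hvz' (inv_mem hvz)]

end NT

end Cfsg.Agent.Omega.NO3S.MidB

end

section


/-!
# NO-3S, natural lines, the `(R, B)`-frame, TYPE N, blocks `SL_m`, `m ≥ 3`: section (A2) (TEXT 426-2, THEOREM N2)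

* `NT.mover`, `NT.full` : `[U_a, β] = a` for `β ∈ b#`, `Sb r a b`;
* `NT.jj` : (j') `|H| ≤ s^m |H ∩ W_b|` for `H ≤ W_a`;
* `NT.inf_line` : `W_a ∩ I_m = r`;  `NT.card_ws_le` : (k') `|W_a| ≤ s^(2m+1)`.
-/

set_option autoImplicit false
set_option linter.unusedSectionVars false

namespace Cfsg.Agent.Omega.NO3S.MidB

open Subgroup Cfsg.Agent.Omega.NO3S.PT Cfsg.Agent.Omega.NoFF.Basic Cfsg.Agent.ZN
open Cfsg.Agent.Omega.NO3S.MidQ (Adj Com Cr UU ws_of kx_of isCj_iff adj_iff com_iff cr_iff UU_of isCj_symm isCj_trans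
  com_cj UU_cj le_UU normalizer_le_UU isPGroup_sSup FlagCan PtCan ff mem_ff ff_cj TypN Sb SLB bk AOne ATwo Path NN cnz
  mem_cnz cnz_cj mem_cs cg mem_cg comm_act card_le_mul surj_of_inj card_mul_le mul_of_card card_dec comm_inj cj_of_cent
  card_mul_le')
open scoped Pointwise

variable {G : Type*} [Group G] {V Z X Y L : Subgroup G} {Blk : Subgroup G → Set (Subgroup G)} {m : ℕ}

namespace NT

variable [Finite G] {S : Sylow 2 G} {P : Subgroup G} (h : NT S P V Z Blk m)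
include h

/-- a point `e ~ c ~ a` moving `b` -/
theorem mover {r a b : Subgroup G} (hs : Sb V Z Blk r a b) {β : G} (hβ : β ∈ b) (hβ1 : β ≠ 1) :
    ∃ c e, Adj V Z c a ∧ Adj V Z e c ∧ e ≤ bk Blk c a ∧ ∀ x ∈ e, x * β = β * x → x = 1 := by
  have h2 : ∃ c, Adj V Z c a ∧ ∃ w ∈ ws V c, w * β ≠ β * w := by
    by_contra hcon
    push Not at hcon
    have h3 : UU V Z a ≤ centralizer ({β} : Set G) := by
      refine sSup_le ?_
      rintro _ ⟨c, hc, rfl⟩ w hw
      exact mem_cs.2 (hcon c hc w hw)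
    exact hβ1 (h.sb_mv hs hβ fun u hu => mem_cs.1 (h3 hu))
  obtain ⟨c, hca, w, hw, hwβ⟩ := h2
  have hβU : β ∈ UU V Z a := le_UU hs.l.symm (h.adj_le_ws' hs.r hβ)
  obtain ⟨ε, hε, d, hd, rfl, hd'⟩ := h.dec hca.symm hw
  have hdβ := hd' a hca.symm (h.le_bk hca.symm) β hβU
  have hεβ : ε * β ≠ β * ε := by
    intro e
    apply hwβ
    calc ε * d * β = ε * (d * β) := by group
      _ = (ε * β) * d := by rw [← hdβ]; group
      _ = β * (ε * d) := by rw [e]; group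
  obtain ⟨E, hE, hEc, hεE⟩ := h.exists_pt hca.symm hε (fun e => by
    -- `W_r` centralises `c`
    have h3 := mem_centralizer_iff.1 (h.ws_le_cent hs.l.symm hca.symm (h.adj_le_ws' hs.r hβ)) ε e
    exact hεβ h3)
  refine ⟨c, E, hca, hE, hEc, fun x hx e => ?_⟩
  by_contra hx1
  exact hεβ (h.t3 hE.symm (h.two_ws hs.r.left (h.pt_le_ws hs.r.left hβ))
    (fun y hy => (mem_centralizer_iff.1 (h.ws_le_cent hs.l.symm hca.symm (h.adj_le_ws' hs.r hβ)) y hy).symm)
    hx hx1 e.symm ε hεE).symm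

/-- `[U_a, β] = a` -/
theorem full {r a b : Subgroup G} (hs : Sb V Z Blk r a b) {β : G} (hβ : β ∈ b) (hβ1 : β ≠ 1) :
    ∀ α ∈ a, ∃ g ∈ UU V Z a, g * β * g⁻¹ * β⁻¹ = α := by
  obtain ⟨c, e, hca, hec, hle, hmv⟩ := h.mover hs hβ hβ1
  have h2 := surj_of_inj (A := e) (B := a) (by rw [h.card_pt hec.left, h.card_pt hs.l.left])
    (fun y => y * β * y⁻¹ * β⁻¹)
    (fun y hy => h.mid_mem h.typ hca hs.l (h.adj_le_ws' hec hy) (h.adj_le_ws' hs.r hβ))
    (fun y hy y' hy' e' => inv_mul_eq_one.1 (hmv _ (mul_mem (inv_mem hy) hy') (comm_inj e')))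
  intro α hα
  obtain ⟨g, hg, e'⟩ := h2 α hα
  exact ⟨g, le_UU hca (h.adj_le_ws' hec hg), e'⟩

/-- `W_a ∩ W_{a^ε} ≤ W_b` if `[ε, α] ∈ b` -/
theorem inf_ws_cj {r a b : Subgroup G} (hs : Sb V Z Blk r a b) {ε α : G} (hα : α ∈ a)
    (hε : ε * α * ε⁻¹ * α⁻¹ ∈ b) (hε1 : ε * α * ε⁻¹ * α⁻¹ ≠ 1) {y : G} (hy : y ∈ ws V a)
    (hy' : y ∈ ws V (cj ε a)) : y ∈ ws V b := by
  obtain ⟨g, hg, e⟩ := h.full hs hε hε1 α hα
  have hcomm : α * (ε * α * ε⁻¹ * α⁻¹) = ε * α * ε⁻¹ * α⁻¹ * α :=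
    h.ws_comm hs.l.right (h.adj_le_ws' hs.l hα) (h.adj_le_ws' hs.r hε)
  have h2 : g * (ε * α * ε⁻¹ * α⁻¹) * g⁻¹ = ε * α * ε⁻¹ := by
    have e2 : g * (ε * α * ε⁻¹ * α⁻¹) * g⁻¹ = α * (ε * α * ε⁻¹ * α⁻¹) := by
      have e3 : g * (ε * α * ε⁻¹ * α⁻¹) * g⁻¹ =
        g * (ε * α * ε⁻¹ * α⁻¹) * g⁻¹ * (ε * α * ε⁻¹ * α⁻¹)⁻¹ * (ε * α * ε⁻¹ * α⁻¹) := by group
      rw [e3, e]
    rw [e2, hcomm]; group
  have h3 : cj g b = cj ε a := by
    refine h.pts_eq (hs.r.left.cj g) (hs.l.left.cj ε) (z := ε * α * ε⁻¹) ?_ (conj_mem_cj hα) ?_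
    · rw [← h2]; exact conj_mem_cj hε
    · intro e2
      apply hε1
      have h4 : α = 1 := conj_eq_one_iff.1 e2
      rw [h4]; group
  rw [← h3, ws_cj, mem_cj] at hy'
  have h4 : g * y = y * g := (mem_centralizer_iff.1 (h.UU_le_centralizer a hg) y hy).symm
  rwa [mul_assoc, ← h4, inv_mul_cancel_left] at hy'

variable (h2 : ATwo V Z Blk)
include h2

/-- **(j')** -/
theorem jj {r a b : Subgroup G} (hs : Sb V Z Blk r a b) {H : Subgroup G} (hH : H ≤ ws V a) :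
    Nat.card H ≤ Nat.card Z ^ m * Nat.card (H ⊓ ws V b : Subgroup G) := by
  obtain ⟨α, hα, hα1⟩ := h.pt_ne_bot hs.l.left
  obtain ⟨c, e, hcb, hec, hle, hmv⟩ := h.mover (NT.sb_sy hs) hα hα1
  obtain ⟨ε, hε, hε1⟩ := h.pt_ne_bot hec.left
  have hαr := h.adj_le_ws' hs.l hα
  have hεc := h.adj_le_ws' hec hε
  set T := bk Blk c b ⊓ centralizer ({α} : Set G) with hT
  have hTc : Nat.card T ≤ Nat.card Z ^ m := by
    have h3 : Nat.card e * Nat.card T ≤ Nat.card (bk Blk c b) :=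
      card_mul_le hle inf_le_left fun x hx hx' => hmv x hx (mem_cs.1 hx'.2)
    rw [h.card_pt hec.left, h.card_bk hcb.symm, pow_succ, mul_comm (Nat.card Z ^ m)] at h3
    exact Nat.le_of_mul_le_mul_left h3 Nat.card_pos
  have hcom := h2 r a b hs
  have h3 : Nat.card H ≤ Nat.card T * Nat.card (H ⊓ centralizer ({ε} : Set G) : Subgroup G) := by
    refine card_le_mul (fun y => ε⁻¹ * (y * ε * y⁻¹)) (fun y hy => ?_) fun y hy y' hy' e' => ?_
    · have hya := hH hy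
      have hyb : ∀ x ∈ b, y * x = x * y := fun x hx =>
        (mem_centralizer_iff.1 (hcom hya) x (h.pt_le_ws hs.r.left hx)).symm
      have hyc : ∀ x ∈ c, y * x = x * y := fun x hx =>
        (mem_centralizer_iff.1 (hcom hya) x (h.adj_le_ws' hcb hx)).symm
      have hblk : cj y (bk Blk c b) = bk Blk c b := by
        rw [← h.bk_cj hcb.symm, cj_of_cent hyb, cj_of_cent hyc]
      have h4 : y * ε * y⁻¹ ∈ bk Blk c b := by
        rw [← hblk]; exact conj_mem_cj (hle hε)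
      refine ⟨(bk Blk c b).mul_mem ((bk Blk c b).inv_mem (hle hε)) h4, mem_cs.2 (comm_inj ?_)⟩
      -- `[ε^y, α] = [ε, α]`
      have h5 : ε * α * ε⁻¹ * α⁻¹ ∈ b := h.mid_mem h.typ hcb hs.r hεc hαr
      have hyα : y * α = α * y := h.ws_comm hs.l.left hya (h.pt_le_ws hs.l.left hα)
      have hyα' : y * α * y⁻¹ = α := by rw [hyα, mul_inv_cancel_right]
      symm
      calc y * ε * y⁻¹ * α * (y * ε * y⁻¹)⁻¹ * α⁻¹
          = y * ε * y⁻¹ * (y * α * y⁻¹) * (y * ε * y⁻¹)⁻¹ * (y * α * y⁻¹)⁻¹ := by rw [hyα']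
        _ = y * (ε * α * ε⁻¹ * α⁻¹) * y⁻¹ := by group
        _ = ε * α * ε⁻¹ * α⁻¹ := by rw [hyb _ h5, mul_inv_cancel_right]
    · refine mem_cs.2 ?_
      have h4 : y * ε * y⁻¹ = y' * ε * y'⁻¹ := mul_left_cancel e'
      exact comm_inj (by rw [h4])
  refine h3.trans (Nat.mul_le_mul hTc (Subgroup.card_le_of_le ?_))
  rintro y ⟨hy, hyε⟩
  refine ⟨hy, h.inf_ws_cj hs hα (h.mid_mem h.typ hcb hs.r hεc hαr) (fun e' => hε1 (hmv ε hε (Mid.comm_eq e')))
    (hH hy) ?_⟩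
  rw [ws_cj, mem_cj, mul_assoc, mem_cs.1 hyε, inv_mul_cancel_left]
  exact hH hy

omit h2 in
theorem nn_cj (g : G) (X L : Subgroup G) (hX : IsCj Z X) : NN V Z Blk (cj g X) (cj g L) = cj g (NN V Z Blk X L) := by
  have key : ∀ (g : G) (X L : Subgroup G), IsCj Z X → cj g (NN V Z Blk X L) ≤ NN V Z Blk (cj g X) (cj g L) := by
    intro g X L hX
    rw [cj_le_iff]
    refine sSup_le ?_
    rintro _ ⟨C, hC, ⟨D, hD, hLD, hCD⟩, rfl⟩
    rw [le_cj_iff, inv_inv, ← UU_cj]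
    exact le_sSup ⟨cj g C, hC.cj g, ⟨cj g D, h.slb.can g X hX D hD, cj_le_cj.2 hLD, cj_le_cj.2 hCD⟩, rfl⟩
  refine le_antisymm ?_ (key g X L hX)
  have h3 := key g⁻¹ (cj g X) (cj g L) (hX.cj g)
  rw [cj_cj, cj_cj, inv_mul_cancel, cj_one, cj_one, cj_le_iff, inv_inv] at h3
  exact h3

omit h2 in
/-- `I_m ∩ W_a = r`, `m` a line on `r` joined to `a` -/
theorem inf_line {r a b b' : Subgroup G} (hs : Sb V Z Blk r a b) (hL : IsCj V L) (hrL : r ≤ L) (hbL : b ≤ L)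
    (hb' : Adj V Z b' r) (hbL' : b' ≤ L) (hne : b ≠ b') {u : G} (hu : u ∈ ws V a) (hub : u ∈ ws V b)
    (hub' : u ∈ ws V b') : u ∈ r := by
  have hr := hs.l.right
  have hbr := hs.r
  have hur : u ∈ ws V r := h.inf_le hL hbr.left hb'.left hr hbL hbL' hrL hne ⟨hub, hub'⟩
  obtain ⟨β, hβ, d, hd, e, hd'⟩ := h.dec hbr hur
  have hbb := h.le_bk (Blk := Blk) hbr
  -- `β ∈ L`
  have hβL : β ∈ L := by
    refine h.cent hbr hL hrL hbL hβ fun v hv => ?_
    have h3 : v * u = u * v := (mem_centralizer_iff.1 (h.UU_le_centralizer b hv) u hub).symm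
    have h4 := hd' b hbr hbb v hv
    have h5 : v * β * d = β * v * d := by
      calc v * β * d = v * (β * d) := by group
        _ = β * d * v := by rw [← e, h3]
        _ = β * (v * d) := by rw [h4]; group
        _ = β * v * d := by group
    exact mul_right_cancel h5
  have hdL : d ∈ ws V r ⊓ ws V b := by
    have e2 : d = β⁻¹ * u := by rw [e]; group
    rw [e2]
    exact ⟨(ws V r).mul_mem ((ws V r).inv_mem (le_ws hL hrL hβL)) hur,
      (ws V b).mul_mem ((ws V b).inv_mem (le_ws hL hbL hβL)) hub⟩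
  -- `d ∈ r`
  have hdr : d ∈ r := by
    refine h.lemF_flag (N := NN V Z Blk) (fun g X L hX _ _ => h.nn_cj g X L hX) (fun X L hX hL hXL => ?_)
      (fun X L hX hL hXL => ?_) hr hL hrL hbr.left hbL hbr.ne hdL.1 hdL.2 fun n hn => ?_
    · refine sSup_le ?_
      rintro _ ⟨C, hC, -, rfl⟩
      exact h.UU_le_cent_adj hC.symm
    · obtain ⟨A, hA, hAL, hAX⟩ := h.exists_second hX hL hXL
      have hAX' : Adj V Z A X := ⟨hA, hX, hAX, L, hL, hAL, hXL⟩
      obtain ⟨C, hC⟩ := h.exists_sb hAX'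
      obtain ⟨α, hα, hα1⟩ := h.pt_ne_bot hA
      have h3 : ∃ n ∈ UU V Z C, n * α ≠ α * n := by
        by_contra hcon
        push Not at hcon
        exact hα1 (h.sb_mv (NT.sb_sy hC) hα hcon)
      obtain ⟨n, hn, hnα⟩ := h3
      have h4 : UU V Z C ≤ NN V Z Blk X L :=
        le_sSup ⟨C, hC.r, ⟨bk Blk X A, h.bk_mem hAX', h.line_le_bk hAX' hL hXL hAL, h.sb_le hC⟩, rfl⟩
      refine ⟨n, h4 hn, α, hAL hα, fun e2 => hnα (Mid.comm_eq ?_)⟩
      exact h.pt_inf hC.r.left hX hC.r.ne (h.UU_ws h.typ hC.r hn (h.adj_le_ws' hAX' hα)) e2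
    · have h3 : n * d = d * n := by
        have h4 : NN V Z Blk r L ≤ centralizer ({d} : Set G) := by
          refine sSup_le ?_
          rintro _ ⟨C, hC, ⟨D, hD, hLD, hCD⟩, rfl⟩ v hv
          refine mem_cs.2 (hd' C hC ?_ v hv)
          rwa [h.bk_unique hbr hD (hbL.trans hLD)]
        exact mem_cs.1 (h4 hn)
      rw [Mid.comm_one h3]
      exact one_mem _
  have huL : u ∈ L := by rw [e]; exact mul_mem hβL (hrL hdr)
  obtain ⟨ρ, hρ, β', hβ', e3⟩ := h.line_eq hr hbr.left hbr.ne.symm hL hrL hbL huL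
  have h3 : β' ∈ ws V a := by
    have e4 : β' = ρ⁻¹ * u := by rw [e3]; group
    rw [e4]
    exact mul_mem (inv_mem (h.adj_le_ws hs.l hρ)) hu
  have h4 : β' = 1 := h.sb_mv hs hβ' fun v hv =>
    (mem_centralizer_iff.1 (h.UU_le_centralizer a hv) β' h3).symm
  rw [e3, h4, mul_one]
  exact hρ

/-- **(k')** -/
theorem card_ws_le {a : Subgroup G} (ha : IsCj Z a) : Nat.card (ws V a) ≤ Nat.card Z ^ (2 * m + 1) := by
  obtain ⟨L, hL, haL⟩ := h.exists_line ha
  obtain ⟨r, hr, hrL, hra⟩ := h.exists_second ha hL haL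
  have har : Adj V Z a r := ⟨ha, hr, hra.symm, L, hL, haL, hrL⟩
  obtain ⟨b, hs⟩ := h.exists_sb har
  obtain ⟨M, hM, hbM, hrM⟩ := hs.r.line
  obtain ⟨b', hb', hbM', hbr', hbb'⟩ := h.exists_third hr hs.r.left hM hrM hbM hs.r.ne.symm
  have hbr2 : Adj V Z b' r := ⟨hb', hr, hbr', M, hM, hbM', hrM⟩
  have hs' : Sb V Z Blk r a b' := by
    refine NT.sb_sy (h.sb_mk' hbr2 har ?_ hM hrM hbM' ((NT.sb_sy hs).ne M hM hrM hbM))
    rw [h.bk_line hs.r hbr2 hM hrM hbM hbM']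
    exact h.sb_le (NT.sb_sy hs)
  have h3 := h.jj h2 hs (H := ws V a) le_rfl
  have h4 := h.jj h2 hs' (H := ws V a ⊓ ws V b) inf_le_left
  have h5 : Nat.card (ws V a ⊓ ws V b ⊓ ws V b' : Subgroup G) ≤ Nat.card Z := by
    rw [← h.card_pt hr]
    refine Subgroup.card_le_of_le ?_
    rintro u ⟨⟨hu, hub⟩, hub'⟩
    exact h.inf_line hs hM hrM hbM hbr2 hbM' hbb'.symm hu hub hub'
  calc Nat.card (ws V a) ≤ Nat.card Z ^ m * Nat.card (ws V a ⊓ ws V b : Subgroup G) := h3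
    _ ≤ Nat.card Z ^ m * (Nat.card Z ^ m * Nat.card Z) :=
      Nat.mul_le_mul_left _ (h4.trans (Nat.mul_le_mul_left _ h5))
    _ = Nat.card Z ^ (2 * m + 1) := by ring

end NT

end Cfsg.Agent.Omega.NO3S.MidB

end

section


/-!
# NO-3S, natural lines, the `(R, B)`-frame, critical distance 2, TYPE N, blocks `SL_m`, `m ≥ 3`: THEOREM N2 (TEXT 426-2, bb OMEGA #16785)

* `NT.not_two_blocks` : the number of blocks is not 2 (it is odd);
* `Mid.no_SLB`, `TN.no_SLB` : **THEOREM N2**.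
-/

set_option autoImplicit false
set_option linter.unusedSectionVars false

namespace Cfsg.Agent.Omega.NO3S.MidB

open Subgroup Cfsg.Agent.Omega.NO3S.PT Cfsg.Agent.Omega.NoFF.Basic Cfsg.Agent.ZN
open Cfsg.Agent.Omega.NO3S.MidQ (Adj Com Cr UU ws_of kx_of isCj_iff adj_iff com_iff cr_iff UU_of isCj_symm isCj_trans
  com_cj UU_cj le_UU normalizer_le_UU isPGroup_sSup FlagCan PtCan ff mem_ff ff_cj TypN Sb SLB bk AOne ATwo Path NN cnz
  mem_cnz cnz_cj mem_cs cg mem_cg comm_act card_le_mul surj_of_inj card_mul_le mul_of_card card_dec comm_inj cj_of_cent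
  card_mul_le')
open scoped Pointwise

variable {G : Type*} [Group G] {V Z X Y L : Subgroup G} {Blk : Subgroup G → Set (Subgroup G)} {m : ℕ}

namespace NT

variable [Finite G] {S : Sylow 2 G} {P : Subgroup G} (h : NT S P V Z Blk m)
include h

theorem exists_adj_blk (hX : IsCj Z X) {D : Subgroup G} (hD : D ∈ Blk X) : ∃ A, Adj V Z A X ∧ bk Blk X A = D := by
  have h1 : ∃ y ∈ D, y ∉ X := by
    by_contra hcon
    push Not at hcon
    have h2 : Nat.card D ≤ Nat.card X := Subgroup.card_le_of_le hcon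
    rw [h.slb.card X hX D hD, h.card_pt hX] at h2
    nth_rewrite 2 [← pow_one (Nat.card Z)] at h2
    have h3 := (Nat.pow_le_pow_iff_right (h.two_le)).1 h2
    have h4 := h.slb.three
    omega
  obtain ⟨y, hy, hyX⟩ := h1
  obtain ⟨M, hM, hXM, hyM⟩ := h.slb.all X hX D hD y hy hyX
  obtain ⟨A, hA, hAM, hyA⟩ := h.exists_point hM hyM (fun e => hyX (e ▸ one_mem _))
  have hAX : Adj V Z A X := ⟨hA, hX, fun e => hyX (e ▸ hyA), M, hM, hAM, hXM⟩
  refine ⟨A, hAX, ?_⟩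
  by_contra hne
  exact hyX (h.slb.inf X hX D hD _ (h.bk_mem hAX) hne y hy (h.le_bk hAX hyA))

/-- an element of a block centralised by all `U_C`, `C` in the block, is in `X` -/
theorem blk_cent (hX : IsCj Z X) {D : Subgroup G} (hD : D ∈ Blk X) {x : G} (hx : x ∈ D)
    (hc : ∀ C, Adj V Z C X → C ≤ D → ∀ u ∈ UU V Z C, u * x = x * u) : x ∈ X := by
  obtain ⟨A, hA, rfl⟩ := h.exists_adj_blk hX hD
  obtain ⟨B, hs⟩ := h.exists_sb hA
  obtain ⟨L, hL, hAL, hXL⟩ := hA.line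
  obtain ⟨M, hM, hBM, hXM⟩ := hs.r.line
  have h1 := h.cent hA hL hXL hAL hx (hc A hA (h.le_bk hA))
  have h2 := h.cent hs.r hM hXM hBM (by rw [h.sb_bk hs]; exact hx) (hc B hs.r (h.sb_le hs))
  by_contra hxX
  have hx1 : x ≠ 1 := fun e => hxX (e ▸ one_mem _)
  obtain ⟨T, hT, hTL, hxT⟩ := h.exists_point hL h1 hx1
  obtain ⟨T', hT', hTM, hxT'⟩ := h.exists_point hM h2 hx1
  have e := h.pts_eq hT hT' hxT hxT' hx1
  have hTX : X ≠ T := fun e => hxX (e ▸ hxT)
  have e2 := h.line_unique hX hT hTX hL hM hXL hTL hXM (e ▸ hTM)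
  exact hs.ne L hL hXL hAL (e2 ▸ hBM)

/-- the number of blocks is not 2 -/
theorem not_two_blocks {D0 D1 : Subgroup G} (h0 : D0 ∈ Blk Z) (h1 : D1 ∈ Blk Z) (hV : V ≤ D0) (hne : D1 ≠ D0)
    (hall : ∀ D ∈ Blk Z, D = D0 ∨ D = D1) : False := by
  have hZ := h.pl.isCj_self
  have hVV : IsCj V V := ⟨1, (cj_one V).symm⟩
  have hZV := h.pl.ZV
  obtain ⟨A0, hA0, hA0V, hA0Z⟩ := h.exists_second hZ hVV hZV
  have hA : Adj V Z A0 Z := ⟨hA0, hZ, hA0Z, V, hVV, hA0V, hZV⟩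
  obtain ⟨A1, hA1, hA1D⟩ := h.exists_adj_blk hZ h1
  obtain ⟨M, hM, hA1M, hZM⟩ := hA1.line
  obtain ⟨a, ha1, ha2⟩ := h.exists_conj₂ hZ hVV hZV hZ hM hZM
  have hMD : M ≤ D1 := by rw [← hA1D]; exact h.line_le_bk hA1 hM hZM hA1M
  -- blocks are permuted
  have hperm : ∀ g, cj g Z = Z → ∀ D ∈ Blk Z, cj g D ∈ Blk Z := by
    intro g hg D hD
    have := h.slb.can g Z hZ D hD
    rwa [hg] at this
  have haD : cj a D0 = D1 := by
    have h2 := hperm a ha1.symm D0 h0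
    have h3 : A1 ≤ cj a D0 := by
      refine hA1M.trans ?_
      rw [ha2]
      exact cj_le_cj.2 hV
    rw [← h.bk_unique hA1 h2 h3, hA1D]
  set H := normalizer (Z : Set G) with hH
  set K := H ⊓ normalizer (D0 : Set G) with hK
  have hmem : ∀ b ∈ H, b ∈ K ↔ cj b D0 = D0 := fun b hb => by
    rw [hK, mem_inf, cj_eq_iff]
    exact ⟨fun e => e.2, fun e => ⟨hb, e⟩⟩
  have haH : a ∈ H := cj_eq_iff.1 ha1.symm
  have hSK : (S : Subgroup G) ≤ K := by
    intro s hs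
    have hsZ := h.pl.S_le_N hs
    rw [hmem s hsZ]
    have h2 := hperm s (cj_eq_iff.2 hsZ) D0 h0
    have h3 : A0 ≤ cj s D0 := by
      have e : cj s V = V := cj_eq_iff.2 (h.pl.PN (h.pl.SP hs))
      calc A0 ≤ V := hA0V
        _ = cj s V := e.symm
        _ ≤ cj s D0 := cj_le_cj.2 hV
    rw [← h.bk_unique hA h2 h3, h.bk_unique hA h0 (hA0V.trans hV)]
  have hidx : (K.subgroupOf H).index = 2 := by
    rw [Subgroup.index_eq_two_iff]
    refine ⟨⟨a, haH⟩, fun b => ?_⟩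
    have hb := b.2
    have hbZ := cj_eq_iff.2 hb
    rw [mem_subgroupOf, mem_subgroupOf]
    have e1 : ((b * ⟨a, haH⟩ : H) : G) = (b : G) * a := rfl
    rw [e1, hmem _ (mul_mem hb haH), hmem _ hb, ← cj_cj, haD]
    rcases hall _ (hperm b hbZ D0 h0) with e | e
    · refine Or.inr ⟨e, fun e2 => hne ?_⟩
      rw [← e] at e2
      rw [e] at e2
      have h3 : cj (b : G) D1 = cj (b : G) D0 := by rw [e2, e]
      exact cj_inj.1 h3
    · refine Or.inl ⟨?_, fun e2 => hne (e.symm.trans e2)⟩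
      rcases hall _ (hperm b hbZ D1 h1) with e2 | e2
      · exact e2
      · exact absurd (cj_inj.1 (e2.trans e.symm)) hne
  have h2 : K.relIndex H * H.index = K.index := relIndex_mul_index inf_le_left
  have h3 : K.relIndex H = 2 := hidx
  have h4 : 2 ∣ K.index := ⟨H.index, by rw [← h2, h3]⟩
  exact S.not_dvd_index (h4.trans (index_dvd_of_le hSK))

variable (h2 : ATwo V Z Blk)
include h2

/-- **(A2) is impossible** -/
theorem not_ATwo (hex : ∃ A R B, Cr V Z A R B) : False := by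
  obtain ⟨A, R, B, hc⟩ := hex
  -- at least two blocks at `Z`
  have hZ := h.pl.isCj_self
  have hVV : IsCj V V := ⟨1, (cj_one V).symm⟩
  have hne : bk Blk R A ≠ bk Blk R B := by
    intro e
    by_cases hl : ∃ L, IsCj V L ∧ R ≤ L ∧ A ≤ L ∧ B ≤ L
    · obtain ⟨L, hL, hRL, hAL, hBL⟩ := hl
      exact h.cr_not_adj hc ⟨hc.l.left, hc.r.right, h.cr_ne hc, L, hL, hAL, hBL⟩
    · push Not at hl
      refine hc.ne (h2 R A B (h.sb_mk hc.l hc.r.symm ?_ fun L hL hRL hAL => hl L hL hRL hAL))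
      rw [e]
      exact h.le_bk hc.r.symm
  obtain ⟨g, hg⟩ := hc.l.right
  have hgR : cj g⁻¹ R = Z := by rw [hg, cj_cj, inv_mul_cancel, cj_one]
  obtain ⟨A0, hA0, hA0V, hA0Z⟩ := h.exists_second hZ hVV h.pl.ZV
  have hA : Adj V Z A0 Z := ⟨hA0, hZ, hA0Z, V, hVV, hA0V, h.pl.ZV⟩
  set D0 := bk Blk Z A0 with hD0
  have h0 : D0 ∈ Blk Z := h.bk_mem hA
  have hV0 : V ≤ D0 := h.line_le_bk hA hVV h.pl.ZV hA0V
  have hDA : cj g⁻¹ (bk Blk R A) ∈ Blk Z := by
    have := h.slb.can g⁻¹ R hc.l.right _ (h.bk_mem hc.l)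
    rwa [hgR] at this
  have hDB : cj g⁻¹ (bk Blk R B) ∈ Blk Z := by
    have := h.slb.can g⁻¹ R hc.l.right _ (h.bk_mem hc.r.symm)
    rwa [hgR] at this
  have hD1 : ∃ D1 ∈ Blk Z, D1 ≠ D0 := by
    by_cases e : cj g⁻¹ (bk Blk R A) = D0
    · exact ⟨_, hDB, fun e2 => hne (cj_inj.1 (e.trans e2.symm))⟩
    · exact ⟨_, hDA, e⟩
  obtain ⟨D1, h1, h10⟩ := hD1
  obtain ⟨D2, hD2, h20, h21⟩ : ∃ D ∈ Blk Z, D ≠ D0 ∧ D ≠ D1 := by
    by_contra hcon
    push Not at hcon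
    refine h.not_two_blocks h0 h1 hV0 h10 fun D hD => ?_
    by_cases e : D = D0
    · exact Or.inl e
    · exact Or.inr (hcon D hD e)
  -- counting
  have hW0 := (h.slb.le Z hZ D0 h0).2
  have hW1 := (h.slb.le Z hZ D1 h1).2
  have hW2 := (h.slb.le Z hZ D2 hD2).2
  have c1 := card_mul_le' (A := D0) (B := D1) (K := D0 ⊔ D1) le_sup_left le_sup_right
  have c2 : Nat.card (D0 ⊓ D1 : Subgroup G) ≤ Nat.card Z := Subgroup.card_le_of_le fun x hx =>
    h.slb.inf Z hZ D0 h0 D1 h1 h10 x hx.1 hx.2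
  have c3 := card_mul_le' (A := D0 ⊔ D1) (B := D2) (K := ws V Z) (sup_le hW0 hW1) hW2
  have c4 : Nat.card ((D0 ⊔ D1) ⊓ D2 : Subgroup G) ≤ Nat.card Z := by
    refine Subgroup.card_le_of_le ?_
    rintro x ⟨hx, hx2⟩
    refine h.blk_cent hZ hD2 hx2 fun C hC hCD u hu => ?_
    have h5 : D0 ⊔ D1 ≤ centralizer ({u} : Set G) := by
      have hno : ∀ D ∈ Blk Z, D2 ≠ D → ¬ C ≤ D := by
        intro D hD hne2 hCD'
        exact hne2 ((h.bk_unique hC hD2 hCD).symm.trans (h.bk_unique hC hD hCD'))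
      refine sup_le (fun b hb => mem_cs.2 ?_) (fun b hb => mem_cs.2 ?_)
      · exact (h.slb.other Z C hC D0 h0 (hno D0 h0 h20) b hb u hu).symm
      · exact (h.slb.other Z C hC D1 h1 (hno D1 h1 h21) b hb u hu).symm
    exact (mem_cs.1 (h5 hx)).symm
  have c5 := h.card_ws_le h2 hZ
  rw [h.slb.card Z hZ D0 h0, h.slb.card Z hZ D1 h1] at c1
  rw [h.slb.card Z hZ D2 hD2] at c3
  set s := Nat.card Z with hs
  have c6 : s ^ (m + 1) * s ^ (m + 1) * s ^ (m + 1) ≤ s ^ (2 * m + 3) := by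
    calc s ^ (m + 1) * s ^ (m + 1) * s ^ (m + 1)
        ≤ Nat.card (D0 ⊔ D1 : Subgroup G) * s * s ^ (m + 1) :=
          Nat.mul_le_mul_right _ (c1.trans (Nat.mul_le_mul_left _ c2))
      _ = s * (Nat.card (D0 ⊔ D1 : Subgroup G) * s ^ (m + 1)) := by ring
      _ ≤ s * (s ^ (2 * m + 1) * s) :=
          Nat.mul_le_mul_left _ (c3.trans (Nat.mul_le_mul c5 c4))
      _ = s ^ (2 * m + 3) := by ring
  have c7 : s ^ (3 * m + 3) ≤ s ^ (2 * m + 3) := by
    calc s ^ (3 * m + 3) = s ^ (m + 1) * s ^ (m + 1) * s ^ (m + 1) := by ring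
      _ ≤ _ := c6
  have c8 := (Nat.pow_le_pow_iff_right (h.two_le)).1 c7
  have c9 := h.slb.three
  omega

end NT

/-- **THEOREM N2** -/
theorem Mid.no_SLB [Finite G] {S : Sylow 2 G} {P : Subgroup G} (h : Mid S P V Z) (hN : TypN V Z)
    (hex : ∃ A R B, Cr V Z A R B) (hB : SLB V Z Blk m) : False := by
  have hn : NT S P V Z Blk m := ⟨h, hN, hB⟩
  by_cases h2 : ATwo V Z Blk
  · exact hn.not_ATwo h2 hex
  · have h3 : ∃ R A B, Sb V Z Blk R A B ∧ ¬ Com V A B := by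
      by_contra hcon
      push Not at hcon
      exact h2 hcon
    obtain ⟨R, A, B, hs, hc⟩ := h3
    refine hn.not_AOne fun R' A' B' hs' hc' => hc ?_
    obtain ⟨g, hg0, hg1, hg2⟩ := hn.sb_move hs' hs
    have h4 := hc'.cj g
    rwa [hg1, hg2] at h4

end Cfsg.Agent.Omega.NO3S.MidB

end

end

-- merged: Cfsg.Agent.Mrg.Omega.NO3S.MidB.Main
section

/-!
# NO-3S, the `(R, B)`-frame, `n = 2`: TYPE N is impossible (K-free; bb OMEGA #18317, TCARD 5)
-/

set_option autoImplicit false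

namespace Cfsg.Agent.Omega.NO3S.MidB

open Subgroup
open Cfsg.Agent.Omega.NO3S.MidQ (Adj Com Cr UU TypN)

variable {G : Type*} [Group G] [Finite G] {S : Sylow 2 G} {P V Z : Subgroup G}

/-- TYPE N with a critical triple is impossible -/
theorem TF.false (h : TF S P V Z) : False := by
  have hv := h.jval
  have hs := h.jsym
  have hd := h.dist hs hv
  rcases h.sml_or_bg with hS | hB
  · exact h.false_of_sml hs hd hS
  · obtain ⟨Blk, m, hb⟩ := h.slb hs hv (h.jtrans hB hd) (h.jdich hB) hB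
    exact h.toMid.no_SLB h.comm h.ex hb

/-- TYPE N is impossible over `Mid` -/
theorem Mid.no_typN (h : Mid S P V Z) (hN : TypN V Z) (hex : ∃ A R B, Cr V Z A R B) : False :=
  TF.false (S := S) (P := P) ⟨h, hN, hex⟩

end Cfsg.Agent.Omega.NO3S.MidB

end

private theorem dce_6995b7c544f3 : _root_.True := by
  try have : _root_.True := by simp only [_root_.Cfsg.Agent.Omega.NO3S.MidQ.cg.eq_1]
  try have : _root_.True := by simp only [_root_.Cfsg.Agent.Omega.NO3S.MidQ.cnz.eq_1]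
  exact _root_.True.intro
end
end
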